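import Mathlib
import Groth.Prelude.Def_ega3

/-!
# Koszul complexes via iterated mapping cones (helper28)

* `smulConeHomotopy K f : Homotopy (f • 𝟙 (mappingCone (f • 𝟙 K))) 0`.
* `smulConeHomotopyOfHomotopy`: a null-homotopy of `a • 𝟙 K` extends to the cone of `f • 𝟙 K`.
* `koszulCx_smul_homotopic_zero`: for `a ∈ (xs)`, `a • 𝟙 (koszulCx M xs)` is null-homotopic.
* `isZero_koszulH_of_span_eq_top`.
-/

set_option autoImplicit false
set_option linter.unusedSimpArgs false
universe u v
open CategoryTheory CategoryTheory.Limits CochainComplex HomComplex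

namespace Groth.Agent.Lib.Helper28.Koszul

variable {C : Type u} [Category.{v} C] [Preadditive C]
  {R : Type*} [CommRing R] [Linear R C]

lemma ofHom_smul {F G : CochainComplex C ℤ} (r : R) (φ : F ⟶ G) :
    Cochain.ofHom (r • φ) = r • Cochain.ofHom φ := by
  ext p
  simp [Cochain.ofHom_v, Cochain.smul_v]

variable [HasBinaryBiproducts C] (K : CochainComplex C ℤ) (f : R)

/-- multiplication by `f` on the cone of `f • 𝟙 K` is null-homotopic. -/
noncomputable def smulConeHomotopy :
    Homotopy (f • 𝟙 (mappingCone (f • 𝟙 K))) 0 :=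
  (Cochain.equivHomotopy _ _).symm
    ⟨(mappingCone.snd (f • 𝟙 K)).comp (mappingCone.inl (f • 𝟙 K)) (zero_add (-1)), by
      rw [Cochain.ofHom_zero, add_zero, δ_zero_cochain_comp _ _ _ (neg_add_cancel 1),
        mappingCone.δ_inl, mappingCone.δ_snd, ofHom_smul, ← mappingCone.id (f • 𝟙 K)]
      simp only [Cochain.ofHom_comp, ofHom_smul, Cochain.smul_comp, Cochain.comp_smul,
        Cochain.id_comp, Cochain.comp_id, Cochain.neg_comp, Int.negOnePow_neg, Int.negOnePow_one,
        Units.neg_smul, one_smul, neg_neg, smul_add]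
      abel⟩

/-- a null-homotopy of `a • 𝟙 K` extends to the cone of `f • 𝟙 K`. -/
noncomputable def smulConeHomotopyOfHomotopy (a : R) (h : Homotopy (a • 𝟙 K) 0) :
    Homotopy (a • 𝟙 (mappingCone (f • 𝟙 K))) 0 :=
  mappingCone.descHomotopy (f • 𝟙 K) _ _
    (-((Cochain.ofHomotopy h).comp (mappingCone.inl (f • 𝟙 K)) (by norm_num : (-1 : ℤ) + (-1) = -2)))
    ((Cochain.ofHomotopy h).comp (Cochain.ofHom (mappingCone.inr (f • 𝟙 K))) (add_zero (-1)))
    (by
      rw [δ_neg, δ_comp (Cochain.ofHomotopy h) (mappingCone.inl (f • 𝟙 K))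
        (by norm_num : (-1 : ℤ) + (-1) = -2) 0 0 (-1) (by norm_num) (by norm_num) (by norm_num),
        mappingCone.δ_inl, δ_ofHomotopy]
      simp only [Cochain.ofHom_comp, ofHom_smul, Cochain.smul_comp, Cochain.comp_smul,
        Cochain.id_comp, Cochain.comp_id, Cochain.neg_comp, Int.negOnePow_neg, Int.negOnePow_one,
        Units.neg_smul, one_smul, neg_neg, smul_add, Cochain.ofHom_zero, Cochain.comp_zero,
        sub_zero, add_zero]
      abel)
    (by
      rw [δ_comp_zero_cochain _ _ _ (neg_add_cancel 1), δ_ofHom, δ_ofHomotopy]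
      simp only [Cochain.ofHom_comp, ofHom_smul, Cochain.smul_comp, Cochain.comp_smul,
        Cochain.id_comp, Cochain.comp_id, Cochain.ofHom_zero, Cochain.comp_zero, sub_zero,
        add_zero, zero_add])

section Ideal

variable {K}

/-- the scalars acting null-homotopically on `K` form an ideal. -/
def nullIdeal (K : CochainComplex C ℤ) : Ideal R where
  carrier := {a | Nonempty (Homotopy (a • 𝟙 K) 0)}
  zero_mem' := ⟨Homotopy.ofEq (zero_smul R _)⟩
  add_mem' := by
    rintro a b ⟨ha⟩ ⟨hb⟩
    exact ⟨(Homotopy.ofEq (add_smul a b (𝟙 K))).trans ((ha.add hb).trans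
      (Homotopy.ofEq (add_zero 0)))⟩
  smul_mem' := by
    rintro r a ⟨ha⟩
    refine ⟨(Homotopy.ofEq ?_).trans ((ha.smul r).trans (Homotopy.ofEq (smul_zero r)))⟩
    rw [smul_eq_mul, mul_smul]

omit [HasBinaryBiproducts C] in
lemma mem_nullIdeal {K : CochainComplex C ℤ} {a : R} :
    a ∈ nullIdeal (R := R) K ↔ Nonempty (Homotopy (a • 𝟙 K) 0) := Iff.rfl

end Ideal

lemma self_mem_nullIdeal_cone : f ∈ nullIdeal (R := R) (mappingCone (f • 𝟙 K)) :=
  ⟨smulConeHomotopy K f⟩

lemma nullIdeal_le_cone : nullIdeal (R := R) K ≤ nullIdeal (R := R) (mappingCone (f • 𝟙 K)) := by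
  rintro a ⟨h⟩
  exact ⟨smulConeHomotopyOfHomotopy K f a h⟩

end Groth.Agent.Lib.Helper28.Koszul

namespace Groth.Agent.Lib.Helper28.Koszul

open CohIII

variable {A : Type u} [CommRing A] (M : ModuleCat.{u} A)

lemma koszulCx_nil : koszulCx M ([] : List A) =
    (HomologicalComplex.single (ModuleCat.{u} A) (ComplexShape.up ℤ) 0).obj M := rfl

lemma koszulCx_cons (f : A) (fs : List A) :
    koszulCx M (f :: fs) = CochainComplex.mappingCone (f • 𝟙 (koszulCx M fs)) := rfl

/-- every element of the ideal generated by `xs` acts null-homotopically on `koszulCx M xs`. -/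
theorem span_le_nullIdeal_koszulCx (xs : List A) :
    Ideal.span {x | x ∈ xs} ≤ nullIdeal (R := A) (koszulCx M xs) := by
  induction xs with
  | nil =>
    rw [Ideal.span_le]
    rintro x hx
    simp at hx
  | cons f fs ih =>
    rw [Ideal.span_le]
    rintro x hx
    rw [koszulCx_cons]
    have hx' : x = f ∨ x ∈ fs := by simpa using hx
    rcases hx' with rfl | hx'
    · exact self_mem_nullIdeal_cone _ _
    · exact nullIdeal_le_cone _ _ (ih (Ideal.subset_span hx'))

theorem koszulCx_smul_homotopic_zero (xs : List A) (a : A) (ha : a ∈ Ideal.span {x | x ∈ xs}) :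
    Nonempty (Homotopy (a • 𝟙 (koszulCx M xs)) 0) :=
  span_le_nullIdeal_koszulCx M xs ha

/-- if `(xs) = A` then the Koszul complex is acyclic. -/
theorem isZero_homology_koszulCx_of_span_eq_top (xs : List A)
    (hxs : Ideal.span {x | x ∈ xs} = ⊤) (n : ℤ) : IsZero ((koszulCx M xs).homology n) := by
  obtain ⟨h⟩ := koszulCx_smul_homotopic_zero M xs 1 (by rw [hxs]; trivial)
  rw [one_smul] at h
  rw [IsZero.iff_id_eq_zero, ← HomologicalComplex.homologyMap_id, h.homologyMap_eq,
    HomologicalComplex.homologyMap_zero]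

end Groth.Agent.Lib.Helper28.Koszul
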