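import Mathlib
import Groth.Prelude.Def_ega3
import Groth.Agent.Lib.Helper28.KoszulCone

/-!
# Koszul complexes (iterated mapping cones): module-level API and regular sequences (helper28)

* `coneFst/coneSnd/coneInl/coneInr`: the components of `(mappingCone φ).X n ≅ K.X (n+1) × L.X n`
  in `ModuleCat`, with `cone_ext`, `coneFst_d`, `coneSnd_d`, `coneFst_map`, `coneSnd_map`.
* `koszulMap g fs : koszulCx M fs ⟶ koszulCx N fs` (functoriality), `koszulMap_id/_smul/_zero`.
* `koszulMap_degreewise`: degreewise short exactness.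
* `homologyConsIso`: `H^n(K(f :: fs; M)) ≅ H^n(K(fs; M/fM))` for `M`-regular `f`.
* `isZero_homology_koszulCx_of_isWeaklyRegular`.
-/

set_option autoImplicit false
universe u
open CategoryTheory CategoryTheory.Limits CochainComplex HomComplex

namespace Groth.Agent.Lib.Helper28.Koszul

variable {A : Type u} [CommRing A]

section ConeMod

variable {K L : CochainComplex (ModuleCat.{u} A) ℤ} (φ : K ⟶ L) (n : ℤ)

noncomputable def coneFst : (mappingCone φ).X n →ₗ[A] K.X (n + 1) :=
  ((mappingCone.fst φ).1.v n (n + 1) rfl).hom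

noncomputable def coneSnd : (mappingCone φ).X n →ₗ[A] L.X n :=
  ((mappingCone.snd φ).v n n (add_zero n)).hom

noncomputable def coneInl : K.X (n + 1) →ₗ[A] (mappingCone φ).X n :=
  ((mappingCone.inl φ).v (n + 1) n (by omega)).hom

noncomputable def coneInr : L.X n →ₗ[A] (mappingCone φ).X n :=
  ((mappingCone.inr φ).f n).hom

@[simp] lemma coneFst_coneInl (x : K.X (n + 1)) : coneFst φ n (coneInl φ n x) = x :=
  congr($(mappingCone.inl_v_fst_v φ (n + 1) n rfl) x)

@[simp] lemma coneSnd_coneInl (x : K.X (n + 1)) : coneSnd φ n (coneInl φ n x) = 0 :=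
  congr($(mappingCone.inl_v_snd_v φ (n + 1) n (by omega)) x)

@[simp] lemma coneFst_coneInr (x : L.X n) : coneFst φ n (coneInr φ n x) = 0 :=
  congr($(mappingCone.inr_f_fst_v φ n (n + 1) rfl) x)

@[simp] lemma coneSnd_coneInr (x : L.X n) : coneSnd φ n (coneInr φ n x) = x :=
  congr($(mappingCone.inr_f_snd_v φ n) x)

lemma coneInl_fst_add_coneInr_snd (x : (mappingCone φ).X n) :
    coneInl φ n (coneFst φ n x) + coneInr φ n (coneSnd φ n x) = x :=
  congr($(mappingCone.id_X φ n (n + 1) rfl) x)

lemma cone_ext {x y : (mappingCone φ).X n} (h1 : coneFst φ n x = coneFst φ n y)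
    (h2 : coneSnd φ n x = coneSnd φ n y) : x = y := by
  rw [← coneInl_fst_add_coneInr_snd φ n x, ← coneInl_fst_add_coneInr_snd φ n y, h1, h2]

lemma coneFst_d (x : (mappingCone φ).X n) :
    coneFst φ (n + 1) ((mappingCone φ).d n (n + 1) x) =
      - K.d (n + 1) (n + 1 + 1) (coneFst φ n x) :=
  congr($(mappingCone.d_fst_v φ n (n + 1) (n + 1 + 1) rfl rfl) x)

lemma coneSnd_d (x : (mappingCone φ).X n) :
    coneSnd φ (n + 1) ((mappingCone φ).d n (n + 1) x) =
      φ.f (n + 1) (coneFst φ n x) + L.d n (n + 1) (coneSnd φ n x) :=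
  congr($(mappingCone.d_snd_v φ n (n + 1) rfl) x)

section Map

variable {K₁ L₁ K₂ L₂ : CochainComplex (ModuleCat.{u} A) ℤ} (φ₁ : K₁ ⟶ L₁) (φ₂ : K₂ ⟶ L₂)
  (a : K₁ ⟶ K₂) (b : L₁ ⟶ L₂) (comm : φ₁ ≫ b = a ≫ φ₂)

lemma map_f_fst (n : ℤ) :
    (mappingCone.map φ₁ φ₂ a b comm).f n ≫ (mappingCone.fst φ₂).1.v n (n + 1) rfl =
      (mappingCone.fst φ₁).1.v n (n + 1) rfl ≫ a.f (n + 1) := by
  simp [mappingCone.ext_from_iff _ (n + 1) n rfl, mappingCone.map]

lemma map_f_snd (n : ℤ) :
    (mappingCone.map φ₁ φ₂ a b comm).f n ≫ (mappingCone.snd φ₂).v n n (add_zero n) =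
      (mappingCone.snd φ₁).v n n (add_zero n) ≫ b.f n := by
  simp [mappingCone.ext_from_iff _ (n + 1) n rfl, mappingCone.map]

lemma coneFst_map (n : ℤ) (x : (mappingCone φ₁).X n) :
    coneFst φ₂ n ((mappingCone.map φ₁ φ₂ a b comm).f n x) = a.f (n + 1) (coneFst φ₁ n x) :=
  congr($(map_f_fst φ₁ φ₂ a b comm n) x)

lemma coneSnd_map (n : ℤ) (x : (mappingCone φ₁).X n) :
    coneSnd φ₂ n ((mappingCone.map φ₁ φ₂ a b comm).f n x) = b.f n (coneSnd φ₁ n x) :=
  congr($(map_f_snd φ₁ φ₂ a b comm n) x)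

end Map

end ConeMod

lemma single_map_smul {M N : ModuleCat.{u} A} (a : A) (g : M ⟶ N) :
    (HomologicalComplex.single (ModuleCat.{u} A) (ComplexShape.up ℤ) 0).map (a • g) =
      a • (HomologicalComplex.single (ModuleCat.{u} A) (ComplexShape.up ℤ) 0).map g := by
  refine HomologicalComplex.hom_ext _ _ fun n => ?_
  by_cases h : n = 0
  · subst h
    rw [HomologicalComplex.smul_f_apply, HomologicalComplex.single_map_f_self,
      HomologicalComplex.single_map_f_self]
    simp only [Linear.smul_comp, Linear.comp_smul]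
  · exact (HomologicalComplex.isZero_single_obj_X (ComplexShape.up ℤ) 0 M n h).eq_of_src _ _

lemma mappingCone_map_smul {K₁ L₁ K₂ L₂ : CochainComplex (ModuleCat.{u} A) ℤ} (φ₁ : K₁ ⟶ L₁)
    (φ₂ : K₂ ⟶ L₂) (x : K₁ ⟶ K₂) (y : L₁ ⟶ L₂) (a : A) (comm : φ₁ ≫ y = x ≫ φ₂)
    (comm' : φ₁ ≫ (a • y) = (a • x) ≫ φ₂) :
    mappingCone.map φ₁ φ₂ (a • x) (a • y) comm' = a • mappingCone.map φ₁ φ₂ x y comm := by
  refine HomologicalComplex.hom_ext _ _ fun n => ?_
  rw [mappingCone.ext_from_iff _ (n + 1) n rfl]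
  simp [mappingCone.map, HomologicalComplex.smul_f_apply]

section KoszulMap

open CohIII

/-- functoriality of the Koszul complex in the module. -/
noncomputable def koszulMap {M N : ModuleCat.{u} A} (g : M ⟶ N) :
    ∀ fs : List A, koszulCx M fs ⟶ koszulCx N fs
  | [] => (HomologicalComplex.single (ModuleCat.{u} A) (ComplexShape.up ℤ) 0).map g
  | f :: fs => mappingCone.map (f • 𝟙 (koszulCx M fs)) (f • 𝟙 (koszulCx N fs))
      (koszulMap g fs) (koszulMap g fs) (by
        simp only [Linear.smul_comp, Linear.comp_smul, Category.id_comp, Category.comp_id])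

lemma koszulMap_nil {M N : ModuleCat.{u} A} (g : M ⟶ N) : koszulMap g [] =
    (HomologicalComplex.single (ModuleCat.{u} A) (ComplexShape.up ℤ) 0).map g := rfl

lemma koszulMap_cons {M N : ModuleCat.{u} A} (g : M ⟶ N) (f : A) (fs : List A) :
    koszulMap g (f :: fs) = mappingCone.map (f • 𝟙 (koszulCx M fs)) (f • 𝟙 (koszulCx N fs))
      (koszulMap g fs) (koszulMap g fs) (by
        simp only [Linear.smul_comp, Linear.comp_smul, Category.id_comp, Category.comp_id]) := rfl

lemma koszulMap_id (M : ModuleCat.{u} A) : ∀ fs : List A, koszulMap (𝟙 M) fs = 𝟙 _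
  | [] => by rw [koszulMap_nil, CategoryTheory.Functor.map_id]; rfl
  | f :: fs => by
    rw [koszulMap_cons]
    simp only [koszulMap_id M fs]
    exact mappingCone.map_id _

lemma koszulMap_smul {M N : ModuleCat.{u} A} (a : A) (g : M ⟶ N) :
    ∀ fs : List A, koszulMap (a • g) fs = a • koszulMap g fs
  | [] => by
    exact single_map_smul a g
  | f :: fs => by
    rw [koszulMap_cons, koszulMap_cons]
    simp only [koszulMap_smul a g fs]
    exact mappingCone_map_smul _ _ _ _ a _ _

end KoszulMap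

section Degreewise

open CohIII

lemma single_degreewise (S₀ : ShortComplex (ModuleCat.{u} A)) (hS₀ : S₀.ShortExact) (n : ℤ) :
    Function.Injective
        (((HomologicalComplex.single (ModuleCat.{u} A) (ComplexShape.up ℤ) 0).map S₀.f).f n) ∧
      Function.Surjective
        (((HomologicalComplex.single (ModuleCat.{u} A) (ComplexShape.up ℤ) 0).map S₀.g).f n) ∧
      Function.Exact
        (((HomologicalComplex.single (ModuleCat.{u} A) (ComplexShape.up ℤ) 0).map S₀.f).f n)
        (((HomologicalComplex.single (ModuleCat.{u} A) (ComplexShape.up ℤ) 0).map S₀.g).f n) := by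
  by_cases h : n = 0
  · subst h
    let T₀ : ShortComplex (ModuleCat.{u} A) := ShortComplex.mk
      (((HomologicalComplex.single (ModuleCat.{u} A) (ComplexShape.up ℤ) 0).map S₀.f).f 0)
      (((HomologicalComplex.single (ModuleCat.{u} A) (ComplexShape.up ℤ) 0).map S₀.g).f 0)
      (by rw [← HomologicalComplex.comp_f, ← Functor.map_comp, S₀.zero, Functor.map_zero,
        HomologicalComplex.zero_f])
    let e : T₀ ≅ S₀ := ShortComplex.isoMk
      (HomologicalComplex.singleObjXSelf (ComplexShape.up ℤ) 0 S₀.X₁)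
      (HomologicalComplex.singleObjXSelf (ComplexShape.up ℤ) 0 S₀.X₂)
      (HomologicalComplex.singleObjXSelf (ComplexShape.up ℤ) 0 S₀.X₃)
      (by
        change _ ≫ S₀.f = ((HomologicalComplex.single (ModuleCat.{u} A) (ComplexShape.up ℤ) 0).map
          S₀.f).f 0 ≫ _
        rw [HomologicalComplex.single_map_f_self, Category.assoc, Category.assoc, Iso.inv_hom_id,
          Category.comp_id])
      (by
        change _ ≫ S₀.g = ((HomologicalComplex.single (ModuleCat.{u} A) (ComplexShape.up ℤ) 0).map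
          S₀.g).f 0 ≫ _
        rw [HomologicalComplex.single_map_f_self, Category.assoc, Category.assoc, Iso.inv_hom_id,
          Category.comp_id])
    have hT₀ : T₀.ShortExact := ShortComplex.shortExact_of_iso e.symm hS₀
    exact ⟨hT₀.moduleCat_injective_f, hT₀.moduleCat_surjective_g,
      (ShortComplex.ShortExact.moduleCat_exact_iff_function_exact _).mp hT₀.exact⟩
  · have z1 : Subsingleton (((HomologicalComplex.single (ModuleCat.{u} A) (ComplexShape.up ℤ) 0).obj
        S₀.X₁).X n) := ModuleCat.subsingleton_of_isZero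
        (HomologicalComplex.isZero_single_obj_X (ComplexShape.up ℤ) 0 S₀.X₁ n h)
    have z2 : Subsingleton (((HomologicalComplex.single (ModuleCat.{u} A) (ComplexShape.up ℤ) 0).obj
        S₀.X₂).X n) := ModuleCat.subsingleton_of_isZero
        (HomologicalComplex.isZero_single_obj_X (ComplexShape.up ℤ) 0 S₀.X₂ n h)
    have z3 : Subsingleton (((HomologicalComplex.single (ModuleCat.{u} A) (ComplexShape.up ℤ) 0).obj
        S₀.X₃).X n) := ModuleCat.subsingleton_of_isZero
        (HomologicalComplex.isZero_single_obj_X (ComplexShape.up ℤ) 0 S₀.X₃ n h)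
    refine ⟨fun x y _ => Subsingleton.elim _ _, fun z => ⟨0, Subsingleton.elim _ _⟩, fun y => ?_⟩
    exact ⟨fun _ => ⟨0, Subsingleton.elim _ _⟩, fun _ => Subsingleton.elim _ _⟩

lemma cone_degreewise {K₁ K₂ K₃ : CochainComplex (ModuleCat.{u} A) ℤ} (φ₁ : K₁ ⟶ K₁)
    (φ₂ : K₂ ⟶ K₂) (φ₃ : K₃ ⟶ K₃) (a : K₁ ⟶ K₂) (b : K₂ ⟶ K₃) (comm₁ : φ₁ ≫ a = a ≫ φ₂)
    (comm₂ : φ₂ ≫ b = b ≫ φ₃)
    (h : ∀ n, Function.Injective (a.f n) ∧ Function.Surjective (b.f n) ∧
      Function.Exact (a.f n) (b.f n)) (n : ℤ) :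
    Function.Injective ((mappingCone.map φ₁ φ₂ a a comm₁).f n) ∧
      Function.Surjective ((mappingCone.map φ₂ φ₃ b b comm₂).f n) ∧
      Function.Exact ((mappingCone.map φ₁ φ₂ a a comm₁).f n)
        ((mappingCone.map φ₂ φ₃ b b comm₂).f n) := by
  refine ⟨?_, ?_, ?_⟩
  · intro x y hxy
    apply cone_ext φ₁ n
    · apply (h (n + 1)).1
      rw [← coneFst_map φ₁ φ₂ a a comm₁, ← coneFst_map φ₁ φ₂ a a comm₁, hxy]
    · apply (h n).1
      rw [← coneSnd_map φ₁ φ₂ a a comm₁, ← coneSnd_map φ₁ φ₂ a a comm₁, hxy]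
  · intro z
    obtain ⟨u, hu⟩ := (h (n + 1)).2.1 (coneFst φ₃ n z)
    obtain ⟨v, hv⟩ := (h n).2.1 (coneSnd φ₃ n z)
    refine ⟨coneInl φ₂ n u + coneInr φ₂ n v, ?_⟩
    apply cone_ext φ₃ n
    · rw [coneFst_map, map_add, coneFst_coneInl, coneFst_coneInr, add_zero, hu]
    · rw [coneSnd_map, map_add, coneSnd_coneInl, coneSnd_coneInr, zero_add, hv]
  · intro y
    constructor
    · intro hy
      have h1 : b.f (n + 1) (coneFst φ₂ n y) = 0 := by
        rw [← coneFst_map φ₂ φ₃ b b comm₂, hy, map_zero]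
      have h2 : b.f n (coneSnd φ₂ n y) = 0 := by
        rw [← coneSnd_map φ₂ φ₃ b b comm₂, hy, map_zero]
      obtain ⟨u, hu⟩ := ((h (n + 1)).2.2 _).mp h1
      obtain ⟨v, hv⟩ := ((h n).2.2 _).mp h2
      refine ⟨coneInl φ₁ n u + coneInr φ₁ n v, ?_⟩
      apply cone_ext φ₂ n
      · rw [coneFst_map, map_add, coneFst_coneInl, coneFst_coneInr, add_zero, hu]
      · rw [coneSnd_map, map_add, coneSnd_coneInl, coneSnd_coneInr, zero_add, hv]
    · rintro ⟨x, rfl⟩
      apply cone_ext φ₃ n
      · rw [coneFst_map, coneFst_map, map_zero]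
        exact ((h (n + 1)).2.2 _).mpr ⟨_, rfl⟩
      · rw [coneSnd_map, coneSnd_map, map_zero]
        exact ((h n).2.2 _).mpr ⟨_, rfl⟩

/-- the Koszul complex is degreewise exact in the module variable. -/
theorem koszulMap_degreewise (S₀ : ShortComplex (ModuleCat.{u} A)) (hS₀ : S₀.ShortExact) :
    ∀ (fs : List A) (n : ℤ),
      Function.Injective ((koszulMap S₀.f fs).f n) ∧
      Function.Surjective ((koszulMap S₀.g fs).f n) ∧
      Function.Exact ((koszulMap S₀.f fs).f n) ((koszulMap S₀.g fs).f n)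
  | [], n => single_degreewise S₀ hS₀ n
  | _ :: fs, n => cone_degreewise _ _ _ _ _ _ _ (koszulMap_degreewise S₀ hS₀ fs) n

end Degreewise

section Regular

open CohIII Pointwise

/-- the projection `M → M/fM`. -/
noncomputable def regularπ (M : Type u) [AddCommGroup M] [Module A M] (f : A) :
    ModuleCat.of A M ⟶ ModuleCat.of A (QuotSMulTop f M) :=
  ModuleCat.ofHom (f • (⊤ : Submodule A M)).mkQ

lemma smul_regularπ (M : Type u) [AddCommGroup M] [Module A M] (f : A) :
    f • regularπ M f = 0 := by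
  apply ModuleCat.hom_ext
  apply LinearMap.ext
  intro (x : M)
  change f • (f • (⊤ : Submodule A M)).mkQ x = 0
  rw [← map_smul, Submodule.mkQ_apply, Submodule.Quotient.mk_eq_zero]
  exact Submodule.smul_mem_pointwise_smul x f ⊤ trivial

/-- the short exact sequence `0 → M --f--> M → M/fM → 0` for an `M`-regular element `f`. -/
noncomputable def regularSC (M : Type u) [AddCommGroup M] [Module A M] (f : A) :
    ShortComplex (ModuleCat.{u} A) :=
  ShortComplex.mk (f • 𝟙 (ModuleCat.of A M)) (regularπ M f) (by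
    rw [Linear.smul_comp, Category.id_comp, smul_regularπ])

lemma regularSC_shortExact (M : Type u) [AddCommGroup M] [Module A M] (f : A)
    (hf : IsSMulRegular M f) : (regularSC M f).ShortExact := by
  apply ModuleCat.shortComplex_shortExact
  · intro (y : M)
    change (f • (⊤ : Submodule A M)).mkQ y = 0 ↔ _
    rw [Submodule.mkQ_apply, Submodule.Quotient.mk_eq_zero, Submodule.mem_smul_pointwise_iff_exists]
    constructor
    · rintro ⟨x, -, rfl⟩; exact ⟨x, rfl⟩
    · rintro ⟨x, rfl⟩; exact ⟨x, trivial, rfl⟩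
  · exact hf
  · exact Submodule.mkQ_surjective (f • (⊤ : Submodule A M))

lemma koszulMap_zero {M N : ModuleCat.{u} A} (fs : List A) : koszulMap (0 : M ⟶ N) fs = 0 := by
  have h : (0 : M ⟶ N) = (0 : A) • (0 : M ⟶ N) := by rw [zero_smul]
  rw [h, koszulMap_smul, zero_smul]

/-- the short exact sequence of Koszul complexes attached to a regular element. -/
noncomputable def koszulRegularSC (M : Type u) [AddCommGroup M] [Module A M] (f : A)
    (fs : List A) : ShortComplex (CochainComplex (ModuleCat.{u} A) ℤ) :=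
  ShortComplex.mk (f • 𝟙 (koszulCx (ModuleCat.of A M) fs))
    (koszulMap (regularπ M f) fs) (by
      rw [Linear.smul_comp, Category.id_comp, ← koszulMap_smul, smul_regularπ, koszulMap_zero])

lemma koszulRegularSC_shortExact (M : Type u) [AddCommGroup M] [Module A M] (f : A)
    (hf : IsSMulRegular M f) (fs : List A) : (koszulRegularSC M f fs).ShortExact := by
  have h1 : koszulMap (regularSC M f).f fs = f • 𝟙 (koszulCx (ModuleCat.of A M) fs) := by
    change koszulMap (f • 𝟙 (ModuleCat.of A M)) fs = _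
    rw [koszulMap_smul, koszulMap_id]
  refine HomologicalComplex.shortExact_of_degreewise_shortExact _ fun n => ?_
  have h := koszulMap_degreewise (regularSC M f) (regularSC_shortExact M f hf) fs n
  rw [h1] at h
  exact ModuleCat.shortComplex_shortExact _ h.2.2 h.1 h.2.1

/-- for an `M`-regular element `f`: `H^n(K(f :: fs; M)) ≅ H^n(K(fs; M/fM))`. -/
noncomputable def homologyConsIso (M : Type u) [AddCommGroup M] [Module A M] (f : A)
    (hf : IsSMulRegular M f) (fs : List A) (n : ℤ) :
    (koszulCx (ModuleCat.of A M) (f :: fs)).homology n ≅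
      (koszulCx (ModuleCat.of A (QuotSMulTop f M)) fs).homology n :=
  haveI : QuasiIso (mappingCone.descShortComplex (koszulRegularSC M f fs)) :=
    mappingCone.quasiIso_descShortComplex (koszulRegularSC_shortExact M f hf fs)
  haveI : QuasiIsoAt (mappingCone.descShortComplex (koszulRegularSC M f fs)) n :=
    QuasiIso.quasiIsoAt n
  isoOfQuasiIsoAt (mappingCone.descShortComplex (koszulRegularSC M f fs)) n

/-- Koszul cohomology of a weakly regular sequence vanishes outside degree `0`. -/
theorem isZero_homology_koszulCx_of_isWeaklyRegular (fs : List A) :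
    ∀ (M : Type u) [AddCommGroup M] [Module A M],
      RingTheory.Sequence.IsWeaklyRegular M fs → ∀ n : ℤ, n ≠ 0 →
        IsZero ((koszulCx (ModuleCat.of A M) fs).homology n) := by
  induction fs with
  | nil =>
    intro M _ _ _ n hn
    exact HomologicalComplex.isZero_single_obj_homology _ _ _ _ hn
  | cons f fs ih =>
    intro M _ _ hreg n hn
    rw [RingTheory.Sequence.isWeaklyRegular_cons_iff] at hreg
    exact (ih (QuotSMulTop f M) hreg.2 n hn).of_iso (homologyConsIso M f hreg.1 fs n)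

end Regular

end Groth.Agent.Lib.Helper28.Koszul
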