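import Mathlib
import Groth.Prelude.Def_ega3

/-!
# Homological functors of a complex of flat modules (helper28)

For a complex `P` of `A`-modules, `CohIII.TFun P p : M ↦ H_p(P ⊗ M)`.

* `tensorSC P S₀`: the short complex of complexes `P ⊗ S₀` for a short complex of modules `S₀`;
  `tensorSC_shortExact`: it is short exact when the `P.X i` are flat and `S₀` is short exact.
* `preservesEpi_iff_preservesMono_of_rel`: `T_p` preserves epis iff `T_q` preserves monos
  (`c.Rel p q`), from the long exact homology sequence.
-/

set_option autoImplicit false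
universe u

namespace Groth.Agent.Lib.Helper28.FlatCx

open CategoryTheory CategoryTheory.Limits MonoidalCategory CohIII

variable {A : Type u} [CommRing A] {ι : Type} {c : ComplexShape ι}

lemma tensorMap_f (P : HomologicalComplex (ModuleCat.{u} A) c) {M N : ModuleCat.{u} A}
    (g : M ⟶ N) (i : ι) : (tensorMap P g).f i = P.X i ◁ g := rfl

lemma tensorObj_X (P : HomologicalComplex (ModuleCat.{u} A) c) (M : ModuleCat.{u} A) (i : ι) :
    (tensorObj P M).X i = P.X i ⊗ M := rfl

lemma tensorObj_d (P : HomologicalComplex (ModuleCat.{u} A) c) (M : ModuleCat.{u} A) (i j : ι) :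
    (tensorObj P M).d i j = P.d i j ▷ M := rfl

lemma tensorMap_comp (P : HomologicalComplex (ModuleCat.{u} A) c) {M N L : ModuleCat.{u} A}
    (g : M ⟶ N) (h : N ⟶ L) : tensorMap P (g ≫ h) = tensorMap P g ≫ tensorMap P h := by
  ext i : 1
  simp only [tensorMap_f, HomologicalComplex.comp_f, MonoidalCategory.whiskerLeft_comp]
  rfl

lemma tensorMap_zero (P : HomologicalComplex (ModuleCat.{u} A) c) (M N : ModuleCat.{u} A) :
    tensorMap P (0 : M ⟶ N) = 0 := by
  ext i : 1
  simp only [tensorMap_f, HomologicalComplex.zero_f, MonoidalPreadditive.whiskerLeft_zero]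
  rfl

lemma TFun_map (P : HomologicalComplex (ModuleCat.{u} A) c) (p : ι) {M N : ModuleCat.{u} A}
    (g : M ⟶ N) : (TFun P p).map g = HomologicalComplex.homologyMap (tensorMap P g) p := rfl

/-- the short complex of complexes `P ⊗ S₀`. -/
noncomputable def tensorSC (P : HomologicalComplex (ModuleCat.{u} A) c)
    (S₀ : ShortComplex (ModuleCat.{u} A)) :
    ShortComplex (HomologicalComplex (ModuleCat.{u} A) c) :=
  ShortComplex.mk (tensorMap P S₀.f) (tensorMap P S₀.g)
    (by rw [← tensorMap_comp, S₀.zero, tensorMap_zero])

lemma tensorSC_shortExact (P : HomologicalComplex (ModuleCat.{u} A) c)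
    (hP : ∀ i, Module.Flat A (P.X i)) (S₀ : ShortComplex (ModuleCat.{u} A))
    (hS : S₀.ShortExact) : (tensorSC P S₀).ShortExact := by
  apply HomologicalComplex.shortExact_of_degreewise_shortExact
  intro i
  have hP' := hP i
  apply ModuleCat.shortComplex_shortExact
  · change Function.Exact (LinearMap.lTensor (P.X i) S₀.f.hom) (LinearMap.lTensor (P.X i) S₀.g.hom)
    exact lTensor_exact (P.X i)
      ((ShortComplex.ShortExact.moduleCat_exact_iff_function_exact S₀).mp hS.exact)
      hS.moduleCat_surjective_g
  · change Function.Injective (LinearMap.lTensor (P.X i) S₀.f.hom)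
    exact Module.Flat.lTensor_preserves_injective_linearMap _ hS.moduleCat_injective_f
  · change Function.Surjective (LinearMap.lTensor (P.X i) S₀.g.hom)
    exact LinearMap.lTensor_surjective _ hS.moduleCat_surjective_g

/-- `T_p` preserves epimorphisms iff `T_q` preserves monomorphisms, for `c.Rel p q`. -/
theorem preservesEpi_iff_preservesMono_of_rel (P : HomologicalComplex (ModuleCat.{u} A) c)
    (hP : ∀ i, Module.Flat A (P.X i)) (p q : ι) (hpq : c.Rel p q) :
    (TFun P p).PreservesEpimorphisms ↔ (TFun P q).PreservesMonomorphisms := by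
  constructor
  · intro h
    constructor
    intro M' M f hf
    let S₀ : ShortComplex (ModuleCat.{u} A) := ShortComplex.mk f (cokernel.π f) (cokernel.condition f)
    have hS₀ : S₀.ShortExact :=
      { exact := ShortComplex.exact_cokernel f
        mono_f := hf
        epi_g := inferInstanceAs (Epi (cokernel.π f)) }
    have hS := tensorSC_shortExact P hP S₀ hS₀
    have h3 := hS.homology_exact₃ p q hpq
    have h1 := hS.homology_exact₁ p q hpq
    have hepi : Epi (HomologicalComplex.homologyMap (tensorSC P S₀).g p) :=
      h.preserves (cokernel.π f)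
    have hδ : hS.δ p q hpq = 0 := (h3.epi_f_iff.mp hepi)
    exact h1.mono_g_iff.mpr hδ
  · intro h
    constructor
    intro M M'' g hg
    let S₀ : ShortComplex (ModuleCat.{u} A) := ShortComplex.mk (kernel.ι g) g (kernel.condition g)
    have hS₀ : S₀.ShortExact :=
      { exact := ShortComplex.exact_kernel g
        mono_f := inferInstanceAs (Mono (kernel.ι g))
        epi_g := hg }
    have hS := tensorSC_shortExact P hP S₀ hS₀
    have h3 := hS.homology_exact₃ p q hpq
    have h1 := hS.homology_exact₁ p q hpq
    have hmono : Mono (HomologicalComplex.homologyMap (tensorSC P S₀).f q) :=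
      h.preserves (kernel.ι g)
    have hδ : hS.δ p q hpq = 0 := (h1.mono_g_iff.mp hmono)
    exact h3.epi_f_iff.mpr hδ

/-! ## Opcycles of the tensored complex -/

section Opcycles

variable (P : HomologicalComplex (ModuleCat.{u} A) c) (p : ι) (M : ModuleCat.{u} A)

/-- `(P ⊗ M).opcycles p ≅ P.opcycles p ⊗ M` (right exactness of the tensor product). -/
noncomputable def opcyclesTensorIso : (tensorObj P M).opcycles p ≅ P.opcycles p ⊗ M :=
  IsColimit.coconePointUniqueUpToIso
    ((tensorObj P M).opcyclesIsCokernel (c.prev p) p rfl)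
    (CokernelCofork.mapIsColimit _ (P.opcyclesIsCokernel (c.prev p) p rfl) (tensorRight M))

@[reassoc]
lemma p_opcyclesTensorIso_hom :
    (tensorObj P M).pOpcycles p ≫ (opcyclesTensorIso P p M).hom = P.pOpcycles p ▷ M :=
  IsColimit.comp_coconePointUniqueUpToIso_hom
    ((tensorObj P M).opcyclesIsCokernel (c.prev p) p rfl)
    (CokernelCofork.mapIsColimit _ (P.opcyclesIsCokernel (c.prev p) p rfl) (tensorRight M))
    WalkingParallelPair.one

@[reassoc]
lemma opcyclesTensorIso_hom_naturality {M N : ModuleCat.{u} A} (g : M ⟶ N) :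
    HomologicalComplex.opcyclesMap (tensorMap P g) p ≫ (opcyclesTensorIso P p N).hom =
      (opcyclesTensorIso P p M).hom ≫ (P.opcycles p ◁ g) := by
  rw [← cancel_epi ((tensorObj P M).pOpcycles p), HomologicalComplex.p_opcyclesMap_assoc,
    p_opcyclesTensorIso_hom, p_opcyclesTensorIso_hom_assoc, tensorMap_f]
  exact whisker_exchange _ _

@[reassoc]
lemma opcyclesTensorIso_hom_fromOpcycles (q : ι) :
    (opcyclesTensorIso P p M).hom ≫ (P.fromOpcycles p q ▷ M) =
      (tensorObj P M).fromOpcycles p q := by
  have h1 : P.pOpcycles p ▷ M ≫ P.fromOpcycles p q ▷ M = (P.d p q) ▷ M := by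
    rw [← MonoidalCategory.comp_whiskerRight, HomologicalComplex.p_fromOpcycles]
  have h2 : (tensorObj P M).pOpcycles p ≫ (tensorObj P M).fromOpcycles p q = (P.d p q) ▷ M :=
    HomologicalComplex.p_fromOpcycles _ p q
  rw [← cancel_epi ((tensorObj P M).pOpcycles p), p_opcyclesTensorIso_hom_assoc]
  exact h1.trans h2.symm

end Opcycles

@[reassoc]
lemma opcyclesMap_fromOpcycles {K L : HomologicalComplex (ModuleCat.{u} A) c} (φ : K ⟶ L)
    (p q : ι) : HomologicalComplex.opcyclesMap φ p ≫ L.fromOpcycles p q =
      K.fromOpcycles p q ≫ φ.f q := by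
  rw [← cancel_epi (K.pOpcycles p), HomologicalComplex.p_opcyclesMap_assoc,
    HomologicalComplex.p_fromOpcycles, HomologicalComplex.p_fromOpcycles_assoc, φ.comm]

/-- a four-lemma for complexes of modules: if `φ` induces a mono on `H_p` and `φ.f (next p)` is
mono, then `opcyclesMap φ p` is mono. -/
lemma mono_opcyclesMap_of_mono {K L : HomologicalComplex (ModuleCat.{u} A) c} (φ : K ⟶ L) (p : ι)
    (h1 : Mono (HomologicalComplex.homologyMap φ p)) (h2 : Mono (φ.f (c.next p))) :
    Mono (HomologicalComplex.opcyclesMap φ p) := by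
  rw [ModuleCat.mono_iff_injective] at h1 h2 ⊢
  rw [injective_iff_map_eq_zero]
  intro x hx
  have hex : (ShortComplex.mk (K.homologyι p) (K.fromOpcycles p (c.next p))
      (K.homologyι_comp_fromOpcycles p (c.next p))).Exact :=
    ShortComplex.exact_of_f_is_kernel _ (K.homologyIsKernel p (c.next p) rfl)
  have hx2 : K.fromOpcycles p (c.next p) x = 0 := by
    apply h2
    have := congr($(opcyclesMap_fromOpcycles φ p (c.next p)) x)
    rw [ModuleCat.comp_apply, ModuleCat.comp_apply, hx, map_zero] at this
    rw [map_zero, ← this]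
  obtain ⟨h, rfl⟩ := (ShortComplex.moduleCat_exact_iff _).mp hex x hx2
  have hh : HomologicalComplex.homologyMap φ p h = 0 := by
    have hinj : Function.Injective (L.homologyι p) :=
      (ModuleCat.mono_iff_injective _).mp inferInstance
    apply hinj
    have := congr($(HomologicalComplex.homologyι_naturality φ p) h)
    rw [ModuleCat.comp_apply, ModuleCat.comp_apply, hx] at this
    rw [this, map_zero]
  have : h = 0 := h1 (by rw [hh, map_zero])
  rw [this, map_zero]

/-- `T_p` preserves monomorphisms iff `P.opcycles p` is flat. -/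
theorem preservesMono_iff_flat_opcycles (P : HomologicalComplex (ModuleCat.{u} A) c)
    (hP : ∀ i, Module.Flat A (P.X i)) (p : ι) :
    (TFun P p).PreservesMonomorphisms ↔ Module.Flat A (P.opcycles p) := by
  constructor
  · intro h
    rw [Module.Flat.iff_lTensor_preserves_injective_linearMap]
    intro N N' _ _ _ _ g hg
    let g' : ModuleCat.of A N ⟶ ModuleCat.of A N' := ModuleCat.ofHom g
    have hg' : Mono g' := (ModuleCat.mono_iff_injective g').mpr hg
    have h1 : Mono (HomologicalComplex.homologyMap (tensorMap P g') p) := h.preserves g'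
    have h2 : Mono ((tensorMap P g').f (c.next p)) := by
      rw [tensorMap_f, ModuleCat.mono_iff_injective]
      have := hP (c.next p)
      exact Module.Flat.lTensor_preserves_injective_linearMap _ hg
    have h3 := mono_opcyclesMap_of_mono (tensorMap P g') p h1 h2
    have h4 : P.opcycles p ◁ g' = (opcyclesTensorIso P p _).inv ≫
        HomologicalComplex.opcyclesMap (tensorMap P g') p ≫ (opcyclesTensorIso P p _).hom := by
      rw [opcyclesTensorIso_hom_naturality, Iso.inv_hom_id_assoc]
    have h5 : Mono (P.opcycles p ◁ g') := by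
      rw [h4]; infer_instance
    exact (ModuleCat.mono_iff_injective _).mp h5
  · intro hW
    constructor
    intro M N g hg
    rw [TFun_map]
    have h1 : Mono (P.opcycles p ◁ g) := by
      rw [ModuleCat.mono_iff_injective]
      exact Module.Flat.lTensor_preserves_injective_linearMap _
        ((ModuleCat.mono_iff_injective g).mp hg)
    have h2 : Mono (HomologicalComplex.opcyclesMap (tensorMap P g) p) := by
      have : HomologicalComplex.opcyclesMap (tensorMap P g) p =
          (opcyclesTensorIso P p M).hom ≫ (P.opcycles p ◁ g) ≫ (opcyclesTensorIso P p N).inv := by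
        rw [← opcyclesTensorIso_hom_naturality_assoc, Iso.hom_inv_id, Category.comp_id]
      rw [this]; infer_instance
    have h3 : Mono (HomologicalComplex.homologyMap (tensorMap P g) p ≫ (tensorObj P N).homologyι p) := by
      rw [HomologicalComplex.homologyι_naturality]; infer_instance
    exact @mono_of_mono _ _ _ _ _ _ ((tensorObj P N).homologyι p) h3

/-! ## `T_p(M)` as the kernel of `W_p ⊗ M → P_q ⊗ M` -/

section Theta

variable (P : HomologicalComplex (ModuleCat.{u} A) c) (p : ι)

/-- the inclusion `T_p(M) ↪ W_p ⊗ M` where `W_p = P.opcycles p`. -/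
noncomputable def theta (M : ModuleCat.{u} A) : T P p M ⟶ P.opcycles p ⊗ M :=
  (tensorObj P M).homologyι p ≫ (opcyclesTensorIso P p M).hom

instance (M : ModuleCat.{u} A) : Mono (theta P p M) := by
  unfold theta; infer_instance

lemma theta_injective (M : ModuleCat.{u} A) : Function.Injective (theta P p M) :=
  (ModuleCat.mono_iff_injective _).mp inferInstance

@[reassoc]
lemma theta_naturality {M N : ModuleCat.{u} A} (g : M ⟶ N) :
    HomologicalComplex.homologyMap (tensorMap P g) p ≫ theta P p N =
      theta P p M ≫ (P.opcycles p ◁ g) := by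
  have h1 : HomologicalComplex.homologyMap (tensorMap P g) p ≫ (tensorObj P N).homologyι p =
      (tensorObj P M).homologyι p ≫ HomologicalComplex.opcyclesMap (tensorMap P g) p :=
    HomologicalComplex.homologyι_naturality _ _
  have h2 := opcyclesTensorIso_hom_naturality P p g
  change HomologicalComplex.homologyMap (tensorMap P g) p ≫
    ((tensorObj P N).homologyι p ≫ (opcyclesTensorIso P p N).hom) =
    ((tensorObj P M).homologyι p ≫ (opcyclesTensorIso P p M).hom) ≫ (P.opcycles p ◁ g)
  rw [← Category.assoc, h1, Category.assoc, h2, Category.assoc]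

lemma theta_naturality_apply {M N : ModuleCat.{u} A} (g : M ⟶ N) (t : T P p M) :
    theta P p N (HomologicalComplex.homologyMap (tensorMap P g) p t) =
      (P.opcycles p ◁ g) (theta P p M t) := by
  have := congr($(theta_naturality P p g) t)
  exact this

@[reassoc]
lemma theta_comp (M : ModuleCat.{u} A) (q : ι) :
    theta P p M ≫ (P.fromOpcycles p q ▷ M) = 0 := by
  unfold theta
  rw [Category.assoc]
  have h1 := opcyclesTensorIso_hom_fromOpcycles P p M q
  have h2 := (tensorObj P M).homologyι_comp_fromOpcycles p q
  exact (congrArg (fun f => (tensorObj P M).homologyι p ≫ f) h1).trans h2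

lemma theta_exact (M : ModuleCat.{u} A) :
    (ShortComplex.mk (theta P p M) (P.fromOpcycles p (c.next p) ▷ M)
      (theta_comp P p M (c.next p))).Exact := by
  have hex : (ShortComplex.mk ((tensorObj P M).homologyι p)
      ((tensorObj P M).fromOpcycles p (c.next p))
      ((tensorObj P M).homologyι_comp_fromOpcycles p (c.next p))).Exact :=
    ShortComplex.exact_of_f_is_kernel _ ((tensorObj P M).homologyIsKernel p (c.next p) rfl)
  rw [ShortComplex.moduleCat_exact_iff] at hex ⊢
  intro x hx
  dsimp at x hx ⊢
  obtain ⟨t, ht⟩ := hex ((opcyclesTensorIso P p M).inv x) (by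
    have h1 := congr($(opcyclesTensorIso_hom_fromOpcycles P p M (c.next p))
      ((opcyclesTensorIso P p M).inv x))
    have h2 : (opcyclesTensorIso P p M).hom ((opcyclesTensorIso P p M).inv x) = x :=
      Iso.inv_hom_id_apply _ x
    exact h1.symm.trans ((congrArg (P.fromOpcycles p (c.next p) ▷ M) h2).trans hx))
  refine ⟨t, ?_⟩
  dsimp at ht
  unfold theta
  rw [ModuleCat.comp_apply, ht, Iso.inv_hom_id_apply]

/-- elementwise form of exactness. -/
lemma exists_theta_eq (M : ModuleCat.{u} A) (x : (P.opcycles p ⊗ M : ModuleCat.{u} A))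
    (hx : (P.fromOpcycles p (c.next p) ▷ M) x = 0) : ∃ t : T P p M, theta P p M t = x :=
  (ShortComplex.moduleCat_exact_iff _).mp (theta_exact P p M) x hx

lemma theta_fromOpcycles_apply (M : ModuleCat.{u} A) (q : ι) (t : T P p M) :
    (P.fromOpcycles p q ▷ M) (theta P p M t) = 0 := by
  have := congr($(theta_comp P p M q) t)
  exact this

lemma isZero_T_iff (M : ModuleCat.{u} A) :
    IsZero (T P p M) ↔ Function.Injective (P.fromOpcycles p (c.next p) ▷ M) := by
  constructor
  · intro h
    rw [injective_iff_map_eq_zero]
    intro x hx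
    obtain ⟨t, rfl⟩ := exists_theta_eq P p M x hx
    have : t = 0 := (ModuleCat.isZero_iff_subsingleton.mp h).elim _ _
    rw [this, map_zero]
  · intro h
    rw [ModuleCat.isZero_iff_subsingleton]
    constructor
    intro a b
    apply theta_injective P p M
    apply h
    rw [theta_fromOpcycles_apply, theta_fromOpcycles_apply]

lemma surjective_TFun_map_iff {M N : ModuleCat.{u} A} (g : M ⟶ N) :
    Function.Surjective (HomologicalComplex.homologyMap (tensorMap P g) p) ↔
      ∀ x : (P.opcycles p ⊗ N : ModuleCat.{u} A), (P.fromOpcycles p (c.next p) ▷ N) x = 0 →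
        ∃ y : (P.opcycles p ⊗ M : ModuleCat.{u} A),
          (P.fromOpcycles p (c.next p) ▷ M) y = 0 ∧ (P.opcycles p ◁ g) y = x := by
  constructor
  · intro h x hx
    obtain ⟨t, rfl⟩ := exists_theta_eq P p N x hx
    obtain ⟨s, rfl⟩ := h t
    exact ⟨theta P p M s, theta_fromOpcycles_apply P p M _ s, (theta_naturality_apply P p g s).symm⟩
  · intro h t
    obtain ⟨y, hy0, hy⟩ := h (theta P p N t) (theta_fromOpcycles_apply P p N _ t)
    obtain ⟨s, rfl⟩ := exists_theta_eq P p M y hy0
    refine ⟨s, theta_injective P p N ?_⟩
    rw [theta_naturality_apply, hy]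

end Theta

/-! ## Linear algebra: tensoring `0 → H → W → Q → V → 0` with `Q`, `V` flat -/

section Concrete

open Function TensorProduct

/-- kernel of a surjection of a flat module onto a flat module is flat -/
lemma flat_of_exact_of_flat {B Q V : Type u} [AddCommGroup B] [Module A B] [AddCommGroup Q]
    [Module A Q] [AddCommGroup V] [Module A V] (j : B →ₗ[A] Q) (π : Q →ₗ[A] V)
    (hj : Injective j) (hπ : Surjective π) (hex : Exact j π) [Module.Flat A Q] [Module.Flat A V] :
    Module.Flat A B := by
  rw [Module.Flat.iff_lTensor_preserves_injective_linearMap]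
  intro N N' _ _ _ _ f hf
  have h1 : Injective (j.rTensor N) := by
    rw [← LinearMap.lTensor_inj_iff_rTensor_inj]
    exact LinearMap.lTensor_injective_of_exact_of_flat π hπ j hj hex N
  have h2 : Injective (f.lTensor Q) := Module.Flat.lTensor_preserves_injective_linearMap f hf
  have h3 : (j.rTensor N') ∘ₗ (f.lTensor B) = (f.lTensor Q) ∘ₗ (j.rTensor N) := by
    rw [LinearMap.rTensor_comp_lTensor, LinearMap.lTensor_comp_rTensor]
  have h4 : Injective ((j.rTensor N') ∘ₗ (f.lTensor B)) := by
    rw [h3]; exact h2.comp h1
  exact Injective.of_comp h4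

theorem rTensor_exact_of_flat_coker {H W Q V : Type u} [AddCommGroup H] [Module A H]
    [AddCommGroup W] [Module A W] [AddCommGroup Q] [Module A Q] [AddCommGroup V] [Module A V]
    (ι : H →ₗ[A] W) (φ : W →ₗ[A] Q) (π : Q →ₗ[A] V) (hι : Injective ι) (h1 : Exact ι φ)
    (h2 : Exact φ π) (hπ : Surjective π) [Module.Flat A Q] [Module.Flat A V]
    (M : Type u) [AddCommGroup M] [Module A M] :
    Injective (ι.rTensor M) ∧ Exact (ι.rTensor M) (φ.rTensor M) := by
  let B := LinearMap.range φ
  let φB : W →ₗ[A] B := φ.rangeRestrict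
  let j : B →ₗ[A] Q := B.subtype
  have hφB : Surjective φB := φ.surjective_rangeRestrict
  have hj : Injective j := B.subtype_injective
  have hjπ : Exact j π := by
    intro y
    rw [h2 y]
    constructor
    · rintro ⟨w, rfl⟩; exact ⟨⟨φ w, w, rfl⟩, rfl⟩
    · rintro ⟨⟨_, w, rfl⟩, rfl⟩; exact ⟨w, rfl⟩
  have hBflat : Module.Flat A B := flat_of_exact_of_flat j π hj hπ hjπ
  have hιφB : Exact ι φB := by
    intro w
    rw [← h1 w]
    constructor
    · intro h; exact congrArg Subtype.val h
    · intro h; exact Subtype.ext h
  have hjM : Injective (j.rTensor M) := by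
    rw [← LinearMap.lTensor_inj_iff_rTensor_inj]
    exact LinearMap.lTensor_injective_of_exact_of_flat π hπ j hj hjπ M
  have hfac : φ.rTensor M = (j.rTensor M) ∘ₗ (φB.rTensor M) := by
    rw [← LinearMap.rTensor_comp]; rfl
  refine ⟨?_, ?_⟩
  · rw [← LinearMap.lTensor_inj_iff_rTensor_inj]
    exact LinearMap.lTensor_injective_of_exact_of_flat φB hφB ι hι hιφB M
  · have hex := rTensor_exact M hιφB hφB
    intro x
    rw [← hex x, hfac, LinearMap.comp_apply]
    constructor
    · intro h; exact hjM (by rw [h, map_zero])
    · intro h; rw [h, map_zero]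

end Concrete

/-! ## The four-term exact sequence `0 → H_p → W_p → P_q → W_q → 0` -/

section FourTerm

variable (P : HomologicalComplex (ModuleCat.{u} A) c) (p q : ι)

lemma homologyι_injective : Function.Injective (P.homologyι p) :=
  (ModuleCat.mono_iff_injective _).mp inferInstance

lemma pOpcycles_surjective : Function.Surjective (P.pOpcycles q) :=
  (ModuleCat.epi_iff_surjective _).mp inferInstance

lemma exact_homologyι_fromOpcycles (hq : c.next p = q) :
    Function.Exact (P.homologyι p) (P.fromOpcycles p q) := by
  have hex : (ShortComplex.mk (P.homologyι p) (P.fromOpcycles p q)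
      (P.homologyι_comp_fromOpcycles p q)).Exact :=
    ShortComplex.exact_of_f_is_kernel _ (P.homologyIsKernel p q hq)
  exact (ShortComplex.ShortExact.moduleCat_exact_iff_function_exact _).mp hex

lemma exact_fromOpcycles_pOpcycles (hp : c.prev q = p) :
    Function.Exact (P.fromOpcycles p q) (P.pOpcycles q) := by
  have hex : (ShortComplex.mk (P.d p q) (P.pOpcycles q) (P.d_pOpcycles p q)).Exact :=
    ShortComplex.exact_of_g_is_cokernel _ (P.opcyclesIsCokernel p q hp)
  have hex' := (ShortComplex.ShortExact.moduleCat_exact_iff_function_exact _).mp hex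
  intro y
  rw [hex' y]
  constructor
  · rintro ⟨x, rfl⟩
    refine ⟨P.pOpcycles p x, ?_⟩
    exact congr($(P.p_fromOpcycles p q) x)
  · rintro ⟨w, rfl⟩
    obtain ⟨x, rfl⟩ := pOpcycles_surjective P p w
    exact ⟨x, (congr($(P.p_fromOpcycles p q) x)).symm⟩

/-- if `W_q` (and `P_q`) are flat, then `T_p(M) = H_p ⊗ M` inside `W_p ⊗ M`. -/
theorem whisker_exact_of_flat_opcycles (hpq : c.Rel p q) [Module.Flat A (P.X q)]
    [Module.Flat A (P.opcycles q)] (M : ModuleCat.{u} A) :
    Function.Injective (P.homologyι p ▷ M) ∧
      Function.Exact (P.homologyι p ▷ M) (P.fromOpcycles p q ▷ M) :=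
  rTensor_exact_of_flat_coker (P.homologyι p).hom (P.fromOpcycles p q).hom (P.pOpcycles q).hom
    (homologyι_injective P p) (exact_homologyι_fromOpcycles P p q (c.next_eq' hpq))
    (exact_fromOpcycles_pOpcycles P p q (c.prev_eq' hpq)) (pOpcycles_surjective P q) M

end FourTerm

/-! ## `T_p ≅ H_p ⊗ -` when `W_q` is flat -/

section TensorLeft

variable (P : HomologicalComplex (ModuleCat.{u} A) c) (p : ι)

/-- the comparison map `H_p(P) ⊗ M ⟶ T_p(M)`. -/
noncomputable def beta (M : ModuleCat.{u} A) : P.homology p ⊗ M ⟶ T P p M :=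
  (theta_exact P p M).lift (P.homologyι p ▷ M) (by
    change P.homologyι p ▷ M ≫ P.fromOpcycles p (c.next p) ▷ M = 0
    rw [← MonoidalCategory.comp_whiskerRight, HomologicalComplex.homologyι_comp_fromOpcycles,
      MonoidalPreadditive.zero_whiskerRight])

@[reassoc]
lemma beta_theta (M : ModuleCat.{u} A) : beta P p M ≫ theta P p M = P.homologyι p ▷ M :=
  (theta_exact P p M).lift_f _ _

lemma beta_theta_apply (M : ModuleCat.{u} A) (y : (P.homology p ⊗ M : ModuleCat.{u} A)) :
    theta P p M (beta P p M y) = (P.homologyι p ▷ M) y :=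
  congr($(beta_theta P p M) y)

@[reassoc]
lemma beta_naturality {M N : ModuleCat.{u} A} (g : M ⟶ N) :
    (P.homology p ◁ g) ≫ beta P p N =
      beta P p M ≫ HomologicalComplex.homologyMap (tensorMap P g) p := by
  rw [← cancel_mono (theta P p N), Category.assoc, Category.assoc, beta_theta,
    theta_naturality, beta_theta_assoc]
  exact whisker_exchange _ _

lemma beta_bijective (q : ι) (hpq : c.Rel p q) [Module.Flat A (P.X q)]
    [Module.Flat A (P.opcycles q)] (M : ModuleCat.{u} A) : Function.Bijective (beta P p M) := by
  obtain ⟨hinj, hex⟩ := whisker_exact_of_flat_opcycles P p q hpq M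
  have hq : c.next p = q := c.next_eq' hpq
  subst hq
  constructor
  · intro a b hab
    apply hinj
    rw [← beta_theta_apply, ← beta_theta_apply, hab]
  · intro t
    obtain ⟨y, hy⟩ := (hex (theta P p M t)).mp (theta_fromOpcycles_apply P p M _ t)
    refine ⟨y, theta_injective P p M ?_⟩
    rw [beta_theta_apply, hy]

/-- `T_p ≅ H_p(P) ⊗ -` when `W_q` is flat (`c.Rel p q`). -/
noncomputable def isoTensorLeft (q : ι) (hpq : c.Rel p q) [Module.Flat A (P.X q)]
    [Module.Flat A (P.opcycles q)] : TFun P p ≅ tensorLeft (P.homology p) :=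
  (NatIso.ofComponents
    (fun M => by
      have : IsIso (beta P p M) :=
        (ConcreteCategory.isIso_iff_bijective _).mpr (beta_bijective P p q hpq M)
      exact @asIso _ _ _ _ (beta P p M) this)
    (fun {M N} g => beta_naturality P p g)).symm

end TensorLeft

/-! ## Local rings -/

section LocalRing

open IsLocalRing

variable [IsLocalRing A] (P : HomologicalComplex (ModuleCat.{u} A) c)

omit [IsLocalRing A] in
lemma finite_opcycles (p : ι) [Module.Finite A (P.X p)] : Module.Finite A (P.opcycles p) :=
  Module.Finite.of_surjective (P.pOpcycles p).hom (pOpcycles_surjective P p)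

/-- if `T_p(k) = 0` then `T_p = 0` (local ring, finite flat terms). -/
theorem isZero_T_of_residueField (hP : ∀ i, Module.Finite A (P.X i) ∧ Module.Flat A (P.X i))
    (p : ι) (hk : IsZero ((TFun P p).obj (ModuleCat.of A (ResidueField A))))
    (M : ModuleCat.{u} A) : IsZero ((TFun P p).obj M) := by
  have hfinP : Module.Finite A (P.X p) := (hP p).1
  have hfinW : Module.Finite A (P.opcycles p) := finite_opcycles P p
  have hfinQ : Module.Finite A (P.X (c.next p)) := (hP _).1
  have hflatQ : Module.Flat A (P.X (c.next p)) := (hP _).2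
  have hfreeQ : Module.Free A (P.X (c.next p)) := Module.free_of_flat_of_isLocalRing
  have h1 : Function.Injective ((P.fromOpcycles p (c.next p)).hom.rTensor (ResidueField A)) :=
    (isZero_T_iff P p (ModuleCat.of A (ResidueField A))).mp hk
  have h2 : Function.Injective ((P.fromOpcycles p (c.next p)).hom.lTensor (ResidueField A)) :=
    (LinearMap.lTensor_inj_iff_rTensor_inj _ _).mpr h1
  obtain ⟨l', hl'⟩ :=
    (IsLocalRing.split_injective_iff_lTensor_residueField_injective _).mpr h2
  apply (isZero_T_iff P p M).mpr
  change Function.Injective ((P.fromOpcycles p (c.next p)).hom.rTensor M)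
  have h3 : (l'.rTensor M) ∘ₗ ((P.fromOpcycles p (c.next p)).hom.rTensor M) = LinearMap.id := by
    rw [← LinearMap.rTensor_comp, hl', LinearMap.rTensor_id]
  exact Function.HasLeftInverse.injective ⟨_, LinearMap.congr_fun h3⟩

end LocalRing

/-- `tensorLeft H` preserves monomorphisms iff `H` is flat. -/
lemma tensorLeft_preservesMono_iff_flat (H : ModuleCat.{u} A) :
    (tensorLeft H).PreservesMonomorphisms ↔ Module.Flat A H := by
  constructor
  · intro h
    rw [Module.Flat.iff_lTensor_preserves_injective_linearMap]
    intro N N' _ _ _ _ f hf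
    let f' : ModuleCat.of A N ⟶ ModuleCat.of A N' := ModuleCat.ofHom f
    have hf' : Mono f' := (ModuleCat.mono_iff_injective f').mpr hf
    have := h.preserves f'
    exact (ModuleCat.mono_iff_injective _).mp this
  · intro h
    constructor
    intro X Y g hg
    rw [ModuleCat.mono_iff_injective] at hg ⊢
    exact Module.Flat.lTensor_preserves_injective_linearMap _ hg

section LocalRing2

open IsLocalRing

variable [IsLocalRing A] (P : HomologicalComplex (ModuleCat.{u} A) c)

/-- Over a Noetherian local ring, given that `T_p` preserves epimorphisms, `T_p` preserves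
monomorphisms iff `T_p(A)` is free. -/
theorem preservesMono_iff_free_of_preservesEpi [IsNoetherianRing A]
    (hP : ∀ i, Module.Finite A (P.X i) ∧ Module.Flat A (P.X i)) (p s : ι) (hps : c.Rel p s)
    (hepi : (TFun P p).PreservesEpimorphisms) :
    (TFun P p).PreservesMonomorphisms ↔
      Module.Free A ((TFun P p).obj (ModuleCat.of A A)) := by
  have hPflat : ∀ i, Module.Flat A (P.X i) := fun i => (hP i).2
  have h1 : (TFun P s).PreservesMonomorphisms :=
    (preservesEpi_iff_preservesMono_of_rel P hPflat p s hps).mp hepi
  have h2 : Module.Flat A (P.opcycles s) := (preservesMono_iff_flat_opcycles P hPflat s).mp h1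
  have h3 : Module.Flat A (P.X s) := hPflat s
  let e : TFun P p ≅ tensorLeft (P.homology p) := isoTensorLeft P p s hps
  have hfinP : Module.Finite A (P.X p) := (hP p).1
  have hfinW : Module.Finite A (P.opcycles p) := finite_opcycles P p
  have hfinH : Module.Finite A (P.homology p) :=
    Module.Finite.of_injective (P.homologyι p).hom (homologyι_injective P p)
  let eA : ((TFun P p).obj (ModuleCat.of A A)) ≃ₗ[A] P.homology p :=
    (e.app (ModuleCat.of A A)).toLinearEquiv ≪≫ₗ TensorProduct.rid A (P.homology p)
  have hmono : (TFun P p).PreservesMonomorphisms ↔ Module.Flat A (P.homology p) := by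
    rw [← tensorLeft_preservesMono_iff_flat]
    constructor
    · intro h; exact CategoryTheory.Functor.PreservesMonomorphisms.of_iso e
    · intro h; exact CategoryTheory.Functor.PreservesMonomorphisms.of_iso e.symm
  rw [hmono]
  constructor
  · intro hflat
    have : Module.Free A (P.homology p) := Module.free_of_flat_of_isLocalRing
    exact Module.Free.of_equiv eA.symm
  · intro hfree
    have : Module.Free A (P.homology p) := Module.Free.of_equiv eA
    infer_instance

end LocalRing2

section LocalRing3

open IsLocalRing TensorProduct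

variable [IsLocalRing A] (P : HomologicalComplex (ModuleCat.{u} A) c)

/-- Over a local ring, for `c.Rel r s`: the map `T_r(A) → T_r(k)` is surjective iff `W_s` is flat
(finite flat terms). -/
theorem surjective_to_residueField_iff_flat_opcycles
    (hP : ∀ i, Module.Finite A (P.X i) ∧ Module.Flat A (P.X i)) (r s : ι) (hrs : c.Rel r s) :
    Function.Surjective ((TFun P r).map
      (ModuleCat.ofHom (Algebra.linearMap A (ResidueField A)))).hom ↔
      Module.Flat A (P.opcycles s) := by
  have hs : c.next r = s := c.next_eq' hrs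
  subst hs
  set g : ModuleCat.of A A ⟶ ModuleCat.of A (ResidueField A) :=
    ModuleCat.ofHom (Algebra.linearMap A (ResidueField A)) with hg
  have hgsurj : Function.Surjective g.hom := IsLocalRing.residue_surjective
  have hflatQ : Module.Flat A (P.X (c.next r)) := (hP _).2
  have hfinQ : Module.Finite A (P.X (c.next r)) := (hP _).1
  have hfinP : Module.Finite A (P.X r) := (hP r).1
  have hfinW : Module.Finite A (P.opcycles r) := finite_opcycles P r
  have key := surjective_TFun_map_iff P r g
  constructor
  · intro hsurj
    have hsurj' := key.mp hsurj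
    have hfreeQ : Module.Free A (P.X (c.next r)) := Module.free_of_flat_of_isLocalRing
    -- the image of `φ`
    let φ : P.opcycles r →ₗ[A] P.X (c.next r) := (P.fromOpcycles r (c.next r)).hom
    let B := LinearMap.range φ
    let φB : P.opcycles r →ₗ[A] B := φ.rangeRestrict
    let j : B →ₗ[A] P.X (c.next r) := B.subtype
    have hφB : Function.Surjective φB := φ.surjective_rangeRestrict
    have hj : Function.Injective j := B.subtype_injective
    have hjπ : Function.Exact j (P.pOpcycles (c.next r)).hom := by
      have h2 := exact_fromOpcycles_pOpcycles P r (c.next r) (c.prev_eq' hrs)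
      intro y
      rw [h2 y]
      constructor
      · rintro ⟨w, rfl⟩; exact ⟨⟨φ w, w, rfl⟩, rfl⟩
      · rintro ⟨⟨_, w, rfl⟩, rfl⟩; exact ⟨w, rfl⟩
    have hinj : Function.Injective (j.lTensor (ResidueField A)) := by
      rw [LinearMap.lTensor_inj_iff_rTensor_inj]
      rw [injective_iff_map_eq_zero]
      intro b hb
      obtain ⟨w, rfl⟩ := LinearMap.rTensor_surjective (ResidueField A) hφB b
      have hw : (φ.rTensor (ResidueField A)) w = 0 := by
        have : φ.rTensor (ResidueField A) = (j.rTensor _) ∘ₗ (φB.rTensor _) := by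
          rw [← LinearMap.rTensor_comp]; rfl
        rw [this, LinearMap.comp_apply, hb]
      obtain ⟨y, hy0, hy⟩ := hsurj' w hw
      have hy0' : (φ.rTensor A) y = 0 := hy0
      have hy' : (g.hom.lTensor (P.opcycles r)) y = w := hy
      have hjA : Function.Injective (j.rTensor A) :=
        Module.Flat.rTensor_preserves_injective_linearMap j hj
      have h1 : (φB.rTensor A) y = 0 := by
        apply hjA
        have : φ.rTensor A = (j.rTensor _) ∘ₗ (φB.rTensor _) := by
          rw [← LinearMap.rTensor_comp]; rfl
        rw [map_zero, ← LinearMap.comp_apply, ← this, hy0']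
      rw [← hy', ← LinearMap.comp_apply, LinearMap.rTensor_comp_lTensor,
        ← LinearMap.lTensor_comp_rTensor, LinearMap.comp_apply, h1, map_zero]
    have hfree : Module.Free A (P.opcycles (c.next r)) :=
      Module.free_of_lTensor_residueField_injective j (P.pOpcycles (c.next r)).hom
        (pOpcycles_surjective P _) hjπ hinj
    infer_instance
  · intro hflat
    apply key.mpr
    intro x hx
    obtain ⟨hinj, hex⟩ :=
      whisker_exact_of_flat_opcycles P r (c.next r) hrs (ModuleCat.of A (ResidueField A))
    obtain ⟨z, hz⟩ := (hex x).mp hx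
    obtain ⟨z', hz'⟩ := LinearMap.lTensor_surjective (P.homology r) hgsurj z
    refine ⟨(P.homologyι r ▷ (ModuleCat.of A A)) z', ?_, ?_⟩
    · have h0 : P.homologyι r ▷ (ModuleCat.of A A) ≫ P.fromOpcycles r (c.next r) ▷ (ModuleCat.of A A)
          = 0 := by
        rw [← MonoidalCategory.comp_whiskerRight, HomologicalComplex.homologyι_comp_fromOpcycles,
          MonoidalPreadditive.zero_whiskerRight]
      exact congr($h0 z')
    · have h1 := congr($(whisker_exchange (P.homologyι r) g) z')
      rw [← hz, ← hz']
      exact h1.symm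

end LocalRing3

end Groth.Agent.Lib.Helper28.FlatCx
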