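import Mathlib
import Groth.Prelude.Def_ega3
import Groth.Agent.Lib.Helper28.KoszulRegular
import Groth.Agent.Lib.Helper28.FlatCx

/-!
# Top Koszul cohomology (helper28)

* `homologyZeroEquiv`: `H^0(K) ≃ K^0 / im d^{-1}` when `K^1 = 0`.
* `exists_equiv_X_zero`: `K(fs; M)^0 ≃ M`, `K(fs;M)^n = 0` for `n > 0`, `im d^{-1} = (fs) M`.
* `nonempty_homologyZero_equiv`: `H^0(K(fs; M)) ≃ M/(fs)M`.
-/

set_option autoImplicit false
universe u
open CategoryTheory CategoryTheory.Limits CochainComplex HomComplex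

namespace Groth.Agent.Lib.Helper28.Koszul

variable {A : Type u} [CommRing A]

section ConeMod'

variable {K L : CochainComplex (ModuleCat.{u} A) ℤ} (φ : K ⟶ L) (n m : ℤ) (h : n + 1 = m)

noncomputable def coneFst' : (mappingCone φ).X n →ₗ[A] K.X m :=
  ((mappingCone.fst φ).1.v n m h).hom

noncomputable def coneInl' : K.X m →ₗ[A] (mappingCone φ).X n :=
  ((mappingCone.inl φ).v m n (by omega)).hom

@[simp] lemma coneFst'_coneInl' (x : K.X m) : coneFst' φ n m h (coneInl' φ n m h x) = x :=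
  congr($(mappingCone.inl_v_fst_v φ m n h) x)

@[simp] lemma coneSnd_coneInl' (x : K.X m) : coneSnd φ n (coneInl' φ n m h x) = 0 :=
  congr($(mappingCone.inl_v_snd_v φ m n (by omega)) x)

@[simp] lemma coneFst'_coneInr (x : L.X n) : coneFst' φ n m h (coneInr φ n x) = 0 :=
  congr($(mappingCone.inr_f_fst_v φ n m h) x)

lemma coneInl'_fst_add_coneInr_snd (x : (mappingCone φ).X n) :
    coneInl' φ n m h (coneFst' φ n m h x) + coneInr φ n (coneSnd φ n x) = x :=
  congr($(mappingCone.id_X φ n m h) x)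

lemma cone_ext' {x y : (mappingCone φ).X n} (h1 : coneFst' φ n m h x = coneFst' φ n m h y)
    (h2 : coneSnd φ n x = coneSnd φ n y) : x = y := by
  rw [← coneInl'_fst_add_coneInr_snd φ n m h x, ← coneInl'_fst_add_coneInr_snd φ n m h y, h1, h2]

lemma coneSnd_d' (x : (mappingCone φ).X n) :
    coneSnd φ m ((mappingCone φ).d n m x) =
      φ.f m (coneFst' φ n m h x) + L.d n m (coneSnd φ n x) :=
  congr($(mappingCone.d_snd_v φ n m h) x)

end ConeMod'

section TopDegree

open CohIII Pointwise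

/-- general: if `K^1 = 0` then `H^0(K) ≃ K^0 / im d^{-1}`. -/
noncomputable def homologyZeroEquiv (K : CochainComplex (ModuleCat.{u} A) ℤ)
    (h1 : Subsingleton (K.X 1)) :
    K.homology 0 ≃ₗ[A] (K.X 0 ⧸ LinearMap.range (K.d (-1) 0).hom) := by
  have hι : Function.Bijective (K.homologyι 0) := by
    refine ⟨Groth.Agent.Lib.Helper28.FlatCx.homologyι_injective K 0, ?_⟩
    intro w
    have hex := Groth.Agent.Lib.Helper28.FlatCx.exact_homologyι_fromOpcycles K 0 1 (by simp)
    exact (hex w).mp (Subsingleton.elim _ _)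
  have hπ : Function.Surjective (K.pOpcycles 0) :=
    Groth.Agent.Lib.Helper28.FlatCx.pOpcycles_surjective K 0
  have hker : LinearMap.ker (K.pOpcycles 0).hom = LinearMap.range (K.d (-1) 0).hom := by
    have hex := Groth.Agent.Lib.Helper28.FlatCx.exact_fromOpcycles_pOpcycles K (-1) 0 (by simp)
    ext y
    rw [LinearMap.mem_ker]
    change (K.pOpcycles 0) y = 0 ↔ _
    rw [hex y]
    constructor
    · rintro ⟨w, rfl⟩
      obtain ⟨x, rfl⟩ := Groth.Agent.Lib.Helper28.FlatCx.pOpcycles_surjective K (-1) w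
      exact ⟨x, (congr($(K.p_fromOpcycles (-1) 0) x)).symm⟩
    · rintro ⟨x, rfl⟩
      exact ⟨K.pOpcycles (-1) x, congr($(K.p_fromOpcycles (-1) 0) x)⟩
  exact (LinearEquiv.ofBijective (K.homologyι 0).hom hι) ≪≫ₗ
    ((LinearMap.quotKerEquivOfSurjective (K.pOpcycles 0).hom hπ).symm ≪≫ₗ
      Submodule.quotEquivOfEq _ _ hker)

/-- in degree `0` of the cone, `coneSnd` is an equivalence when `K^1 = 0`. -/
noncomputable def coneSndEquiv {K L : CochainComplex (ModuleCat.{u} A) ℤ} (φ : K ⟶ L)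
    (h1 : Subsingleton (K.X 1)) : (mappingCone φ).X 0 ≃ₗ[A] L.X 0 where
  toFun := coneSnd φ 0
  invFun := coneInr φ 0
  map_add' := map_add _
  map_smul' := map_smul _
  left_inv := fun x => by
    refine cone_ext' φ 0 1 rfl (Subsingleton.elim _ _) ?_
    rw [coneSnd_coneInr]
  right_inv := fun y => coneSnd_coneInr φ 0 y

lemma subsingleton_cone_X {K L : CochainComplex (ModuleCat.{u} A) ℤ} (φ : K ⟶ L) (n : ℤ)
    (h1 : Subsingleton (K.X (n + 1))) (h2 : Subsingleton (L.X n)) :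
    Subsingleton ((mappingCone φ).X n) :=
  ⟨fun _ _ => cone_ext φ n (Subsingleton.elim _ _) (Subsingleton.elim _ _)⟩

lemma smul_id_f_apply (K : CochainComplex (ModuleCat.{u} A) ℤ) (f : A) (n : ℤ) (y : K.X n) :
    ((f • 𝟙 K : K ⟶ K).f n) y = f • y := rfl

/-- the image of `coneSnd ∘ d^{-1,0}` for the cone of `f • 𝟙 K`. -/
lemma map_coneSnd_range_d (K : CochainComplex (ModuleCat.{u} A) ℤ) (f : A) :
    Submodule.map (coneSnd (f • 𝟙 K) 0)
      (LinearMap.range ((mappingCone (f • 𝟙 K)).d (-1) 0).hom) =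
      f • (⊤ : Submodule A (K.X 0)) ⊔ LinearMap.range (K.d (-1) 0).hom := by
  apply le_antisymm
  · rintro _ ⟨_, ⟨x, rfl⟩, rfl⟩
    have := coneSnd_d' (f • 𝟙 K) (-1) 0 (by norm_num) x
    change coneSnd (f • 𝟙 K) 0 (((mappingCone (f • 𝟙 K)).d (-1) 0) x) ∈ _
    rw [this, smul_id_f_apply]
    exact Submodule.add_mem_sup (Submodule.smul_mem_pointwise_smul _ f ⊤ trivial) ⟨_, rfl⟩
  · rw [sup_le_iff]
    constructor
    · rintro _ ⟨a, -, rfl⟩
      refine ⟨_, ⟨coneInl' (f • 𝟙 K) (-1) 0 (by norm_num) a, rfl⟩, ?_⟩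
      have := coneSnd_d' (f • 𝟙 K) (-1) 0 (by norm_num) (coneInl' (f • 𝟙 K) (-1) 0 (by norm_num) a)
      rw [coneFst'_coneInl', coneSnd_coneInl', map_zero, add_zero, smul_id_f_apply] at this
      exact this
    · rintro _ ⟨b, rfl⟩
      refine ⟨_, ⟨coneInr (f • 𝟙 K) (-1) b, rfl⟩, ?_⟩
      have := coneSnd_d' (f • 𝟙 K) (-1) 0 (by norm_num) (coneInr (f • 𝟙 K) (-1) b)
      rw [coneFst'_coneInr, map_zero, zero_add, coneSnd_coneInr] at this
      exact this

lemma cone_step (K : CochainComplex (ModuleCat.{u} A) ℤ) (f : A) (M : Type u) [AddCommGroup M]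
    [Module A M] (e : M ≃ₗ[A] K.X 0) (I : Ideal A)
    (hsub : ∀ n : ℤ, 0 < n → Subsingleton (K.X n))
    (hrange : Submodule.map e.toLinearMap (I • (⊤ : Submodule A M)) =
      LinearMap.range (K.d (-1) 0).hom) :
    ∃ e' : M ≃ₗ[A] (mappingCone (f • 𝟙 K)).X 0,
      (∀ n : ℤ, 0 < n → Subsingleton ((mappingCone (f • 𝟙 K)).X n)) ∧
      Submodule.map e'.toLinearMap ((Ideal.span {f} ⊔ I) • (⊤ : Submodule A M)) =
        LinearMap.range ((mappingCone (f • 𝟙 K)).d (-1) 0).hom := by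
  have h1 : Subsingleton (K.X 1) := hsub 1 one_pos
  refine ⟨e ≪≫ₗ (coneSndEquiv (f • 𝟙 K) h1).symm, ?_, ?_⟩
  · intro n hn
    exact subsingleton_cone_X _ n (hsub (n + 1) (by omega)) (hsub n hn)
  · apply Submodule.map_injective_of_injective (coneSndEquiv (f • 𝟙 K) h1).injective
    have hR := map_coneSnd_range_d K f
    change Submodule.map (coneSndEquiv (f • 𝟙 K) h1).toLinearMap
      (LinearMap.range ((mappingCone (f • 𝟙 K)).d (-1) 0).hom) = _ at hR
    rw [hR, ← Submodule.map_comp]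
    have hcomp : (coneSndEquiv (f • 𝟙 K) h1).toLinearMap ∘ₗ
        (e ≪≫ₗ (coneSndEquiv (f • 𝟙 K) h1).symm).toLinearMap = e.toLinearMap := by
      ext x
      simp
    rw [hcomp, Submodule.sup_smul, Submodule.map_sup, hrange,
      Submodule.ideal_span_singleton_smul, Submodule.map_pointwise_smul, Submodule.map_top,
      LinearEquiv.range]

/-- degree `0` of the Koszul complex is `M`, positive degrees vanish, and the image of `d^{-1}`
is `(fs) M`. -/
theorem exists_equiv_X_zero (M : Type u) [AddCommGroup M] [Module A M] :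
    ∀ fs : List A, ∃ e : M ≃ₗ[A] (koszulCx (ModuleCat.of A M) fs).X 0,
      (∀ n : ℤ, 0 < n → Subsingleton ((koszulCx (ModuleCat.of A M) fs).X n)) ∧
      Submodule.map e.toLinearMap (Ideal.ofList fs • (⊤ : Submodule A M)) =
        LinearMap.range ((koszulCx (ModuleCat.of A M) fs).d (-1) 0).hom := by
  intro fs
  induction fs with
  | nil =>
    refine ⟨(HomologicalComplex.singleObjXSelf (ComplexShape.up ℤ) 0
      (ModuleCat.of A M)).symm.toLinearEquiv, ?_, ?_⟩
    · intro n hn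
      exact ModuleCat.subsingleton_of_isZero
        (HomologicalComplex.isZero_single_obj_X (ComplexShape.up ℤ) 0 _ n (by omega))
    · rw [Ideal.ofList_nil, Submodule.bot_smul, Submodule.map_bot]
      have : (koszulCx (ModuleCat.of A M) []).d (-1) 0 = 0 := rfl
      rw [this]
      exact (LinearMap.range_zero).symm
  | cons f fs ih =>
    obtain ⟨e, hsub, hrange⟩ := ih
    rw [Ideal.ofList_cons]
    exact cone_step _ f M e _ hsub hrange

/-- `H^0(K(fs; M)) ≃ M/(fs)M`. -/
theorem nonempty_homologyZero_equiv (M : Type u) [AddCommGroup M] [Module A M] (fs : List A) :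
    Nonempty ((koszulCx (ModuleCat.of A M) fs).homology 0 ≃ₗ[A]
      (M ⧸ (Ideal.ofList fs • (⊤ : Submodule A M)))) := by
  obtain ⟨e, hsub, hrange⟩ := exists_equiv_X_zero M fs
  exact ⟨homologyZeroEquiv _ (hsub 1 one_pos) ≪≫ₗ
    (Submodule.Quotient.equiv _ _ e hrange).symm⟩

end TopDegree

end Groth.Agent.Lib.Helper28.Koszul
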