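import Mathlib
import Groth.Prelude.Def_DCoh2

/-!
# Restriction of `O_X`-modules along open immersions is exact; derived-category consequences

* `restrictFunctor j` is a right adjoint (besides being a left adjoint), hence exact.
* abstract: for an exact functor `F`, `F.mapDerivedCategory ⋙ H^n ≅ H^n ⋙ F`.
* `resCx j`, `resD j`, composition isomorphisms.
-/

set_option autoImplicit false

universe u

open CategoryTheory Limits AlgebraicGeometry

namespace Groth.Agent.Lib.Helper28.DCohRes

noncomputable section

section Abstract

universe w₁ w₂ v₁ v₂ u₁ u₂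

variable {C₁ : Type u₁} [Category.{v₁} C₁] [Abelian C₁] [HasDerivedCategory.{w₁} C₁]
  {C₂ : Type u₂} [Category.{v₂} C₂] [Abelian C₂] [HasDerivedCategory.{w₂} C₂]
  (F : C₁ ⥤ C₂) [F.Additive] [PreservesFiniteLimits F] [PreservesFiniteColimits F]

/-- homology of complexes commutes with an exact functor (natural iso) -/
def mapHCHomologyIso (n : ℤ) :
    F.mapHomologicalComplex (ComplexShape.up ℤ) ⋙
        HomologicalComplex.homologyFunctor C₂ (ComplexShape.up ℤ) n ≅
      HomologicalComplex.homologyFunctor C₁ (ComplexShape.up ℤ) n ⋙ F :=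
  NatIso.ofComponents (fun K => (K.sc n).mapHomologyIso F)
    (fun {K L} f => by
      dsimp
      exact ShortComplex.mapHomologyIso_hom_naturality
        ((HomologicalComplex.shortComplexFunctor C₁ (ComplexShape.up ℤ) n).map f) F)

/-- homology on the derived category commutes with an exact functor (natural iso) -/
def mapDHomologyIso (n : ℤ) :
    F.mapDerivedCategory ⋙ DerivedCategory.homologyFunctor C₂ n ≅
      DerivedCategory.homologyFunctor C₁ n ⋙ F :=
  Localization.liftNatIso DerivedCategory.Q
    (HomologicalComplex.quasiIso C₁ (ComplexShape.up ℤ))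
    (DerivedCategory.Q ⋙ F.mapDerivedCategory ⋙ DerivedCategory.homologyFunctor C₂ n)
    (DerivedCategory.Q ⋙ DerivedCategory.homologyFunctor C₁ n ⋙ F) _ _
    ((Functor.associator _ _ _).symm ≪≫
      Functor.isoWhiskerRight F.mapDerivedCategoryFactors _ ≪≫
      Functor.associator _ _ _ ≪≫
      Functor.isoWhiskerLeft _ (DerivedCategory.homologyFunctorFactors C₂ n) ≪≫
      mapHCHomologyIso F n ≪≫
      Functor.isoWhiskerRight (DerivedCategory.homologyFunctorFactors C₁ n).symm F ≪≫
      Functor.associator _ _ _)

lemma isIso_homology_map_mapDerivedCategory {K L : DerivedCategory C₁} (φ : K ⟶ L) (n : ℤ)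
    (h : IsIso ((DerivedCategory.homologyFunctor C₁ n).map φ)) :
    IsIso ((DerivedCategory.homologyFunctor C₂ n).map (F.mapDerivedCategory.map φ)) := by
  have hn := (mapDHomologyIso F n).hom.naturality φ
  dsimp at hn
  have : IsIso (F.map ((DerivedCategory.homologyFunctor C₁ n).map φ)) := inferInstance
  have h2 : (DerivedCategory.homologyFunctor C₂ n).map (F.mapDerivedCategory.map φ) =
      (mapDHomologyIso F n).hom.app K ≫ F.map ((DerivedCategory.homologyFunctor C₁ n).map φ) ≫
        (mapDHomologyIso F n).inv.app L := by
    rw [← reassoc_of% hn]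
    simp
  rw [h2]
  infer_instance

lemma epi_homology_map_mapDerivedCategory {K L : DerivedCategory C₁} (φ : K ⟶ L) (n : ℤ)
    (h : Epi ((DerivedCategory.homologyFunctor C₁ n).map φ)) :
    Epi ((DerivedCategory.homologyFunctor C₂ n).map (F.mapDerivedCategory.map φ)) := by
  have hn := (mapDHomologyIso F n).hom.naturality φ
  dsimp at hn
  have : Epi (F.map ((DerivedCategory.homologyFunctor C₁ n).map φ)) := inferInstance
  have h2 : (DerivedCategory.homologyFunctor C₂ n).map (F.mapDerivedCategory.map φ) =
      (mapDHomologyIso F n).hom.app K ≫ F.map ((DerivedCategory.homologyFunctor C₁ n).map φ) ≫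
        (mapDHomologyIso F n).inv.app L := by
    rw [← reassoc_of% hn]
    simp
  rw [h2]
  infer_instance

lemma isZero_homology_mapDerivedCategory (K : DerivedCategory C₁) (n : ℤ)
    (h : IsZero ((DerivedCategory.homologyFunctor C₁ n).obj K)) :
    IsZero ((DerivedCategory.homologyFunctor C₂ n).obj (F.mapDerivedCategory.obj K)) :=
  (F.map_isZero h).of_iso ((mapDHomologyIso F n).app K)

end Abstract

section Restr

variable {X Y Z : Scheme.{u}} (f : X ⟶ Y) [IsOpenImmersion f]

set_option backward.defeqAttrib.useBackward true in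
instance isRightAdjoint_restrictFunctor : (Scheme.Modules.restrictFunctor f).IsRightAdjoint := by
  unfold Scheme.Modules.restrictFunctor
  let α : X.presheaf ⟶ f.opensFunctor.op ⋙ Y.presheaf := { app U := (f.appIso U.unop).inv }
  let φ : X.ringCatSheaf ⟶
      (f.opensFunctor.sheafPushforwardContinuous RingCat.{u} _ _).obj Y.ringCatSheaf :=
    ⟨Functor.whiskerRight α (forget₂ CommRingCat RingCat)⟩
  let ψ : X.ringCatSheaf.obj ⟶ f.opensFunctor.op ⋙ Y.ringCatSheaf.obj := φ.hom
  have h1 : (PresheafOfModules.pushforward.{u} ψ).IsRightAdjoint := inferInstance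
  have : (PresheafOfModules.pushforward.{u} (F := f.opensFunctor) (R := Y.ringCatSheaf.obj)
      (S := X.ringCatSheaf.obj) φ.hom).IsRightAdjoint := h1
  exact (SheafOfModules.PullbackConstruction.adjunction.{u} φ).isRightAdjoint

instance preservesFiniteLimits_restrictFunctor :
    PreservesFiniteLimits (Scheme.Modules.restrictFunctor f) := inferInstance

instance preservesFiniteColimits_restrictFunctor :
    PreservesFiniteColimits (Scheme.Modules.restrictFunctor f) := inferInstance

/-- restriction of complexes along an open immersion -/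
abbrev resCx : CochainComplex Y.Modules ℤ ⥤ CochainComplex X.Modules ℤ :=
  (Scheme.Modules.restrictFunctor f).mapHomologicalComplex (ComplexShape.up ℤ)

attribute [local instance] HasDerivedCategory.standard

/-- restriction on derived categories -/
abbrev resD : DerivedCategory Y.Modules ⥤ DerivedCategory X.Modules :=
  (Scheme.Modules.restrictFunctor f).mapDerivedCategory

/-- `Q ⋙ resD ≅ resCx ⋙ Q` -/
abbrev resDQ : DerivedCategory.Q ⋙ resD f ≅ resCx f ⋙ DerivedCategory.Q :=
  (Scheme.Modules.restrictFunctor f).mapDerivedCategoryFactors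

end Restr

end

end Groth.Agent.Lib.Helper28.DCohRes
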