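import Mathlib
import Groth.Agent.Lib.Helper28.DCohRes1
import Groth.Agent.Lib.Helper5.LocLift
import Groth.Agent.Lib.Helper29.QCohLocFree

/-!
# Local null-homotopies and local liftings for maps out of strictly perfect complexes
(Stacks, Cohomology, Lemmas 08C5–08C7 in the setting of schemes.)
-/

set_option autoImplicit false

universe u

open CategoryTheory Limits AlgebraicGeometry

namespace Groth.Agent.Lib.Helper28.DCohRes

noncomputable section

variable {X Y Z : Scheme.{u}}

/-- composition iso for restriction of complexes -/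
def resCxComp (f : X ⟶ Y) (g : Y ⟶ Z) [IsOpenImmersion f] [IsOpenImmersion g] :
    resCx (f ≫ g) ≅ resCx g ⋙ resCx f :=
  (Functor.mapHomologicalComplexCompIso (Scheme.Modules.restrictFunctorComp f g).symm
    (ComplexShape.up ℤ)).symm

lemma isFinLocFree_restrict (f : X ⟶ Y) [IsOpenImmersion f] {M : Y.Modules}
    (h : FlatMod.IsFinLocFree M) : FlatMod.IsFinLocFree (M.restrict f) :=
  Groth.Agent.Lib.Helper29.QCoh.isFinLocFree_of_iso
    ((Scheme.Modules.restrictFunctorIsoPullback f).app M).symm
    (Groth.Agent.Lib.Helper29.QCoh.isFinLocFree_pullback f h)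

lemma exactAt_resCx (f : X ⟶ Y) [IsOpenImmersion f] (F : CochainComplex Y.Modules ℤ) (i : ℤ)
    (h : F.ExactAt i) : ((resCx f).obj F).ExactAt i := by
  rw [HomologicalComplex.exactAt_iff] at h ⊢
  exact h.map (Scheme.Modules.restrictFunctor f)

/-- transport of a null-homotopy along the composition isomorphism -/
lemma nonempty_homotopy_zero_comp (f : X ⟶ Y) (g : Y ⟶ Z) [IsOpenImmersion f] [IsOpenImmersion g]
    {E F : CochainComplex Z.Modules ℤ} (β : E ⟶ F)
    (h : Nonempty (Homotopy ((resCx f).map ((resCx g).map β)) 0)) :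
    Nonempty (Homotopy ((resCx (f ≫ g)).map β) 0) := by
  obtain ⟨h⟩ := h
  have e : (resCx (f ≫ g)).map β =
      (resCxComp f g).hom.app E ≫ (resCx f).map ((resCx g).map β) ≫
        (resCxComp f g).inv.app F := by
    have := (resCxComp f g).hom.naturality β
    dsimp at this
    rw [← reassoc_of% this]
    simp
  exact ⟨(Homotopy.ofEq e).trans
    (((h.compRight _).compLeft _).trans (Homotopy.ofEq (by simp)))⟩

/-- **Local null-homotopy.** A map from a bounded-below complex of finite locally free modules
to a complex which is exact in degrees `≥ a` (where the source lives in degrees `≥ a`), and which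
vanishes in high degrees, is locally null-homotopic. -/
theorem exists_nullHomotopy_locally (n : ℕ) :
    ∀ {X : Scheme.{u}} (E F : CochainComplex X.Modules ℤ) (a : ℤ)
      (_ : ∀ i, FlatMod.IsFinLocFree (E.X i)) (_ : ∀ i, i < a → IsZero (E.X i))
      (_ : ∀ i, a ≤ i → F.ExactAt i) (β : E ⟶ F) (_ : ∀ i, a + n ≤ i → β.f i = 0) (x : X),
      ∃ (U : Scheme.{u}) (j : U ⟶ X) (_ : IsOpenImmersion j), x ∈ Set.range j.base ∧
        Nonempty (Homotopy ((resCx j).map β) 0) := by
  induction n with
  | zero =>
    intro X E F a hE hEa hF β hβ x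
    refine ⟨X, 𝟙 X, inferInstance, ⟨x, rfl⟩, ?_⟩
    have : β = 0 := by
      refine HomologicalComplex.hom_ext _ _ (fun i => ?_)
      by_cases h : a ≤ i
      · simpa using hβ i (by simpa using h)
      · exact (hEa i (by omega)).eq_of_src _ _
    subst this
    exact ⟨Homotopy.ofEq (by simp)⟩
  | succ n ih =>
    intro X E F a hE hEa hF β hβ x
    obtain ⟨c, hc⟩ : ∃ c : ℤ, c = a + n := ⟨_, rfl⟩
    have hac : a ≤ c := by omega
    have hex := (HomologicalComplex.exactAt_iff' F (c - 1) c (c + 1) (by simp) (by simp)).1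
      (hF c hac)
    set S := F.sc' (c - 1) c (c + 1) with hS
    have : Epi S.toCycles := hex.epi_toCycles
    have hk : β.f c ≫ S.g = 0 := by
      change β.f c ≫ F.d c (c + 1) = 0
      rw [β.comm, hβ (c + 1) (by push_cast; omega), comp_zero]
    obtain ⟨V, ψ, hxV, hψ⟩ := Groth.Agent.Lib.Helper5.LocLift.exists_local_lift S.toCycles
      (S.liftCycles (β.f c) hk) (hE c) x
    have hψ' : ψ ≫ (Scheme.Modules.restrictFunctor V.ι).map (F.d (c - 1) c) =
        (Scheme.Modules.restrictFunctor V.ι).map (β.f c) := by
      change ψ ≫ (Scheme.Modules.restrictFunctor V.ι).map S.f = _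
      rw [← S.toCycles_i, Functor.map_comp, reassoc_of% hψ, ← Functor.map_comp, S.liftCycles_i]
      rfl
    -- complexes on V
    set E' := (resCx V.ι).obj E with hE'
    set F' := (resCx V.ι).obj F with hF'
    let h : ∀ i j, (ComplexShape.up ℤ).Rel j i → (E'.X i ⟶ F'.X j) := fun i j r =>
      if hi : i = c then (E'.XIsoOfEq hi).hom ≫ ψ ≫
        (F'.XIsoOfEq (show c - 1 = j by simp at r; omega)).hom else 0
    let N : E' ⟶ F' := Homotopy.nullHomotopicMap' h
    have hN : ∀ i, c ≤ i → N.f i = ((resCx V.ι).map β).f i := by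
      intro i hi
      have r₂₁ : (ComplexShape.up ℤ).Rel (i - 1) i := by
        change i - 1 + 1 = i
        omega
      have r₁₀ : (ComplexShape.up ℤ).Rel i (i + 1) := rfl
      rw [Homotopy.nullHomotopicMap'_f r₂₁ r₁₀]
      have h0 : h (i + 1) i r₁₀ = 0 := dif_neg (by omega)
      rw [h0, comp_zero, zero_add]
      by_cases hic : i = c
      · subst hic
        have h1 : h i (i - 1) r₂₁ = ψ := by
          simp [h, HomologicalComplex.XIsoOfEq_rfl]
          exact Category.comp_id _
        rw [h1]
        exact hψ'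
      · have h1 : h i (i - 1) r₂₁ = 0 := dif_neg hic
        rw [h1, zero_comp]
        have : ((resCx V.ι).map β).f i = 0 := by
          change (Scheme.Modules.restrictFunctor V.ι).map (β.f i) = 0
          rw [hβ i (by push_cast; omega), Functor.map_zero]
        exact this.symm
    obtain ⟨U', j', hj', ⟨y, hy⟩, ⟨H⟩⟩ := ih E' F' a
      (fun i => isFinLocFree_restrict V.ι (hE i))
      (fun i hi => (Scheme.Modules.restrictFunctor V.ι).map_isZero (hEa i hi))
      (fun i hi => exactAt_resCx V.ι F i (hF i hi))
      ((resCx V.ι).map β - N)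
      (fun i hi => by
        rw [HomologicalComplex.sub_f_apply, hN i (by omega), sub_self])
      ⟨x, hxV⟩
    refine ⟨U', j' ≫ V.ι, inferInstance, ⟨y, ?_⟩, ?_⟩
    · rw [Scheme.Hom.comp_base, TopCat.comp_app, hy]
      rfl
    · apply nonempty_homotopy_zero_comp
      have e : (resCx j').map ((resCx V.ι).map β) =
          (resCx j').map ((resCx V.ι).map β - N) + (resCx j').map N := by
        rw [← Functor.map_add, sub_add_cancel]
      have HN : Homotopy ((resCx j').map N) 0 :=
        ((Scheme.Modules.restrictFunctor j').mapHomotopy (Homotopy.nullHomotopy' h)).trans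
          (Homotopy.ofEq (by simp))
      exact ⟨(Homotopy.ofEq e).trans ((H.add HN).trans (Homotopy.ofEq (by simp)))⟩

end

end Groth.Agent.Lib.Helper28.DCohRes
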