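import Mathlib

/-!
# Abstract K-flat calculus (helper28)

`A` abelian with exact coproducts (AB4 for index types in `Type`), `T : A ⥤ A ⥤ A` a bifunctor
(additive in each variable).  We study `Tot(K ⊗ L) := mapBifunctor K L T (up ℤ)`.
-/

open CategoryTheory Limits HomologicalComplex

namespace Groth.Agent.Lib.Helper28.KFlatAbs

universe v u

variable {A : Type u} [Category.{v} A] [Abelian A]

/-- A short complex of functors which is pointwise exact is exact. -/
theorem exact_of_pointwise {J : Type*} [Category J] (S : ShortComplex (J ⥤ A))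
    (h : ∀ j, (S.map ((evaluation J A).obj j)).Exact) : S.Exact := by
  rw [ShortComplex.exact_iff_isZero_homology, Functor.isZero_iff]
  intro j
  have h1 := h j
  rw [ShortComplex.exact_iff_isZero_homology] at h1
  exact h1.of_iso (S.mapHomologyIso ((evaluation J A).obj j)).symm

section Core

variable {I J : Type*} (p : I → J) (j : J) {X₁ X₂ X₃ : GradedObject I A}
  [X₁.HasMap p] [X₂.HasMap p] [X₃.HasMap p]
  [HasColimitsOfShape (Discrete (p ⁻¹' {j})) A]
  [HasExactColimitsOfShape (Discrete (p ⁻¹' {j})) A]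
  (f : ∀ i, X₁ i ⟶ X₂ i) (g : ∀ i, X₂ i ⟶ X₃ i)
  (φ : X₁.mapObj p j ⟶ X₂.mapObj p j) (ψ : X₂.mapObj p j ⟶ X₃.mapObj p j)
  (hφ : ∀ i (hi : p i = j), X₁.ιMapObj p i j hi ≫ φ = f i ≫ X₂.ιMapObj p i j hi)
  (hψ : ∀ i (hi : p i = j), X₂.ιMapObj p i j hi ≫ ψ = g i ≫ X₃.ιMapObj p i j hi)
  (w : ∀ i, p i = j → f i ≫ g i = 0)
  (hex : ∀ i (hi : p i = j), (ShortComplex.mk (f i) (g i) (w i hi)).ShortExact)

include hφ hψ hex in
/-- A coproduct of short exact sequences is short exact (AB4), phrased for `GradedObject.mapObj`. -/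
theorem shortExact_mapObj (wφψ : φ ≫ ψ = 0) : (ShortComplex.mk φ ψ wφψ).ShortExact := by
  let S : ShortComplex (Discrete (p ⁻¹' {j}) ⥤ A) :=
    ShortComplex.mk
      (Discrete.natTrans (F := Discrete.functor (X₁.mapObjFun p j))
        (G := Discrete.functor (X₂.mapObjFun p j)) (fun i => f i.as.1))
      (Discrete.natTrans (F := Discrete.functor (X₂.mapObjFun p j))
        (G := Discrete.functor (X₃.mapObjFun p j)) (fun i => g i.as.1))
      (by ext ⟨i, hi⟩; exact w i hi)
  have hS : S.Exact := exact_of_pointwise S (fun ⟨i, hi⟩ => (hex i hi).exact)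
  have hf : ∀ i, (X₁.cofanMapObj p j).ι.app i ≫ φ = S.f.app i ≫ (X₂.cofanMapObj p j).ι.app i :=
    fun ⟨i, hi⟩ => hφ i hi
  have hg : ∀ i, (X₂.cofanMapObj p j).ι.app i ≫ ψ = S.g.app i ≫ (X₃.cofanMapObj p j).ι.app i :=
    fun ⟨i, hi⟩ => hψ i hi
  have hmono : Mono S.f := by
    have : ∀ i, Mono (S.f.app i) := fun ⟨i, hi⟩ => (hex i hi).mono_f
    exact NatTrans.mono_of_mono_app _
  have hepi : ∀ i, Epi (S.g.app i) := fun ⟨i, hi⟩ => (hex i hi).epi_g
  refine ShortComplex.ShortExact.mk' ?_ ?_ ?_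
  · exact colim.exact_mapShortComplex hS (X₁.isColimitCofanMapObj p j) (X₂.isColimitCofanMapObj p j)
      (X₃.isColimitCofanMapObj p j) φ ψ hf hg
  · exact colim.map_mono' S.f (X₁.isColimitCofanMapObj p j) (X₂.isColimitCofanMapObj p j) φ hf
  · exact colim.map_epi' S.g (X₂.cofanMapObj p j) (X₃.isColimitCofanMapObj p j) ψ hg

end Core

section Tot

variable [HasCoproducts.{0} A] [AB4OfSize.{0} A]
  (T : A ⥤ A ⥤ A) [T.PreservesZeroMorphisms] [∀ X, (T.obj X).PreservesZeroMorphisms]
  [∀ K L : CochainComplex A ℤ, HasMapBifunctor K L T (.up ℤ)]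

instance (Y : A) : (T.flip.obj Y).PreservesZeroMorphisms where
  map_zero X X' := by simp

instance (K : CochainComplex A ℤ) :
    ((T.map₂CochainComplex).flip.obj K).PreservesZeroMorphisms where
  map_zero X X' := by
    change mapBifunctorMap (0 : X ⟶ X') (𝟙 K) T (.up ℤ) = 0
    ext n p q h
    rw [ι_mapBifunctorMap]
    simp

instance (F : CochainComplex A ℤ) :
    ((T.map₂CochainComplex).obj F).PreservesZeroMorphisms where
  map_zero X X' := by
    change mapBifunctorMap (𝟙 F) (0 : X ⟶ X') T (.up ℤ) = 0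
    ext n p q h
    rw [ι_mapBifunctorMap]
    simp

/-- `Tot(- ⊗ K)` sends a short complex of complexes which stays short exact after applying each
`- ⊗ K^q` degreewise, to a short exact sequence of complexes. -/
theorem shortExact_tot₁ (S : ShortComplex (CochainComplex A ℤ)) (K : CochainComplex A ℤ)
    (h : ∀ p q : ℤ, ((S.map (HomologicalComplex.eval A (.up ℤ) p)).map
      (T.flip.obj (K.X q))).ShortExact) :
    (S.map ((T.map₂CochainComplex).flip.obj K)).ShortExact := by
  refine HomologicalComplex.shortExact_of_degreewise_shortExact _ (fun n => ?_)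
  refine shortExact_mapObj (ComplexShape.π (.up ℤ) (.up ℤ) (.up ℤ)) n
    (X₁ := ((GradedObject.mapBifunctor T ℤ ℤ).obj S.X₁.X).obj K.X)
    (X₂ := ((GradedObject.mapBifunctor T ℤ ℤ).obj S.X₂.X).obj K.X)
    (X₃ := ((GradedObject.mapBifunctor T ℤ ℤ).obj S.X₃.X).obj K.X)
    (fun i => (T.map (S.f.f i.1)).app (K.X i.2)) (fun i => (T.map (S.g.f i.1)).app (K.X i.2))
    _ _ ?_ ?_ ?_ ?_ _
  · rintro ⟨p, q⟩ hi
    refine (ι_mapBifunctorMap S.f (𝟙 K) T (.up ℤ) p q n hi).trans ?_
    simp
    rfl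
  · rintro ⟨p, q⟩ hi
    refine (ι_mapBifunctorMap S.g (𝟙 K) T (.up ℤ) p q n hi).trans ?_
    simp
    rfl
  · rintro ⟨p, q⟩ _
    exact ((S.map (HomologicalComplex.eval A (.up ℤ) p)).map (T.flip.obj (K.X q))).zero
  · rintro ⟨p, q⟩ _
    exact h p q

/-- `Tot(F ⊗ -)` sends a short complex of complexes which stays short exact after applying each
`F^p ⊗ -` degreewise, to a short exact sequence of complexes. -/
theorem shortExact_tot₂ (F : CochainComplex A ℤ) (S : ShortComplex (CochainComplex A ℤ))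
    (h : ∀ p q : ℤ, ((S.map (HomologicalComplex.eval A (.up ℤ) q)).map
      (T.obj (F.X p))).ShortExact) :
    (S.map ((T.map₂CochainComplex).obj F)).ShortExact := by
  refine HomologicalComplex.shortExact_of_degreewise_shortExact _ (fun n => ?_)
  refine shortExact_mapObj (ComplexShape.π (.up ℤ) (.up ℤ) (.up ℤ)) n
    (X₁ := ((GradedObject.mapBifunctor T ℤ ℤ).obj F.X).obj S.X₁.X)
    (X₂ := ((GradedObject.mapBifunctor T ℤ ℤ).obj F.X).obj S.X₂.X)
    (X₃ := ((GradedObject.mapBifunctor T ℤ ℤ).obj F.X).obj S.X₃.X)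
    (fun i => (T.obj (F.X i.1)).map (S.f.f i.2)) (fun i => (T.obj (F.X i.1)).map (S.g.f i.2))
    _ _ ?_ ?_ ?_ ?_ _
  · rintro ⟨p, q⟩ hi
    refine (ι_mapBifunctorMap (𝟙 F) S.f T (.up ℤ) p q n hi).trans ?_
    simp
    rfl
  · rintro ⟨p, q⟩ hi
    refine (ι_mapBifunctorMap (𝟙 F) S.g T (.up ℤ) p q n hi).trans ?_
    simp
    rfl
  · rintro ⟨p, q⟩ _
    exact ((S.map (HomologicalComplex.eval A (.up ℤ) q)).map (T.obj (F.X p))).zero
  · rintro ⟨p, q⟩ _
    exact h p q

end Tot

section Generalities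

/-- Acyclicity is invariant under isomorphism. -/
theorem acyclic_of_iso {K L : CochainComplex A ℤ} (e : K ≅ L) (h : K.Acyclic) : L.Acyclic := by
  intro i
  rw [exactAt_iff_isZero_homology]
  have h1 := h i
  rw [exactAt_iff_isZero_homology] at h1
  exact h1.of_iso ((HomologicalComplex.homologyFunctor A _ i).mapIso e).symm

/-- Acyclicity is invariant under shift. -/
theorem acyclic_shift_iff (K : CochainComplex A ℤ) (n : ℤ) : (K⟦n⟧).Acyclic ↔ K.Acyclic := by
  constructor
  · intro h i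
    rw [exactAt_iff_isZero_homology]
    have h1 := h (i - n)
    rw [exactAt_iff_isZero_homology] at h1
    exact h1.of_iso
      ((CochainComplex.ShiftSequence.shiftIso A n (i - n) i (by omega)).app K).symm
  · intro h i
    rw [exactAt_iff_isZero_homology]
    have h1 := h (n + i)
    rw [exactAt_iff_isZero_homology] at h1
    exact h1.of_iso ((CochainComplex.ShiftSequence.shiftIso A n i (n + i) rfl).app K)

/-- A morphism between acyclic complexes is a quasi-isomorphism. -/
theorem quasiIso_of_acyclic {K L : CochainComplex A ℤ} (φ : K ⟶ L)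
    (hK : K.Acyclic) (hL : L.Acyclic) : QuasiIso φ := by
  rw [quasiIso_iff]
  intro n
  rw [quasiIsoAt_iff_isIso_homologyMap]
  have h1 := hK n
  have h2 := hL n
  rw [exactAt_iff_isZero_homology] at h1 h2
  exact ⟨0, h1.eq_of_src _ _, h2.eq_of_src _ _⟩

/-- A morphism of cochain complexes is a quasi-isomorphism iff its mapping cone is acyclic. -/
theorem quasiIso_iff_acyclic_mappingCone {K L : CochainComplex A ℤ} (φ : K ⟶ L) :
    QuasiIso φ ↔ (CochainComplex.mappingCone φ).Acyclic := by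
  change _ ↔ ∀ n, (CochainComplex.mappingCone φ).ExactAt n
  rw [← HomotopyCategory.quotient_obj_mem_subcategoryAcyclic_iff_exactAt]
  have h := (HomotopyCategory.subcategoryAcyclic A).trW_iff_of_distinguished _
    (HomotopyCategory.mappingCone_triangleh_distinguished φ)
  rw [← HomotopyCategory.quasiIso_eq_trW_subcategoryAcyclic] at h
  exact (HomotopyCategory.quotient_map_mem_quasiIso_iff φ).symm.trans h

/-- In a morphism of short exact sequences of complexes with `τ₃` an isomorphism and both middle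
terms acyclic, `τ₁` is a quasi-isomorphism. -/
theorem quasiIso_τ₁_of_acyclic {S₁ S₂ : ShortComplex (CochainComplex A ℤ)} (φ : S₁ ⟶ S₂)
    (hS₁ : S₁.ShortExact) (hS₂ : S₂.ShortExact) (h₁ : S₁.X₂.Acyclic) (h₂ : S₂.X₂.Acyclic)
    [IsIso φ.τ₃] : QuasiIso φ.τ₁ := by
  rw [quasiIso_iff]
  intro n
  rw [quasiIsoAt_iff_isIso_homologyMap]
  have hz₁ : ∀ i, IsZero (S₁.X₂.homology i) := fun i => by
    have := h₁ i; rwa [exactAt_iff_isZero_homology] at this
  have hz₂ : ∀ i, IsZero (S₂.X₂.homology i) := fun i => by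
    have := h₂ i; rwa [exactAt_iff_isZero_homology] at this
  have hrel : (ComplexShape.up ℤ).Rel (n - 1) n := by simp
  have i1 := hS₁.isIso_δ (n - 1) n hrel (hz₁ _) (hz₁ _)
  have i2 := hS₂.isIso_δ (n - 1) n hrel (hz₂ _) (hz₂ _)
  have nat := HomologicalComplex.HomologySequence.δ_naturality φ hS₁ hS₂ (n - 1) n hrel
  have i3 : IsIso (HomologicalComplex.homologyMap φ.τ₃ (n - 1)) := inferInstance
  have : HomologicalComplex.homologyMap φ.τ₁ n =
      inv (hS₁.δ (n - 1) n hrel) ≫ HomologicalComplex.homologyMap φ.τ₃ (n - 1) ≫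
        hS₂.δ (n - 1) n hrel := by
    rw [← nat, IsIso.inv_hom_id_assoc]
  rw [this]
  infer_instance

end Generalities

section KFlat

variable [HasCoproducts.{0} A] [AB4OfSize.{0} A]
  (T : A ⥤ A ⥤ A) [T.Additive] [∀ X, (T.obj X).Additive]
  [∀ K L : CochainComplex A ℤ, HasMapBifunctor K L T (.up ℤ)]

instance additive_flip_obj (Y : A) : (T.flip.obj Y).Additive where
  map_add := by intros; simp

/-- Abstract K-flatness with respect to the bifunctor `T`. -/
def IsKFlat (K : CochainComplex A ℤ) : Prop :=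
  ∀ F : CochainComplex A ℤ, F.Acyclic → (mapBifunctor F K T (.up ℤ)).Acyclic

variable {T}

omit [HasCoproducts.{0} A] [AB4OfSize.{0} A] in
theorem IsKFlat.of_iso {K L : CochainComplex A ℤ} (e : K ≅ L) (h : IsKFlat T K) :
    IsKFlat T L := fun F hF =>
  acyclic_of_iso (((T.map₂CochainComplex).obj F).mapIso e) (h F hF)

omit [HasCoproducts.{0} A] [AB4OfSize.{0} A] in
theorem isKFlat_shift_iff (K : CochainComplex A ℤ) (n : ℤ) :
    IsKFlat T (K⟦n⟧) ↔ IsKFlat T K := by
  constructor
  · intro h F hF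
    exact (acyclic_shift_iff _ n).1
      (acyclic_of_iso (CochainComplex.mapBifunctorShift₂Iso F K T n) (h F hF))
  · intro h F hF
    exact acyclic_of_iso (CochainComplex.mapBifunctorShift₂Iso F K T n).symm
      ((acyclic_shift_iff _ n).2 (h F hF))

/-- Two-out-of-three for K-flatness in a short complex of complexes which stays short exact after
`F^p ⊗ -` in each degree. -/
theorem isKFlat_two_of_three (S : ShortComplex (CochainComplex A ℤ))
    (h : ∀ (X : A) (q : ℤ), ((S.map (HomologicalComplex.eval A (.up ℤ) q)).map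
      (T.obj X)).ShortExact) :
    (IsKFlat T S.X₁ → IsKFlat T S.X₂ → IsKFlat T S.X₃) ∧
    (IsKFlat T S.X₁ → IsKFlat T S.X₃ → IsKFlat T S.X₂) ∧
    (IsKFlat T S.X₂ → IsKFlat T S.X₃ → IsKFlat T S.X₁) := by
  have key : ∀ F : CochainComplex A ℤ, (S.map ((T.map₂CochainComplex).obj F)).ShortExact :=
    fun F => shortExact_tot₂ T F S (fun p q => h (F.X p) q)
  refine ⟨fun h1 h2 F hF => ?_, fun h1 h3 F hF => ?_, fun h2 h3 F hF => ?_⟩
  · exact (key F).acyclic_X₃ (quasiIso_of_acyclic _ (h1 F hF) (h2 F hF))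
  · exact (key F).acyclic_X₂ (h1 F hF) (h3 F hF)
  · exact (key F).acyclic_X₁ (quasiIso_of_acyclic _ (h2 F hF) (h3 F hF))

/-- Two-out-of-three for K-flatness in a degreewise split short exact sequence. -/
theorem isKFlat_two_of_three_of_split (S : ShortComplex (CochainComplex A ℤ))
    (σ : ∀ n, (S.map (HomologicalComplex.eval A (.up ℤ) n)).Splitting) :
    (IsKFlat T S.X₁ → IsKFlat T S.X₂ → IsKFlat T S.X₃) ∧
    (IsKFlat T S.X₁ → IsKFlat T S.X₃ → IsKFlat T S.X₂) ∧
    (IsKFlat T S.X₂ → IsKFlat T S.X₃ → IsKFlat T S.X₁) :=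
  isKFlat_two_of_three S (fun X q => ((σ q).map (T.obj X)).shortExact)

/-- Two-out-of-three for K-flatness and mapping cones. -/
theorem isKFlat_mappingCone {K₁ K₂ : CochainComplex A ℤ} (φ : K₁ ⟶ K₂) :
    (IsKFlat T K₁ → IsKFlat T K₂ → IsKFlat T (CochainComplex.mappingCone φ)) ∧
    (IsKFlat T K₁ → IsKFlat T (CochainComplex.mappingCone φ) → IsKFlat T K₂) ∧
    (IsKFlat T K₂ → IsKFlat T (CochainComplex.mappingCone φ) → IsKFlat T K₁) := by
  obtain ⟨h1, h2, h3⟩ := isKFlat_two_of_three_of_split (T := T)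
    (CochainComplex.mappingCone.triangleRotateShortComplex φ)
    (CochainComplex.mappingCone.triangleRotateShortComplexSplitting φ)
  refine ⟨fun a b => h2 b ((isKFlat_shift_iff K₁ 1).2 a),
    fun a b => h3 b ((isKFlat_shift_iff K₁ 1).2 a),
    fun a b => (isKFlat_shift_iff K₁ 1).1 (h1 a b)⟩

/-- If `K` is K-flat then `Tot(- ⊗ K)` preserves quasi-isomorphisms. -/
theorem quasiIso_mapBifunctorMap_of_isKFlat {K : CochainComplex A ℤ} (hK : IsKFlat T K)
    {F F' : CochainComplex A ℤ} (φ : F ⟶ F') [QuasiIso φ] :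
    QuasiIso (mapBifunctorMap φ (𝟙 K) T (.up ℤ)) := by
  let Φ := (T.map₂CochainComplex).flip.obj K
  let S₁ := CochainComplex.mappingCone.triangleRotateShortComplex (𝟙 F)
  let S₂ := CochainComplex.mappingCone.triangleRotateShortComplex φ
  let α : S₁ ⟶ S₂ :=
    { τ₁ := φ
      τ₂ := CochainComplex.mappingCone.map (𝟙 F) φ (𝟙 F) φ (by simp)
      τ₃ := 𝟙 _
      comm₁₂ := by
        dsimp [S₁, S₂, CochainComplex.mappingCone.triangleRotateShortComplex]
        exact ((CochainComplex.mappingCone.triangleMap (𝟙 F) φ (𝟙 F) φ (by simp)).comm₂).symm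
      comm₂₃ := by
        dsimp [S₁, S₂, CochainComplex.mappingCone.triangleRotateShortComplex]
        have := (CochainComplex.mappingCone.triangleMap (𝟙 F) φ (𝟙 F) φ (by simp)).comm₃
        refine this.symm.trans ?_
        congr 1 }
  have hS₁ : (S₁.map Φ).ShortExact := shortExact_tot₁ T S₁ K (fun p q =>
    ((CochainComplex.mappingCone.triangleRotateShortComplexSplitting (𝟙 F) p).map
      (T.flip.obj (K.X q))).shortExact)
  have hS₂ : (S₂.map Φ).ShortExact := shortExact_tot₁ T S₂ K (fun p q =>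
    ((CochainComplex.mappingCone.triangleRotateShortComplexSplitting φ p).map
      (T.flip.obj (K.X q))).shortExact)
  have a₁ : (S₁.map Φ).X₂.Acyclic :=
    hK _ ((quasiIso_iff_acyclic_mappingCone (𝟙 F)).1 inferInstance)
  have a₂ : (S₂.map Φ).X₂.Acyclic :=
    hK _ ((quasiIso_iff_acyclic_mappingCone φ).1 inferInstance)
  have : IsIso (Φ.mapShortComplex.map α).τ₃ := by
    change IsIso (Φ.map (𝟙 _))
    infer_instance
  exact quasiIso_τ₁_of_acyclic (Φ.mapShortComplex.map α) hS₁ hS₂ a₁ a₂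

/-- Variant with the quasi-isomorphism as an explicit hypothesis. -/
theorem quasiIso_mapBifunctorMap_of_isKFlat' {K : CochainComplex A ℤ} (hK : IsKFlat T K)
    {F F' : CochainComplex A ℤ} (φ : F ⟶ F') (hφ : QuasiIso φ) :
    QuasiIso (mapBifunctorMap φ (𝟙 K) T (.up ℤ)) :=
  quasiIso_mapBifunctorMap_of_isKFlat hK φ

end KFlat

end Groth.Agent.Lib.Helper28.KFlatAbs
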