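import Mathlib
import Groth.Agent.Lib.Helper28.DCohRes2
import Groth.Agent.Lib.Helper28.KFlatAbs

/-!
# Local lifting up to homotopy; derived maps out of strictly perfect complexes are locally
chain maps (Stacks 08C7, 08C3(1) for schemes)
-/

set_option autoImplicit false

universe u

open CategoryTheory Limits AlgebraicGeometry

namespace Groth.Agent.Lib.Helper28.DCohRes

noncomputable section

variable {X : Scheme.{u}}

/-- **Local lifting up to homotopy.** -/
theorem exists_lift_locally (E F G : CochainComplex X.Modules ℤ) (α : E ⟶ F) (f : G ⟶ F)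
    (a b : ℤ) (hE : ∀ i, FlatMod.IsFinLocFree (E.X i)) (hEa : ∀ i, i < a → IsZero (E.X i))
    (hEb : ∀ i, b < i → IsZero (E.X i))
    (hf : ∀ i, a ≤ i → (CochainComplex.mappingCone f).ExactAt i) (x : X) :
    ∃ (U : Scheme.{u}) (j : U ⟶ X) (_ : IsOpenImmersion j), x ∈ Set.range j.base ∧
      ∃ β : (resCx j).obj E ⟶ (resCx j).obj G,
        Nonempty (Homotopy (β ≫ (resCx j).map f) ((resCx j).map α)) := by
  obtain ⟨U, j, hj, hx, ⟨H⟩⟩ := exists_nullHomotopy_locally (b + 1 - a).toNat E
    (CochainComplex.mappingCone f) a hE hEa hf (α ≫ CochainComplex.mappingCone.inr f)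
    (fun i hi => (hEb i (by
      have := Int.self_le_toNat (b + 1 - a)
      omega)).eq_of_src _ _) x
  refine ⟨U, j, hj, hx, ?_⟩
  set R := Scheme.Modules.restrictFunctor j
  set f' := (resCx j).map f
  set α' := (resCx j).map α
  have H' : Homotopy (α' ≫ CochainComplex.mappingCone.inr f') 0 := by
    have e : α' ≫ CochainComplex.mappingCone.inr f' =
        (resCx j).map (α ≫ CochainComplex.mappingCone.inr f) ≫
          (CochainComplex.mappingCone.mapHomologicalComplexIso f R).hom := by
      rw [Functor.map_comp, Category.assoc, CochainComplex.mappingCone.map_inr]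
    exact (Homotopy.ofEq e).trans ((H.compRight _).trans (Homotopy.ofEq (by simp)))
  have hT := HomotopyCategory.mappingCone_triangleh_distinguished f'
  have h0 : (HomotopyCategory.quotient _ _).map α' ≫
      (CochainComplex.mappingCone.triangleh f').mor₂ = 0 := by
    change (HomotopyCategory.quotient _ _).map α' ≫
      (HomotopyCategory.quotient _ _).map (CochainComplex.mappingCone.inr f') = 0
    rw [← Functor.map_comp, HomotopyCategory.eq_of_homotopy _ _ H', Functor.map_zero]
  obtain ⟨g, hg⟩ := Pretriangulated.Triangle.coyoneda_exact₂ _ hT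
    ((HomotopyCategory.quotient _ _).map α') h0
  obtain ⟨β, rfl⟩ := (HomotopyCategory.quotient _ _).map_surjective g
  refine ⟨β, ⟨HomotopyCategory.homotopyOfEq _ _ ?_⟩⟩
  rw [Functor.map_comp]
  exact hg.symm

attribute [local instance] HasDerivedCategory.standard

/-- **Derived maps out of bounded complexes of finite locally free modules are locally
chain maps.** -/
theorem exists_chainMap_locally (E F : CochainComplex X.Modules ℤ)
    (a b : ℤ) (hE : ∀ i, FlatMod.IsFinLocFree (E.X i)) (hEa : ∀ i, i < a → IsZero (E.X i))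
    (hEb : ∀ i, b < i → IsZero (E.X i))
    (φ : DerivedCategory.Q.obj E ⟶ DerivedCategory.Q.obj F) (x : X) :
    ∃ (U : Scheme.{u}) (j : U ⟶ X) (_ : IsOpenImmersion j), x ∈ Set.range j.base ∧
      ∃ ψ : (resCx j).obj E ⟶ (resCx j).obj F,
        DerivedCategory.Q.map ψ =
          (resDQ j).inv.app E ≫ (resD j).map φ ≫ (resDQ j).hom.app F := by
  obtain ⟨E', s, hs, g, rfl⟩ := DerivedCategory.right_fac φ
  have hq : QuasiIso s := (DerivedCategory.isIso_Q_map_iff_quasiIso _ s).1 hs
  have hac := (Groth.Agent.Lib.Helper28.KFlatAbs.quasiIso_iff_acyclic_mappingCone s).1 hq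
  obtain ⟨U, j, hj, hx, β, ⟨H⟩⟩ := exists_lift_locally E E E' (𝟙 E) s a b hE hEa hEb
    (fun i _ => hac i) x
  refine ⟨U, j, hj, hx, β ≫ (resCx j).map g, ?_⟩
  have h1 : DerivedCategory.Q.map β ≫ DerivedCategory.Q.map ((resCx j).map s) = 𝟙 _ := by
    rw [← Functor.map_comp, DerivedCategory.Q_map_eq_of_homotopy _ H,
      CategoryTheory.Functor.map_id, CategoryTheory.Functor.map_id]
  have hs' : IsIso (DerivedCategory.Q.map ((resCx j).map s)) := by
    rw [DerivedCategory.isIso_Q_map_iff_quasiIso]
    infer_instance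
  have h2 : DerivedCategory.Q.map β = inv (DerivedCategory.Q.map ((resCx j).map s)) := by
    rw [← cancel_mono (DerivedCategory.Q.map ((resCx j).map s)), h1, IsIso.inv_hom_id]
  have n1 := (resDQ j).inv.naturality s
  have n2 := (resDQ j).hom.naturality g
  dsimp at n1 n2
  rw [Functor.map_comp, h2, Functor.map_comp, Functor.map_inv]
  rw [← cancel_epi (DerivedCategory.Q.map ((resCx j).map s)), IsIso.hom_inv_id_assoc]
  rw [reassoc_of% n1]
  simp only [Category.assoc, IsIso.hom_inv_id_assoc]
  rw [n2, Iso.inv_hom_id_app_assoc]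

end

end Groth.Agent.Lib.Helper28.DCohRes
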