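import Mathlib
import Groth.Agent.Lib.Helper28.DCohRes3

/-!
# Closure properties of strictly perfect complexes; composition of derived restrictions
-/

set_option autoImplicit false

universe u

open CategoryTheory Limits AlgebraicGeometry

namespace Groth.Agent.Lib.Helper28.DCohRes

noncomputable section

section Abstract

universe w₁ w₂ w₃ v₁ v₂ v₃ u₁ u₂ u₃

variable {C₁ : Type u₁} [Category.{v₁} C₁] [Abelian C₁] [HasDerivedCategory.{w₁} C₁]
  {C₂ : Type u₂} [Category.{v₂} C₂] [Abelian C₂] [HasDerivedCategory.{w₂} C₂]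
  {C₃ : Type u₃} [Category.{v₃} C₃] [Abelian C₃] [HasDerivedCategory.{w₃} C₃]
  (F : C₁ ⥤ C₂) [F.Additive] [PreservesFiniteLimits F] [PreservesFiniteColimits F]
  (G : C₂ ⥤ C₃) [G.Additive] [PreservesFiniteLimits G] [PreservesFiniteColimits G]
  (H : C₁ ⥤ C₃) [H.Additive] [PreservesFiniteLimits H] [PreservesFiniteColimits H]

/-- composition of induced functors on derived categories -/
def mapDerivedCategoryCompIso (e : F ⋙ G ≅ H) :
    F.mapDerivedCategory ⋙ G.mapDerivedCategory ≅ H.mapDerivedCategory :=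
  Localization.liftNatIso DerivedCategory.Q
    (HomologicalComplex.quasiIso C₁ (ComplexShape.up ℤ))
    (DerivedCategory.Q ⋙ F.mapDerivedCategory ⋙ G.mapDerivedCategory)
    (DerivedCategory.Q ⋙ H.mapDerivedCategory) _ _
    ((Functor.associator _ _ _).symm ≪≫
      Functor.isoWhiskerRight F.mapDerivedCategoryFactors _ ≪≫
      Functor.associator _ _ _ ≪≫
      Functor.isoWhiskerLeft _ G.mapDerivedCategoryFactors ≪≫
      (Functor.associator _ _ _).symm ≪≫
      Functor.isoWhiskerRight (Functor.mapHomologicalComplexCompIso e (ComplexShape.up ℤ)) _ ≪≫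
      H.mapDerivedCategoryFactors.symm)

end Abstract

variable {X Y Z : Scheme.{u}}

attribute [local instance] HasDerivedCategory.standard

/-- `resD (f ≫ g) ≅ resD g ⋙ resD f` -/
def resDComp (f : X ⟶ Y) (g : Y ⟶ Z) [IsOpenImmersion f] [IsOpenImmersion g] :
    resD (f ≫ g) ≅ resD g ⋙ resD f :=
  (mapDerivedCategoryCompIso (Scheme.Modules.restrictFunctor g) (Scheme.Modules.restrictFunctor f)
    (Scheme.Modules.restrictFunctor (f ≫ g)) (Scheme.Modules.restrictFunctorComp f g).symm).symm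

/-- a direct sum of finite locally free modules is finite locally free -/
lemma freeMod_biprod_iso (m n : ℕ) :
    Nonempty (FlatMod.freeMod X m ⊞ FlatMod.freeMod X n ≅ FlatMod.freeMod X (m + n)) := by
  let f₁ : Fin m → X.Modules := fun _ => Coh.structureModule X
  let f₂ : Fin n → X.Modules := fun _ => Coh.structureModule X
  let c₁ : Cofan f₁ := Cofan.mk (∐ f₁) (Sigma.ι f₁)
  let c₂ : Cofan f₂ := Cofan.mk (∐ f₂) (Sigma.ι f₂)
  have h₁ : IsColimit c₁ := coproductIsCoproduct f₁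
  have h₂ : IsColimit c₂ := coproductIsCoproduct f₂
  let bc : BinaryCofan c₁.pt c₂.pt := BinaryCofan.mk biprod.inl biprod.inr
  have h : IsColimit bc := BinaryBiproduct.isColimit _ _
  have hc := Cofan.combPairIsColimit h₁ h₂ h
  let e1 : (FlatMod.freeMod X m ⊞ FlatMod.freeMod X n) ≅ ∐ (Sum.elim f₁ f₂) :=
    IsColimit.coconePointUniqueUpToIso hc (coproductIsCoproduct _)
  let e2 : ∐ (Sum.elim f₁ f₂) ≅ FlatMod.freeMod X (m + n) :=
    Sigma.whiskerEquiv (f := Sum.elim f₁ f₂) (g := fun _ : Fin (m + n) => Coh.structureModule X)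
      finSumFinEquiv (fun i => by
        cases i <;> exact Iso.refl _)
  exact ⟨e1 ≪≫ e2⟩

lemma isFinLocFree_biprod {M N : X.Modules} (hM : FlatMod.IsFinLocFree M)
    (hN : FlatMod.IsFinLocFree N) : FlatMod.IsFinLocFree (M ⊞ N) := by
  rw [Groth.Agent.Lib.Helper29.QCoh.isFinLocFree_iff_isFreeAlong] at hM hN ⊢
  intro x
  obtain ⟨U₁, m, hx₁, h₁⟩ := hM x
  obtain ⟨U₂, n, hx₂, h₂⟩ := hN x
  refine ⟨U₁ ⊓ U₂, m + n, ⟨hx₁, hx₂⟩, ?_⟩
  obtain ⟨e₁⟩ := h₁.of_range_subset (U₁ ⊓ U₂).ι (by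
    rw [Scheme.Opens.range_ι, Scheme.Opens.range_ι]
    exact inf_le_left)
  obtain ⟨e₂⟩ := h₂.of_range_subset (U₁ ⊓ U₂).ι (by
    rw [Scheme.Opens.range_ι, Scheme.Opens.range_ι]
    exact inf_le_right)
  obtain ⟨e₃⟩ := freeMod_biprod_iso (X := (U₁ ⊓ U₂ : X.Opens)) m n
  haveI : PreservesBinaryBiproducts (Scheme.Modules.pullback (U₁ ⊓ U₂).ι) :=
    preservesBinaryBiproducts_of_preservesBinaryCoproducts _
  exact ⟨(Scheme.Modules.pullback (U₁ ⊓ U₂).ι).mapBiprod M N ≪≫ biprod.mapIso e₁ e₂ ≪≫ e₃⟩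

lemma isStrictlyPerfect_resCx (f : X ⟶ Y) [IsOpenImmersion f] {E : CochainComplex Y.Modules ℤ}
    (hE : DCoh.IsStrictlyPerfect E) : DCoh.IsStrictlyPerfect ((resCx f).obj E) := by
  obtain ⟨⟨a, b, hab⟩, hfree⟩ := hE
  exact ⟨⟨a, b, fun i hi => (Scheme.Modules.restrictFunctor f).map_isZero (hab i hi)⟩,
    fun i => isFinLocFree_restrict f (hfree i)⟩

lemma isStrictlyPerfect_mappingCone {E₁ E₂ : CochainComplex X.Modules ℤ} (ψ : E₁ ⟶ E₂)
    (h₁ : DCoh.IsStrictlyPerfect E₁) (h₂ : DCoh.IsStrictlyPerfect E₂) :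
    DCoh.IsStrictlyPerfect (CochainComplex.mappingCone ψ) := by
  obtain ⟨⟨a₁, b₁, hab₁⟩, hfree₁⟩ := h₁
  obtain ⟨⟨a₂, b₂, hab₂⟩, hfree₂⟩ := h₂
  have key : ∀ i : ℤ, (CochainComplex.mappingCone ψ).X i ≅ E₁.X (i + 1) ⊞ E₂.X i := fun i =>
    HomologicalComplex.homotopyCofiber.XIsoBiprod ψ i (i + 1) rfl
  refine ⟨⟨min (a₁ - 1) a₂, max b₁ b₂, fun i hi => ?_⟩, fun i => ?_⟩
  · refine IsZero.of_iso ?_ (key i)
    rw [biprod_isZero_iff]
    constructor
    · apply hab₁
      rcases hi with hi | hi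
      · left
        have := min_le_left (a₁ - 1) a₂
        omega
      · right
        have := le_max_left b₁ b₂
        omega
    · apply hab₂
      rcases hi with hi | hi
      · left
        have := min_le_right (a₁ - 1) a₂
        omega
      · right
        have := le_max_right b₁ b₂
        omega
  · exact Groth.Agent.Lib.Helper29.QCoh.isFinLocFree_of_iso (key i).symm
      (isFinLocFree_biprod (hfree₁ _) (hfree₂ _))

end

end Groth.Agent.Lib.Helper28.DCohRes
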