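import Mathlib
import Groth.Agent.Lib.Helper28.DCohRes4

/-!
# Perfect / pseudo-coherent along an open immersion; dictionary with the prelude definitions
-/

set_option autoImplicit false

universe u

open CategoryTheory Limits AlgebraicGeometry

namespace Groth.Agent.Lib.Helper28.DCohRes

noncomputable section

attribute [local instance] HasDerivedCategory.standard

section Approx

universe w v' u'

variable {C : Type u'} [Category.{v'} C] [Abelian C] [HasDerivedCategory.{w} C]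

/-- `α` induces isomorphisms on `H^i` for `i > m` and an epimorphism on `H^m` -/
def IsApprox (m : ℤ) {A B : DerivedCategory C} (α : A ⟶ B) : Prop :=
  (∀ i : ℤ, m < i → IsIso ((DerivedCategory.homologyFunctor C i).map α)) ∧
    Epi ((DerivedCategory.homologyFunctor C m).map α)

lemma IsApprox.comp_iso {m : ℤ} {A B B' : DerivedCategory C} {α : A ⟶ B} (h : IsApprox m α)
    (e : B ≅ B') : IsApprox m (α ≫ e.hom) := by
  refine ⟨fun i hi => ?_, ?_⟩
  · have := h.1 i hi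
    rw [Functor.map_comp]
    infer_instance
  · have := h.2
    rw [Functor.map_comp]
    infer_instance

lemma IsApprox.iso_comp {m : ℤ} {A A' B : DerivedCategory C} {α : A ⟶ B} (h : IsApprox m α)
    (e : A' ≅ A) : IsApprox m (e.hom ≫ α) := by
  refine ⟨fun i hi => ?_, ?_⟩
  · have := h.1 i hi
    rw [Functor.map_comp]
    infer_instance
  · have := h.2
    rw [Functor.map_comp]
    infer_instance

end Approx

variable {X : Scheme.{u}}

lemma IsApprox.resD {Y : Scheme.{u}} (f : X ⟶ Y) [IsOpenImmersion f] {m : ℤ}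
    {A B : DerivedCategory Y.Modules} {α : A ⟶ B} (h : IsApprox m α) :
    IsApprox m ((resD f).map α) :=
  ⟨fun i hi => isIso_homology_map_mapDerivedCategory _ α i (h.1 i hi),
    epi_homology_map_mapDerivedCategory _ α m h.2⟩

/-- `K` becomes isomorphic to a strictly perfect complex after restriction along `j` -/
def PerfAlong (K : DCoh.D X) {U : Scheme.{u}} (j : U ⟶ X) [IsOpenImmersion j] : Prop :=
  ∃ E : CochainComplex U.Modules ℤ, DCoh.IsStrictlyPerfect E ∧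
    Nonempty ((resD j).obj K ≅ DerivedCategory.Q.obj E)

/-- `K` is approximated in degrees `≥ m` by a strictly perfect complex after restriction along `j` -/
def PCAlong (m : ℤ) (K : DCoh.D X) {U : Scheme.{u}} (j : U ⟶ X) [IsOpenImmersion j] : Prop :=
  ∃ (E : CochainComplex U.Modules ℤ) (α : DerivedCategory.Q.obj E ⟶ (resD j).obj K),
    DCoh.IsStrictlyPerfect E ∧ IsApprox m α

lemma PerfAlong.of_eq {K : DCoh.D X} {U : Scheme.{u}} {j j' : U ⟶ X} [IsOpenImmersion j]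
    [IsOpenImmersion j'] (h : PerfAlong K j) (e : j = j') : PerfAlong K j' := by
  subst e
  exact h

lemma PCAlong.of_eq {m : ℤ} {K : DCoh.D X} {U : Scheme.{u}} {j j' : U ⟶ X} [IsOpenImmersion j]
    [IsOpenImmersion j'] (h : PCAlong m K j) (e : j = j') : PCAlong m K j' := by
  subst e
  exact h

lemma PerfAlong.comp {K : DCoh.D X} {U U' : Scheme.{u}} {j : U ⟶ X} [IsOpenImmersion j]
    (h : PerfAlong K j) (j' : U' ⟶ U) [IsOpenImmersion j'] : PerfAlong K (j' ≫ j) := by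
  obtain ⟨E, hE, ⟨e⟩⟩ := h
  exact ⟨(resCx j').obj E, isStrictlyPerfect_resCx j' hE,
    ⟨(resDComp j' j).app K ≪≫ (resD j').mapIso e ≪≫ (resDQ j').app E⟩⟩

lemma PCAlong.comp {m : ℤ} {K : DCoh.D X} {U U' : Scheme.{u}} {j : U ⟶ X} [IsOpenImmersion j]
    (h : PCAlong m K j) (j' : U' ⟶ U) [IsOpenImmersion j'] : PCAlong m K (j' ≫ j) := by
  obtain ⟨E, α, hE, hα⟩ := h
  refine ⟨(resCx j').obj E, (resDQ j').inv.app E ≫ (resD j').map α ≫ (resDComp j' j).inv.app K,
    isStrictlyPerfect_resCx j' hE, ?_⟩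
  exact ((hα.resD j').comp_iso ((resDComp j' j).app K).symm).iso_comp ((resDQ j').app E).symm

lemma PerfAlong.of_iso {K K' : DCoh.D X} {U : Scheme.{u}} {j : U ⟶ X} [IsOpenImmersion j]
    (h : PerfAlong K j) (e : K ≅ K') : PerfAlong K' j := by
  obtain ⟨E, hE, ⟨e'⟩⟩ := h
  exact ⟨E, hE, ⟨(resD j).mapIso e.symm ≪≫ e'⟩⟩

lemma PCAlong.of_iso {m : ℤ} {K K' : DCoh.D X} {U : Scheme.{u}} {j : U ⟶ X} [IsOpenImmersion j]
    (h : PCAlong m K j) (e : K ≅ K') : PCAlong m K' j := by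
  obtain ⟨E, α, hE, hα⟩ := h
  exact ⟨E, α ≫ (resD j).map e.hom, hE, hα.comp_iso ((resD j).mapIso e)⟩

/-- common refinement of two open neighbourhoods -/
lemma exists_common {x : X} {U₁ U₂ : Scheme.{u}} (j₁ : U₁ ⟶ X) (j₂ : U₂ ⟶ X)
    [IsOpenImmersion j₁] [IsOpenImmersion j₂] (h₁ : x ∈ Set.range j₁.base)
    (h₂ : x ∈ Set.range j₂.base) :
    ∃ (V : X.Opens) (k₁ : (V : Scheme.{u}) ⟶ U₁) (k₂ : (V : Scheme.{u}) ⟶ U₂)
      (_ : IsOpenImmersion k₁) (_ : IsOpenImmersion k₂), x ∈ V ∧ k₁ ≫ j₁ = V.ι ∧ k₂ ≫ j₂ = V.ι := by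
  let V : X.Opens := j₁.opensRange ⊓ j₂.opensRange
  have r₁ : Set.range V.ι.base ⊆ Set.range j₁.base := by
    rw [Scheme.Opens.range_ι]
    exact inf_le_left (a := (j₁.opensRange : Set X))
  have r₂ : Set.range V.ι.base ⊆ Set.range j₂.base := by
    rw [Scheme.Opens.range_ι]
    exact inf_le_right (a := (j₁.opensRange : Set X))
  have f₁ := IsOpenImmersion.lift_fac j₁ V.ι r₁
  have f₂ := IsOpenImmersion.lift_fac j₂ V.ι r₂
  have i₁ : IsOpenImmersion (IsOpenImmersion.lift j₁ V.ι r₁ ≫ j₁) := by rw [f₁]; infer_instance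
  have i₂ : IsOpenImmersion (IsOpenImmersion.lift j₂ V.ι r₂ ≫ j₂) := by rw [f₂]; infer_instance
  exact ⟨V, IsOpenImmersion.lift j₁ V.ι r₁, IsOpenImmersion.lift j₂ V.ι r₂,
    IsOpenImmersion.of_comp _ j₁, IsOpenImmersion.of_comp _ j₂, ⟨h₁, h₂⟩, f₁, f₂⟩

lemma mem_range_comp {U U' : Scheme.{u}} (j : U ⟶ X) (j' : U' ⟶ U) {y : U}
    (hy : y ∈ Set.range j'.base) : j.base y ∈ Set.range (j' ≫ j).base := by
  obtain ⟨z, rfl⟩ := hy
  exact ⟨z, by rw [Scheme.Hom.comp_base, TopCat.comp_app]⟩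

/-- dictionary for perfect objects -/
theorem isPerfect_iff (K : DCoh.D X) :
    DCoh.IsPerfect K ↔ ∀ x : X, ∃ (U : Scheme.{u}) (j : U ⟶ X) (_ : IsOpenImmersion j),
      x ∈ Set.range j.base ∧ PerfAlong K j := by
  constructor
  · intro h x
    obtain ⟨V, hxV, hV⟩ := h x
    obtain ⟨E, hE, ⟨e⟩⟩ := hV (DerivedCategory.Q.objPreimage K)
      ⟨DerivedCategory.Q.objObjPreimageIso K⟩
    refine ⟨V, V.ι, inferInstance, by rw [Scheme.Opens.range_ι]; exact hxV, E, hE, ⟨?_⟩⟩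
    exact (resD V.ι).mapIso (DerivedCategory.Q.objObjPreimageIso K).symm ≪≫
      (resDQ V.ι).app _ ≪≫ e
  · intro h x
    obtain ⟨U, j, hj, hx, hK⟩ := h x
    refine ⟨j.opensRange, hx, fun F ⟨eF⟩ => ?_⟩
    obtain ⟨E, hE, ⟨e⟩⟩ := (hK.comp j.isoOpensRange.inv).of_eq j.isoOpensRange_inv_comp
    exact ⟨E, hE, ⟨((resDQ j.opensRange.ι).app F).symm ≪≫ (resD j.opensRange.ι).mapIso eF ≪≫ e⟩⟩

/-- dictionary for pseudo-coherent objects -/
theorem isPseudoCoherentD_iff (m : ℤ) (K : DCoh.D X) :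
    DCoh.IsPseudoCoherentD m K ↔ ∀ x : X, ∃ (U : Scheme.{u}) (j : U ⟶ X) (_ : IsOpenImmersion j),
      x ∈ Set.range j.base ∧ PCAlong m K j := by
  constructor
  · intro h x
    obtain ⟨V, hxV, hV⟩ := h x
    obtain ⟨E, α, hE, hα⟩ := hV (DerivedCategory.Q.objPreimage K)
      ⟨DerivedCategory.Q.objObjPreimageIso K⟩
    refine ⟨V, V.ι, inferInstance, by rw [Scheme.Opens.range_ι]; exact hxV, E,
      α ≫ (resDQ V.ι).inv.app _ ≫ (resD V.ι).map (DerivedCategory.Q.objObjPreimageIso K).hom,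
      hE, ?_⟩
    have h0 : IsApprox m α := hα
    exact h0.comp_iso (((resDQ V.ι).app _).symm ≪≫
      (resD V.ι).mapIso (DerivedCategory.Q.objObjPreimageIso K))
  · intro h x
    obtain ⟨U, j, hj, hx, hK⟩ := h x
    refine ⟨j.opensRange, hx, fun F ⟨eF⟩ => ?_⟩
    obtain ⟨E, α, hE, hα⟩ := (hK.comp j.isoOpensRange.inv).of_eq j.isoOpensRange_inv_comp
    have h1 := hα.comp_iso ((resD j.opensRange.ι).mapIso eF.symm ≪≫ (resDQ j.opensRange.ι).app F)
    exact ⟨E, _, hE, h1⟩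

end

end Groth.Agent.Lib.Helper28.DCohRes
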