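import Mathlib
import Groth.Agent.Lib.Helper28.DCohRes5

/-!
# Perfect objects: two out of three
-/

set_option autoImplicit false

universe u

open CategoryTheory Limits AlgebraicGeometry Pretriangulated

namespace Groth.Agent.Lib.Helper28.DCohRes

noncomputable section

attribute [local instance] HasDerivedCategory.standard

variable {X : Scheme.{u}}

/-- if the first two vertices of a distinguished triangle are strictly perfect along `j`,
then locally the third is as well -/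
theorem perfAlong_obj₃ (T : Triangle (DCoh.D X)) (hT : T ∈ distTriang _) {U : Scheme.{u}}
    (j : U ⟶ X) [IsOpenImmersion j] (h₁ : PerfAlong T.obj₁ j) (h₂ : PerfAlong T.obj₂ j) (y : U) :
    ∃ (U' : Scheme.{u}) (j' : U' ⟶ U) (_ : IsOpenImmersion j'), y ∈ Set.range j'.base ∧
      PerfAlong T.obj₃ (j' ≫ j) := by
  obtain ⟨E₁, hE₁, ⟨e₁⟩⟩ := h₁
  obtain ⟨E₂, hE₂, ⟨e₂⟩⟩ := h₂
  obtain ⟨⟨a, b, hab⟩, hfree⟩ := hE₁
  let ψ₀ : DerivedCategory.Q.obj E₁ ⟶ DerivedCategory.Q.obj E₂ :=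
    e₁.inv ≫ (resD j).map T.mor₁ ≫ e₂.hom
  obtain ⟨U', j', hj', hy, ψ, hψ⟩ := exists_chainMap_locally E₁ E₂ a b hfree
    (fun i hi => hab i (Or.inl hi)) (fun i hi => hab i (Or.inr hi)) ψ₀ y
  refine ⟨U', j', hj', hy, CochainComplex.mappingCone ψ,
    isStrictlyPerfect_mappingCone ψ (isStrictlyPerfect_resCx j' ⟨⟨a, b, hab⟩, hfree⟩)
      (isStrictlyPerfect_resCx j' hE₂), ⟨?_⟩⟩
  have hT' : (resD j').mapTriangle.obj ((resD j).mapTriangle.obj T) ∈ distTriang _ :=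
    (resD j').map_distinguished _ ((resD j).map_distinguished _ hT)
  have hT'' := DerivedCategory.mappingCone_triangle_distinguished ψ
  let iso₁ : ((resD j').mapTriangle.obj ((resD j).mapTriangle.obj T)).obj₁ ≅
      (DerivedCategory.Q.mapTriangle.obj (CochainComplex.mappingCone.triangle ψ)).obj₁ :=
    (resD j').mapIso e₁ ≪≫ (resDQ j').app E₁
  let iso₂ : ((resD j').mapTriangle.obj ((resD j).mapTriangle.obj T)).obj₂ ≅
      (DerivedCategory.Q.mapTriangle.obj (CochainComplex.mappingCone.triangle ψ)).obj₂ :=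
    (resD j').mapIso e₂ ≪≫ (resDQ j').app E₂
  have comm : ((resD j').mapTriangle.obj ((resD j).mapTriangle.obj T)).mor₁ ≫ iso₂.hom =
      iso₁.hom ≫ (DerivedCategory.Q.mapTriangle.obj
        (CochainComplex.mappingCone.triangle ψ)).mor₁ := by
    change (resD j').map ((resD j).map T.mor₁) ≫ (resD j').map e₂.hom ≫ (resDQ j').hom.app E₂ =
      ((resD j').map e₁.hom ≫ (resDQ j').hom.app E₁) ≫ DerivedCategory.Q.map ψ
    rw [hψ]
    simp only [ψ₀, Functor.map_comp, Category.assoc, Iso.hom_inv_id_app_assoc]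
    rw [← Functor.map_comp_assoc (resD j') e₁.hom e₁.inv, Iso.hom_inv_id,
      CategoryTheory.Functor.map_id, Category.id_comp]
  let e := isoTriangleOfIso₁₂ _ _ hT' hT'' iso₁ iso₂ comm
  exact (resDComp j' j).app T.obj₃ ≪≫ Triangle.π₃.mapIso e

/-- **Two out of three for perfect objects (third vertex).** -/
theorem isPerfect_obj₃ (T : Triangle (DCoh.D X)) (hT : T ∈ distTriang _)
    (h₁ : DCoh.IsPerfect T.obj₁) (h₂ : DCoh.IsPerfect T.obj₂) : DCoh.IsPerfect T.obj₃ := by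
  rw [isPerfect_iff] at h₁ h₂ ⊢
  intro x
  obtain ⟨U₁, j₁, hj₁, hx₁, hK₁⟩ := h₁ x
  obtain ⟨U₂, j₂, hj₂, hx₂, hK₂⟩ := h₂ x
  obtain ⟨V, k₁, k₂, hk₁, hk₂, hxV, f₁, f₂⟩ := exists_common j₁ j₂ hx₁ hx₂
  have p₁ : PerfAlong T.obj₁ V.ι := (hK₁.comp k₁).of_eq f₁
  have p₂ : PerfAlong T.obj₂ V.ι := (hK₂.comp k₂).of_eq f₂
  obtain ⟨U', j', hj', hy, h₃⟩ := perfAlong_obj₃ T hT V.ι p₁ p₂ ⟨x, hxV⟩
  exact ⟨U', j' ≫ V.ι, inferInstance, mem_range_comp V.ι j' hy, h₃⟩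

end

end Groth.Agent.Lib.Helper28.DCohRes

namespace Groth.Agent.Lib.Helper28.DCohRes

noncomputable section

attribute [local instance] HasDerivedCategory.standard

variable {X : Scheme.{u}}

lemma isStrictlyPerfect_shift {E : CochainComplex X.Modules ℤ} (hE : DCoh.IsStrictlyPerfect E)
    (n : ℤ) : DCoh.IsStrictlyPerfect (E⟦n⟧) := by
  obtain ⟨⟨a, b, hab⟩, hfree⟩ := hE
  refine ⟨⟨a - n, b - n, fun i hi => ?_⟩, fun i => ?_⟩
  · change IsZero (E.X (i + n))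
    apply hab
    omega
  · change FlatMod.IsFinLocFree (E.X (i + n))
    exact hfree _

lemma PerfAlong.shift {K : DCoh.D X} {U : Scheme.{u}} {j : U ⟶ X} [IsOpenImmersion j]
    (h : PerfAlong K j) (n : ℤ) : PerfAlong (K⟦n⟧) j := by
  obtain ⟨E, hE, ⟨e⟩⟩ := h
  exact ⟨E⟦n⟧, isStrictlyPerfect_shift hE n,
    ⟨((resD j).commShiftIso n).app K ≪≫ (shiftFunctor _ n).mapIso e ≪≫
      ((DerivedCategory.Q.commShiftIso n).app E).symm⟩⟩

lemma isPerfect_shift {K : DCoh.D X} (h : DCoh.IsPerfect K) (n : ℤ) : DCoh.IsPerfect (K⟦n⟧) := by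
  rw [isPerfect_iff] at h ⊢
  intro x
  obtain ⟨U, j, hj, hx, hK⟩ := h x
  exact ⟨U, j, hj, hx, hK.shift n⟩

lemma isPerfect_of_iso {K K' : DCoh.D X} (e : K ≅ K') (h : DCoh.IsPerfect K) :
    DCoh.IsPerfect K' := by
  rw [isPerfect_iff] at h ⊢
  intro x
  obtain ⟨U, j, hj, hx, hK⟩ := h x
  exact ⟨U, j, hj, hx, hK.of_iso e⟩

/-- **Two out of three for perfect objects.** -/
theorem isPerfect_two_of_three (T : Triangle (DCoh.D X)) (hT : T ∈ distTriang _) :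
    (DCoh.IsPerfect T.obj₁ → DCoh.IsPerfect T.obj₂ → DCoh.IsPerfect T.obj₃) ∧
    (DCoh.IsPerfect T.obj₁ → DCoh.IsPerfect T.obj₃ → DCoh.IsPerfect T.obj₂) ∧
    (DCoh.IsPerfect T.obj₂ → DCoh.IsPerfect T.obj₃ → DCoh.IsPerfect T.obj₁) := by
  refine ⟨isPerfect_obj₃ T hT, fun h₁ h₃ => ?_, fun h₂ h₃ => ?_⟩
  · exact isPerfect_obj₃ T.invRotate (inv_rot_of_distTriang _ hT) (isPerfect_shift h₃ (-1)) h₁
  · have h := isPerfect_obj₃ T.rotate (rot_of_distTriang _ hT) h₂ h₃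
    exact isPerfect_of_iso ((shiftEquiv (DCoh.D X) (1 : ℤ)).unitIso.symm.app T.obj₁)
      (isPerfect_shift h (-1))

end

end Groth.Agent.Lib.Helper28.DCohRes
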