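import Mathlib
import Groth.Agent.Lib.Helper28.DCohRes6

/-!
# Strictly perfect complexes are locally complexes of finite free modules
-/

set_option autoImplicit false

universe u

open CategoryTheory Limits AlgebraicGeometry Pretriangulated

namespace Groth.Agent.Lib.Helper28.DCohRes

noncomputable section

attribute [local instance] HasDerivedCategory.standard

variable {X : Scheme.{u}}

open Groth.Agent.Lib.Helper29.QCoh

lemma mem_finset_inf_opens {ι : Type*} (s : Finset ι) (f : ι → X.Opens) (y : X) :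
    y ∈ s.inf f ↔ ∀ i ∈ s, y ∈ f i := by
  classical
  induction s using Finset.induction_on with
  | empty => simp
  | insert a s ha ih =>
    rw [Finset.inf_insert]
    constructor
    · rintro ⟨h1, h2⟩ i hi
      rcases Finset.mem_insert.1 hi with rfl | hi
      · exact h1
      · exact (ih.1 h2) i hi
    · intro h
      exact ⟨h a (Finset.mem_insert_self _ _), ih.2 fun i hi => h i (Finset.mem_insert_of_mem hi)⟩

lemma isZero_freeMod_zero (X : Scheme.{u}) : IsZero (FlatMod.freeMod X 0) := by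
  rw [IsZero.iff_id_eq_zero]
  apply Sigma.hom_ext
  intro i
  exact Fin.elim0 i

/-- a zero module is free of rank zero along anything -/
lemma isFreeAlong_zero {Z : Scheme.{u}} {M : X.Modules} (hM : IsZero M) (j : Z ⟶ X) :
    IsFreeAlong M j 0 :=
  ⟨IsZero.iso ((Scheme.Modules.pullback j).map_isZero hM) (isZero_freeMod_zero Z)⟩

/-- a strictly perfect complex has, near every point, all its terms free of finite rank -/
lemma exists_free_nbhd {E : CochainComplex X.Modules ℤ} (hE : DCoh.IsStrictlyPerfect E) (y : X) :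
    ∃ W : X.Opens, y ∈ W ∧ ∀ i : ℤ, ∃ n : ℕ, IsFreeAlong (E.X i) W.ι n := by
  obtain ⟨⟨a, b, hab⟩, hfree⟩ := hE
  have h := fun i => (isFinLocFree_iff_isFreeAlong (E.X i)).1 (hfree i) y
  choose U n hyU hU using h
  refine ⟨(Finset.Icc a b).inf U, (mem_finset_inf_opens _ _ _).2 (fun i _ => hyU i), fun i => ?_⟩
  by_cases hi : i ∈ Finset.Icc a b
  · refine ⟨n i, (hU i).of_range_subset _ ?_⟩
    rw [Scheme.Opens.range_ι, Scheme.Opens.range_ι]
    exact Finset.inf_le (f := U) hi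
  · refine ⟨0, isFreeAlong_zero (hab i ?_) _⟩
    rw [Finset.mem_Icc] at hi
    omega

/-- `K` is represented by the complex `E` after restriction along `j` -/
def RepAlong (K : DCoh.D X) {U : Scheme.{u}} (j : U ⟶ X) [IsOpenImmersion j]
    (E : CochainComplex U.Modules ℤ) : Prop :=
  Nonempty ((resD j).obj K ≅ DerivedCategory.Q.obj E)

lemma RepAlong.of_eq {K : DCoh.D X} {U : Scheme.{u}} {j j' : U ⟶ X} [IsOpenImmersion j]
    [IsOpenImmersion j'] {E : CochainComplex U.Modules ℤ} (h : RepAlong K j E) (e : j = j') :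
    RepAlong K j' E := by
  subst e
  exact h

lemma RepAlong.comp {K : DCoh.D X} {U U' : Scheme.{u}} {j : U ⟶ X} [IsOpenImmersion j]
    {E : CochainComplex U.Modules ℤ} (h : RepAlong K j E) (j' : U' ⟶ U) [IsOpenImmersion j'] :
    RepAlong K (j' ≫ j) ((resCx j').obj E) := by
  obtain ⟨e⟩ := h
  exact ⟨(resDComp j' j).app K ≪≫ (resD j').mapIso e ≪≫ (resDQ j').app E⟩

lemma isFreeAlong_restrict_comp {U U' : Scheme.{u}} {M : X.Modules} {j : U ⟶ X}
    [IsOpenImmersion j] {n : ℕ} (h : IsFreeAlong M j n) (j' : U' ⟶ U) [IsOpenImmersion j'] :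
    Nonempty ((M.restrict j).restrict j' ≅ FlatMod.freeMod U' n) := by
  obtain ⟨e⟩ := (isFreeAlong_iff_restrict M (j' ≫ j) n).1 (h.comp j')
  exact ⟨((Scheme.Modules.restrictFunctorComp j' j).app M).symm ≪≫ e⟩

/-- **Perfect iff locally a bounded complex of finite free modules.** -/
theorem isPerfect_iff_free (E : DCoh.D X) :
    DCoh.IsPerfect E ↔ ∀ x : X, ∃ V : X.Opens, x ∈ V ∧
      ∀ F : CochainComplex X.Modules ℤ, Nonempty (DCoh.toD X F ≅ E) →
        ∃ (P : CochainComplex (V : Scheme.{u}).Modules ℤ) (a b : ℤ), DCoh.VanishesOutside P a b ∧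
          (∀ i : ℤ, ∃ n : ℕ, Nonempty (P.X i ≅ FlatMod.freeMod (V : Scheme.{u}) n)) ∧
          Nonempty (DerivedCategory.Q.obj ((DCoh.restrictCx V).obj F) ≅ DerivedCategory.Q.obj P) := by
  constructor
  · intro h x
    obtain ⟨U, j, hj, ⟨y, rfl⟩, E₀, hE₀, hrep⟩ := (isPerfect_iff E).1 h x
    obtain ⟨W, hyW, hW⟩ := exists_free_nbhd hE₀ y
    obtain ⟨⟨a, b, hab⟩, -⟩ := hE₀
    let j₂ : (W : Scheme.{u}) ⟶ X := W.ι ≫ j
    have hrep₂ : RepAlong E j₂.opensRange.ι
        ((resCx j₂.isoOpensRange.inv).obj ((resCx W.ι).obj E₀)) :=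
      (((show RepAlong E j E₀ from hrep).comp W.ι).comp j₂.isoOpensRange.inv).of_eq
        j₂.isoOpensRange_inv_comp
    refine ⟨j₂.opensRange, ⟨⟨y, hyW⟩, ?_⟩, fun F ⟨eF⟩ => ?_⟩
    · change j.base (W.ι.base ⟨y, hyW⟩) = j.base y
      rfl
    · obtain ⟨e⟩ := hrep₂
      refine ⟨(resCx j₂.isoOpensRange.inv).obj ((resCx W.ι).obj E₀), a, b, fun i hi => ?_,
        fun i => ?_, ⟨?_⟩⟩
      · exact (Scheme.Modules.restrictFunctor _).map_isZero
          ((Scheme.Modules.restrictFunctor _).map_isZero (hab i hi))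
      · obtain ⟨n, hn⟩ := hW i
        exact ⟨n, isFreeAlong_restrict_comp hn _⟩
      · exact ((resDQ j₂.opensRange.ι).app F).symm ≪≫ (resD j₂.opensRange.ι).mapIso eF ≪≫ e
  · intro h x
    obtain ⟨V, hxV, hV⟩ := h x
    refine ⟨V, hxV, fun F hF => ?_⟩
    obtain ⟨P, a, b, hab, hfree, hiso⟩ := hV F hF
    refine ⟨P, ⟨⟨a, b, hab⟩, fun i => ?_⟩, hiso⟩
    obtain ⟨n, ⟨e⟩⟩ := hfree i
    exact isFinLocFree_of_iso_freeMod e

end

end Groth.Agent.Lib.Helper28.DCohRes
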