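import Mathlib
import Groth.Agent.Lib.Helper28.DCohRes7

/-!
# Stupid truncation `σ≥n`, approximations and cones
-/

set_option autoImplicit false

universe u

open CategoryTheory Limits AlgebraicGeometry

namespace Groth.Agent.Lib.Helper28.DCohRes

noncomputable section

attribute [local instance] HasDerivedCategory.standard

section Trunc

universe v' u'

variable {C : Type u'} [Category.{v'} C] [Preadditive C] [HasZeroObject C]

open ZeroObject

/-- the stupid truncation `σ≥n E` -/
def sigmaGE (E : CochainComplex C ℤ) (n : ℤ) : CochainComplex C ℤ where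
  X i := if n ≤ i then E.X i else 0
  d i j := if h : n ≤ i ∧ n ≤ j then
    eqToHom (if_pos h.1) ≫ E.d i j ≫ eqToHom (if_pos h.2).symm else 0
  shape i j hij := by
    by_cases h : n ≤ i ∧ n ≤ j
    · rw [dif_pos h, E.shape i j hij]; simp
    · rw [dif_neg h]
  d_comp_d' i j k _ _ := by
    by_cases h : n ≤ i ∧ n ≤ j
    · by_cases h' : n ≤ j ∧ n ≤ k
      · rw [dif_pos h, dif_pos h']; simp
      · rw [dif_neg h']; simp
    · rw [dif_neg h]; simp

lemma isZero_sigmaGE_X (E : CochainComplex C ℤ) (n i : ℤ) (h : i < n) :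
    IsZero ((sigmaGE E n).X i) := by
  dsimp [sigmaGE]
  rw [if_neg (by omega)]
  exact isZero_zero C

/-- the terms of `σ≥n E` in degrees `≥ n` -/
def sigmaGEXIso (E : CochainComplex C ℤ) (n i : ℤ) (h : n ≤ i) :
    (sigmaGE E n).X i ≅ E.X i :=
  eqToIso (if_pos h)

/-- the inclusion `σ≥n E ⟶ E` -/
def sigmaGEι (E : CochainComplex C ℤ) (n : ℤ) : sigmaGE E n ⟶ E where
  f i := if h : n ≤ i then eqToHom (if_pos h) else 0
  comm' i j hij := by
    change i + 1 = j at hij
    by_cases h : n ≤ i
    · have h' : n ≤ j := by omega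
      rw [dif_pos h, dif_pos h']
      dsimp [sigmaGE]
      rw [dif_pos ⟨h, h'⟩]
      simp
    · exact (isZero_sigmaGE_X E n i (by omega)).eq_of_src _ _

lemma sigmaGEι_f (E : CochainComplex C ℤ) (n i : ℤ) (h : n ≤ i) :
    (sigmaGEι E n).f i = (sigmaGEXIso E n i h).hom := by
  dsimp [sigmaGEι, sigmaGEXIso]
  rw [dif_pos h]

lemma isIso_sigmaGEι_f (E : CochainComplex C ℤ) (n i : ℤ) (h : n ≤ i) :
    IsIso ((sigmaGEι E n).f i) := by
  rw [sigmaGEι_f E n i h]
  infer_instance

end Trunc

section TruncHomology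

universe w v' u'

variable {C : Type u'} [Category.{v'} C] [Abelian C]

lemma isIso_homologyMap_sigmaGEι (E : CochainComplex C ℤ) (n i : ℤ) (h : n < i) :
    IsIso (HomologicalComplex.homologyMap (sigmaGEι E n) i) := by
  have h1 : IsIso ((sigmaGEι E n).f ((ComplexShape.up ℤ).prev i)) :=
    isIso_sigmaGEι_f E n _ (by rw [CochainComplex.prev]; omega)
  have h2 := isIso_sigmaGEι_f E n i (by omega)
  have h3 : IsIso ((sigmaGEι E n).f ((ComplexShape.up ℤ).next i)) :=
    isIso_sigmaGEι_f E n _ (by rw [CochainComplex.next]; omega)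
  exact ShortComplex.isIso_homologyMap_of_epi_of_isIso_of_mono'
    ((HomologicalComplex.shortComplexFunctor C _ i).map (sigmaGEι E n))
    (by change Epi ((sigmaGEι E n).f _); infer_instance) (by exact h2)
    (by change Mono ((sigmaGEι E n).f _); infer_instance)

lemma epi_homologyMap_sigmaGEι (E : CochainComplex C ℤ) (n : ℤ) :
    Epi (HomologicalComplex.homologyMap (sigmaGEι E n) n) := by
  have h2 := isIso_sigmaGEι_f E n n le_rfl
  have h3 : IsIso ((sigmaGEι E n).f ((ComplexShape.up ℤ).next n)) :=
    isIso_sigmaGEι_f E n _ (by rw [CochainComplex.next]; omega)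
  have hc : IsIso (HomologicalComplex.cyclesMap (sigmaGEι E n) n) :=
    ShortComplex.isIso_cyclesMap_of_isIso_of_mono'
      ((HomologicalComplex.shortComplexFunctor C _ n).map (sigmaGEι E n))
      (by exact h2) (by change Mono ((sigmaGEι E n).f _); infer_instance)
  have hn := HomologicalComplex.homologyπ_naturality (sigmaGEι E n) n
  have : Epi ((sigmaGE E n).homologyπ n ≫ HomologicalComplex.homologyMap (sigmaGEι E n) n) := by
    rw [hn]
    infer_instance
  exact epi_of_epi ((sigmaGE E n).homologyπ n) _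

lemma epi_map_iff_of_natIso {D D' : Type*} [Category D] [Category D'] {F G : D ⥤ D'}
    (e : F ≅ G) {X Y : D} (f : X ⟶ Y) : Epi (F.map f) ↔ Epi (G.map f) := by
  constructor
  · intro h
    have : G.map f = e.inv.app X ≫ F.map f ≫ e.hom.app Y := by simp
    rw [this]
    infer_instance
  · intro h
    have : F.map f = e.hom.app X ≫ G.map f ≫ e.inv.app Y := by simp
    rw [this]
    infer_instance

variable [HasDerivedCategory.{w} C]

lemma isApprox_Q_map_iff {A B : CochainComplex C ℤ} (f : A ⟶ B) (m : ℤ) :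
    IsApprox m (DerivedCategory.Q.map f) ↔
      (∀ i, m < i → IsIso (HomologicalComplex.homologyMap f i)) ∧
        Epi (HomologicalComplex.homologyMap f m) := by
  have h1 : ∀ i, IsIso ((DerivedCategory.homologyFunctor C i).map (DerivedCategory.Q.map f)) ↔
      IsIso (HomologicalComplex.homologyMap f i) := fun i =>
    NatIso.isIso_map_iff (DerivedCategory.homologyFunctorFactors C i) f
  have h2 : ∀ i, Epi ((DerivedCategory.homologyFunctor C i).map (DerivedCategory.Q.map f)) ↔
      Epi (HomologicalComplex.homologyMap f i) := fun i =>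
    epi_map_iff_of_natIso (DerivedCategory.homologyFunctorFactors C i) f
  constructor
  · rintro ⟨a, b⟩
    exact ⟨fun i hi => (h1 i).1 (a i hi), (h2 m).1 b⟩
  · rintro ⟨a, b⟩
    exact ⟨fun i hi => (h1 i).2 (a i hi), (h2 m).2 b⟩

lemma isApprox_Q_sigmaGEι (E : CochainComplex C ℤ) (n : ℤ) :
    IsApprox n (DerivedCategory.Q.map (sigmaGEι E n)) :=
  (isApprox_Q_map_iff _ _).2
    ⟨fun i hi => isIso_homologyMap_sigmaGEι E n i hi, epi_homologyMap_sigmaGEι E n⟩

/-- composition of an `n`-approximation with an `(n+1)`-approximation is an `(n+1)`-approximation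
-/
lemma IsApprox.comp_succ {n : ℤ} {A B B' : DerivedCategory C} {α : A ⟶ B} {β : B ⟶ B'}
    (hα : IsApprox n α) (hβ : IsApprox (n + 1) β) : IsApprox (n + 1) (α ≫ β) := by
  refine ⟨fun i hi => ?_, ?_⟩
  · have := hα.1 i (by omega)
    have := hβ.1 i hi
    rw [Functor.map_comp]
    infer_instance
  · have := hα.1 (n + 1) (by omega)
    have := hβ.2
    rw [Functor.map_comp]
    infer_instance

lemma IsApprox.epi_of_le {n : ℤ} {A B : DerivedCategory C} {α : A ⟶ B} (hα : IsApprox n α)
    (i : ℤ) (hi : n ≤ i) : Epi ((DerivedCategory.homologyFunctor C i).map α) := by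
  by_cases h : n = i
  · subst h
    exact hα.2
  · have := hα.1 i (by omega)
    infer_instance

open DerivedCategory in
lemma exactAt_mappingCone_of_isApprox {G F : CochainComplex C ℤ} (φ : G ⟶ F) (a : ℤ)
    (h : IsApprox a (DerivedCategory.Q.map φ)) (i : ℤ) (hi : a ≤ i) :
    (CochainComplex.mappingCone φ).ExactAt i := by
  rw [HomologicalComplex.exactAt_iff_isZero_homology]
  have hT := DerivedCategory.mappingCone_triangle_distinguished φ
  have e1 : Epi ((DerivedCategory.homologyFunctor C i).map (DerivedCategory.Q.map φ)) :=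
    h.epi_of_le i hi
  have e2 : Mono ((DerivedCategory.homologyFunctor C (i + 1)).map (DerivedCategory.Q.map φ)) := by
    have := h.1 (i + 1) (by omega)
    infer_instance
  have z1 := (HomologySequence.epi_homologyMap_mor₁_iff _ hT i).1 e1
  have z2 := (HomologySequence.mono_homologyMap_mor₁_iff _ hT i (i + 1) rfl).1 e2
  have hz := (HomologySequence.exact₃ _ hT i (i + 1) rfl).isZero_X₂ z1 z2
  exact hz.of_iso ((DerivedCategory.homologyFunctorFactors C i).app _).symm

end TruncHomology

end

end Groth.Agent.Lib.Helper28.DCohRes
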