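import Mathlib
import Groth.Agent.Lib.Helper28.DCohRes8

/-!
# Lifting maps from strictly perfect complexes along approximations, locally (derived level)
-/

set_option autoImplicit false

universe u

open CategoryTheory Limits AlgebraicGeometry

namespace Groth.Agent.Lib.Helper28.DCohRes

noncomputable section

attribute [local instance] HasDerivedCategory.standard

variable {X : Scheme.{u}}

open DerivedCategory in
/-- Derived lifting lemma: a map `g : E ⟶ A` from a bounded complex of finite locally frees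
concentrated in degrees `≥ a` lifts, locally, along any `a`-approximation `f : B ⟶ A`. -/
theorem exists_derived_lift_locally (E : CochainComplex X.Modules ℤ)
    (a b : ℤ) (hE : ∀ i, FlatMod.IsFinLocFree (E.X i)) (hEa : ∀ i, i < a → IsZero (E.X i))
    (hEb : ∀ i, b < i → IsZero (E.X i))
    {A B : DerivedCategory X.Modules} (f : B ⟶ A) (hf : IsApprox a f)
    (g : DerivedCategory.Q.obj E ⟶ A) (x : X) :
    ∃ (U : Scheme.{u}) (j : U ⟶ X) (_ : IsOpenImmersion j), x ∈ Set.range j.base ∧
      ∃ β : (resD j).obj (DerivedCategory.Q.obj E) ⟶ (resD j).obj B,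
        β ≫ (resD j).map f = (resD j).map g := by
  -- representatives
  let F₀ := (Q (C := X.Modules)).objPreimage A
  let eA₀ : Q.obj F₀ ≅ A := Q.objObjPreimageIso A
  obtain ⟨F₁, g₁, s, hs, hg⟩ := left_fac (g ≫ eA₀.inv)
  let eA : A ≅ Q.obj F₁ := eA₀.symm ≪≫ asIso (Q.map s)
  have hg' : g ≫ eA.hom = Q.map g₁ := by
    dsimp [eA]
    rw [reassoc_of% hg]
    simp
  let G₀ := (Q (C := X.Modules)).objPreimage B
  let eB₀ : Q.obj G₀ ≅ B := Q.objObjPreimageIso B
  obtain ⟨G₁, s', hs', φ, hφ⟩ := right_fac (eB₀.hom ≫ f ≫ eA.hom)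
  let eB : Q.obj G₁ ≅ B := asIso (Q.map s') ≪≫ eB₀
  have hφ' : eB.hom ≫ f ≫ eA.hom = Q.map φ := by
    dsimp [eB]
    rw [Category.assoc, hφ]
    simp
  have happ : IsApprox a (Q.map φ) := by
    rw [← hφ']
    exact (hf.comp_iso eA).iso_comp eB
  obtain ⟨U, j, hj, hx, β₀, ⟨H⟩⟩ := exists_lift_locally E F₁ G₁ g₁ φ a b hE hEa hEb
    (exactAt_mappingCone_of_isApprox φ a happ) x
  refine ⟨U, j, hj, hx, (resDQ j).hom.app E ≫ Q.map β₀ ≫ (resDQ j).inv.app G₁ ≫
    (resD j).map eB.hom, ?_⟩
  have hf' : f = eB.inv ≫ Q.map φ ≫ eA.inv := by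
    rw [← hφ']
    simp
  have hg'' : g = Q.map g₁ ≫ eA.inv := by
    rw [← hg']
    simp
  have n1 := (resDQ j).inv.naturality φ
  have n2 := (resDQ j).hom.naturality g₁
  dsimp at n1 n2
  have hH : Q.map β₀ ≫ Q.map ((resCx j).map φ) = Q.map ((resCx j).map g₁) := by
    rw [← Functor.map_comp]
    exact DerivedCategory.Q_map_eq_of_homotopy _ H
  rw [hf', hg'']
  simp only [Functor.map_comp, Category.assoc]
  rw [← (resD j).map_comp_assoc eB.hom eB.inv, Iso.hom_inv_id, CategoryTheory.Functor.map_id,
    Category.id_comp, ← reassoc_of% n1, reassoc_of% hH, ← reassoc_of% n2]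
  simp

section Five

universe w v' u'

variable {C : Type u'} [Category.{v'} C] [Abelian C] [HasDerivedCategory.{w} C]

open DerivedCategory Pretriangulated ComposableArrows

set_option backward.defeqAttrib.useBackward true in
set_option backward.isDefEq.respectTransparency false in
lemma isIso_homology_hom₃ {T T' : Triangle (DerivedCategory C)} (hT : T ∈ distTriang _)
    (hT' : T' ∈ distTriang _) (φ : T ⟶ T') (i : ℤ)
    (h₁ : Epi ((homologyFunctor C i).map φ.hom₁)) (h₂ : IsIso ((homologyFunctor C i).map φ.hom₂))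
    (h₃ : IsIso ((homologyFunctor C (i + 1)).map φ.hom₁))
    (h₄ : Mono ((homologyFunctor C (i + 1)).map φ.hom₂)) :
    IsIso ((homologyFunctor C i).map φ.hom₃) := by
  let ψ : ((homologyFunctor C 0).homologySequenceComposableArrows₅ T i _ rfl).δlast ⟶
      ((homologyFunctor C 0).homologySequenceComposableArrows₅ T' i _ rfl).δlast :=
    homMk₄ ((homologyFunctor C i).map φ.hom₁) ((homologyFunctor C i).map φ.hom₂)
      ((homologyFunctor C i).map φ.hom₃) ((homologyFunctor C (i + 1)).map φ.hom₁)
      ((homologyFunctor C (i + 1)).map φ.hom₂)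
      (by
        change (homologyFunctor C i).map T.mor₁ ≫ (homologyFunctor C i).map φ.hom₂ =
          (homologyFunctor C i).map φ.hom₁ ≫ (homologyFunctor C i).map T'.mor₁
        rw [← Functor.map_comp, ← Functor.map_comp, φ.comm₁])
      (by
        change (homologyFunctor C i).map T.mor₂ ≫ (homologyFunctor C i).map φ.hom₃ =
          (homologyFunctor C i).map φ.hom₂ ≫ (homologyFunctor C i).map T'.mor₂
        rw [← Functor.map_comp, ← Functor.map_comp, φ.comm₂])
      (by
        exact ((homologyFunctor C 0).homologySequenceδ_naturality T T' φ i (i + 1) rfl).symm)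
      (by
        change (homologyFunctor C (i + 1)).map T.mor₁ ≫ (homologyFunctor C (i + 1)).map φ.hom₂ =
          (homologyFunctor C (i + 1)).map φ.hom₁ ≫ (homologyFunctor C (i + 1)).map T'.mor₁
        rw [← Functor.map_comp, ← Functor.map_comp, φ.comm₁])
  exact Abelian.isIso_of_epi_of_isIso_of_isIso_of_mono
    ((homologyFunctor C 0).homologySequenceComposableArrows₅_exact _ hT i _ rfl).δlast
    ((homologyFunctor C 0).homologySequenceComposableArrows₅_exact _ hT' i _ rfl).δlast ψ
    (by exact h₁) (by exact h₂) (by exact h₃) (by exact h₄)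

set_option backward.defeqAttrib.useBackward true in
set_option backward.isDefEq.respectTransparency false in
lemma epi_homology_hom₃ {T T' : Triangle (DerivedCategory C)} (hT : T ∈ distTriang _)
    (hT' : T' ∈ distTriang _) (φ : T ⟶ T') (i : ℤ)
    (h₂ : Epi ((homologyFunctor C i).map φ.hom₂))
    (h₃ : Epi ((homologyFunctor C (i + 1)).map φ.hom₁))
    (h₄ : Mono ((homologyFunctor C (i + 1)).map φ.hom₂)) :
    Epi ((homologyFunctor C i).map φ.hom₃) := by
  let R : ComposableArrows C 3 := mk₃ ((homologyFunctor C i).map T.mor₂)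
    ((homologyFunctor C 0).homologySequenceδ T i (i + 1) rfl)
    ((homologyFunctor C (i + 1)).map T.mor₁)
  let R' : ComposableArrows C 3 := mk₃ ((homologyFunctor C i).map T'.mor₂)
    ((homologyFunctor C 0).homologySequenceδ T' i (i + 1) rfl)
    ((homologyFunctor C (i + 1)).map T'.mor₁)
  have hR : R.Exact :=
    exact_of_δ₀ ((homologyFunctor C 0).homologySequence_exact₃ T hT i (i + 1)
        rfl).exact_toComposableArrows
      ((homologyFunctor C 0).homologySequence_exact₁ T hT i (i + 1) rfl).exact_toComposableArrows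
  have hR' : R'.Exact :=
    exact_of_δ₀ ((homologyFunctor C 0).homologySequence_exact₃ T' hT' i (i + 1)
        rfl).exact_toComposableArrows
      ((homologyFunctor C 0).homologySequence_exact₁ T' hT' i (i + 1) rfl).exact_toComposableArrows
  let ψ : R ⟶ R' :=
    homMk₃ ((homologyFunctor C i).map φ.hom₂)
      ((homologyFunctor C i).map φ.hom₃) ((homologyFunctor C (i + 1)).map φ.hom₁)
      ((homologyFunctor C (i + 1)).map φ.hom₂)
      (by
        change (homologyFunctor C i).map T.mor₂ ≫ (homologyFunctor C i).map φ.hom₃ =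
          (homologyFunctor C i).map φ.hom₂ ≫ (homologyFunctor C i).map T'.mor₂
        rw [← Functor.map_comp, ← Functor.map_comp, φ.comm₂])
      (by
        exact ((homologyFunctor C 0).homologySequenceδ_naturality T T' φ i (i + 1) rfl).symm)
      (by
        change (homologyFunctor C (i + 1)).map T.mor₁ ≫ (homologyFunctor C (i + 1)).map φ.hom₂ =
          (homologyFunctor C (i + 1)).map φ.hom₁ ≫ (homologyFunctor C (i + 1)).map T'.mor₁
        rw [← Functor.map_comp, ← Functor.map_comp, φ.comm₁])
  exact Abelian.epi_of_epi_of_epi_of_mono ψ hR hR' (by exact h₂) (by exact h₃) (by exact h₄)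

lemma isApprox_hom₃ {T T' : Triangle (DerivedCategory C)} (hT : T ∈ distTriang _)
    (hT' : T' ∈ distTriang _) (φ : T ⟶ T') (m : ℤ)
    (h₁ : IsApprox (m + 1) φ.hom₁) (h₂ : IsApprox m φ.hom₂) : IsApprox m φ.hom₃ := by
  refine ⟨fun i hi => ?_, ?_⟩
  · have a1 := h₁.epi_of_le i (by omega)
    have a2 := h₂.1 i hi
    have a3 := h₁.1 (i + 1) (by omega)
    have a4 := h₂.1 (i + 1) (by omega)
    exact isIso_homology_hom₃ hT hT' φ i a1 a2 a3 inferInstance
  · have a2 := h₂.2
    have a3 := h₁.2
    have a4 := h₂.1 (m + 1) (by omega)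
    exact epi_homology_hom₃ hT hT' φ m a2 a3 inferInstance

end Five

end

end Groth.Agent.Lib.Helper28.DCohRes
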