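import Mathlib
import Groth.Agent.Lib.Helper28.DCohRes9

/-!
# Pseudo-coherence in distinguished triangles
-/

set_option autoImplicit false

universe u

open CategoryTheory Limits AlgebraicGeometry Pretriangulated

namespace Groth.Agent.Lib.Helper28.DCohRes

noncomputable section

attribute [local instance] HasDerivedCategory.standard

open Groth.Agent.Lib.Helper29.QCoh

variable {X : Scheme.{u}}

lemma isFinLocFree_of_isZero {M : X.Modules} (hM : IsZero M) : FlatMod.IsFinLocFree M := by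
  rw [isFinLocFree_iff_isFreeAlong]
  intro x
  exact ⟨⊤, 0, trivial, isFreeAlong_zero hM _⟩

lemma isFinLocFree_sigmaGE {E : CochainComplex X.Modules ℤ}
    (hE : ∀ i, FlatMod.IsFinLocFree (E.X i)) (n i : ℤ) :
    FlatMod.IsFinLocFree ((sigmaGE E n).X i) := by
  by_cases h : n ≤ i
  · exact isFinLocFree_of_iso (sigmaGEXIso E n i h).symm (hE i)
  · exact isFinLocFree_of_isZero (isZero_sigmaGE_X E n i (by omega))

lemma isZero_sigmaGE_X_of_isZero {E : CochainComplex X.Modules ℤ} (n i : ℤ)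
    (h : IsZero (E.X i)) : IsZero ((sigmaGE E n).X i) := by
  by_cases h' : n ≤ i
  · exact h.of_iso (sigmaGEXIso E n i h')
  · exact isZero_sigmaGE_X E n i (by omega)

lemma isStrictlyPerfect_sigmaGE {E : CochainComplex X.Modules ℤ} (hE : DCoh.IsStrictlyPerfect E)
    (n : ℤ) : DCoh.IsStrictlyPerfect (sigmaGE E n) := by
  obtain ⟨⟨a, b, hab⟩, hfree⟩ := hE
  exact ⟨⟨a, b, fun i hi => isZero_sigmaGE_X_of_isZero n i (hab i hi)⟩,
    fun i => isFinLocFree_sigmaGE hfree n i⟩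

/-- transitivity for `PCAlong` -/
lemma PCAlong.of_resD {m : ℤ} {K : DCoh.D X} {U U' : Scheme.{u}} {j : U ⟶ X} [IsOpenImmersion j]
    {j' : U' ⟶ U} [IsOpenImmersion j'] (h : PCAlong m ((resD j).obj K) j') :
    PCAlong m K (j' ≫ j) := by
  obtain ⟨E, α, hE, hα⟩ := h
  exact ⟨E, α ≫ (resDComp j' j).inv.app K, hE, hα.comp_iso ((resDComp j' j).app K).symm⟩

/-- if the first two vertices of a distinguished triangle are globally represented by strictly
perfect complexes, then locally so is the third -/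
theorem perfGlob_obj₃ (T : Triangle (DCoh.D X)) (hT : T ∈ distTriang _)
    {E₁ E₂ : CochainComplex X.Modules ℤ} (hE₁ : DCoh.IsStrictlyPerfect E₁)
    (hE₂ : DCoh.IsStrictlyPerfect E₂) (e₁ : T.obj₁ ≅ DerivedCategory.Q.obj E₁)
    (e₂ : T.obj₂ ≅ DerivedCategory.Q.obj E₂) (y : X) :
    ∃ (U' : Scheme.{u}) (j' : U' ⟶ X) (_ : IsOpenImmersion j'), y ∈ Set.range j'.base ∧
      PerfAlong T.obj₃ j' := by
  obtain ⟨⟨a, b, hab⟩, hfree⟩ := hE₁
  let ψ₀ : DerivedCategory.Q.obj E₁ ⟶ DerivedCategory.Q.obj E₂ := e₁.inv ≫ T.mor₁ ≫ e₂.hom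
  obtain ⟨U', j', hj', hy, ψ, hψ⟩ := exists_chainMap_locally E₁ E₂ a b hfree
    (fun i hi => hab i (Or.inl hi)) (fun i hi => hab i (Or.inr hi)) ψ₀ y
  refine ⟨U', j', hj', hy, CochainComplex.mappingCone ψ,
    isStrictlyPerfect_mappingCone ψ (isStrictlyPerfect_resCx j' ⟨⟨a, b, hab⟩, hfree⟩)
      (isStrictlyPerfect_resCx j' hE₂), ⟨?_⟩⟩
  have hT' : (resD j').mapTriangle.obj T ∈ distTriang _ := (resD j').map_distinguished _ hT
  have hT'' := DerivedCategory.mappingCone_triangle_distinguished ψ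
  let iso₁ : ((resD j').mapTriangle.obj T).obj₁ ≅
      (DerivedCategory.Q.mapTriangle.obj (CochainComplex.mappingCone.triangle ψ)).obj₁ :=
    (resD j').mapIso e₁ ≪≫ (resDQ j').app E₁
  let iso₂ : ((resD j').mapTriangle.obj T).obj₂ ≅
      (DerivedCategory.Q.mapTriangle.obj (CochainComplex.mappingCone.triangle ψ)).obj₂ :=
    (resD j').mapIso e₂ ≪≫ (resDQ j').app E₂
  have comm : ((resD j').mapTriangle.obj T).mor₁ ≫ iso₂.hom =
      iso₁.hom ≫ (DerivedCategory.Q.mapTriangle.obj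
        (CochainComplex.mappingCone.triangle ψ)).mor₁ := by
    change (resD j').map T.mor₁ ≫ (resD j').map e₂.hom ≫ (resDQ j').hom.app E₂ =
      ((resD j').map e₁.hom ≫ (resDQ j').hom.app E₁) ≫ DerivedCategory.Q.map ψ
    rw [hψ]
    simp only [ψ₀, Functor.map_comp, Category.assoc, Iso.hom_inv_id_app_assoc]
    rw [← Functor.map_comp_assoc (resD j') e₁.hom e₁.inv, Iso.hom_inv_id,
      CategoryTheory.Functor.map_id, Category.id_comp]
  let e := isoTriangleOfIso₁₂ _ _ hT' hT'' iso₁ iso₂ comm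
  exact Triangle.π₃.mapIso e

/-- **Key local statement**: in a distinguished triangle, if the first vertex is `(m+1)`-approximated
and the second `m`-approximated along `j`, then locally the third is `m`-approximated. -/
theorem pcAlong_obj₃ (m : ℤ) (T : Triangle (DCoh.D X)) (hT : T ∈ distTriang _) {U : Scheme.{u}}
    (j : U ⟶ X) [IsOpenImmersion j] (h₁ : PCAlong (m + 1) T.obj₁ j) (h₂ : PCAlong m T.obj₂ j)
    (y : U) :
    ∃ (U' : Scheme.{u}) (j' : U' ⟶ U) (_ : IsOpenImmersion j'), y ∈ Set.range j'.base ∧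
      PCAlong m T.obj₃ (j' ≫ j) := by
  obtain ⟨E₁, α₁, hE₁, hα₁⟩ := h₁
  obtain ⟨E₂, α₂, hE₂, hα₂⟩ := h₂
  have hE₁' := isStrictlyPerfect_sigmaGE hE₁ m
  obtain ⟨⟨a, b, hab⟩, hfree⟩ := hE₁'
  -- the truncated approximation
  let α₁' : DerivedCategory.Q.obj (sigmaGE E₁ m) ⟶ (resD j).obj T.obj₁ :=
    DerivedCategory.Q.map (sigmaGEι E₁ m) ≫ α₁
  have hα₁' : IsApprox (m + 1) α₁' := (isApprox_Q_sigmaGEι E₁ m).comp_succ hα₁
  -- lift
  obtain ⟨U₁, j₁, hj₁, hy, β, hβ⟩ := exists_derived_lift_locally (sigmaGE E₁ m) m b hfree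
    (fun i hi => isZero_sigmaGE_X E₁ m i hi) (fun i hi => hab i (Or.inr hi)) α₂ hα₂
    (α₁' ≫ (resD j).map T.mor₁) y
  obtain ⟨y₁, rfl⟩ := hy
  -- the cone of the lift
  obtain ⟨C, g, h, hT₁⟩ := distinguished_cocone_triangle β
  have hT₂ : (resD j₁).mapTriangle.obj ((resD j).mapTriangle.obj T) ∈ distTriang _ :=
    (resD j₁).map_distinguished _ ((resD j).map_distinguished _ hT)
  obtain ⟨c, hc₁, hc₂⟩ := complete_distinguished_triangle_morphism _ _ hT₁ hT₂
    ((resD j₁).map α₁') ((resD j₁).map α₂) (by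
      change β ≫ (resD j₁).map α₂ = (resD j₁).map α₁' ≫ (resD j₁).map ((resD j).map T.mor₁)
      rw [hβ, Functor.map_comp])
  let φ : Triangle.mk β g h ⟶ (resD j₁).mapTriangle.obj ((resD j).mapTriangle.obj T) :=
    { hom₁ := (resD j₁).map α₁'
      hom₂ := (resD j₁).map α₂
      hom₃ := c
      comm₁ := by
        change β ≫ (resD j₁).map α₂ = (resD j₁).map α₁' ≫ (resD j₁).map ((resD j).map T.mor₁)
        rw [hβ, Functor.map_comp]
      comm₂ := hc₁
      comm₃ := hc₂ }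
  have hc : IsApprox m c := isApprox_hom₃ hT₁ hT₂ φ m (hα₁'.resD j₁) (hα₂.resD j₁)
  -- the cone is locally strictly perfect
  obtain ⟨U₂, j₂, hj₂, hy₂, E₃, hE₃, ⟨e₃⟩⟩ := perfGlob_obj₃ _ hT₁
    (isStrictlyPerfect_resCx j₁ (isStrictlyPerfect_sigmaGE hE₁ m)) (isStrictlyPerfect_resCx j₁ hE₂)
    ((resDQ j₁).app _) ((resDQ j₁).app _) y₁
  refine ⟨U₂, j₂ ≫ j₁, inferInstance, mem_range_comp j₁ j₂ hy₂, ?_⟩
  have p : PCAlong m ((resD j₁).obj ((resD j).obj T.obj₃)) j₂ :=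
    ⟨E₃, e₃.inv ≫ (resD j₂).map c, hE₃, (hc.resD j₂).iso_comp e₃.symm⟩
  exact p.of_resD.of_resD

end

end Groth.Agent.Lib.Helper28.DCohRes
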