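import Mathlib
import Groth.Agent.Lib.Helper28.DCohRes10

/-!
# Pseudo-coherence in distinguished triangles: global statements
-/

set_option autoImplicit false

universe u

open CategoryTheory Limits AlgebraicGeometry Pretriangulated

namespace Groth.Agent.Lib.Helper28.DCohRes

noncomputable section

attribute [local instance] HasDerivedCategory.standard

section Shift

universe w v' u'

variable {C : Type u'} [Category.{v'} C] [Abelian C] [HasDerivedCategory.{w} C]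

lemma IsApprox.shift {m : ℤ} {A B : DerivedCategory C} {α : A ⟶ B} (h : IsApprox m α)
    (n m' : ℤ) (hm : n + m' = m) : IsApprox m' (α⟦n⟧') := by
  refine ⟨fun i hi => ?_, ?_⟩
  · have e := (DerivedCategory.homologyFunctor C 0).shiftIso n i (n + i) rfl
    have := h.1 (n + i) (by omega)
    exact (NatIso.isIso_map_iff e α).2 this
  · have e := (DerivedCategory.homologyFunctor C 0).shiftIso n m' m hm
    have := h.2
    exact (epi_map_iff_of_natIso e α).2 this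

end Shift

variable {X : Scheme.{u}}

lemma PCAlong.shift {m : ℤ} {K : DCoh.D X} {U : Scheme.{u}} {j : U ⟶ X} [IsOpenImmersion j]
    (h : PCAlong m K j) (n m' : ℤ) (hm : n + m' = m) : PCAlong m' (K⟦n⟧) j := by
  obtain ⟨E, α, hE, hα⟩ := h
  refine ⟨E⟦n⟧, (DerivedCategory.Q.commShiftIso n).hom.app E ≫ α⟦n⟧' ≫
    ((resD j).commShiftIso n).inv.app K, isStrictlyPerfect_shift hE n, ?_⟩
  exact ((hα.shift n m' hm).comp_iso (((resD j).commShiftIso n).app K).symm).iso_comp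
    ((DerivedCategory.Q.commShiftIso n).app E)

lemma isPseudoCoherentD_shift {m : ℤ} {K : DCoh.D X} (h : DCoh.IsPseudoCoherentD m K)
    (n m' : ℤ) (hm : n + m' = m) : DCoh.IsPseudoCoherentD m' (K⟦n⟧) := by
  rw [isPseudoCoherentD_iff] at h ⊢
  intro x
  obtain ⟨U, j, hj, hx, hK⟩ := h x
  exact ⟨U, j, hj, hx, hK.shift n m' hm⟩

lemma isPseudoCoherentD_of_iso {m : ℤ} {K K' : DCoh.D X} (e : K ≅ K')
    (h : DCoh.IsPseudoCoherentD m K) : DCoh.IsPseudoCoherentD m K' := by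
  rw [isPseudoCoherentD_iff] at h ⊢
  intro x
  obtain ⟨U, j, hj, hx, hK⟩ := h x
  exact ⟨U, j, hj, hx, hK.of_iso e⟩

/-- third vertex of a distinguished triangle -/
theorem isPseudoCoherentD_obj₃ (m : ℤ) (T : Triangle (DCoh.D X)) (hT : T ∈ distTriang _)
    (h₁ : DCoh.IsPseudoCoherentD (m + 1) T.obj₁) (h₂ : DCoh.IsPseudoCoherentD m T.obj₂) :
    DCoh.IsPseudoCoherentD m T.obj₃ := by
  rw [isPseudoCoherentD_iff] at h₁ h₂ ⊢
  intro x
  obtain ⟨U₁, j₁, hj₁, hx₁, hK₁⟩ := h₁ x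
  obtain ⟨U₂, j₂, hj₂, hx₂, hK₂⟩ := h₂ x
  obtain ⟨V, k₁, k₂, hk₁, hk₂, hxV, f₁, f₂⟩ := exists_common j₁ j₂ hx₁ hx₂
  have p₁ : PCAlong (m + 1) T.obj₁ V.ι := (hK₁.comp k₁).of_eq f₁
  have p₂ : PCAlong m T.obj₂ V.ι := (hK₂.comp k₂).of_eq f₂
  obtain ⟨U', j', hj', hy, h₃⟩ := pcAlong_obj₃ m T hT V.ι p₁ p₂ ⟨x, hxV⟩
  exact ⟨U', j' ≫ V.ι, inferInstance, mem_range_comp V.ι j' hy, h₃⟩

/-- **Pseudo-coherence in distinguished triangles.** -/
theorem isPseudoCoherentD_triangle (m : ℤ) (T : Triangle (DCoh.D X)) (hT : T ∈ distTriang _) :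
    (DCoh.IsPseudoCoherentD (m + 1) T.obj₁ → DCoh.IsPseudoCoherentD m T.obj₂ →
      DCoh.IsPseudoCoherentD m T.obj₃) ∧
    (DCoh.IsPseudoCoherentD m T.obj₁ → DCoh.IsPseudoCoherentD m T.obj₃ →
      DCoh.IsPseudoCoherentD m T.obj₂) ∧
    (DCoh.IsPseudoCoherentD (m + 1) T.obj₂ → DCoh.IsPseudoCoherentD m T.obj₃ →
      DCoh.IsPseudoCoherentD (m + 1) T.obj₁) := by
  refine ⟨isPseudoCoherentD_obj₃ m T hT, fun h₁ h₃ => ?_, fun h₂ h₃ => ?_⟩
  · exact isPseudoCoherentD_obj₃ m T.invRotate (inv_rot_of_distTriang _ hT)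
      (isPseudoCoherentD_shift h₃ (-1) (m + 1) (by omega)) h₁
  · exact isPseudoCoherentD_obj₃ (m + 1) T.invRotate.invRotate
      (inv_rot_of_distTriang _ (inv_rot_of_distTriang _ hT))
      (isPseudoCoherentD_shift h₂ (-1) (m + 1 + 1) (by omega))
      (isPseudoCoherentD_shift h₃ (-1) (m + 1) (by omega))

end

end Groth.Agent.Lib.Helper28.DCohRes
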