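import Mathlib
import Groth.Agent.Lib.Helper28.DCohRes11

/-!
# Direct summands of pseudo-coherent objects
-/

set_option autoImplicit false

universe u

open CategoryTheory Limits AlgebraicGeometry Pretriangulated ZeroObject

namespace Groth.Agent.Lib.Helper28.DCohRes

noncomputable section

attribute [local instance] HasDerivedCategory.standard

section Abs

universe w v' u'

variable {C : Type u'} [Category.{v'} C] [Abelian C] [HasDerivedCategory.{w} C]

lemma IsApprox.mono {m n : ℤ} {A B : DerivedCategory C} {α : A ⟶ B} (h : IsApprox m α)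
    (hmn : m ≤ n) : IsApprox n α :=
  ⟨fun i hi => h.1 i (by omega), h.epi_of_le n hmn⟩

lemma isApprox_of_isZero {N : ℤ} {A B : DerivedCategory C} (α : A ⟶ B) (hA : IsZero A)
    (hB : ∀ i, N ≤ i → IsZero ((DerivedCategory.homologyFunctor C i).obj B)) : IsApprox N α := by
  refine ⟨fun i hi => ?_, (hB N le_rfl).epi _⟩
  have h1 : IsZero ((DerivedCategory.homologyFunctor C i).obj A) :=
    (DerivedCategory.homologyFunctor C i).map_isZero hA
  have h2 := hB i (by omega)
  have : (DerivedCategory.homologyFunctor C i).map α = (h1.iso h2).hom := h1.eq_of_src _ _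
  rw [this]
  infer_instance

/-- if `α : Q E ⟶ B` is an `m`-approximation and `E` vanishes in degrees `> b`, then the
cohomology of `B` vanishes in degrees `> max m b` -/
lemma isZero_homology_of_isApprox {m b : ℤ} {E : CochainComplex C ℤ} {B : DerivedCategory C}
    (α : DerivedCategory.Q.obj E ⟶ B) (hα : IsApprox m α) (hE : ∀ i, b < i → IsZero (E.X i))
    (i : ℤ) (hm : m < i) (hb : b < i) :
    IsZero ((DerivedCategory.homologyFunctor C i).obj B) := by
  have h1 : IsZero ((DerivedCategory.homologyFunctor C i).obj (DerivedCategory.Q.obj E)) :=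
    (HomologicalComplex.ExactAt.of_isZero (hE i hb)).isZero_homology.of_iso
      ((DerivedCategory.homologyFunctorFactors C i).app E)
  have := hα.1 i hm
  exact h1.of_iso (asIso ((DerivedCategory.homologyFunctor C i).map α)).symm

lemma isZero_of_retract {D : Type*} [Category D] [HasZeroMorphisms D] {A B : D} (i : A ⟶ B)
    (p : B ⟶ A) (h : i ≫ p = 𝟙 A) (hB : IsZero B) : IsZero A := by
  rw [IsZero.iff_id_eq_zero, ← h, hB.eq_of_tgt i 0, zero_comp]

end Abs

variable {X : Scheme.{u}}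

lemma isPseudoCoherentD_mono {m n : ℤ} {K : DCoh.D X} (h : DCoh.IsPseudoCoherentD m K)
    (hmn : m ≤ n) : DCoh.IsPseudoCoherentD n K := by
  rw [isPseudoCoherentD_iff] at h ⊢
  intro x
  obtain ⟨U, j, hj, hx, E, α, hE, hα⟩ := h x
  exact ⟨U, j, hj, hx, E, α, hE, hα.mono hmn⟩

/-- descending induction along two "complementary" distinguished triangles -/
theorem isPseudoCoherentD_of_split (m : ℤ) (T₁ T₂ : Triangle (DCoh.D X))
    (hT₁ : T₁ ∈ distTriang _) (hT₂ : T₂ ∈ distTriang _)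
    (e₁ : T₂.obj₁ ≅ T₁.obj₃) (e₂ : T₂.obj₂ ≅ T₁.obj₂) (e₃ : T₂.obj₃ ≅ T₁.obj₁)
    (hP : DCoh.IsPseudoCoherentD m T₁.obj₂) (N : ℤ)
    (hK : DCoh.IsPseudoCoherentD N T₁.obj₁) (hL : DCoh.IsPseudoCoherentD N T₁.obj₃) :
    DCoh.IsPseudoCoherentD m T₁.obj₁ ∧ DCoh.IsPseudoCoherentD m T₁.obj₃ := by
  by_cases hN : N ≤ m
  · exact ⟨isPseudoCoherentD_mono hK hN, isPseudoCoherentD_mono hL hN⟩
  have key : ∀ k : ℕ, m ≤ N - k →
      DCoh.IsPseudoCoherentD (N - k) T₁.obj₁ ∧ DCoh.IsPseudoCoherentD (N - k) T₁.obj₃ := by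
    intro k
    induction k with
    | zero =>
      intro _
      simpa using ⟨hK, hL⟩
    | succ k ih =>
      intro hk
      obtain ⟨a, b⟩ := ih (by push_cast at hk ⊢; omega)
      have hn : (N - (k : ℤ)) = (N - ((k + 1 : ℕ) : ℤ)) + 1 := by push_cast; ring
      rw [hn] at a b
      have hP' : DCoh.IsPseudoCoherentD (N - ((k + 1 : ℕ) : ℤ)) T₁.obj₂ :=
        isPseudoCoherentD_mono hP hk
      have hL' := isPseudoCoherentD_obj₃ _ T₁ hT₁ a hP'
      have hK' := isPseudoCoherentD_obj₃ _ T₂ hT₂ (isPseudoCoherentD_of_iso e₁.symm b)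
        (isPseudoCoherentD_of_iso e₂.symm hP')
      exact ⟨isPseudoCoherentD_of_iso e₃ hK', hL'⟩
  have := key (N - m).toNat (by omega)
  have h : N - ((N - m).toNat : ℤ) = m := by omega
  rwa [h] at this

/-- a globally approximated object is pseudo-coherent -/
lemma isPseudoCoherentD_of_glob {m : ℤ} {K : DCoh.D X} (E : CochainComplex X.Modules ℤ)
    (α : DerivedCategory.Q.obj E ⟶ K) (hE : DCoh.IsStrictlyPerfect E) (hα : IsApprox m α) :
    DCoh.IsPseudoCoherentD m K := by
  rw [isPseudoCoherentD_iff]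
  intro y
  refine ⟨X, 𝟙 X, inferInstance, ⟨y, rfl⟩, (resCx (𝟙 X)).obj E,
    (resDQ (𝟙 X)).inv.app E ≫ (resD (𝟙 X)).map α, isStrictlyPerfect_resCx _ hE, ?_⟩
  exact (hα.resD (𝟙 X)).iso_comp ((resDQ (𝟙 X)).app E).symm

lemma isStrictlyPerfect_zero : DCoh.IsStrictlyPerfect (0 : CochainComplex X.Modules ℤ) := by
  have zero : ∀ i, IsZero ((0 : CochainComplex X.Modules ℤ).X i) := fun i =>
    (HomologicalComplex.eval _ _ i).map_isZero (isZero_zero _)
  exact ⟨⟨0, 0, fun i _ => zero i⟩, fun i => isFinLocFree_of_isZero (zero i)⟩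

lemma isPseudoCoherentD_of_isZero_homology {N : ℤ} {A : DCoh.D X}
    (h : ∀ i, N ≤ i → IsZero ((DerivedCategory.homologyFunctor X.Modules i).obj A)) :
    DCoh.IsPseudoCoherentD N A :=
  isPseudoCoherentD_of_glob 0 0 isStrictlyPerfect_zero
    (isApprox_of_isZero 0 (DerivedCategory.Q.map_isZero (isZero_zero _)) h)

lemma pseudoCoherent_of_biprod_aux (m : ℤ) (K L : DCoh.D X) [HasBinaryBiproduct K L]
    {U₀ : Scheme.{u}} (j₀ : U₀ ⟶ X) [IsOpenImmersion j₀] (h : PCAlong m (K ⊞ L) j₀) :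
    DCoh.IsPseudoCoherentD m ((resD j₀).obj K) ∧ DCoh.IsPseudoCoherentD m ((resD j₀).obj L) := by
  obtain ⟨E₀, α₀, hE₀, hα₀⟩ := h
  obtain ⟨⟨a, b, hab⟩, hfree⟩ := hE₀
  have hT₁ : (resD j₀).mapTriangle.obj (binaryBiproductTriangle K L) ∈ distTriang _ :=
    (resD j₀).map_distinguished _ (binaryBiproductTriangle_distinguished K L)
  have hT₂' : Triangle.mk (biprod.inr : L ⟶ K ⊞ L) biprod.fst 0 ∈ distTriang (DCoh.D X) :=
    isomorphic_distinguished _ (binaryBiproductTriangle_distinguished L K) _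
      (Triangle.isoMk _ _ (Iso.refl _) (biprod.braiding K L) (Iso.refl _)
        (by
          change biprod.inr ≫ biprod.lift biprod.snd biprod.fst = 𝟙 L ≫ biprod.inl
          apply biprod.hom_ext <;> simp)
        (by
          change biprod.fst ≫ 𝟙 K = biprod.lift biprod.snd biprod.fst ≫ biprod.snd
          simp)
        (by
          change (0 : K ⟶ L⟦(1 : ℤ)⟧) ≫ (shiftFunctor _ (1 : ℤ)).map (𝟙 L) = 𝟙 K ≫ 0
          simp))
  have hT₂ : (resD j₀).mapTriangle.obj (Triangle.mk (biprod.inr : L ⟶ K ⊞ L) biprod.fst 0) ∈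
      distTriang _ := (resD j₀).map_distinguished _ hT₂'
  have hP : DCoh.IsPseudoCoherentD m ((resD j₀).obj (K ⊞ L)) :=
    isPseudoCoherentD_of_glob E₀ α₀ ⟨⟨a, b, hab⟩, hfree⟩ hα₀
  have hz : ∀ i, max m b + 1 ≤ i →
      IsZero ((DerivedCategory.homologyFunctor U₀.Modules i).obj ((resD j₀).obj (K ⊞ L))) :=
    fun i hi => isZero_homology_of_isApprox α₀ hα₀ (fun i hi => hab i (Or.inr hi)) i
      (by omega) (by omega)
  have hK : DCoh.IsPseudoCoherentD (max m b + 1) ((resD j₀).obj K) :=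
    isPseudoCoherentD_of_isZero_homology fun i hi =>
      isZero_of_retract ((DerivedCategory.homologyFunctor U₀.Modules i).map
          ((resD j₀).map biprod.inl))
        ((DerivedCategory.homologyFunctor U₀.Modules i).map ((resD j₀).map biprod.fst))
        (by rw [← Functor.map_comp, ← Functor.map_comp, biprod.inl_fst,
          CategoryTheory.Functor.map_id, CategoryTheory.Functor.map_id]) (hz i hi)
  have hL : DCoh.IsPseudoCoherentD (max m b + 1) ((resD j₀).obj L) :=
    isPseudoCoherentD_of_isZero_homology fun i hi =>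
      isZero_of_retract ((DerivedCategory.homologyFunctor U₀.Modules i).map
          ((resD j₀).map biprod.inr))
        ((DerivedCategory.homologyFunctor U₀.Modules i).map ((resD j₀).map biprod.snd))
        (by rw [← Functor.map_comp, ← Functor.map_comp, biprod.inr_snd,
          CategoryTheory.Functor.map_id, CategoryTheory.Functor.map_id]) (hz i hi)
  exact isPseudoCoherentD_of_split m _ _ hT₁ hT₂ (Iso.refl _) (Iso.refl _) (Iso.refl _) hP _ hK hL

/-- **Direct summands of `m`-pseudo-coherent objects are `m`-pseudo-coherent.** -/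
theorem isPseudoCoherentD_of_biprod (m : ℤ) (K L : DCoh.D X) [HasBinaryBiproduct K L]
    (h : DCoh.IsPseudoCoherentD m (K ⊞ L)) :
    DCoh.IsPseudoCoherentD m K ∧ DCoh.IsPseudoCoherentD m L := by
  rw [isPseudoCoherentD_iff] at h
  constructor
  · rw [isPseudoCoherentD_iff]
    intro x
    obtain ⟨U₀, j₀, hj₀, ⟨y₀, rfl⟩, hP⟩ := h x
    have hK := (pseudoCoherent_of_biprod_aux m K L j₀ hP).1
    rw [isPseudoCoherentD_iff] at hK
    obtain ⟨U', j', hj', hy, hK'⟩ := hK y₀
    exact ⟨U', j' ≫ j₀, inferInstance, mem_range_comp j₀ j' hy, hK'.of_resD⟩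
  · rw [isPseudoCoherentD_iff]
    intro x
    obtain ⟨U₀, j₀, hj₀, ⟨y₀, rfl⟩, hP⟩ := h x
    have hL := (pseudoCoherent_of_biprod_aux m K L j₀ hP).2
    rw [isPseudoCoherentD_iff] at hL
    obtain ⟨U', j', hj', hy, hL'⟩ := hL y₀
    exact ⟨U', j' ≫ j₀, inferInstance, mem_range_comp j₀ j' hy, hL'.of_resD⟩

end

end Groth.Agent.Lib.Helper28.DCohRes
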