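import Mathlib
import Groth.Agent.Lib.Helper28.DCohRes12
import Groth.Agent.Lib.Helper5.LocLift

/-!
# Kernels of epimorphisms of finite locally free modules; cycles of exact bounded-above complexes
-/

set_option autoImplicit false

universe u

open CategoryTheory Limits AlgebraicGeometry

namespace Groth.Agent.Lib.Helper28.DCohRes

noncomputable section

open Groth.Agent.Lib.Helper29.QCoh

variable {X : Scheme.{u}}

/-- finite local freeness is local -/
lemma isFinLocFree_of_locally {M : X.Modules}
    (h : ∀ x : X, ∃ (U : Scheme.{u}) (j : U ⟶ X) (_ : IsOpenImmersion j),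
      x ∈ Set.range j.base ∧ FlatMod.IsFinLocFree (M.restrict j)) : FlatMod.IsFinLocFree M := by
  refine isFinLocFree_of_isFreeAlong M fun x => ?_
  obtain ⟨U, j, hj, ⟨y, rfl⟩, hM⟩ := h x
  obtain ⟨W, n, hyW, ⟨e⟩⟩ := hM y
  refine ⟨W, W.ι ≫ j, inferInstance, n, ?_, ?_⟩
  · exact mem_range_comp j W.ι (by rw [Scheme.Opens.range_ι]; exact hyW)
  · rw [isFreeAlong_iff_restrict]
    exact ⟨(Scheme.Modules.restrictFunctorComp W.ι j).app M ≪≫ e⟩

/-- **The kernel of an epimorphism between finite locally free modules is finite locally free.** -/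
theorem isFinLocFree_kernel_of_epi {P Q : X.Modules} (f : P ⟶ Q) [Epi f]
    (hP : FlatMod.IsFinLocFree P) (hQ : FlatMod.IsFinLocFree Q) :
    FlatMod.IsFinLocFree (kernel f) := by
  refine isFinLocFree_of_locally fun x => ?_
  obtain ⟨V, ψ, hxV, hψ⟩ := Groth.Agent.Lib.Helper5.LocLift.exists_local_lift f (𝟙 Q) hQ x
  refine ⟨V, V.ι, inferInstance, by rw [Scheme.Opens.range_ι]; exact hxV, ?_⟩
  have e : (Scheme.Modules.restrictFunctor V.ι).obj (kernel f) ≅
      kernel ((Scheme.Modules.restrictFunctor V.ι).map f) :=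
    PreservesKernel.iso (Scheme.Modules.restrictFunctor V.ι) f
  refine isFinLocFree_of_iso e.symm ?_
  have hψ' : ψ ≫ (Scheme.Modules.restrictFunctor V.ι).map f = 𝟙 _ := by
    rw [hψ, CategoryTheory.Functor.map_id]
  refine isFinLocFree_of_retract (kernel.ι ((Scheme.Modules.restrictFunctor V.ι).map f))
    (kernel.lift ((Scheme.Modules.restrictFunctor V.ι).map f)
      (𝟙 _ - (Scheme.Modules.restrictFunctor V.ι).map f ≫ ψ) ?_) ?_ (isFinLocFree_restrict V.ι hP)
  · rw [Preadditive.sub_comp, Category.id_comp, Category.assoc, hψ', Category.comp_id, sub_self]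
  · apply (cancel_mono (kernel.ι ((Scheme.Modules.restrictFunctor V.ι).map f))).1
    rw [Category.assoc, kernel.lift_ι, Preadditive.comp_sub, Category.comp_id,
      kernel.condition_assoc, zero_comp, sub_zero, Category.id_comp]

/-- in a bounded above complex of finite locally free modules which is exact in degrees `> m`,
the cycles in degrees `≥ m` are finite locally free -/
theorem isFinLocFree_kernel_d {E : CochainComplex X.Modules ℤ} (m b : ℤ)
    (hE : ∀ i, FlatMod.IsFinLocFree (E.X i)) (hEb : ∀ i, b < i → IsZero (E.X i))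
    (hex : ∀ i, m < i → E.ExactAt i) (i : ℤ) (hi : m ≤ i) :
    FlatMod.IsFinLocFree (kernel (E.d i (i + 1))) := by
  have key : ∀ (k : ℕ) (i : ℤ), m ≤ i → b + 1 ≤ i + k →
      FlatMod.IsFinLocFree (kernel (E.d i (i + 1))) := by
    intro k
    induction k with
    | zero =>
      intro i _ hib
      exact isFinLocFree_of_isZero (IsZero.of_mono (kernel.ι _) (hEb i (by push_cast at hib; omega)))
    | succ k ih =>
      intro i him hib
      have hZ := ih (i + 1) (by omega) (by push_cast at hib ⊢; omega)
      have hexact : (E.sc' i (i + 1) (i + 1 + 1)).Exact :=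
        (E.exactAt_iff' i (i + 1) (i + 1 + 1) (by simp) (by simp)).1 (hex (i + 1) (by omega))
      have hepi : Epi (kernel.lift (E.d (i + 1) (i + 1 + 1)) (E.d i (i + 1)) (E.d_comp_d _ _ _)) :=
        hexact.epi_kernelLift
      have hk := isFinLocFree_kernel_of_epi
        (kernel.lift (E.d (i + 1) (i + 1 + 1)) (E.d i (i + 1)) (E.d_comp_d _ _ _)) (hE i) hZ
      have e : kernel (kernel.lift (E.d (i + 1) (i + 1 + 1)) (E.d i (i + 1)) (E.d_comp_d _ _ _)) ≅
          kernel (E.d i (i + 1)) :=
        (kernelCompMono _ (kernel.ι (E.d (i + 1) (i + 1 + 1)))).symm ≪≫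
          kernelIsoOfEq (kernel.lift_ι _ _ _)
      exact isFinLocFree_of_iso e hk
  exact key (b + 1 - i).toNat i hi (by omega)

end

end Groth.Agent.Lib.Helper28.DCohRes
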