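import Mathlib
import Groth.Agent.Lib.Helper28.DCohRes13

/-!
# Top cohomology of approximated objects: quotients of finite locally frees
-/

set_option autoImplicit false

universe u

open CategoryTheory Limits AlgebraicGeometry

namespace Groth.Agent.Lib.Helper28.DCohRes

noncomputable section

attribute [local instance] HasDerivedCategory.standard

open Groth.Agent.Lib.Helper29.QCoh

variable {X : Scheme.{u}}

/-- cycles as the kernel of the differential -/
def cyclesIsoKernel (E : CochainComplex X.Modules ℤ) (i : ℤ) :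
    E.cycles i ≅ kernel (E.d i (i + 1)) := by
  let e := IsLimit.conePointUniqueUpToIso (E.cyclesIsKernel i (i + 1) (by simp))
    (kernelIsKernel (E.d i (i + 1)))
  exact e

lemma isFinLocFree_cycles {E : CochainComplex X.Modules ℤ} (m b : ℤ)
    (hE : ∀ i, FlatMod.IsFinLocFree (E.X i)) (hEb : ∀ i, b < i → IsZero (E.X i))
    (hex : ∀ i, m < i → E.ExactAt i) (i : ℤ) (hi : m ≤ i) :
    FlatMod.IsFinLocFree (E.cycles i) :=
  isFinLocFree_of_iso (cyclesIsoKernel E i).symm (isFinLocFree_kernel_d m b hE hEb hex i hi)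

/-- exactness of `E` above `m` from an `m`-approximation of an object with no cohomology above
`m` -/
lemma exactAt_of_isApprox {m : ℤ} {E : CochainComplex X.Modules ℤ} {K : DCoh.D X}
    (α : DerivedCategory.Q.obj E ⟶ K) (hα : IsApprox m α) (n : ℤ) (hmn : m ≤ n)
    (hK : ∀ i, n < i → IsZero (DCoh.HD K i)) (i : ℤ) (hi : n < i) : E.ExactAt i := by
  rw [HomologicalComplex.exactAt_iff_isZero_homology]
  have := hα.1 i (by omega)
  have h1 : IsZero ((DerivedCategory.homologyFunctor X.Modules i).obj (DerivedCategory.Q.obj E)) :=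
    (hK i hi).of_iso (asIso ((DerivedCategory.homologyFunctor X.Modules i).map α))
  exact h1.of_iso ((DerivedCategory.homologyFunctorFactors X.Modules i).app E).symm

/-- **Key lemma A.** -/
theorem exists_epi_of_isApprox {m : ℤ} {E : CochainComplex X.Modules ℤ} {K : DCoh.D X}
    (hE : DCoh.IsStrictlyPerfect E)
    (α : DerivedCategory.Q.obj E ⟶ K) (hα : IsApprox m α)
    (hK : ∀ i, m < i → IsZero (DCoh.HD K i)) :
    ∃ (P : X.Modules) (π : P ⟶ DCoh.HD K m), FlatMod.IsFinLocFree P ∧ Epi π := by
  obtain ⟨⟨a, b, hab⟩, hfree⟩ := hE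
  have hex := exactAt_of_isApprox α hα m le_rfl hK
  refine ⟨E.cycles m, E.homologyπ m ≫ (DerivedCategory.homologyFunctorFactors X.Modules m).inv.app E ≫
    (DerivedCategory.homologyFunctor X.Modules m).map α,
    isFinLocFree_cycles m b hfree (fun i hi => hab i (Or.inr hi)) hex m le_rfl, ?_⟩
  have h2 := hα.2
  have h1 : Epi ((DerivedCategory.homologyFunctorFactors X.Modules m).inv.app E ≫
      (DerivedCategory.homologyFunctor X.Modules m).map α) := epi_comp' inferInstance h2
  exact epi_comp' inferInstance h1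

/-- **Key lemma B.** -/
theorem exists_cokernel_of_isApprox {m : ℤ} {E : CochainComplex X.Modules ℤ} {K : DCoh.D X}
    (hE : DCoh.IsStrictlyPerfect E)
    (α : DerivedCategory.Q.obj E ⟶ K) (hα : IsApprox m α)
    (hK : ∀ i, m + 1 < i → IsZero (DCoh.HD K i)) :
    ∃ (P₁ P₀ : X.Modules) (f : P₁ ⟶ P₀), FlatMod.IsFinLocFree P₁ ∧ FlatMod.IsFinLocFree P₀ ∧
      Nonempty (cokernel f ≅ DCoh.HD K (m + 1)) := by
  obtain ⟨⟨a, b, hab⟩, hfree⟩ := hE
  have hex := exactAt_of_isApprox α hα (m + 1) (by omega) hK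
  refine ⟨E.X m, E.cycles (m + 1), E.toCycles m (m + 1), hfree m,
    isFinLocFree_cycles (m + 1) b hfree (fun i hi => hab i (Or.inr hi)) hex (m + 1) le_rfl, ⟨?_⟩⟩
  have := hα.1 (m + 1) (by omega)
  let e : cokernel (E.toCycles m (m + 1)) ≅ E.homology (m + 1) :=
    IsColimit.coconePointUniqueUpToIso (cokernelIsCokernel (E.toCycles m (m + 1)))
      (E.homologyIsCokernel m (m + 1) (by simp))
  exact e ≪≫ ((DerivedCategory.homologyFunctorFactors X.Modules (m + 1)).app E).symm ≪≫
    asIso ((DerivedCategory.homologyFunctor X.Modules (m + 1)).map α)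

end

end Groth.Agent.Lib.Helper28.DCohRes
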