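import Mathlib
import Groth.Agent.Lib.Helper28.DCohRes14
import Groth.Agent.Lib.Helper29.QCohGen
import Groth.Agent.Lib.Helper29.QCohFP2

/-!
# Finite type / finite presentation from local quotients of finite locally free modules
-/

set_option autoImplicit false

universe u

open CategoryTheory Limits AlgebraicGeometry TopologicalSpace

namespace Groth.Agent.Lib.Helper28.DCohRes

noncomputable section

open Groth.Agent.Lib.Helper29.QCoh

variable {X : Scheme.{u}}

/-- generating sections from an epimorphism out of a free module -/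
def generatingSectionsOfEpiFree {N : X.Modules} {I : Type u} (p : freeM X I ⟶ N) [Epi p] :
    N.GeneratingSections where
  I := I
  s := N.freeHomEquiv p
  epi := by
    rw [Equiv.symm_apply_apply]
    exact ‹Epi p›

set_option backward.isDefEq.respectTransparency false in
/-- transport generating sections along the identification of an open immersion with the
inclusion of its range -/
def generatingSectionsOpensRange {Y : Scheme.{u}} (f : Y ⟶ X) [IsOpenImmersion f]
    (M : X.Modules) (σ : (M.restrict f).GeneratingSections) :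
    (M.restrict f.opensRange.ι).GeneratingSections := by
  let iso : Scheme.Modules.restrictFunctor f ⋙ Scheme.Modules.restrictFunctor f.isoOpensRange.inv ≅
      Scheme.Modules.restrictFunctor f.opensRange.ι :=
    (Scheme.Modules.restrictFunctorComp _ _).symm ≪≫
      Scheme.Modules.restrictFunctorCongr f.isoOpensRange_inv_comp
  have : PreservesColimitsOfSize.{u, u}
      (Scheme.Modules.restrictFunctor f.isoOpensRange.inv) := inferInstance
  exact (σ.map (Scheme.Modules.restrictFunctor f.isoOpensRange.inv)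
    (Scheme.Modules.restrictUnitIso _).symm).ofEpi (iso.app M).hom

lemma generatingSectionsOpensRange_I {Y : Scheme.{u}} (f : Y ⟶ X) [IsOpenImmersion f]
    (M : X.Modules) (σ : (M.restrict f).GeneratingSections) :
    (generatingSectionsOpensRange f M σ).I = σ.I := rfl

/-- **Finite type from local quotients of finite locally free modules.** -/
theorem isFiniteType_of_locally_epi (M : X.Modules)
    (h : ∀ x : X, ∃ (U : Scheme.{u}) (j : U ⟶ X) (_ : IsOpenImmersion j), x ∈ Set.range j.base ∧
      ∃ (P : U.Modules) (π : P ⟶ M.restrict j), FlatMod.IsFinLocFree P ∧ Epi π) :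
    M.IsFiniteType := by
  have h' : ∀ x : X, ∃ (W : Scheme.{u}) (k : W ⟶ X) (_ : IsOpenImmersion k) (n : ℕ)
      (p : freeM W (ULift.{u} (Fin n)) ⟶ M.restrict k), x ∈ Set.range k.base ∧ Epi p := by
    intro x
    obtain ⟨U, j, hj, ⟨y, rfl⟩, P, π, hP, hπ⟩ := h x
    obtain ⟨W, n, hyW, ⟨e⟩⟩ := hP y
    refine ⟨W, W.ι ≫ j, inferInstance, n,
      (freeModIso W n).inv ≫ e.inv ≫ (Scheme.Modules.restrictFunctor W.ι).map π ≫
        ((Scheme.Modules.restrictFunctorComp W.ι j).app M).inv,
      mem_range_comp j W.ι (by rw [Scheme.Opens.range_ι]; exact hyW), ?_⟩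
    have : Epi ((Scheme.Modules.restrictFunctor W.ι).map π) := inferInstance
    infer_instance
  choose W k hk n p hx hp using h'
  have hfin : ∀ x, Finite (generatingSectionsOpensRange (k x) M
      (generatingSectionsOfEpiFree (p x))).I := fun x =>
    inferInstanceAs (Finite (ULift.{u} (Fin (n x))))
  refine isFiniteType_of_isOpenCover M (fun x : X => (k x).opensRange) ?_
    (fun x => generatingSectionsOpensRange (k x) M (generatingSectionsOfEpiFree (p x)))
  rw [IsOpenCover, eq_top_iff]
  intro x _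
  exact TopologicalSpace.Opens.mem_iSup.mpr ⟨x, hx x⟩

/-- two finite locally free modules are simultaneously free near any point -/
lemma exists_common_free {P₁ P₀ : X.Modules} (h₁ : FlatMod.IsFinLocFree P₁)
    (h₀ : FlatMod.IsFinLocFree P₀) (y : X) :
    ∃ (W : X.Opens) (n₁ n₀ : ℕ), y ∈ W ∧ Nonempty (P₁.restrict W.ι ≅ FlatMod.freeMod W n₁) ∧
      Nonempty (P₀.restrict W.ι ≅ FlatMod.freeMod W n₀) := by
  rw [isFinLocFree_iff_isFreeAlong] at h₁ h₀
  obtain ⟨W₁, n₁, hy₁, f₁⟩ := h₁ y
  obtain ⟨W₀, n₀, hy₀, f₀⟩ := h₀ y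
  refine ⟨W₁ ⊓ W₀, n₁, n₀, ⟨hy₁, hy₀⟩, ?_, ?_⟩
  · rw [← isFreeAlong_iff_restrict]
    refine f₁.of_range_subset _ ?_
    rw [Scheme.Opens.range_ι, Scheme.Opens.range_ι]
    exact inf_le_left (a := (W₁ : Set X))
  · rw [← isFreeAlong_iff_restrict]
    refine f₀.of_range_subset _ ?_
    rw [Scheme.Opens.range_ι, Scheme.Opens.range_ι]
    exact inf_le_right (a := (W₁ : Set X))

/-- **Finite presentation from local cokernels of maps of finite locally free modules.** -/
theorem isFinitePresentation_of_locally_cokernel (M : X.Modules)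
    (h : ∀ x : X, ∃ (U : Scheme.{u}) (j : U ⟶ X) (_ : IsOpenImmersion j), x ∈ Set.range j.base ∧
      ∃ (P₁ P₀ : U.Modules) (f : P₁ ⟶ P₀), FlatMod.IsFinLocFree P₁ ∧ FlatMod.IsFinLocFree P₀ ∧
        Nonempty (cokernel f ≅ M.restrict j)) :
    M.IsFinitePresentation := by
  have h' : ∀ x : X, ∃ (W : Scheme.{u}) (k : W ⟶ X) (_ : IsOpenImmersion k)
      (P : (M.restrict k).Presentation), x ∈ Set.range k.base ∧ P.IsFinite := by
    intro x
    obtain ⟨U, j, hj, ⟨y, rfl⟩, P₁, P₀, f, hP₁, hP₀, ⟨e⟩⟩ := h x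
    obtain ⟨W, n₁, n₀, hyW, ⟨e₁⟩, ⟨e₀⟩⟩ := exists_common_free hP₁ hP₀ y
    let e₁' : (Scheme.Modules.restrictFunctor W.ι).obj P₁ ≅ freeM W (ULift.{u} (Fin n₁)) :=
      e₁ ≪≫ freeModIso W n₁
    let e₀' : (Scheme.Modules.restrictFunctor W.ι).obj P₀ ≅ freeM W (ULift.{u} (Fin n₀)) :=
      e₀ ≪≫ freeModIso W n₀
    let φ : freeM W (ULift.{u} (Fin n₁)) ⟶ freeM W (ULift.{u} (Fin n₀)) :=
      e₁'.inv ≫ (Scheme.Modules.restrictFunctor W.ι).map f ≫ e₀'.hom
    let iso : cokernel φ ≅ M.restrict (W.ι ≫ j) :=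
      cokernel.mapIso φ ((Scheme.Modules.restrictFunctor W.ι).map f) e₁'.symm e₀'.symm
          (by simp [φ]) ≪≫
        (PreservesCokernel.iso (Scheme.Modules.restrictFunctor W.ι) f).symm ≪≫
        (Scheme.Modules.restrictFunctor W.ι).mapIso e ≪≫
        ((Scheme.Modules.restrictFunctorComp W.ι j).app M).symm
    let P := SheafOfModules.presentationOfIsCokernelFree φ (cokernel.π φ) (cokernel.condition φ)
      (cokernelIsCokernel φ)
    have hP : P.IsFinite :=
      ⟨⟨inferInstanceAs (Finite (ULift.{u} (Fin n₀)))⟩,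
        ⟨inferInstanceAs (Finite (ULift.{u} (Fin n₁)))⟩⟩
    exact ⟨W, W.ι ≫ j, inferInstance, SheafOfModules.Presentation.ofIsIso.{u, u, u} iso.hom P,
      mem_range_comp j W.ι (by rw [Scheme.Opens.range_ι]; exact hyW), inferInstance⟩
  choose W k hk P hx hP using h'
  exact isFinitePresentation_of_presentation M W k (fun x => ⟨x, hx x⟩) P

lemma isFinLocFree_freeM (I : Type u) [Finite I] : FlatMod.IsFinLocFree (freeM X I) := by
  obtain ⟨n, ⟨e⟩⟩ := Finite.exists_equiv_fin I
  let e' : ULift.{u} (Fin n) ≃ I := Equiv.ulift.trans e.symm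
  exact isFinLocFree_of_iso (freeModIso X n ≪≫
    (SheafOfModules.freeFunctor (R := X.ringCatSheaf)).mapIso (Equiv.toIso e'))
    (isFinLocFree_freeMod X n)

theorem exists_epi_of_isFiniteType (M : X.Modules) [M.IsFiniteType] (x : X) :
    ∃ V : X.Opens, x ∈ V ∧ ∃ (P : (V : Scheme.{u}).Modules) (π : P ⟶ M.restrict V.ι),
      FlatMod.IsFinLocFree P ∧ Epi π := by
  obtain ⟨ι, U, σ, hU, -, hfin⟩ := exists_isOpenCover_generatingSections M
  obtain ⟨i, hi⟩ := hU.exists_mem x
  have := hfin i
  exact ⟨U i, hi, freeM (U i) (σ i).I, (σ i).π, isFinLocFree_freeM _, (σ i).epi⟩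

theorem exists_cokernel_of_isFinitePresentation (M : X.Modules) [M.IsFinitePresentation] (x : X) :
    ∃ V : X.Opens, x ∈ V ∧ ∃ (P₁ P₀ : (V : Scheme.{u}).Modules) (f : P₁ ⟶ P₀),
      FlatMod.IsFinLocFree P₁ ∧ FlatMod.IsFinLocFree P₀ ∧
        Nonempty (cokernel f ≅ M.restrict V.ι) := by
  obtain ⟨ι, U, P, hfin, hU, -⟩ := exists_isOpenCover_presentation_isFinite M
  obtain ⟨i, hi⟩ := hU.exists_mem x
  have := hfin i
  have h1 : Finite (P i).generators.I := SheafOfModules.GeneratingSections.IsFiniteType.finite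
  have h2 : Finite (P i).relations.I := SheafOfModules.GeneratingSections.IsFiniteType.finite
  refine ⟨U i, hi, freeM (U i) (P i).relations.I, freeM (U i) (P i).generators.I, _,
    isFinLocFree_freeM _, isFinLocFree_freeM _,
    ⟨IsColimit.coconePointUniqueUpToIso (cokernelIsCokernel _) (P i).isColimit⟩⟩

end

end Groth.Agent.Lib.Helper28.DCohRes
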