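import Mathlib
import Groth.Agent.Lib.Helper28.DCohRes15

/-!
# Pseudo-coherence of a single module versus finite type / finite presentation
-/

set_option autoImplicit false

universe u

open CategoryTheory Limits AlgebraicGeometry TopologicalSpace Pretriangulated

namespace Groth.Agent.Lib.Helper28.DCohRes

noncomputable section

attribute [local instance] HasDerivedCategory.standard

open Groth.Agent.Lib.Helper29.QCoh

variable {X : Scheme.{u}}

lemma isZero_HD_inD (F : X.Modules) (i : ℤ) (hi : i ≠ 0) :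
    IsZero (DCoh.HD (DCoh.inD X F) i) := by
  by_cases h : i < 0
  · exact DerivedCategory.isZero_of_isGE _ 0 i h
  · exact DerivedCategory.isZero_of_isLE _ 0 i (by omega)

/-- `H^0(F[0]) ≅ F` -/
def HDinDIso (F : X.Modules) : DCoh.HD (DCoh.inD X F) 0 ≅ F :=
  (DerivedCategory.singleFunctorCompHomologyFunctorIso X.Modules 0).app F

/-- restriction of a module placed in degree `0` -/
def resDinDIso {U : Scheme.{u}} (j : U ⟶ X) [IsOpenImmersion j] (F : X.Modules) :
    (resD j).obj (DCoh.inD X F) ≅ DCoh.inD U (F.restrict j) :=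
  (resDQ j).app ((HomologicalComplex.single X.Modules (ComplexShape.up ℤ) 0).obj F) ≪≫
    DerivedCategory.Q.mapIso ((HomologicalComplex.singleMapHomologicalComplex
      (Scheme.Modules.restrictFunctor j) (ComplexShape.up ℤ) 0).app F)

/-- pseudo-coherence is local -/
lemma isPseudoCoherentD_of_locally {m : ℤ} {K : DCoh.D X}
    (h : ∀ x : X, ∃ (U : Scheme.{u}) (j : U ⟶ X) (_ : IsOpenImmersion j), x ∈ Set.range j.base ∧
      DCoh.IsPseudoCoherentD m ((resD j).obj K)) : DCoh.IsPseudoCoherentD m K := by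
  rw [isPseudoCoherentD_iff]
  intro x
  obtain ⟨U, j, hj, ⟨y, rfl⟩, hK⟩ := h x
  rw [isPseudoCoherentD_iff] at hK
  obtain ⟨U', j', hj', hy, hK'⟩ := hK y
  exact ⟨U', j' ≫ j, inferInstance, mem_range_comp j j' hy, hK'.of_resD⟩

lemma isStrictlyPerfect_single {P : X.Modules} (hP : FlatMod.IsFinLocFree P) :
    DCoh.IsStrictlyPerfect ((HomologicalComplex.single X.Modules (ComplexShape.up ℤ) 0).obj P) := by
  refine ⟨⟨0, 0, fun i hi => HomologicalComplex.isZero_single_obj_X _ _ _ _ (by omega)⟩,
    fun i => ?_⟩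
  by_cases h : i = 0
  · subst h
    exact isFinLocFree_of_iso (HomologicalComplex.singleObjXSelf (ComplexShape.up ℤ) 0 P).symm hP
  · exact isFinLocFree_of_isZero (HomologicalComplex.isZero_single_obj_X _ _ _ _ h)

lemma isApprox_single_map_of_epi {N P : X.Modules} (π : P ⟶ N) [Epi π] :
    IsApprox 0 ((DerivedCategory.singleFunctor X.Modules 0).map π) := by
  refine ⟨?_, ?_⟩
  · intro i hi
    have h1 := isZero_HD_inD P i (by omega)
    have h2 := isZero_HD_inD N i (by omega)
    have : (DerivedCategory.homologyFunctor X.Modules i).map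
        ((DerivedCategory.singleFunctor X.Modules 0).map π) = (h1.iso h2).hom := h1.eq_of_src _ _
    rw [this]
    infer_instance
  · exact (epi_map_iff_of_natIso
      (DerivedCategory.singleFunctorCompHomologyFunctorIso X.Modules 0) π).2 ‹Epi π›

lemma isApprox_id (m : ℤ) (A : DCoh.D X) : IsApprox m (𝟙 A) := by
  refine ⟨fun i _ => ?_, ?_⟩
  · rw [CategoryTheory.Functor.map_id]; infer_instance
  · rw [CategoryTheory.Functor.map_id]; infer_instance

/-- a quotient of a finite locally free module is `0`-pseudo-coherent -/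
lemma isPseudoCoherentD_inD_of_epi {N P : X.Modules} (π : P ⟶ N) [Epi π]
    (hP : FlatMod.IsFinLocFree P) : DCoh.IsPseudoCoherentD 0 (DCoh.inD X N) :=
  isPseudoCoherentD_of_glob (K := DCoh.inD X N)
    ((HomologicalComplex.single X.Modules (ComplexShape.up ℤ) 0).obj P)
    ((DerivedCategory.singleFunctor X.Modules 0).map π) (isStrictlyPerfect_single hP)
    (isApprox_single_map_of_epi π)

/-- a finite locally free module in degree `0` is `m`-pseudo-coherent for all `m` -/
lemma isPseudoCoherentD_inD_of_isFinLocFree {P : X.Modules} (hP : FlatMod.IsFinLocFree P)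
    (m : ℤ) : DCoh.IsPseudoCoherentD m (DCoh.inD X P) :=
  isPseudoCoherentD_of_glob (K := DCoh.inD X P)
    ((HomologicalComplex.single X.Modules (ComplexShape.up ℤ) 0).obj P)
    (𝟙 (DCoh.inD X P)) (isStrictlyPerfect_single hP) (isApprox_id m _)

/-- a cokernel of a map of finite locally free modules is `(-1)`-pseudo-coherent -/
lemma isPseudoCoherentD_inD_of_cokernel {N P₁ P₀ : X.Modules} (f : P₁ ⟶ P₀)
    (e : cokernel f ≅ N) (hP₁ : FlatMod.IsFinLocFree P₁) (hP₀ : FlatMod.IsFinLocFree P₀) :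
    DCoh.IsPseudoCoherentD (-1) (DCoh.inD X N) := by
  let π : P₀ ⟶ N := cokernel.π f ≫ e.hom
  have w : f ≫ π = 0 := by simp [π]
  have hcok : IsColimit (CokernelCofork.ofπ π w) :=
    IsColimit.ofIsoColimit (cokernelIsCokernel f) (Cofork.ext e (by simp [π]))
  have hex : (ShortComplex.mk f π w).Exact := ShortComplex.exact_of_g_is_cokernel _ hcok
  have hepi : Epi (kernel.lift π f w) := hex.epi_kernelLift
  have hπ : Epi π := epi_of_isColimit_cofork hcok
  have hS : (ShortComplex.mk (kernel.ι π) π (kernel.condition π)).ShortExact :=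
    { exact := ShortComplex.exact_of_f_is_kernel _ (kernelIsKernel π) }
  have hK := isPseudoCoherentD_inD_of_epi (kernel.lift π f w) hP₁
  have hP := isPseudoCoherentD_inD_of_isFinLocFree hP₀ (-1)
  exact isPseudoCoherentD_obj₃ (-1) _ hS.singleTriangle_distinguished hK hP

/-- cohomology sheaves commute with restriction to opens -/
def HDresDIso {U : Scheme.{u}} (j : U ⟶ X) [IsOpenImmersion j] (K : DCoh.D X) (i : ℤ) :
    DCoh.HD ((resD j).obj K) i ≅ (DCoh.HD K i).restrict j :=
  (mapDHomologyIso (Scheme.Modules.restrictFunctor j) i).app K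

/-- **C1**: top cohomology of an `m`-pseudo-coherent object is of finite type -/
theorem isFiniteType_of_isPseudoCoherentD {m : ℤ} {K : DCoh.D X}
    (hK : DCoh.IsPseudoCoherentD m K) (hz : ∀ i, m < i → IsZero (DCoh.HD K i))
    {N : X.Modules} (e : DCoh.HD K m ≅ N) : N.IsFiniteType := by
  rw [isPseudoCoherentD_iff] at hK
  refine isFiniteType_of_locally_epi N fun x => ?_
  obtain ⟨U, j, hj, hx, E, α, hE, hα⟩ := hK x
  have hz' : ∀ i, m < i → IsZero (DCoh.HD ((resD j).obj K) i) := fun i hi =>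
    isZero_homology_mapDerivedCategory _ K i (hz i hi)
  obtain ⟨P, π, hP, hπ⟩ := exists_epi_of_isApprox hE α hα hz'
  exact ⟨U, j, hj, hx, P, π ≫ (HDresDIso j K m).hom ≫ (Scheme.Modules.restrictFunctor j).map e.hom,
    hP, inferInstance⟩

/-- **C2**: top cohomology, one degree higher, is of finite presentation -/
theorem isFinitePresentation_of_isPseudoCoherentD {m n : ℤ} (hn : m + 1 = n) {K : DCoh.D X}
    (hK : DCoh.IsPseudoCoherentD m K) (hz : ∀ i, n < i → IsZero (DCoh.HD K i))
    {N : X.Modules} (e : DCoh.HD K n ≅ N) : N.IsFinitePresentation := by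
  subst hn
  rw [isPseudoCoherentD_iff] at hK
  refine isFinitePresentation_of_locally_cokernel N fun x => ?_
  obtain ⟨U, j, hj, hx, E, α, hE, hα⟩ := hK x
  have hz' : ∀ i, m + 1 < i → IsZero (DCoh.HD ((resD j).obj K) i) := fun i hi =>
    isZero_homology_mapDerivedCategory _ K i (hz i hi)
  obtain ⟨P₁, P₀, f, hP₁, hP₀, ⟨e'⟩⟩ := exists_cokernel_of_isApprox hE α hα hz'
  exact ⟨U, j, hj, hx, P₁, P₀, f, hP₁, hP₀,
    ⟨e' ≪≫ HDresDIso j K (m + 1) ≪≫ (Scheme.Modules.restrictFunctor j).mapIso e⟩⟩

/-- **C3** -/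
theorem isPseudoCoherentD_inD_of_isFiniteType (F : X.Modules) [F.IsFiniteType] :
    DCoh.IsPseudoCoherentD 0 (DCoh.inD X F) := by
  refine isPseudoCoherentD_of_locally fun x => ?_
  obtain ⟨V, hxV, P, π, hP, hπ⟩ := exists_epi_of_isFiniteType F x
  refine ⟨V, V.ι, inferInstance, by rw [Scheme.Opens.range_ι]; exact hxV, ?_⟩
  exact isPseudoCoherentD_of_iso (resDinDIso V.ι F).symm (isPseudoCoherentD_inD_of_epi π hP)

/-- **C4** -/
theorem isPseudoCoherentD_inD_of_isFinitePresentation (F : X.Modules) [F.IsFinitePresentation] :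
    DCoh.IsPseudoCoherentD (-1) (DCoh.inD X F) := by
  refine isPseudoCoherentD_of_locally fun x => ?_
  obtain ⟨V, hxV, P₁, P₀, f, hP₁, hP₀, ⟨e⟩⟩ := exists_cokernel_of_isFinitePresentation F x
  refine ⟨V, V.ι, inferInstance, by rw [Scheme.Opens.range_ι]; exact hxV, ?_⟩
  exact isPseudoCoherentD_of_iso (resDinDIso V.ι F).symm
    (isPseudoCoherentD_inD_of_cokernel f e hP₁ hP₀)

end

end Groth.Agent.Lib.Helper28.DCohRes
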