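import Mathlib
import Groth.Agent.Lib.Helper28.DCohRes16
import Groth.Agent.Lib.Helper29.QCohAss2

/-!
# Finite free stalks: transport along isomorphisms and restriction to opens
-/

set_option autoImplicit false

universe u

open CategoryTheory Limits AlgebraicGeometry TopologicalSpace

namespace Groth.Agent.Lib.Helper28.DCohRes

noncomputable section

open Groth.Agent.Lib.Helper29.QCoh

variable {X : Scheme.{u}}

/-- the stalk of `M` at `x` is a finite free module -/
def StalkFF (M : X.Modules) (x : X) : Prop :=
  Module.Free (X.presheaf.stalk x) (M.presheaf.stalk x) ∧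
    Module.Finite (X.presheaf.stalk x) (M.presheaf.stalk x)

/-- the linear equivalence on stalks induced by an isomorphism of modules -/
def stalkLinearEquiv {M N : X.Modules} (e : M ≅ N) (x : X) :
    M.presheaf.stalk x ≃ₗ[X.presheaf.stalk x] N.presheaf.stalk x :=
  LinearEquiv.ofBijective (stalkMapₗ e.hom x)
    ((isIso_iff_stalkMap_bijective e.hom).1 inferInstance x)

lemma StalkFF.of_iso {M N : X.Modules} (e : M ≅ N) {x : X} (h : StalkFF M x) : StalkFF N x := by
  obtain ⟨h1, h2⟩ := h
  exact ⟨Module.Free.of_equiv (stalkLinearEquiv e x), Module.Finite.equiv (stalkLinearEquiv e x)⟩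

/-- the semilinear equivalence between the stalk of `M` and the stalk of a restriction -/
def restrictStalkSemilinearEquiv {Y : Scheme.{u}} (f : Y ⟶ X) [IsOpenImmersion f]
    (M : X.Modules) (y : Y) :
    letI e : X.presheaf.stalk (f y) ≃+* Y.presheaf.stalk y :=
      (asIso (f.stalkMap y)).commRingCatIsoToRingEquiv
    letI : RingHomInvPair (e : X.presheaf.stalk (f y) →+* Y.presheaf.stalk y)
      (e.symm : Y.presheaf.stalk y →+* X.presheaf.stalk (f y)) := RingHomInvPair.of_ringEquiv e
    letI : RingHomInvPair (e.symm : Y.presheaf.stalk y →+* X.presheaf.stalk (f y))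
      (e : X.presheaf.stalk (f y) →+* Y.presheaf.stalk y) := RingHomInvPair.of_ringEquiv e.symm
    M.presheaf.stalk (f y) ≃ₛₗ[(e : X.presheaf.stalk (f y) →+* Y.presheaf.stalk y)]
      (M.restrict f).presheaf.stalk y :=
  letI e : X.presheaf.stalk (f y) ≃+* Y.presheaf.stalk y :=
    (asIso (f.stalkMap y)).commRingCatIsoToRingEquiv
  letI : RingHomInvPair (e : X.presheaf.stalk (f y) →+* Y.presheaf.stalk y)
    (e.symm : Y.presheaf.stalk y →+* X.presheaf.stalk (f y)) := RingHomInvPair.of_ringEquiv e
  letI : RingHomInvPair (e.symm : Y.presheaf.stalk y →+* X.presheaf.stalk (f y))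
    (e : X.presheaf.stalk (f y) →+* Y.presheaf.stalk y) := RingHomInvPair.of_ringEquiv e.symm
  { toFun := fun t => (restrictStalkIso f M y).inv t
    invFun := fun t => (restrictStalkIso f M y).hom t
    map_add' := fun a b => map_add _ a b
    map_smul' := fun r t => restrictStalkIso_inv_smul f M y r t
    left_inv := fun t => by
      change (restrictStalkIso f M y).hom ((restrictStalkIso f M y).inv t) = t
      rw [← ConcreteCategory.comp_apply, Iso.inv_hom_id]; rfl
    right_inv := fun t => by
      change (restrictStalkIso f M y).inv ((restrictStalkIso f M y).hom t) = t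
      rw [← ConcreteCategory.comp_apply, Iso.hom_inv_id]; rfl }

lemma stalkFF_restrict_iff {Y : Scheme.{u}} (f : Y ⟶ X) [IsOpenImmersion f]
    (M : X.Modules) (y : Y) : StalkFF (M.restrict f) y ↔ StalkFF M (f y) := by
  let e : X.presheaf.stalk (f y) ≃+* Y.presheaf.stalk y :=
    (asIso (f.stalkMap y)).commRingCatIsoToRingEquiv
  letI : RingHomInvPair (e : X.presheaf.stalk (f y) →+* Y.presheaf.stalk y)
    (e.symm : Y.presheaf.stalk y →+* X.presheaf.stalk (f y)) := RingHomInvPair.of_ringEquiv e
  letI : RingHomInvPair (e.symm : Y.presheaf.stalk y →+* X.presheaf.stalk (f y))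
    (e : X.presheaf.stalk (f y) →+* Y.presheaf.stalk y) := RingHomInvPair.of_ringEquiv e.symm
  have es := restrictStalkSemilinearEquiv f M y
  constructor
  · rintro ⟨h1, h2⟩
    exact ⟨Module.Free.of_equiv es.symm, Module.Finite.of_surjective es.symm.toLinearMap
      es.symm.surjective⟩
  · rintro ⟨h1, h2⟩
    exact ⟨Module.Free.of_equiv es, Module.Finite.of_surjective es.toLinearMap es.surjective⟩

end

end Groth.Agent.Lib.Helper28.DCohRes
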