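import Mathlib
import Groth.Agent.Lib.Helper28.DCohRes17

/-!
# Modules which are finite locally free near a point
-/

set_option autoImplicit false

universe u

open CategoryTheory Limits AlgebraicGeometry TopologicalSpace

namespace Groth.Agent.Lib.Helper28.DCohRes

noncomputable section

open Groth.Agent.Lib.Helper29.QCoh

variable {X : Scheme.{u}}

/-- `M` is finite locally free in a neighbourhood of `x` -/
def LFAt (M : X.Modules) (x : X) : Prop :=
  ∃ V : X.Opens, x ∈ V ∧ FlatMod.IsFinLocFree (M.restrict V.ι)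

lemma LFAt.of_iso {M N : X.Modules} (e : M ≅ N) {x : X} (h : LFAt M x) : LFAt N x := by
  obtain ⟨V, hx, hV⟩ := h
  exact ⟨V, hx, isFinLocFree_of_iso ((Scheme.Modules.restrictFunctor V.ι).mapIso e) hV⟩

lemma lfAt_of_isFinLocFree {M : X.Modules} (h : FlatMod.IsFinLocFree M) (x : X) : LFAt M x :=
  ⟨⊤, trivial, isFinLocFree_restrict _ h⟩

lemma isFinLocFree_restrict_of_le {M : X.Modules} {V V' : X.Opens} (h : V' ≤ V)
    (hM : FlatMod.IsFinLocFree (M.restrict V.ι)) : FlatMod.IsFinLocFree (M.restrict V'.ι) := by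
  have e : M.restrict V'.ι ≅ (M.restrict V.ι).restrict (X.homOfLE h) :=
    (Scheme.Modules.restrictFunctorCongr (X.homOfLE_ι h).symm).app M ≪≫
      (Scheme.Modules.restrictFunctorComp (X.homOfLE h) V.ι).app M
  exact isFinLocFree_of_iso e.symm (isFinLocFree_restrict (X.homOfLE h) hM)

/-- restriction along the range of an open immersion -/
def restrictOpensRangeIso {Y : Scheme.{u}} (f : Y ⟶ X) [IsOpenImmersion f] (M : X.Modules) :
    (M.restrict f).restrict f.isoOpensRange.inv ≅ M.restrict f.opensRange.ι :=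
  ((Scheme.Modules.restrictFunctorComp _ _).symm ≪≫
      Scheme.Modules.restrictFunctorCongr f.isoOpensRange_inv_comp).app M

lemma isFinLocFree_restrict_opensRange {Y : Scheme.{u}} (f : Y ⟶ X) [IsOpenImmersion f]
    {M : X.Modules} (h : FlatMod.IsFinLocFree (M.restrict f)) :
    FlatMod.IsFinLocFree (M.restrict f.opensRange.ι) :=
  isFinLocFree_of_iso (restrictOpensRangeIso f M) (isFinLocFree_restrict _ h)

lemma LFAt.of_restrict {Y : Scheme.{u}} (f : Y ⟶ X) [IsOpenImmersion f] {M : X.Modules} {y : Y}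
    (h : LFAt (M.restrict f) y) : LFAt M (f y) := by
  obtain ⟨V, hy, hV⟩ := h
  have h1 : FlatMod.IsFinLocFree (M.restrict (V.ι ≫ f)) :=
    isFinLocFree_of_iso ((Scheme.Modules.restrictFunctorComp V.ι f).app M).symm hV
  exact ⟨(V.ι ≫ f).opensRange, ⟨⟨y, hy⟩, rfl⟩, isFinLocFree_restrict_opensRange _ h1⟩

lemma stalkFF_of_isFinLocFree {M : X.Modules} (h : FlatMod.IsFinLocFree M) (x : X) :
    StalkFF M x := by
  have h1 := free_stalk_of_isFinLocFree h x
  have := isFinitePresentation_of_isFinLocFree h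
  have h2 := finitePresentation_stalk M x
  exact ⟨h1, inferInstance⟩

lemma LFAt.stalkFF {M : X.Modules} {x : X} (h : LFAt M x) : StalkFF M x := by
  obtain ⟨V, hx, hV⟩ := h
  exact (stalkFF_restrict_iff V.ι M ⟨x, hx⟩).1 (stalkFF_of_isFinLocFree hV _)

/-- local version of: the kernel of an epimorphism of finite locally frees is finite locally
free -/
lemma LFAt.kernel_of_epi {P Q : X.Modules} (f : P ⟶ Q) [Epi f] {x : X} (hP : LFAt P x)
    (hQ : LFAt Q x) : LFAt (kernel f) x := by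
  obtain ⟨V₁, hx₁, hV₁⟩ := hP
  obtain ⟨V₂, hx₂, hV₂⟩ := hQ
  refine ⟨V₁ ⊓ V₂, ⟨hx₁, hx₂⟩, ?_⟩
  have h1 := isFinLocFree_restrict_of_le (inf_le_left : V₁ ⊓ V₂ ≤ V₁) hV₁
  have h2 := isFinLocFree_restrict_of_le (inf_le_right : V₁ ⊓ V₂ ≤ V₂) hV₂
  have : Epi ((Scheme.Modules.restrictFunctor (V₁ ⊓ V₂).ι).map f) := inferInstance
  have h3 := isFinLocFree_kernel_of_epi ((Scheme.Modules.restrictFunctor (V₁ ⊓ V₂).ι).map f) h1 h2
  exact isFinLocFree_of_iso
    (PreservesKernel.iso (Scheme.Modules.restrictFunctor (V₁ ⊓ V₂).ι) f).symm h3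

end

end Groth.Agent.Lib.Helper28.DCohRes
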