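import Mathlib
import Groth.Agent.Lib.Helper28.DCohRes18

/-!
# Cohomology of bounded complexes of finite locally frees with finite free stalks
-/

set_option autoImplicit false

universe u

open CategoryTheory Limits AlgebraicGeometry TopologicalSpace

namespace Groth.Agent.Lib.Helper28.DCohRes

noncomputable section

open Groth.Agent.Lib.Helper29.QCoh

variable {X : Scheme.{u}}

/-- a finitely presented module with finite free stalk at `x` is free near `x` -/
lemma lfAt_of_isFinitePresentation {N : X.Modules} [N.IsFinitePresentation] {x : X}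
    (hs : StalkFF N x) : LFAt N x := by
  haveI := hs.1
  obtain ⟨V', n, hV', hxV', ⟨eq⟩⟩ := exists_affine_linearEquiv_of_free_stalk N x
  have h1 : IsFreeAlong N hV'.fromSpec n := (isFreeAlong_fromSpec_iff N hV' n).2 ⟨eq⟩
  have h2 : IsFreeAlong N V'.ι n := h1.of_range_subset V'.ι (by
    rw [Scheme.Opens.range_ι]
    exact hV'.range_fromSpec.ge)
  obtain ⟨e⟩ := (isFreeAlong_iff_restrict N V'.ι n).1 h2
  exact ⟨V', hxV', isFinLocFree_of_iso_freeMod e⟩

/-- a cokernel of a map from a finite locally free module to a module which is finite locally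
free near `x`, with finite free stalk at `x`, is finite locally free near `x` -/
lemma lfAt_of_cokernel {M P₁ P₀ : X.Modules} (f : P₁ ⟶ P₀) (hP₁ : FlatMod.IsFinLocFree P₁)
    {x : X} (hP₀ : LFAt P₀ x) (e : cokernel f ≅ M) (hs : StalkFF M x) : LFAt M x := by
  obtain ⟨V, hxV, hV⟩ := hP₀
  have hN : (M.restrict V.ι).IsFinitePresentation := by
    refine isFinitePresentation_of_locally_cokernel (M.restrict V.ι) fun y => ?_
    refine ⟨V, 𝟙 _, inferInstance, ⟨y, rfl⟩, P₁.restrict V.ι, P₀.restrict V.ι,
      (Scheme.Modules.restrictFunctor V.ι).map f, isFinLocFree_restrict V.ι hP₁, hV, ⟨?_⟩⟩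
    exact (PreservesCokernel.iso (Scheme.Modules.restrictFunctor V.ι) f).symm ≪≫
      (Scheme.Modules.restrictFunctor V.ι).mapIso e ≪≫
      (Scheme.Modules.restrictFunctorId.app (M.restrict V.ι)).symm
  have hs' : StalkFF (M.restrict V.ι) ⟨x, hxV⟩ := (stalkFF_restrict_iff V.ι M ⟨x, hxV⟩).2 hs
  exact LFAt.of_restrict V.ι (lfAt_of_isFinitePresentation hs')

/-- **Descending induction**: in a bounded above complex of finite locally free modules, if
all cohomology stalks at `y` are finite free, then all cohomology sheaves (and cycles) are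
finite locally free near `y`. -/
theorem lfAt_homology_of_stalkFF (P : CochainComplex X.Modules ℤ) (b : ℤ)
    (hfree : ∀ i, FlatMod.IsFinLocFree (P.X i)) (hb : ∀ i, b < i → IsZero (P.X i)) (y : X)
    (hs : ∀ i, StalkFF (P.homology i) y) (i : ℤ) :
    LFAt (P.homology i) y ∧ LFAt (P.cycles i) y := by
  have key : ∀ (k : ℕ) (i : ℤ), b + 1 ≤ i + k → LFAt (P.homology i) y ∧ LFAt (P.cycles i) y := by
    intro k
    induction k with
    | zero =>
      intro i hi
      have hz : IsZero (P.cycles i) := IsZero.of_mono (P.iCycles i) (hb i (by push_cast at hi; omega))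
      have hz' : IsZero (P.homology i) := IsZero.of_epi (P.homologyπ i) hz
      exact ⟨lfAt_of_isFinLocFree (isFinLocFree_of_isZero hz') y,
        lfAt_of_isFinLocFree (isFinLocFree_of_isZero hz) y⟩
    | succ k ih =>
      intro i hi
      obtain ⟨hH, hZ⟩ := ih (i + 1) (by push_cast at hi ⊢; omega)
      -- boundaries in degree `i + 1`
      have hB : LFAt (kernel (P.homologyπ (i + 1))) y := LFAt.kernel_of_epi _ hZ hH
      have hex : (ShortComplex.mk (P.toCycles i (i + 1)) (P.homologyπ (i + 1))
          (P.toCycles_comp_homologyπ i (i + 1))).Exact :=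
        ShortComplex.exact_of_g_is_cokernel _ (P.homologyIsCokernel i (i + 1) (by simp))
      have hepi : Epi (kernel.lift (P.homologyπ (i + 1)) (P.toCycles i (i + 1))
          (P.toCycles_comp_homologyπ i (i + 1))) := hex.epi_kernelLift
      have hK := LFAt.kernel_of_epi (kernel.lift (P.homologyπ (i + 1)) (P.toCycles i (i + 1))
          (P.toCycles_comp_homologyπ i (i + 1))) (lfAt_of_isFinLocFree (hfree i) y) hB
      have e : kernel (kernel.lift (P.homologyπ (i + 1)) (P.toCycles i (i + 1))
          (P.toCycles_comp_homologyπ i (i + 1))) ≅ P.cycles i :=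
        (kernelCompMono _ (kernel.ι (P.homologyπ (i + 1)))).symm ≪≫
          kernelIsoOfEq (kernel.lift_ι _ _ _) ≪≫
          (kernelCompMono (P.toCycles i (i + 1)) (P.iCycles (i + 1))).symm ≪≫
          kernelIsoOfEq (P.toCycles_i i (i + 1)) ≪≫ (cyclesIsoKernel P i).symm
      have hZi : LFAt (P.cycles i) y := hK.of_iso e
      refine ⟨?_, hZi⟩
      have ec : cokernel (P.toCycles (i - 1) i) ≅ P.homology i :=
        IsColimit.coconePointUniqueUpToIso (cokernelIsCokernel (P.toCycles (i - 1) i))
          (P.homologyIsCokernel (i - 1) i (by simp))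
      exact lfAt_of_cokernel (P.toCycles (i - 1) i) (hfree (i - 1)) hZi ec (hs i)
  exact key (b + 1 - i).toNat i (by omega)

end

end Groth.Agent.Lib.Helper28.DCohRes
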