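import Mathlib
import Groth.Agent.Lib.Helper28.DCohRes19

/-!
# The open locus where the cohomology sheaves of a perfect object are finite locally free
-/

set_option autoImplicit false

universe u

open CategoryTheory Limits AlgebraicGeometry TopologicalSpace

namespace Groth.Agent.Lib.Helper28.DCohRes

noncomputable section

attribute [local instance] HasDerivedCategory.standard

open Groth.Agent.Lib.Helper29.QCoh

variable {X : Scheme.{u}}

/-- key local statement -/
theorem exists_nbhd_finLocFree_HD (E : DCoh.D X) (hE : DCoh.IsPerfect E) (x : X)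
    (hs : ∀ i : ℤ, StalkFF (DCoh.HD E i) x) :
    ∃ V : X.Opens, x ∈ V ∧ ∀ i : ℤ, FlatMod.IsFinLocFree ((DCoh.HD E i).restrict V.ι) := by
  obtain ⟨U₀, j, hj, ⟨y₀, rfl⟩, P, hP, ⟨e⟩⟩ := (isPerfect_iff E).1 hE x
  obtain ⟨⟨a, b, hab⟩, hfree⟩ := hP
  have iso : ∀ i : ℤ, (DCoh.HD E i).restrict j ≅ P.homology i := fun i =>
    (HDresDIso j E i).symm ≪≫ (DerivedCategory.homologyFunctor U₀.Modules i).mapIso e ≪≫
      (DerivedCategory.homologyFunctorFactors U₀.Modules i).app P
  have hs' : ∀ i, StalkFF (P.homology i) y₀ := fun i =>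
    ((stalkFF_restrict_iff j (DCoh.HD E i) y₀).2 (hs i)).of_iso (iso i)
  have lf : ∀ i, LFAt (DCoh.HD E i) (j y₀) := fun i =>
    LFAt.of_restrict j (((lfAt_homology_of_stalkFF P b hfree
      (fun i hi => hab i (Or.inr hi)) y₀ hs' i).1).of_iso (iso i).symm)
  choose V' hV' hV'' using lf
  have hzero : ∀ i, ¬ (a ≤ i ∧ i ≤ b) →
      FlatMod.IsFinLocFree ((DCoh.HD E i).restrict j.opensRange.ι) := fun i hi => by
    have hz : IsZero (P.homology i) :=
      (HomologicalComplex.ExactAt.of_isZero (hab i (by omega))).isZero_homology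
    exact isFinLocFree_restrict_opensRange j
      (isFinLocFree_of_isZero (hz.of_iso (iso i)))
  refine ⟨(Finset.Icc a b).inf V' ⊓ j.opensRange,
    ⟨(mem_finset_inf_opens _ _ _).2 (fun i _ => hV' i), ⟨y₀, rfl⟩⟩, fun i => ?_⟩
  by_cases hi : a ≤ i ∧ i ≤ b
  · refine isFinLocFree_restrict_of_le (inf_le_left.trans ?_) (hV'' i)
    exact Finset.inf_le (Finset.mem_Icc.2 hi)
  · exact isFinLocFree_restrict_of_le inf_le_right (hzero i hi)

/-- **The locus where all cohomology sheaves of a perfect object have finite free stalks is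
open, and is the largest open over which all cohomology sheaves are finite locally free.** -/
theorem exists_open_locus_finite_free (E : DCoh.D X) (hE : DCoh.IsPerfect E) :
    ∃ U : X.Opens,
      (U : Set X) = {x : X | ∀ i : ℤ, StalkFF (DCoh.HD E i) x} ∧
      (∀ i : ℤ, FlatMod.IsFinLocFree ((DCoh.HD E i).restrict U.ι)) ∧
      ∀ W : X.Opens, (∀ i : ℤ, FlatMod.IsFinLocFree ((DCoh.HD E i).restrict W.ι)) → W ≤ U := by
  let T : Set X := {x | ∃ V : X.Opens, x ∈ V ∧
    ∀ i : ℤ, FlatMod.IsFinLocFree ((DCoh.HD E i).restrict V.ι)}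
  have hT : IsOpen T := by
    rw [isOpen_iff_forall_mem_open]
    rintro x ⟨V, hxV, hV⟩
    exact ⟨V, fun z hz => ⟨V, hz, hV⟩, V.2, hxV⟩
  obtain ⟨U, hU⟩ : ∃ U : X.Opens, (U : Set X) = T := ⟨⟨T, hT⟩, rfl⟩
  have hmem : ∀ z : X, z ∈ U ↔ z ∈ T := fun z => by
    rw [← SetLike.mem_coe, hU]
  refine ⟨U, ?_, ?_, ?_⟩
  · rw [hU]
    ext x
    constructor
    · rintro ⟨V, hxV, hV⟩ i
      exact LFAt.stalkFF ⟨V, hxV, hV i⟩
    · intro hx
      exact exists_nbhd_finLocFree_HD E hE x hx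
  · intro i
    refine isFinLocFree_of_locally fun y => ?_
    obtain ⟨V, hxV, hV⟩ := (hmem y.1).1 y.2
    have hle : V ≤ U := fun z hz => (hmem z).2 ⟨V, hz, hV⟩
    refine ⟨V, X.homOfLE hle, inferInstance, ⟨⟨y.1, hxV⟩, ?_⟩, ?_⟩
    · apply U.ι.isOpenEmbedding.injective
      rw [← Scheme.Hom.comp_apply, X.homOfLE_ι]
      rfl
    · have e : (DCoh.HD E i).restrict V.ι ≅
          ((DCoh.HD E i).restrict U.ι).restrict (X.homOfLE hle) :=
        (Scheme.Modules.restrictFunctorCongr (X.homOfLE_ι hle).symm).app _ ≪≫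
          (Scheme.Modules.restrictFunctorComp (X.homOfLE hle) _).app _
      exact isFinLocFree_of_iso e (hV i)
  · intro W hW x hxW
    exact (hmem x).2 ⟨W, hxW, hW⟩

end

end Groth.Agent.Lib.Helper28.DCohRes
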