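import Mathlib
import Groth.Agent.Lib.Helper28.DCohRes20
import Groth.Prelude.Def_DCoh3

/-!
# Perfect objects are pseudo-coherent and relatively of finite tor dimension over a flat base
-/

set_option autoImplicit false

universe u

open CategoryTheory Limits AlgebraicGeometry TopologicalSpace

namespace Groth.Agent.Lib.Helper28.DCohRes

noncomputable section

attribute [local instance] HasDerivedCategory.standard

open Groth.Agent.Lib.Helper29.QCoh

variable {X : Scheme.{u}}

lemma isApprox_of_isIso {m : ℤ} {A B : DCoh.D X} (α : A ⟶ B) [IsIso α] : IsApprox m α :=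
  ⟨fun _ _ => inferInstance, inferInstance⟩

/-- perfect objects are `m`-pseudo-coherent for every `m` -/
theorem isPseudoCoherentD_of_isPerfect {K : DCoh.D X} (h : DCoh.IsPerfect K) (m : ℤ) :
    DCoh.IsPseudoCoherentD m K := by
  rw [isPerfect_iff] at h
  rw [isPseudoCoherentD_iff]
  intro x
  obtain ⟨U, j, hj, hx, E, hE, ⟨e⟩⟩ := h x
  exact ⟨U, j, hj, hx, E, e.inv, hE, isApprox_of_isIso _⟩

/-- a finite locally free module is flat over any base over which the scheme is flat -/
lemma isFlatOver_of_isFinLocFree {S : Scheme.{u}} (g : X ⟶ S) [Flat g] {M : X.Modules}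
    (hM : FlatMod.IsFinLocFree M) : FlatMod.IsFlatOver g M := by
  intro y
  have hfree := free_stalk_of_isFinLocFree hM y
  have hflat : (g.stalkMap y).hom.Flat := Flat.stalkMap g y
  letI : Algebra (S.presheaf.stalk (g.base y)) (X.presheaf.stalk y) :=
    (g.stalkMap y).hom.toAlgebra
  letI := FlatMod.moduleStalkOver g M y
  haveI : IsScalarTower (S.presheaf.stalk (g.base y)) (X.presheaf.stalk y)
      (M.presheaf.stalk y) := IsScalarTower.of_algebraMap_smul fun r t => rfl
  haveI : Module.Flat (S.presheaf.stalk (g.base y)) (X.presheaf.stalk y) := hflat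
  exact Module.Flat.trans (S.presheaf.stalk (g.base y)) (X.presheaf.stalk y) (M.presheaf.stalk y)

end

end Groth.Agent.Lib.Helper28.DCohRes
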