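import Mathlib
import Groth.Agent.Lib.Helper28.DCohRes21
import Groth.Agent.Lib.Helper22.FlatKer

/-!
# Flat `O_X`-modules: basic permanence properties
-/

set_option autoImplicit false

universe u

open CategoryTheory Limits AlgebraicGeometry TopologicalSpace

namespace Groth.Agent.Lib.Helper28.DCohRes

noncomputable section

open Groth.Agent.Lib.Helper29.QCoh

/-- flatness is transported along semilinear equivalences over a ring isomorphism -/
lemma flat_of_semilinearEquiv {R S M N : Type*} [CommRing R] [CommRing S] [AddCommGroup M]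
    [AddCommGroup N] [Module R M] [Module S N] {σ : R →+* S} {σ' : S →+* R}
    [RingHomInvPair σ σ'] [RingHomInvPair σ' σ] (e : M ≃ₛₗ[σ] N) [Module.Flat R M] :
    Module.Flat S N := by
  refine Module.Flat.of_forall_isTrivialRelation ?_
  intro l f x h
  have h' : ∑ i, σ' (f i) • e.symm (x i) = 0 := by
    have := congrArg e.symm h
    rw [map_sum, map_zero] at this
    rw [← this]
    refine Finset.sum_congr rfl fun i _ => ?_
    rw [map_smulₛₗ]
  obtain ⟨k, a, y, h1, h2⟩ := Module.Flat.isTrivialRelation_of_sum_smul_eq_zero h'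
  refine ⟨k, fun i j => σ (a i j), fun j => e (y j), fun i => ?_, fun j => ?_⟩
  · have := congrArg e (h1 i)
    rw [LinearEquiv.apply_symm_apply, map_sum] at this
    rw [this]
    refine Finset.sum_congr rfl fun j _ => ?_
    rw [map_smulₛₗ]
  · have := congrArg σ (h2 j)
    rw [map_sum, map_zero] at this
    rw [← this]
    refine Finset.sum_congr rfl fun i _ => ?_
    rw [map_mul, RingHomInvPair.comp_apply_eq₂]

variable {X : Scheme.{u}}

lemma isFlat_of_iso {M N : X.Modules} (e : M ≅ N) (h : FlatMod.IsFlat M) : FlatMod.IsFlat N := by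
  intro x
  haveI : Module.Flat (X.presheaf.stalk x) (M.presheaf.stalk x) := h x
  exact Module.Flat.of_linearEquiv (stalkLinearEquiv e x).symm

lemma isFlat_of_isZero {M : X.Modules} (h : IsZero M) : FlatMod.IsFlat M := by
  intro x
  haveI : Subsingleton (M.presheaf.stalk x) := (isZero_iff_stalk_subsingleton M).1 h x
  exact (inferInstance : Module.Flat (X.presheaf.stalk x) (M.presheaf.stalk x))

lemma isFlat_of_isFinLocFree {M : X.Modules} (h : FlatMod.IsFinLocFree M) : FlatMod.IsFlat M :=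
  ((isFinLocFree_iff_flat M).1 h).2

lemma stalkMapₗ_comp {M N P : X.Modules} (φ : M ⟶ N) (ψ : N ⟶ P) (x : X) :
    stalkMapₗ (φ ≫ ψ) x = (stalkMapₗ ψ x).comp (stalkMapₗ φ x) := by
  ext t
  exact stalkMap_comp_apply φ ψ x t

lemma stalkMapₗ_id (M : X.Modules) (x : X) : stalkMapₗ (𝟙 M) x = LinearMap.id := by
  ext t
  change stalkMap (𝟙 M) x t = t
  rw [stalkMap_id]
  rfl

lemma stalkMapₗ_add {M N : X.Modules} (φ ψ : M ⟶ N) (x : X) :
    stalkMapₗ (φ + ψ) x = stalkMapₗ φ x + stalkMapₗ ψ x := by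
  ext t
  change stalkMap (φ + ψ) x t = stalkMap φ x t + stalkMap ψ x t
  rw [show stalkMap (φ + ψ) x = stalkMap φ x + stalkMap ψ x from (stalkFunctor X x).map_add]
  rfl

/-- a retract of a flat module is flat -/
lemma isFlat_of_retract {K M : X.Modules} (i : K ⟶ M) (r : M ⟶ K) (h : i ≫ r = 𝟙 K)
    (hM : FlatMod.IsFlat M) : FlatMod.IsFlat K := by
  intro x
  haveI : Module.Flat (X.presheaf.stalk x) (M.presheaf.stalk x) := hM x
  refine Module.Flat.of_retract (stalkMapₗ i x) (stalkMapₗ r x) ?_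
  rw [← stalkMapₗ_comp, h, stalkMapₗ_id]

/-- a binary biproduct of flat modules is flat -/
lemma isFlat_biprod {M N : X.Modules} (hM : FlatMod.IsFlat M) (hN : FlatMod.IsFlat N) :
    FlatMod.IsFlat (M ⊞ N) := by
  intro x
  haveI : Module.Flat (X.presheaf.stalk x) (M.presheaf.stalk x) := hM x
  haveI : Module.Flat (X.presheaf.stalk x) (N.presheaf.stalk x) := hN x
  haveI := Groth.Agent.Lib.Helper22.flat_prod (X.presheaf.stalk x) (M.presheaf.stalk x)
    (N.presheaf.stalk x)
  let i : (M ⊞ N).presheaf.stalk x →ₗ[X.presheaf.stalk x]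
      (M.presheaf.stalk x × N.presheaf.stalk x) :=
    (stalkMapₗ (biprod.fst : M ⊞ N ⟶ M) x).prod (stalkMapₗ (biprod.snd : M ⊞ N ⟶ N) x)
  let r : (M.presheaf.stalk x × N.presheaf.stalk x) →ₗ[X.presheaf.stalk x]
      (M ⊞ N).presheaf.stalk x :=
    (stalkMapₗ (biprod.inl : M ⟶ M ⊞ N) x).coprod (stalkMapₗ (biprod.inr : N ⟶ M ⊞ N) x)
  refine Module.Flat.of_retract i r ?_
  have h1 : r.comp i = (stalkMapₗ (biprod.inl : M ⟶ M ⊞ N) x).comp
      (stalkMapₗ (biprod.fst : M ⊞ N ⟶ M) x) + (stalkMapₗ (biprod.inr : N ⟶ M ⊞ N) x).comp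
      (stalkMapₗ (biprod.snd : M ⊞ N ⟶ N) x) := by
    ext t
    simp [i, r]
  rw [h1, ← stalkMapₗ_comp, ← stalkMapₗ_comp, ← stalkMapₗ_add, biprod.total, stalkMapₗ_id]

/-- the restriction of a flat module to an open subscheme is flat -/
lemma isFlat_restrict {Y : Scheme.{u}} (f : Y ⟶ X) [IsOpenImmersion f] {M : X.Modules}
    (hM : FlatMod.IsFlat M) : FlatMod.IsFlat (M.restrict f) := by
  intro y
  let e : X.presheaf.stalk (f y) ≃+* Y.presheaf.stalk y :=
    (asIso (f.stalkMap y)).commRingCatIsoToRingEquiv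
  letI : RingHomInvPair (e : X.presheaf.stalk (f y) →+* Y.presheaf.stalk y)
    (e.symm : Y.presheaf.stalk y →+* X.presheaf.stalk (f y)) := RingHomInvPair.of_ringEquiv e
  letI : RingHomInvPair (e.symm : Y.presheaf.stalk y →+* X.presheaf.stalk (f y))
    (e : X.presheaf.stalk (f y) →+* Y.presheaf.stalk y) := RingHomInvPair.of_ringEquiv e.symm
  haveI : Module.Flat (X.presheaf.stalk (f y)) (M.presheaf.stalk (f y)) := hM (f y)
  exact flat_of_semilinearEquiv (restrictStalkSemilinearEquiv f M y)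

/-- in a short exact sequence with flat middle and right terms, the left term is flat -/
theorem isFlat_of_shortExact (S : ShortComplex X.Modules) (hS : S.ShortExact)
    (h2 : FlatMod.IsFlat S.X₂) (h3 : FlatMod.IsFlat S.X₃) : FlatMod.IsFlat S.X₁ := by
  intro x
  have := hS.mono_f
  have := hS.epi_g
  have hinj : Function.Injective (stalkMapₗ S.f x) :=
    (mono_iff_stalkMap_injective S.f).mp inferInstance x
  have hsurj : Function.Surjective (stalkMapₗ S.g x) :=
    (epi_iff_stalkMap_surjective S.g).mp inferInstance x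
  have hex : Function.Exact (stalkMapₗ S.f x) (stalkMapₗ S.g x) :=
    (exact_iff_stalk_function_exact S).mp hS.exact x
  haveI : Module.Flat (X.presheaf.stalk x) (S.X₂.presheaf.stalk x) := h2 x
  haveI : Module.Flat (X.presheaf.stalk x) (S.X₃.presheaf.stalk x) := h3 x
  exact Groth.Agent.Lib.Helper22.flat_of_exact_of_flat (stalkMapₗ S.f x) (stalkMapₗ S.g x)
    hinj hsurj hex

/-- the kernel of an epimorphism of flat modules is flat -/
theorem isFlat_kernel_of_epi {P Q : X.Modules} (f : P ⟶ Q) [Epi f]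
    (hP : FlatMod.IsFlat P) (hQ : FlatMod.IsFlat Q) : FlatMod.IsFlat (kernel f) := by
  refine isFlat_of_shortExact (ShortComplex.mk (kernel.ι f) f (kernel.condition f)) ?_ hP hQ
  exact { exact := ShortComplex.exact_of_f_is_kernel _ (kernelIsKernel f)
          mono_f := inferInstanceAs (Mono (kernel.ι f))
          epi_g := inferInstanceAs (Epi f) }

/-- in a bounded above complex whose terms in degrees `≥ m` are flat and which is exact in
degrees `> m`, the kernels of the differentials in degrees `≥ m` are flat -/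
theorem isFlat_kernel_d {E : CochainComplex X.Modules ℤ} (m b : ℤ)
    (hE : ∀ i, m ≤ i → FlatMod.IsFlat (E.X i)) (hEb : ∀ i, b < i → IsZero (E.X i))
    (hex : ∀ i, m < i → E.ExactAt i) (i : ℤ) (hi : m ≤ i) :
    FlatMod.IsFlat (kernel (E.d i (i + 1))) := by
  have key : ∀ (k : ℕ) (i : ℤ), m ≤ i → b + 1 ≤ i + k →
      FlatMod.IsFlat (kernel (E.d i (i + 1))) := by
    intro k
    induction k with
    | zero =>
      intro i _ hib
      exact isFlat_of_isZero (IsZero.of_mono (kernel.ι _) (hEb i (by push_cast at hib; omega)))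
    | succ k ih =>
      intro i him hib
      have hZ := ih (i + 1) (by omega) (by push_cast at hib ⊢; omega)
      have hexact : (E.sc' i (i + 1) (i + 1 + 1)).Exact :=
        (E.exactAt_iff' i (i + 1) (i + 1 + 1) (by simp) (by simp)).1 (hex (i + 1) (by omega))
      have hepi : Epi (kernel.lift (E.d (i + 1) (i + 1 + 1)) (E.d i (i + 1)) (E.d_comp_d _ _ _)) :=
        hexact.epi_kernelLift
      have hk := isFlat_kernel_of_epi
        (kernel.lift (E.d (i + 1) (i + 1 + 1)) (E.d i (i + 1)) (E.d_comp_d _ _ _)) (hE i him) hZ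
      have e : kernel (kernel.lift (E.d (i + 1) (i + 1 + 1)) (E.d i (i + 1)) (E.d_comp_d _ _ _)) ≅
          kernel (E.d i (i + 1)) :=
        (kernelCompMono _ (kernel.ι (E.d (i + 1) (i + 1 + 1)))).symm ≪≫
          kernel.mapIso _ _ (Iso.refl _) (Iso.refl _) (by simp)
      exact isFlat_of_iso e hk
  obtain ⟨k, hk⟩ : ∃ k : ℕ, b + 1 ≤ i + k := ⟨(b + 1 - i).toNat, by omega⟩
  exact key k i hi hk

/-- **Flatness of the bottom term.** Let `E` be a bounded above complex, exact in degrees `≥ n`,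
with `E^{n-1} = 0` and `E^i` flat for `i > n`. Then `E^n` is flat. -/
theorem isFlat_X_of_exact {E : CochainComplex X.Modules ℤ} (n b : ℤ)
    (hE : ∀ i, n < i → FlatMod.IsFlat (E.X i)) (hEb : ∀ i, b < i → IsZero (E.X i))
    (hz : IsZero (E.X (n - 1))) (hex : ∀ i, n ≤ i → E.ExactAt i) : FlatMod.IsFlat (E.X n) := by
  have hZ := isFlat_kernel_d (n + 1) b (fun i hi => hE i (by omega)) hEb
    (fun i hi => hex i (by omega)) (n + 1) le_rfl
  have hexact : (E.sc' n (n + 1) (n + 1 + 1)).Exact :=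
    (E.exactAt_iff' n (n + 1) (n + 1 + 1) (by simp) (by simp)).1 (hex (n + 1) (by omega))
  have hepi : Epi (kernel.lift (E.d (n + 1) (n + 1 + 1)) (E.d n (n + 1)) (E.d_comp_d _ _ _)) :=
    hexact.epi_kernelLift
  have hexact' : (E.sc' (n - 1) n (n + 1)).Exact :=
    (E.exactAt_iff' (n - 1) n (n + 1) (by simp) (by simp)).1 (hex n le_rfl)
  have hmono : Mono (E.d n (n + 1)) := by
    have h0 : (E.sc' (n - 1) n (n + 1)).f = 0 := hz.eq_of_src _ _
    exact (ShortComplex.exact_iff_mono _ h0).1 hexact'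
  have hmono' : Mono (kernel.lift (E.d (n + 1) (n + 1 + 1)) (E.d n (n + 1))
      (E.d_comp_d _ _ _)) := by
    apply mono_of_mono_fac (kernel.lift_ι _ _ _)
  haveI : IsIso (kernel.lift (E.d (n + 1) (n + 1 + 1)) (E.d n (n + 1)) (E.d_comp_d _ _ _)) :=
    isIso_of_mono_of_epi _
  exact isFlat_of_iso (asIso (kernel.lift (E.d (n + 1) (n + 1 + 1)) (E.d n (n + 1))
    (E.d_comp_d _ _ _))).symm hZ

end

end Groth.Agent.Lib.Helper28.DCohRes
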