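import Mathlib
import Groth.Agent.Lib.Helper28.DCohRes22

/-!
# Canonical truncation of an approximation of a bounded flat complex is strictly perfect
-/

set_option autoImplicit false

universe u

open CategoryTheory Limits AlgebraicGeometry TopologicalSpace

namespace Groth.Agent.Lib.Helper28.DCohRes

noncomputable section

attribute [local instance] HasDerivedCategory.standard

open Groth.Agent.Lib.Helper29.QCoh

variable {X : Scheme.{u}}

/-- opcycles as the cokernel of the differential -/
def opcyclesIsoCokernel (E : CochainComplex X.Modules ℤ) (i j : ℤ) (hij : i + 1 = j) :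
    cokernel (E.d i j) ≅ E.opcycles j := by
  let e := IsColimit.coconePointUniqueUpToIso (cokernelIsCokernel (E.d i j))
    (E.opcyclesIsCokernel i j (by simp; omega))
  exact e

/-- the cokernel of a map of finite locally free modules is finitely presented -/
lemma isFinitePresentation_of_cokernel {M P₁ P₀ : X.Modules} (f : P₁ ⟶ P₀)
    (h₁ : FlatMod.IsFinLocFree P₁) (h₀ : FlatMod.IsFinLocFree P₀) (e : cokernel f ≅ M) :
    M.IsFinitePresentation := by
  refine isFinitePresentation_of_locally_cokernel M fun x => ?_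
  exact ⟨X, 𝟙 X, inferInstance, ⟨x, rfl⟩, P₁, P₀, f, h₁, h₀,
    ⟨e ≪≫ (Scheme.Modules.restrictFunctorId.app M).symm⟩⟩

/-- **Part A.** Let `F` be a complex of flat modules vanishing outside `[a, b]` and
`φ : P ⟶ F` a chain map from a strictly perfect complex which is a quasi-isomorphism in degrees
`≥ a`. Then the bottom term of `τ_{≥ a} P` is flat. -/
theorem isFlat_truncGE_X {P F : CochainComplex X.Modules ℤ} (a b : ℤ)
    (hP : DCoh.IsStrictlyPerfect P) (hF : DCoh.VanishesOutside F a b)
    (hflat : ∀ i, FlatMod.IsFlat (F.X i)) (φ : P ⟶ F)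
    (hφ : IsApprox (a - 1) (DerivedCategory.Q.map φ)) :
    FlatMod.IsFlat ((P.truncGE a).X a) := by
  obtain ⟨⟨a₁, b₁, hab₁⟩, hfree⟩ := hP
  haveI : F.IsStrictlyGE a := by
    rw [CochainComplex.isStrictlyGE_iff]
    intro i hi
    exact hF i (Or.inl hi)
  let P' := P.truncGE a
  let ψ : P' ⟶ F := CochainComplex.truncGEMap φ a ≫ inv (F.πTruncGE a)
  have hq1 : QuasiIso (CochainComplex.truncGEMap φ a) := by
    rw [CochainComplex.quasiIso_truncGEMap_iff]
    intro i hi
    rw [quasiIsoAt_iff_isIso_homologyMap]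
    exact ((isApprox_Q_map_iff φ (a - 1)).1 hφ).1 i (by omega)
  have hq : QuasiIso ψ := by
    dsimp only [ψ]
    infer_instance
  haveI : IsIso (DerivedCategory.Q.map ψ) := by
    rw [DerivedCategory.isIso_Q_map_iff_quasiIso]
    exact hq
  have hP'lt : ∀ i, i < a → IsZero (P'.X i) := fun i hi =>
    CochainComplex.isZero_of_isStrictlyGE P' a i hi
  have hP'gt : ∀ i, a < i → FlatMod.IsFinLocFree (P'.X i) := fun i hi =>
    isFinLocFree_of_iso (P.truncGEXIso a i hi).symm (hfree i)
  have hP'gt0 : ∀ i, a < i → b₁ < i → IsZero (P'.X i) := fun i hi hi' =>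
    IsZero.of_iso (hab₁ i (Or.inr hi')) (P.truncGEXIso a i hi)
  have key : ∀ i j : ℤ, i + 1 = j → ((CochainComplex.mappingCone ψ).X i ≅ P'.X j ⊞ F.X i) :=
    fun i j hij => HomologicalComplex.homotopyCofiber.XIsoBiprod ψ i j hij
  have h1 : FlatMod.IsFlat ((CochainComplex.mappingCone ψ).X (a - 1)) := by
    refine isFlat_X_of_exact (a - 1) (max (max b₁ a) b) (fun i hi => ?_) (fun i hi => ?_) ?_
      (fun i hi => ?_)
    · exact isFlat_of_iso (key i (i + 1) rfl).symm
        (isFlat_biprod (isFlat_of_isFinLocFree (hP'gt (i + 1) (by omega))) (hflat i))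
    · refine IsZero.of_iso ?_ (key i (i + 1) rfl)
      rw [biprod_isZero_iff]
      have h1 := le_max_left (max b₁ a) b
      have h2 := le_max_right (max b₁ a) b
      have h3 := le_max_left b₁ a
      have h4 := le_max_right b₁ a
      exact ⟨hP'gt0 (i + 1) (by omega) (by omega), hF i (Or.inr (by omega))⟩
    · refine IsZero.of_iso ?_ (key (a - 1 - 1) (a - 1) (by omega))
      rw [biprod_isZero_iff]
      exact ⟨hP'lt (a - 1) (by omega), hF (a - 1 - 1) (Or.inl (by omega))⟩
    · exact exactAt_mappingCone_of_isApprox ψ (a - 1)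
        (isApprox_of_isIso (DerivedCategory.Q.map ψ)) i hi
  have h2 := isFlat_of_iso (key (a - 1) a (by omega)) h1
  exact isFlat_of_retract biprod.inl biprod.fst biprod.inl_fst h2

/-- **Part B.** The canonical truncation `τ_{≥ a} P` of a strictly perfect complex is strictly
perfect as soon as its bottom term is flat. -/
theorem isStrictlyPerfect_truncGE {P : CochainComplex X.Modules ℤ} (a : ℤ)
    (hP : DCoh.IsStrictlyPerfect P) (hflat : FlatMod.IsFlat ((P.truncGE a).X a)) :
    DCoh.IsStrictlyPerfect (P.truncGE a) := by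
  obtain ⟨⟨a₁, b₁, hab₁⟩, hfree⟩ := hP
  have hP'lt : ∀ i, i < a → IsZero ((P.truncGE a).X i) := fun i hi =>
    CochainComplex.isZero_of_isStrictlyGE (P.truncGE a) a i hi
  have hP'gt : ∀ i, a < i → FlatMod.IsFinLocFree ((P.truncGE a).X i) := fun i hi =>
    isFinLocFree_of_iso (P.truncGEXIso a i hi).symm (hfree i)
  have hP'gt0 : ∀ i, a < i → b₁ < i → IsZero ((P.truncGE a).X i) := fun i hi hi' =>
    IsZero.of_iso (hab₁ i (Or.inr hi')) (P.truncGEXIso a i hi)
  have hfp : ((P.truncGE a).X a).IsFinitePresentation :=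
    isFinitePresentation_of_cokernel (P.d (a - 1) a) (hfree _) (hfree _)
      (opcyclesIsoCokernel P (a - 1) a (by omega) ≪≫ (P.truncGEXIsoOpcycles a).symm)
  refine ⟨⟨a, max b₁ a, fun i hi => ?_⟩, fun i => ?_⟩
  · rcases hi with hi | hi
    · exact hP'lt i hi
    · have h3 := le_max_left b₁ a
      have h4 := le_max_right b₁ a
      exact hP'gt0 i (by omega) (by omega)
  · rcases lt_trichotomy i a with hi | rfl | hi
    · exact isFinLocFree_of_isZero (hP'lt i hi)
    · exact (isFinLocFree_iff_flat _).2 ⟨hfp, hflat⟩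
    · exact hP'gt i hi

/-- **Part C.** If `φ : P ⟶ G` is a quasi-isomorphism in degrees `≥ a` and `G` is exact in degrees
`< a`, then `G ≅ τ_{≥ a} P` in the derived category. -/
theorem nonempty_iso_truncGE {P G : CochainComplex X.Modules ℤ} (a : ℤ) (φ : P ⟶ G)
    (hφ : IsApprox (a - 1) (DerivedCategory.Q.map φ)) (hG : ∀ i, i < a → G.ExactAt i) :
    Nonempty (DerivedCategory.Q.obj G ≅ DerivedCategory.Q.obj (P.truncGE a)) := by
  haveI : G.IsGE a := by
    rw [CochainComplex.isGE_iff]
    exact hG
  have hq1 : QuasiIso (CochainComplex.truncGEMap φ a) := by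
    rw [CochainComplex.quasiIso_truncGEMap_iff]
    intro i hi
    rw [quasiIsoAt_iff_isIso_homologyMap]
    exact ((isApprox_Q_map_iff φ (a - 1)).1 hφ).1 i (by omega)
  haveI : IsIso (DerivedCategory.Q.map (CochainComplex.truncGEMap φ a)) := by
    rw [DerivedCategory.isIso_Q_map_iff_quasiIso]
    exact hq1
  haveI : IsIso (DerivedCategory.Q.map (G.πTruncGE a)) := by
    rw [DerivedCategory.isIso_Q_map_iff_quasiIso]
    infer_instance
  exact ⟨asIso (DerivedCategory.Q.map (G.πTruncGE a)) ≪≫
    (asIso (DerivedCategory.Q.map (CochainComplex.truncGEMap φ a))).symm⟩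

/-- **Key statement.** Let `F` be a complex of flat modules vanishing outside `[a, b]` and
`φ : P ⟶ F` a chain map from a strictly perfect complex which is a quasi-isomorphism in degrees
`≥ a`. Then `F` is quasi-isomorphic to the strictly perfect complex `τ_{≥ a} P`. -/
theorem exists_strictlyPerfect_of_flat {P F : CochainComplex X.Modules ℤ} (a b : ℤ)
    (hP : DCoh.IsStrictlyPerfect P) (hF : DCoh.VanishesOutside F a b)
    (hflat : ∀ i, FlatMod.IsFlat (F.X i)) (φ : P ⟶ F)
    (hφ : IsApprox (a - 1) (DerivedCategory.Q.map φ)) :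
    ∃ P' : CochainComplex X.Modules ℤ, DCoh.IsStrictlyPerfect P' ∧
      Nonempty (DerivedCategory.Q.obj F ≅ DerivedCategory.Q.obj P') := by
  refine ⟨P.truncGE a, isStrictlyPerfect_truncGE a hP (isFlat_truncGE_X a b hP hF hflat φ hφ),
    nonempty_iso_truncGE a φ hφ fun i hi => ?_⟩
  exact (HomologicalComplex.exactAt_iff_isZero_homology _ _).2
    (IsZero.of_mono (F.homologyι i) (IsZero.of_epi (F.pOpcycles i) (hF i (Or.inl hi))))

end

end Groth.Agent.Lib.Helper28.DCohRes
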