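import Mathlib
import Groth.Agent.Lib.Helper28.DCohRes23

/-!
# Pseudo-coherent + flat amplitude ⇒ perfect
-/

set_option autoImplicit false

universe u

open CategoryTheory Limits AlgebraicGeometry TopologicalSpace

namespace Groth.Agent.Lib.Helper28.DCohRes

noncomputable section

attribute [local instance] HasDerivedCategory.standard

open Groth.Agent.Lib.Helper29.QCoh

variable {X : Scheme.{u}}

/-- restriction of flat complexes -/
lemma vanishesOutside_resCx {U : Scheme.{u}} (j : U ⟶ X) [IsOpenImmersion j]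
    {F : CochainComplex X.Modules ℤ} {a b : ℤ} (hF : DCoh.VanishesOutside F a b) :
    DCoh.VanishesOutside ((resCx j).obj F) a b :=
  fun i hi => (Scheme.Modules.restrictFunctor j).map_isZero (hF i hi)

lemma isFlat_resCx_X {U : Scheme.{u}} (j : U ⟶ X) [IsOpenImmersion j]
    {F : CochainComplex X.Modules ℤ} (hflat : ∀ i, FlatMod.IsFlat (F.X i)) (i : ℤ) :
    FlatMod.IsFlat (((resCx j).obj F).X i) :=
  isFlat_restrict j (hflat i)

/-- **Main theorem**: an object represented by a bounded complex of flat modules in `[a, b]`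
which is `(a-1)`-pseudo-coherent is perfect. -/
theorem isPerfect_of_flat_of_isPseudoCoherentD {K : DCoh.D X} (F : CochainComplex X.Modules ℤ)
    (a b : ℤ) (hF : DCoh.VanishesOutside F a b) (hflat : ∀ i, FlatMod.IsFlat (F.X i))
    (e : DerivedCategory.Q.obj F ≅ K) (h : DCoh.IsPseudoCoherentD (a - 1) K) :
    DCoh.IsPerfect K := by
  rw [isPerfect_iff]
  intro x
  obtain ⟨U, j, hj, ⟨y, rfl⟩, P, α, hP, hα⟩ := (isPseudoCoherentD_iff (a - 1) K).1 h x
  let ι : (resD j).obj K ≅ DerivedCategory.Q.obj ((resCx j).obj F) :=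
    (resD j).mapIso e.symm ≪≫ (resDQ j).app F
  have hα' : IsApprox (a - 1) (α ≫ ι.hom) := hα.comp_iso ι
  obtain ⟨⟨a₁, b₁, hab₁⟩, hfree⟩ := hP
  obtain ⟨U', j', hj', hy, ψ, hψ⟩ := exists_chainMap_locally P ((resCx j).obj F) a₁ b₁ hfree
    (fun i hi => hab₁ i (Or.inl hi)) (fun i hi => hab₁ i (Or.inr hi)) (α ≫ ι.hom) y
  have hψ' : IsApprox (a - 1) (DerivedCategory.Q.map ψ) := by
    rw [hψ]
    exact ((hα'.resD j').comp_iso ((resDQ j').app _)).iso_comp ((resDQ j').app P).symm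
  obtain ⟨P', hP', ⟨e'⟩⟩ := exists_strictlyPerfect_of_flat a b
    (isStrictlyPerfect_resCx j' ⟨⟨a₁, b₁, hab₁⟩, hfree⟩)
    (vanishesOutside_resCx j' (vanishesOutside_resCx j hF))
    (isFlat_resCx_X j' (isFlat_resCx_X j hflat)) ψ hψ'
  refine ⟨U', j' ≫ j, inferInstance, mem_range_comp j j' hy, P', hP', ⟨?_⟩⟩
  exact (resDComp j' j).app K ≪≫ (resD j').mapIso ι ≪≫ (resDQ j').app _ ≪≫ e'

/-- pseudo-coherence restricts to open subschemes -/
theorem isPseudoCoherentD_resD {m : ℤ} {K : DCoh.D X} (h : DCoh.IsPseudoCoherentD m K)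
    {U : Scheme.{u}} (j : U ⟶ X) [IsOpenImmersion j] :
    DCoh.IsPseudoCoherentD m ((resD j).obj K) := by
  rw [isPseudoCoherentD_iff] at h ⊢
  intro y
  obtain ⟨U₁, j₁, hj₁, hy₁, hK⟩ := h (j y)
  obtain ⟨V, k, k₁, hk, hk₁, hyV, f, f₁⟩ := exists_common j j₁ ⟨y, rfl⟩ hy₁
  have p : PCAlong m K (k ≫ j) := ((hK.comp k₁).of_eq f₁).of_eq f.symm
  obtain ⟨P, α, hP, hα⟩ := p
  refine ⟨V, k, hk, ?_, P, α ≫ (resDComp k j).hom.app K, hP, hα.comp_iso ((resDComp k j).app K)⟩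
  refine ⟨⟨j y, hyV⟩, ?_⟩
  have h1 : (k ≫ j) ⟨j y, hyV⟩ = j y := by rw [f]; rfl
  rw [Scheme.Hom.comp_base, TopCat.comp_app] at h1
  exact j.isOpenEmbedding.injective h1

/-- perfectness is local -/
theorem isPerfect_of_locally {K : DCoh.D X}
    (h : ∀ x : X, ∃ (U : Scheme.{u}) (j : U ⟶ X) (_ : IsOpenImmersion j), x ∈ Set.range j.base ∧
      DCoh.IsPerfect ((resD j).obj K)) : DCoh.IsPerfect K := by
  rw [isPerfect_iff]
  intro x
  obtain ⟨U, j, hj, ⟨y, rfl⟩, hK⟩ := h x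
  rw [isPerfect_iff] at hK
  obtain ⟨U', j', hj', hy, P, hP, ⟨e⟩⟩ := hK y
  exact ⟨U', j' ≫ j, inferInstance, mem_range_comp j j' hy, P, hP,
    ⟨(resDComp j' j).app K ≪≫ e⟩⟩

end

end Groth.Agent.Lib.Helper28.DCohRes
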