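import Mathlib
import Groth.Agent.Lib.Helper28.DCohRes24

/-!
# Direct summands of perfect objects: the local statement
-/

set_option autoImplicit false

universe u

open CategoryTheory Limits AlgebraicGeometry TopologicalSpace

namespace Groth.Agent.Lib.Helper28.DCohRes

noncomputable section

section Abs

/-- the equations of a binary biproduct -/
structure IsBiconeData {𝒜 : Type*} [Category 𝒜] [Preadditive 𝒜] {S A B : 𝒜}
    (ιA : A ⟶ S) (ιB : B ⟶ S) (πA : S ⟶ A) (πB : S ⟶ B) : Prop where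
  inl_fst : ιA ≫ πA = 𝟙 A
  inr_snd : ιB ≫ πB = 𝟙 B
  inl_snd : ιA ≫ πB = 0
  inr_fst : ιB ≫ πA = 0
  total : πA ≫ ιA + πB ≫ ιB = 𝟙 S

variable {𝒜 : Type*} [Category 𝒜] [Preadditive 𝒜] {ℬ : Type*} [Category ℬ] [Preadditive ℬ]

lemma isBiconeData_biprod (A B : 𝒜) [HasBinaryBiproduct A B] :
    IsBiconeData (biprod.inl : A ⟶ A ⊞ B) biprod.inr biprod.fst biprod.snd :=
  ⟨biprod.inl_fst, biprod.inr_snd, biprod.inl_snd, biprod.inr_fst, biprod.total⟩

lemma IsBiconeData.map {S A B : 𝒜} {ιA : A ⟶ S} {ιB : B ⟶ S} {πA : S ⟶ A} {πB : S ⟶ B}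
    (h : IsBiconeData ιA ιB πA πB) (H : 𝒜 ⥤ ℬ) [H.Additive] :
    IsBiconeData (H.map ιA) (H.map ιB) (H.map πA) (H.map πB) where
  inl_fst := by rw [← Functor.map_comp, h.inl_fst, CategoryTheory.Functor.map_id]
  inr_snd := by rw [← Functor.map_comp, h.inr_snd, CategoryTheory.Functor.map_id]
  inl_snd := by rw [← Functor.map_comp, h.inl_snd, Functor.map_zero]
  inr_fst := by rw [← Functor.map_comp, h.inr_fst, Functor.map_zero]
  total := by rw [← Functor.map_comp, ← Functor.map_comp, ← Functor.map_add, h.total,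
    CategoryTheory.Functor.map_id]

/-- a "diagonal" map between two biproducts with invertible components is invertible -/
lemma isIso_of_isBiconeData {S A B E K L : 𝒜} {ιA : A ⟶ S} {ιB : B ⟶ S} {πA : S ⟶ A}
    {πB : S ⟶ B} (hS : IsBiconeData ιA ιB πA πB) {iK : K ⟶ E} {iL : L ⟶ E} {pK : E ⟶ K}
    {pL : E ⟶ L} (hE : IsBiconeData iK iL pK pL) (u : A ⟶ K) (v : B ⟶ L) [IsIso u] [IsIso v] :
    IsIso (πA ≫ u ≫ iK + πB ≫ v ≫ iL) := by
  refine ⟨pK ≫ inv u ≫ ιA + pL ≫ inv v ≫ ιB, ?_, ?_⟩
  · simp only [Preadditive.add_comp, Preadditive.comp_add, Category.assoc]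
    rw [reassoc_of% hE.inl_fst, reassoc_of% hE.inl_snd, reassoc_of% hE.inr_fst,
      reassoc_of% hE.inr_snd]
    simp [hS.total]
  · simp only [Preadditive.add_comp, Preadditive.comp_add, Category.assoc]
    rw [reassoc_of% hS.inl_fst, reassoc_of% hS.inl_snd, reassoc_of% hS.inr_fst,
      reassoc_of% hS.inr_snd]
    simp [hE.total]

end Abs

attribute [local instance] HasDerivedCategory.standard

open Groth.Agent.Lib.Helper29.QCoh

variable {X : Scheme.{u}}

lemma isStrictlyPerfect_biprod {P₁ P₂ : CochainComplex X.Modules ℤ}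
    (h₁ : DCoh.IsStrictlyPerfect P₁) (h₂ : DCoh.IsStrictlyPerfect P₂) :
    DCoh.IsStrictlyPerfect (P₁ ⊞ P₂) := by
  obtain ⟨⟨a₁, b₁, hab₁⟩, hfree₁⟩ := h₁
  obtain ⟨⟨a₂, b₂, hab₂⟩, hfree₂⟩ := h₂
  refine ⟨⟨min a₁ a₂, max b₁ b₂, fun i hi => ?_⟩, fun i => ?_⟩
  · refine IsZero.of_iso ?_ (HomologicalComplex.biprodXIso P₁ P₂ i)
    rw [biprod_isZero_iff]
    have h1 := min_le_left a₁ a₂
    have h2 := min_le_right a₁ a₂
    have h3 := le_max_left b₁ b₂
    have h4 := le_max_right b₁ b₂
    constructor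
    · apply hab₁
      rcases hi with hi | hi
      · left; omega
      · right; omega
    · apply hab₂
      rcases hi with hi | hi
      · left; omega
      · right; omega
  · exact isFinLocFree_of_iso (HomologicalComplex.biprodXIso P₁ P₂ i).symm
      (isFinLocFree_biprod (hfree₁ i) (hfree₂ i))

lemma isZero_homology_Q_of_isZero_X (F : CochainComplex X.Modules ℤ) (i : ℤ) (h : IsZero (F.X i)) :
    IsZero ((DerivedCategory.homologyFunctor X.Modules i).obj (DerivedCategory.Q.obj F)) := by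
  refine IsZero.of_iso ?_ ((DerivedCategory.homologyFunctorFactors X.Modules i).app F)
  change IsZero (F.homology i)
  exact IsZero.of_mono (F.homologyι i) (IsZero.of_epi (F.pOpcycles i) h)

lemma Q_map_resCx_map {U : Scheme.{u}} (j : U ⟶ X) [IsOpenImmersion j]
    {A B : CochainComplex X.Modules ℤ} (g : A ⟶ B) :
    DerivedCategory.Q.map ((resCx j).map g) =
      (resDQ j).inv.app A ≫ (resD j).map (DerivedCategory.Q.map g) ≫ (resDQ j).hom.app B := by
  have n := (resDQ j).hom.naturality g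
  dsimp at n
  rw [← cancel_epi ((resDQ j).hom.app A), Iso.hom_inv_id_app_assoc]
  exact n.symm

/-- **Local statement for direct summands.** -/
theorem perfAlong_of_summand_aux {E K L : DCoh.D X} {iK : K ⟶ E} {iL : L ⟶ E} {pK : E ⟶ K}
    {pL : E ⟶ L} (hE : IsBiconeData iK iL pK pL)
    {F : CochainComplex X.Modules ℤ} (a b : ℤ) (hF : DCoh.IsStrictlyPerfect F)
    (hFab : DCoh.VanishesOutside F a b) (eF : E ≅ DerivedCategory.Q.obj F)
    {PK PL G : CochainComplex X.Modules ℤ} (hPK : DCoh.IsStrictlyPerfect PK)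
    (hPL : DCoh.IsStrictlyPerfect PL) (g : PK ⟶ G) (eK : DerivedCategory.Q.obj G ≅ K)
    (hg : IsApprox (a - 1) (DerivedCategory.Q.map g))
    (αL : DerivedCategory.Q.obj PL ⟶ L) (hαL : IsApprox (a - 1) αL) (y : X) :
    ∃ (U : Scheme.{u}) (j : U ⟶ X) (_ : IsOpenImmersion j), y ∈ Set.range j.base ∧
      PerfAlong K j := by
  let αK : DerivedCategory.Q.obj PK ⟶ K := DerivedCategory.Q.map g ≫ eK.hom
  have hαK : IsApprox (a - 1) αK := hg.comp_iso eK
  let β' : DerivedCategory.Q.obj (PK ⊞ PL) ⟶ E :=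
    DerivedCategory.Q.map (biprod.fst : PK ⊞ PL ⟶ PK) ≫ αK ≫ iK +
      DerivedCategory.Q.map (biprod.snd : PK ⊞ PL ⟶ PL) ≫ αL ≫ iL
  -- vanishing of the cohomology of `E` below `a`
  have hzE : ∀ i, i < a → IsZero ((DerivedCategory.homologyFunctor X.Modules i).obj E) :=
    fun i hi => IsZero.of_iso (isZero_homology_Q_of_isZero_X F i (hFab i (Or.inl hi)))
      ((DerivedCategory.homologyFunctor X.Modules i).mapIso eF)
  have hβ' : IsApprox (a - 1) β' := by
    refine ⟨fun i hi => ?_, ⟨fun g₁ g₂ _ => (hzE (a - 1) (by omega)).eq_of_src g₁ g₂⟩⟩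
    haveI := hαK.1 i hi
    haveI := hαL.1 i hi
    have hS := ((isBiconeData_biprod PK PL).map DerivedCategory.Q).map
      (DerivedCategory.homologyFunctor X.Modules i)
    have hE' := hE.map (DerivedCategory.homologyFunctor X.Modules i)
    have := isIso_of_isBiconeData hS hE'
      ((DerivedCategory.homologyFunctor X.Modules i).map αK)
      ((DerivedCategory.homologyFunctor X.Modules i).map αL)
    have e : (DerivedCategory.homologyFunctor X.Modules i).map β' =
        (DerivedCategory.homologyFunctor X.Modules i).map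
            (DerivedCategory.Q.map (biprod.fst : PK ⊞ PL ⟶ PK)) ≫
          (DerivedCategory.homologyFunctor X.Modules i).map αK ≫
            (DerivedCategory.homologyFunctor X.Modules i).map iK +
        (DerivedCategory.homologyFunctor X.Modules i).map
            (DerivedCategory.Q.map (biprod.snd : PK ⊞ PL ⟶ PL)) ≫
          (DerivedCategory.homologyFunctor X.Modules i).map αL ≫
            (DerivedCategory.homologyFunctor X.Modules i).map iL := by
      simp only [β', Functor.map_add, Functor.map_comp]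
    rw [e]
    exact this
  have hβ : IsApprox (a - 1) (β' ≫ eF.hom) := hβ'.comp_iso eF
  -- local chain map
  have hS := isStrictlyPerfect_biprod hPK hPL
  obtain ⟨⟨aS, bS, habS⟩, hfreeS⟩ := hS
  obtain ⟨U, j, hj, hy, θ, hθ⟩ := exists_chainMap_locally (PK ⊞ PL) F aS bS hfreeS
    (fun i hi => habS i (Or.inl hi)) (fun i hi => habS i (Or.inr hi)) (β' ≫ eF.hom) y
  have hθ' : IsApprox (a - 1) (DerivedCategory.Q.map θ) := by
    rw [hθ]
    exact ((hβ.resD j).comp_iso ((resDQ j).app F)).iso_comp ((resDQ j).app (PK ⊞ PL)).symm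
  have hflatS : FlatMod.IsFlat ((((resCx j).obj (PK ⊞ PL)).truncGE a).X a) :=
    isFlat_truncGE_X a b (isStrictlyPerfect_resCx j ⟨⟨aS, bS, habS⟩, hfreeS⟩)
      (vanishesOutside_resCx j hFab)
      (fun i => isFlat_of_isFinLocFree ((isStrictlyPerfect_resCx j hF).2 i)) θ hθ'
  -- the `K`-summand
  let inl' : (resCx j).obj PK ⟶ (resCx j).obj (PK ⊞ PL) := (resCx j).map biprod.inl
  let fst' : (resCx j).obj (PK ⊞ PL) ⟶ (resCx j).obj PK := (resCx j).map biprod.fst
  have hif : inl' ≫ fst' = 𝟙 _ := by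
    rw [← Functor.map_comp, biprod.inl_fst, CategoryTheory.Functor.map_id]
  have hret : (CochainComplex.truncGEMap inl' a).f a ≫ (CochainComplex.truncGEMap fst' a).f a =
      𝟙 _ := by
    rw [← HomologicalComplex.comp_f, ← HomologicalComplex.truncGEMap_comp, hif,
      HomologicalComplex.truncGEMap_id, HomologicalComplex.id_f]
  have hflatK : FlatMod.IsFlat ((((resCx j).obj PK).truncGE a).X a) :=
    isFlat_of_retract _ _ hret hflatS
  have hSPK := isStrictlyPerfect_truncGE a (isStrictlyPerfect_resCx j hPK) hflatK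
  -- comparison with `G`
  have hφ : IsApprox (a - 1) (DerivedCategory.Q.map ((resCx j).map g)) := by
    rw [Q_map_resCx_map]
    exact ((hg.resD j).comp_iso ((resDQ j).app G)).iso_comp ((resDQ j).app PK).symm
  have hGex : ∀ i, i < a → ((resCx j).obj G).ExactAt i := by
    intro i hi
    refine exactAt_resCx j G i ?_
    rw [HomologicalComplex.exactAt_iff_isZero_homology]
    refine IsZero.of_iso ?_ ((DerivedCategory.homologyFunctorFactors X.Modules i).app G).symm
    refine IsZero.of_iso ?_ ((DerivedCategory.homologyFunctor X.Modules i).mapIso eK)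
    exact isZero_of_retract ((DerivedCategory.homologyFunctor X.Modules i).map iK)
      ((DerivedCategory.homologyFunctor X.Modules i).map pK)
      (by rw [← Functor.map_comp, hE.inl_fst, CategoryTheory.Functor.map_id]) (hzE i hi)
  obtain ⟨e'⟩ := nonempty_iso_truncGE a ((resCx j).map g) hφ hGex
  exact ⟨U, j, hj, hy, _, hSPK, ⟨(resD j).mapIso eK.symm ≪≫ (resDQ j).app G ≪≫ e'⟩⟩

end

end Groth.Agent.Lib.Helper28.DCohRes
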