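import Mathlib
import Groth.Agent.Lib.Helper28.DCohRes25

/-!
# Direct summands of perfect objects are perfect
-/

set_option autoImplicit false

universe u

open CategoryTheory Limits AlgebraicGeometry TopologicalSpace

namespace Groth.Agent.Lib.Helper28.DCohRes

noncomputable section

lemma IsBiconeData.symm {𝒜 : Type*} [Category 𝒜] [Preadditive 𝒜] {S A B : 𝒜}
    {ιA : A ⟶ S} {ιB : B ⟶ S} {πA : S ⟶ A} {πB : S ⟶ B} (h : IsBiconeData ιA ιB πA πB) :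
    IsBiconeData ιB ιA πB πA :=
  ⟨h.inr_snd, h.inl_fst, h.inr_fst, h.inl_snd, by rw [add_comm]; exact h.total⟩

attribute [local instance] HasDerivedCategory.standard

open Groth.Agent.Lib.Helper29.QCoh

variable {X : Scheme.{u}}

/-- **Direct summands of perfect objects are perfect** (bicone form). -/
theorem isPerfect_of_isBiconeData {E K L : DCoh.D X} {iK : K ⟶ E} {iL : L ⟶ E} {pK : E ⟶ K}
    {pL : E ⟶ L} (hE : IsBiconeData iK iL pK pL) (h : DCoh.IsPerfect E)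
    (hK : ∀ m, DCoh.IsPseudoCoherentD m K) (hL : ∀ m, DCoh.IsPseudoCoherentD m L) :
    DCoh.IsPerfect K := by
  rw [isPerfect_iff] at h ⊢
  intro x
  obtain ⟨U₀, j₀, hj₀, hx₀, F, hF, ⟨eF⟩⟩ := h x
  obtain ⟨⟨a, b, hab⟩, hfree⟩ := hF
  obtain ⟨U₁, j₁, hj₁, hx₁, hpK⟩ := (isPseudoCoherentD_iff (a - 1) K).1 (hK (a - 1)) x
  obtain ⟨U₂, j₂, hj₂, hx₂, hpL⟩ := (isPseudoCoherentD_iff (a - 1) L).1 (hL (a - 1)) x
  obtain ⟨V₁, k₀, k₁, hk₀, hk₁, hxV₁, f₀, f₁⟩ := exists_common j₀ j₁ hx₀ hx₁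
  obtain ⟨V, l, k₂, hl, hk₂, hxV, fl, f₂⟩ := exists_common V₁.ι j₂
    (by rw [Scheme.Opens.range_ι]; exact hxV₁) hx₂
  have hJ : (l ≫ k₀) ≫ j₀ = V.ι := by rw [Category.assoc, f₀, fl]
  have pK : PCAlong (a - 1) K ((l ≫ k₀) ≫ j₀) :=
    (hpK.comp (l ≫ k₁)).of_eq (by rw [Category.assoc, f₁, fl, hJ])
  have pL : PCAlong (a - 1) L ((l ≫ k₀) ≫ j₀) := (hpL.comp k₂).of_eq (by rw [f₂, hJ])
  have hxJ : x ∈ Set.range ((l ≫ k₀) ≫ j₀).base := by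
    rw [hJ, Scheme.Opens.range_ι]
    exact hxV
  obtain ⟨y, rfl⟩ := hxJ
  let eF' : (resD ((l ≫ k₀) ≫ j₀)).obj E ≅ DerivedCategory.Q.obj ((resCx (l ≫ k₀)).obj F) :=
    (resDComp (l ≫ k₀) j₀).app E ≪≫ (resD (l ≫ k₀)).mapIso eF ≪≫ (resDQ (l ≫ k₀)).app F
  obtain ⟨PK, αK, hPK, hαK⟩ := pK
  obtain ⟨PL, αL, hPL, hαL⟩ := pL
  -- make `αK` a chain map
  obtain ⟨G, g, s, hs, hfac⟩ := DerivedCategory.left_fac
    (αK ≫ (DerivedCategory.Q.objObjPreimageIso ((resD ((l ≫ k₀) ≫ j₀)).obj K)).inv)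
  let eK : DerivedCategory.Q.obj G ≅ (resD ((l ≫ k₀) ≫ j₀)).obj K :=
    (asIso (DerivedCategory.Q.map s)).symm ≪≫
      DerivedCategory.Q.objObjPreimageIso ((resD ((l ≫ k₀) ≫ j₀)).obj K)
  have hg : IsApprox (a - 1) (DerivedCategory.Q.map g) := by
    have e1 : DerivedCategory.Q.map g =
        (αK ≫ (DerivedCategory.Q.objObjPreimageIso ((resD ((l ≫ k₀) ≫ j₀)).obj K)).inv) ≫
          DerivedCategory.Q.map s := by
      rw [hfac, Category.assoc, IsIso.inv_hom_id, Category.comp_id]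
    rw [e1]
    exact (hαK.comp_iso
      (DerivedCategory.Q.objObjPreimageIso ((resD ((l ≫ k₀) ≫ j₀)).obj K)).symm).comp_iso
        (asIso (DerivedCategory.Q.map s))
  obtain ⟨U, j, hj, hy, P, hP, ⟨e⟩⟩ := perfAlong_of_summand_aux
    (hE.map (resD ((l ≫ k₀) ≫ j₀))) a b
    (isStrictlyPerfect_resCx (l ≫ k₀) ⟨⟨a, b, hab⟩, hfree⟩)
    (vanishesOutside_resCx (l ≫ k₀) hab) eF' hPK hPL g eK hg αL hαL y
  exact ⟨U, j ≫ (l ≫ k₀) ≫ j₀, inferInstance, mem_range_comp _ j hy, P, hP,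
    ⟨(resDComp j ((l ≫ k₀) ≫ j₀)).app K ≪≫ e⟩⟩

end

end Groth.Agent.Lib.Helper28.DCohRes
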