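import Mathlib
import Groth.Agent.Lib.Helper28.DCohRes26
import Groth.Agent.Lib.Helper29.QCohCrit
import Groth.Agent.Lib.Helper29.QCohExt

/-!
# Perfect objects on Noetherian schemes have bounded coherent cohomology
-/

set_option autoImplicit false

universe u

open CategoryTheory Limits AlgebraicGeometry TopologicalSpace

namespace Groth.Agent.Lib.Helper28.DCohRes

noncomputable section

attribute [local instance] HasDerivedCategory.standard

open Groth.Agent.Lib.Helper29.QCoh

variable {X : Scheme.{u}}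

/-- vanishing of a module is local -/
lemma isZero_of_locally (M : X.Modules)
    (h : ∀ x : X, ∃ (U : Scheme.{u}) (j : U ⟶ X) (_ : IsOpenImmersion j), x ∈ Set.range j.base ∧
      IsZero (M.restrict j)) : IsZero M := by
  rw [isZero_iff_stalk_subsingleton]
  intro x
  obtain ⟨U, j, hj, ⟨y, rfl⟩, hz⟩ := h x
  have h1 : Subsingleton ((M.restrict j).presheaf.stalk y) :=
    (isZero_iff_stalk_subsingleton (M.restrict j)).1 hz y
  have h2 : IsZero ((M.restrict j).presheaf.stalk y) := AddCommGrpCat.isZero_of_subsingleton _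
  exact AddCommGrpCat.subsingleton_of_isZero (h2.of_iso (restrictStalkIso j M y).symm)

/-- quasi-coherence is local -/
lemma isQuasicoherent_of_locally (M : X.Modules)
    (h : ∀ x : X, ∃ (U : Scheme.{u}) (j : U ⟶ X) (_ : IsOpenImmersion j), x ∈ Set.range j.base ∧
      (M.restrict j).IsQuasicoherent) : M.IsQuasicoherent := by
  have h' : ∀ x : X, ∃ (R : CommRingCat.{u}) (f : Spec R ⟶ X) (_ : IsOpenImmersion f),
      x ∈ Set.range f.base ∧ (M.restrict f).IsQuasicoherent := by
    intro x
    obtain ⟨U, j, hj, ⟨y, rfl⟩, hq⟩ := h x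
    obtain ⟨W, hW⟩ := exists_mem_range_fromSpec U y
    refine ⟨_, W.2.fromSpec ≫ j, inferInstance, mem_range_comp j W.2.fromSpec hW, ?_⟩
    have : ((M.restrict j).restrict W.2.fromSpec).IsQuasicoherent := inferInstance
    exact isQuasicoherent_of_iso (hM := this)
      ((Scheme.Modules.restrictFunctorComp W.2.fromSpec j).app M).symm
  choose R f hf hx hq using h'
  exact isQuasicoherent_of_restrict_spec M R f (fun x => ⟨x, hx x⟩) hq

/-- finite type is local -/
lemma isFiniteType_of_locally (M : X.Modules)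
    (h : ∀ x : X, ∃ (U : Scheme.{u}) (j : U ⟶ X) (_ : IsOpenImmersion j), x ∈ Set.range j.base ∧
      (M.restrict j).IsFiniteType) : M.IsFiniteType := by
  refine isFiniteType_of_locally_epi M fun x => ?_
  obtain ⟨U, j, hj, ⟨y, rfl⟩, hft⟩ := h x
  obtain ⟨V, hyV, P, π, hP, hπ⟩ := exists_epi_of_isFiniteType (M.restrict j) y
  refine ⟨V, V.ι ≫ j, inferInstance,
    mem_range_comp j V.ι (by rw [Scheme.Opens.range_ι]; exact hyV), P,
    π ≫ ((Scheme.Modules.restrictFunctorComp V.ι j).app M).inv, hP, inferInstance⟩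

/-- the cohomology sheaves of a strictly perfect complex on a locally Noetherian scheme are
coherent -/
lemma isCoh_homology_of_isStrictlyPerfect [IsLocallyNoetherian X]
    {P : CochainComplex X.Modules ℤ} (hP : DCoh.IsStrictlyPerfect P) (i : ℤ) :
    (P.homology i).IsQuasicoherent ∧ (P.homology i).IsFiniteType := by
  have hq : ∀ k, (P.X k).IsQuasicoherent := fun k => isQuasicoherent_of_isFinLocFree (hP.2 k)
  have hft : ∀ k, (P.X k).IsFiniteType := fun k => by
    have := isFinitePresentation_of_isFinLocFree (hP.2 k)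
    infer_instance
  have hZq : (P.cycles i).IsQuasicoherent :=
    isQuasicoherent_of_iso (cyclesIsoKernel P i).symm
  have hZft : (P.cycles i).IsFiniteType := isFiniteType_of_mono (P.iCycles i)
  have hHq : (P.homology i).IsQuasicoherent := by
    have e : cokernel (P.toCycles (i - 1) i) ≅ P.homology i := by
      let e := IsColimit.coconePointUniqueUpToIso (cokernelIsCokernel (P.toCycles (i - 1) i))
        (P.homologyIsCokernel (i - 1) i (by simp))
      exact e
    exact isQuasicoherent_of_iso e
  exact ⟨hHq, isFiniteType_of_epi (P.homologyπ i)⟩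

/-- the cohomology sheaves of a perfect object, locally -/
def HDIsoOfPerfAlong {E : DCoh.D X} {U : Scheme.{u}} (j : U ⟶ X) [IsOpenImmersion j]
    {P : CochainComplex U.Modules ℤ} (e : (resD j).obj E ≅ DerivedCategory.Q.obj P) (i : ℤ) :
    (DCoh.HD E i).restrict j ≅ P.homology i :=
  (HDresDIso j E i).symm ≪≫ (DerivedCategory.homologyFunctor U.Modules i).mapIso e ≪≫
    (DerivedCategory.homologyFunctorFactors U.Modules i).app P

/-- **Perfect objects on a locally Noetherian scheme have coherent cohomology.** -/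
theorem isCohD_of_isPerfect [IsLocallyNoetherian X] (E : DCoh.D X) (hE : DCoh.IsPerfect E) :
    DCoh.IsCohD E := by
  rw [isPerfect_iff] at hE
  intro i
  constructor
  · refine isQuasicoherent_of_locally _ fun x => ?_
    obtain ⟨U, j, hj, hx, P, hP, ⟨e⟩⟩ := hE x
    have : IsLocallyNoetherian U := isLocallyNoetherian_of_isOpenImmersion j
    have := (isCoh_homology_of_isStrictlyPerfect hP i).1
    exact ⟨U, j, hj, hx, isQuasicoherent_of_iso (HDIsoOfPerfAlong j e i).symm⟩
  · refine isFiniteType_of_locally _ fun x => ?_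
    obtain ⟨U, j, hj, hx, P, hP, ⟨e⟩⟩ := hE x
    have : IsLocallyNoetherian U := isLocallyNoetherian_of_isOpenImmersion j
    have h1 := (isCoh_homology_of_isStrictlyPerfect hP i).1
    have h2 := (isCoh_homology_of_isStrictlyPerfect hP i).2
    have h3 : ((DCoh.HD E i).restrict j).IsQuasicoherent :=
      isQuasicoherent_of_iso (HDIsoOfPerfAlong j e i).symm
    exact ⟨U, j, hj, hx, isFiniteType_of_epi (HDIsoOfPerfAlong j e i).inv⟩

/-- **Perfect objects on a quasi-compact scheme are bounded.** -/
theorem exists_bounds_of_isPerfect [CompactSpace X] (E : DCoh.D X) (hE : DCoh.IsPerfect E) :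
    ∃ a b : ℤ, E.IsGE a ∧ E.IsLE b := by
  rw [isPerfect_iff] at hE
  choose U j hj hx P hP e using hE
  have hbd : ∀ x, ∃ a b : ℤ, DCoh.VanishesOutside (P x) a b := fun x => (hP x).1
  choose a b hab using hbd
  obtain ⟨s, hs⟩ := isCompact_univ.elim_finite_subcover (fun x : X => ((j x).opensRange : Set X))
    (fun x => (j x).opensRange.2) (fun x _ => Set.mem_iUnion.2 ⟨x, hx x⟩)
  obtain ⟨a₁, ha₁⟩ := (s.image (fun x => -a x)).exists_le
  obtain ⟨b₀, hb₀⟩ := (s.image b).exists_le
  obtain ⟨a₀, rfl⟩ : ∃ a₀ : ℤ, a₁ = -a₀ := ⟨-a₁, by simp⟩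
  have key : ∀ i, (i < a₀ ∨ b₀ < i) → IsZero (DCoh.HD E i) := by
    intro i hi
    refine isZero_of_locally _ fun x => ?_
    obtain ⟨y, hys, hxy⟩ : ∃ y ∈ s, x ∈ ((j y).opensRange : Set X) := by
      have := hs (Set.mem_univ x)
      simpa using this
    have h1 := ha₁ (-a y) (Finset.mem_image_of_mem (fun x => -a x) hys)
    have h2 := hb₀ (b y) (Finset.mem_image_of_mem b hys)
    refine ⟨U y, j y, hj y, hxy, ?_⟩
    haveI := hj y
    obtain ⟨ey⟩ := e y
    refine IsZero.of_iso ?_ (HDIsoOfPerfAlong (j y) ey i)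
    have hz : IsZero ((P y).X i) := hab y i (by omega)
    exact IsZero.of_mono ((P y).homologyι i) (IsZero.of_epi ((P y).pOpcycles i) hz)
  refine ⟨a₀, b₀, ?_, ?_⟩
  · rw [DerivedCategory.isGE_iff]
    intro i hi
    exact key i (Or.inl hi)
  · rw [DerivedCategory.isLE_iff]
    intro i hi
    exact key i (Or.inr hi)

end

end Groth.Agent.Lib.Helper28.DCohRes
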