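import Mathlib
import Groth.Agent.Lib.Helper28.DCohRes27

/-!
# Coherent modules: extensions and five-term exact sequences
-/

set_option autoImplicit false

universe u

open CategoryTheory Limits AlgebraicGeometry TopologicalSpace

namespace Groth.Agent.Lib.Helper28.DCohRes

noncomputable section

section Five

variable {𝒜 : Type*} [Category 𝒜] [Abelian 𝒜]

/-- From a five-term exact sequence `A' → A → B → D → D'` one gets the short exact sequence
`0 → coker (A' → A) → B → ker (D → D') → 0`. -/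
lemma shortExact_of_five {A' A B D D' : 𝒜} (w : A' ⟶ A) (u : A ⟶ B) (δ : B ⟶ D) (v : D ⟶ D')
    (hwu : w ≫ u = 0) (huδ : u ≫ δ = 0) (hδv : δ ≫ v = 0)
    (h₁ : (ShortComplex.mk w u hwu).Exact) (h₂ : (ShortComplex.mk u δ huδ).Exact)
    (h₃ : (ShortComplex.mk δ v hδv).Exact) :
    ∃ (hz : cokernel.desc w u hwu ≫ kernel.lift v δ hδv = 0),
      (ShortComplex.mk (cokernel.desc w u hwu) (kernel.lift v δ hδv) hz).ShortExact := by
  have hz : cokernel.desc w u hwu ≫ kernel.lift v δ hδv = 0 := by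
    rw [← cancel_epi (cokernel.π w), ← cancel_mono (kernel.ι v)]
    simp [huδ]
  have hz' : cokernel.desc w u hwu ≫ δ = 0 := by
    rw [← cancel_epi (cokernel.π w)]
    simp [huδ]
  refine ⟨hz, ?_⟩
  let S₀ := ShortComplex.mk u δ huδ
  let S₁ := ShortComplex.mk (cokernel.desc w u hwu) δ hz'
  let S₂ := ShortComplex.mk (cokernel.desc w u hwu) (kernel.lift v δ hδv) hz
  let φ₁ : S₀ ⟶ S₁ :=
    { τ₁ := cokernel.π w
      τ₂ := 𝟙 _
      τ₃ := 𝟙 _
      comm₁₂ := by simp [S₀, S₁]
      comm₂₃ := by simp [S₀, S₁] }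
  let φ₂ : S₂ ⟶ S₁ :=
    { τ₁ := 𝟙 _
      τ₂ := 𝟙 _
      τ₃ := kernel.ι v
      comm₁₂ := by simp [S₂, S₁]
      comm₂₃ := by simp [S₂, S₁] }
  haveI : Epi φ₁.τ₁ := inferInstanceAs (Epi (cokernel.π w))
  haveI : IsIso φ₁.τ₂ := inferInstanceAs (IsIso (𝟙 B))
  haveI : Mono φ₁.τ₃ := inferInstanceAs (Mono (𝟙 D))
  haveI : Epi φ₂.τ₁ := inferInstanceAs (Epi (𝟙 (cokernel w)))
  haveI : IsIso φ₂.τ₂ := inferInstanceAs (IsIso (𝟙 B))
  haveI : Mono φ₂.τ₃ := inferInstanceAs (Mono (kernel.ι v))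
  have e₁ : S₁.Exact := (ShortComplex.exact_iff_of_epi_of_isIso_of_mono φ₁).1 h₂
  have e₂ : S₂.Exact := (ShortComplex.exact_iff_of_epi_of_isIso_of_mono φ₂).2 e₁
  exact { exact := e₂
          mono_f := h₁.mono_cokernelDesc
          epi_g := h₃.epi_kernelLift }

end Five

open Groth.Agent.Lib.Helper29.QCoh

variable {X : Scheme.{u}}

lemma isQuasicoherent_of_isZero {M : X.Modules} (h : IsZero M) : M.IsQuasicoherent :=
  isQuasicoherent_of_isFinLocFree (isFinLocFree_of_isZero h)

lemma isFiniteType_of_isZero {M : X.Modules} (h : IsZero M) : M.IsFiniteType := by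
  have := isFinitePresentation_of_isFinLocFree (isFinLocFree_of_isZero h)
  infer_instance

/-- an extension of quasi-coherent modules of finite type is of finite type -/
theorem isFiniteType_of_shortExact (S : ShortComplex X.Modules) (hS : S.ShortExact)
    [S.X₁.IsQuasicoherent] [S.X₁.IsFiniteType] [S.X₃.IsQuasicoherent] [S.X₃.IsFiniteType] :
    S.X₂.IsFiniteType := by
  haveI := isQuasicoherent_of_shortExact S hS
  rw [isFiniteType_iff_forall_module_finite]
  intro U hU
  haveI h1 : Module.Finite Γ(X, U) Γ(S.X₁, U) := module_finite_of_isFiniteType S.X₁ hU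
  haveI h3 : Module.Finite Γ(X, U) Γ(S.X₃, U) := module_finite_of_isFiniteType S.X₃ hU
  have hsurj : Function.Surjective (appₗ S.g U) := app_surjective_of_shortExact S hS hU
  haveI := hS.mono_f
  have hex : Function.Exact (appₗ S.f U) (appₗ S.g U) :=
    app_exact_of_exact_of_mono S hS.exact U
  exact Module.Finite.of_exact hex hsurj

/-- **Coherence of the middle term of a five-term exact sequence** on a locally Noetherian
scheme. -/
theorem isCoh_of_five [IsLocallyNoetherian X] {A' A B D D' : X.Modules} (w : A' ⟶ A) (u : A ⟶ B)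
    (δ : B ⟶ D) (v : D ⟶ D') (hwu : w ≫ u = 0) (huδ : u ≫ δ = 0) (hδv : δ ≫ v = 0)
    (h₁ : (ShortComplex.mk w u hwu).Exact) (h₂ : (ShortComplex.mk u δ huδ).Exact)
    (h₃ : (ShortComplex.mk δ v hδv).Exact)
    [A'.IsQuasicoherent] [A.IsQuasicoherent] [A.IsFiniteType] [D.IsQuasicoherent]
    [D.IsFiniteType] [D'.IsQuasicoherent] : B.IsQuasicoherent ∧ B.IsFiniteType := by
  obtain ⟨hz, hS⟩ := shortExact_of_five w u δ v hwu huδ hδv h₁ h₂ h₃
  haveI : (cokernel w).IsFiniteType := isFiniteType_cokernel w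
  haveI : (kernel v).IsFiniteType := isFiniteType_kernel v
  let S := ShortComplex.mk (cokernel.desc w u hwu) (kernel.lift v δ hδv) hz
  haveI : S.X₁.IsQuasicoherent := inferInstanceAs (cokernel w).IsQuasicoherent
  haveI : S.X₁.IsFiniteType := inferInstanceAs (cokernel w).IsFiniteType
  haveI : S.X₃.IsQuasicoherent := inferInstanceAs (kernel v).IsQuasicoherent
  haveI : S.X₃.IsFiniteType := inferInstanceAs (kernel v).IsFiniteType
  exact ⟨isQuasicoherent_of_shortExact S hS, isFiniteType_of_shortExact S hS⟩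

end

end Groth.Agent.Lib.Helper28.DCohRes
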