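import Mathlib
import Groth.Agent.Lib.Helper28.DCohRes28
import Groth.Agent.Lib.Helper29.QCohPullback

/-!
# Approximating the top cohomology of a complex by a finite locally free module
-/

set_option autoImplicit false

universe u

open CategoryTheory Limits AlgebraicGeometry TopologicalSpace

namespace Groth.Agent.Lib.Helper28.DCohRes

noncomputable section

attribute [local instance] HasDerivedCategory.standard

open Groth.Agent.Lib.Helper29.QCoh

variable {X : Scheme.{u}}

/-- restriction to an open subscheme preserves finite type (for quasi-coherent modules) -/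
lemma isFiniteType_restrict {U : Scheme.{u}} (j : U ⟶ X) [IsOpenImmersion j] (M : X.Modules)
    [M.IsQuasicoherent] [M.IsFiniteType] : (M.restrict j).IsFiniteType := by
  have h1 : ((Scheme.Modules.pullback j).obj M).IsFiniteType := inferInstance
  have h2 : ((Scheme.Modules.pullback j).obj M).IsQuasicoherent := inferInstance
  have h3 : (M.restrict j).IsQuasicoherent := inferInstance
  exact isFiniteType_of_epi ((Scheme.Modules.restrictFunctorIsoPullback j).app M).inv

/-- the chain map from a module placed in degree `n` given by a map to the cycles -/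
def singleToCx (G : CochainComplex X.Modules ℤ) (n : ℤ) {F : X.Modules} (φ : F ⟶ G.cycles n) :
    (HomologicalComplex.single X.Modules (ComplexShape.up ℤ) n).obj F ⟶ G :=
  HomologicalComplex.mkHomFromSingle (φ ≫ G.iCycles n) (fun k _ => by
    rw [Category.assoc, HomologicalComplex.iCycles_d, comp_zero])

/-- a map from a module to the top cycles which generates the top cohomology is an
approximation -/
lemma isApprox_singleToCx (G : CochainComplex X.Modules ℤ) (n : ℤ) {F : X.Modules}
    (φ : F ⟶ G.cycles n) (hG : ∀ i, n < i → G.ExactAt i) (hφ : Epi (φ ≫ G.homologyπ n)) :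
    IsApprox n (DerivedCategory.Q.map (singleToCx G n φ)) := by
  rw [isApprox_Q_map_iff]
  refine ⟨fun i hi => ?_, ?_⟩
  · have h1 : IsZero (((HomologicalComplex.single X.Modules (ComplexShape.up ℤ) n).obj F).homology
        i) := by
      have hz : IsZero (((HomologicalComplex.single X.Modules (ComplexShape.up ℤ) n).obj F).X i) :=
        HomologicalComplex.isZero_single_obj_X _ _ _ _ (by omega)
      exact IsZero.of_mono (HomologicalComplex.homologyι _ i)
        (IsZero.of_epi (HomologicalComplex.pOpcycles _ i) hz)
    have h2 : IsZero (G.homology i) :=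
      (HomologicalComplex.exactAt_iff_isZero_homology _ _).1 (hG i hi)
    exact ⟨0, h1.eq_of_src _ _, h2.eq_of_src _ _⟩
  · have hnat := HomologicalComplex.homologyπ_naturality (singleToCx G n φ) n
    have hi : IsIso (((HomologicalComplex.single X.Modules (ComplexShape.up ℤ) n).obj F).iCycles
        n) := ShortComplex.isIso_iCycles _
      (HomologicalComplex.single_obj_d (ComplexShape.up ℤ) n F _ _)
    have hc : HomologicalComplex.cyclesMap (singleToCx G n φ) n =
        ((HomologicalComplex.single X.Modules (ComplexShape.up ℤ) n).obj F).iCycles n ≫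
          (HomologicalComplex.singleObjXSelf (ComplexShape.up ℤ) n F).hom ≫ φ := by
      rw [← cancel_mono (G.iCycles n), HomologicalComplex.cyclesMap_i]
      simp [singleToCx, HomologicalComplex.mkHomFromSingle_f]
    have : Epi (HomologicalComplex.cyclesMap (singleToCx G n φ) n ≫ G.homologyπ n) := by
      rw [hc, Category.assoc, Category.assoc]
      infer_instance
    rw [← hnat] at this
    exact epi_of_epi (HomologicalComplex.homologyπ _ n) _

/-- **Local lifting of generators of the top cohomology to cycles.** -/
theorem exists_local_singleToCx (G : CochainComplex X.Modules ℤ) (b : ℤ)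
    (hG : ∀ i, b < i → G.ExactAt i) {P : X.Modules} (hP : FlatMod.IsFinLocFree P)
    (π : P ⟶ G.homology b) [Epi π] (y : X) :
    ∃ (V : X.Opens), y ∈ V ∧ ∃ φ : P.restrict V.ι ⟶ ((resCx V.ι).obj G).cycles b,
      IsApprox b (DerivedCategory.Q.map (singleToCx ((resCx V.ι).obj G) b φ)) := by
  let h := (G.sc b).leftHomologyData
  obtain ⟨V, ψ, hyV, hψ⟩ := Groth.Agent.Lib.Helper5.LocLift.exists_local_lift h.π
    (π ≫ h.homologyIso.hom) hP y
  let F₂ := Scheme.Modules.restrictFunctor V.ι
  let h₂ := h.map F₂
  let φ : P.restrict V.ι ⟶ ((resCx V.ι).obj G).cycles b := ψ ≫ h₂.cyclesIso.inv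
  refine ⟨V, hyV, φ, isApprox_singleToCx _ b φ (fun i hi => exactAt_resCx V.ι G i (hG i hi)) ?_⟩
  have e1 : h₂.cyclesIso.inv ≫ ((G.sc b).map F₂).homologyπ = h₂.π ≫ h₂.homologyIso.inv :=
    h₂.π_comp_homologyIso_inv.symm
  have e2 : (show P.restrict V.ι ⟶ h₂.K from ψ) ≫ h₂.π = F₂.map (π ≫ h.homologyIso.hom) := hψ
  have e : φ ≫ ((resCx V.ι).obj G).homologyπ b =
      F₂.map (π ≫ h.homologyIso.hom) ≫ h₂.homologyIso.inv :=
    (Category.assoc _ _ _).trans ((congrArg (fun t => (show P.restrict V.ι ⟶ h₂.K from ψ) ≫ t)
      e1).trans ((Category.assoc _ _ _).symm.trans (congrArg (fun t => t ≫ h₂.homologyIso.inv)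
        e2)))
  rw [e]
  have : Epi (F₂.map (π ≫ h.homologyIso.hom)) :=
    (Scheme.Modules.restrictFunctor V.ι).map_epi _
  exact epi_comp _ _

end

end Groth.Agent.Lib.Helper28.DCohRes
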