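import Mathlib
import Groth.Agent.Lib.Helper28.DCohRes29

/-!
# On a Noetherian scheme, bounded above + coherent cohomology ⇒ pseudo-coherent
-/

set_option autoImplicit false

universe u

open CategoryTheory Limits AlgebraicGeometry TopologicalSpace

namespace Groth.Agent.Lib.Helper28.DCohRes

noncomputable section

attribute [local instance] HasDerivedCategory.standard

open Groth.Agent.Lib.Helper29.QCoh

variable {X : Scheme.{u}}

/-- bounded above by `b`, with coherent cohomology in degrees `≥ m` -/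
def CohAbove (m b : ℤ) (K : DCoh.D X) : Prop :=
  (∀ i, b < i → IsZero (DCoh.HD K i)) ∧
    ∀ i, m ≤ i → (DCoh.HD K i).IsQuasicoherent ∧ (DCoh.HD K i).IsFiniteType

lemma CohAbove.of_iso {m b : ℤ} {K K' : DCoh.D X} (h : CohAbove m b K) (e : K ≅ K') :
    CohAbove m b K' := by
  refine ⟨fun i hi => (h.1 i hi).of_iso
    ((DerivedCategory.homologyFunctor X.Modules i).mapIso e.symm), fun i hi => ?_⟩
  obtain ⟨h1, h2⟩ := h.2 i hi
  have h3 : (DCoh.HD K' i).IsQuasicoherent :=
    isQuasicoherent_of_iso ((DerivedCategory.homologyFunctor X.Modules i).mapIso e)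
  exact ⟨h3, isFiniteType_of_epi ((DerivedCategory.homologyFunctor X.Modules i).mapIso e).hom⟩

lemma CohAbove.restrictD {m b : ℤ} {K : DCoh.D X} (h : CohAbove m b K) {U : Scheme.{u}} (j : U ⟶ X)
    [IsOpenImmersion j] : CohAbove m b ((resD j).obj K) := by
  refine ⟨fun i hi => IsZero.of_iso ((Scheme.Modules.restrictFunctor j).map_isZero (h.1 i hi))
    (HDresDIso j K i), fun i hi => ?_⟩
  obtain ⟨h1, h2⟩ := h.2 i hi
  have h3 : ((DCoh.HD K i).restrict j).IsQuasicoherent := inferInstance
  have h4 : ((DCoh.HD K i).restrict j).IsFiniteType := isFiniteType_restrict j _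
  have h5 : (DCoh.HD ((resD j).obj K) i).IsQuasicoherent :=
    isQuasicoherent_of_iso (HDresDIso j K i).symm
  exact ⟨h5, isFiniteType_of_epi (HDresDIso j K i).inv⟩

lemma isStrictlyPerfect_single' {P : X.Modules} (hP : FlatMod.IsFinLocFree P) (n : ℤ) :
    DCoh.IsStrictlyPerfect ((HomologicalComplex.single X.Modules (ComplexShape.up ℤ) n).obj P) := by
  refine ⟨⟨n, n, fun i hi => HomologicalComplex.isZero_single_obj_X _ _ _ _ (by omega)⟩,
    fun i => ?_⟩
  by_cases h : i = n
  · subst h
    exact isFinLocFree_of_iso (HomologicalComplex.singleObjXSelf (ComplexShape.up ℤ) i P).symm hP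
  · exact isFinLocFree_of_isZero (HomologicalComplex.isZero_single_obj_X _ _ _ _ h)

/-- coherence of the cohomology of `Q P` for `P` strictly perfect -/
lemma isCoh_HD_Q_of_isStrictlyPerfect [IsLocallyNoetherian X] {P : CochainComplex X.Modules ℤ}
    (hP : DCoh.IsStrictlyPerfect P) (i : ℤ) :
    (DCoh.HD (DerivedCategory.Q.obj P) i).IsQuasicoherent ∧
      (DCoh.HD (DerivedCategory.Q.obj P) i).IsFiniteType := by
  obtain ⟨h1, h2⟩ := isCoh_homology_of_isStrictlyPerfect hP i
  have e : P.homology i ≅ DCoh.HD (DerivedCategory.Q.obj P) i :=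
    ((DerivedCategory.homologyFunctorFactors X.Modules i).app P).symm
  have h3 : (DCoh.HD (DerivedCategory.Q.obj P) i).IsQuasicoherent := isQuasicoherent_of_iso e
  exact ⟨h3, isFiniteType_of_epi e.hom⟩

/-- **Global step.** -/
theorem isPseudoCoherentD_of_singleToCx [IsLocallyNoetherian X] (m b : ℤ)
    (G : CochainComplex X.Modules ℤ) {P : X.Modules} (hP : FlatMod.IsFinLocFree P)
    (φ : P ⟶ G.cycles b) (hφ : IsApprox b (DerivedCategory.Q.map (singleToCx G b φ)))
    (hG : CohAbove m b (DerivedCategory.Q.obj G))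
    (IH : ∀ K' : DCoh.D X, CohAbove m (b - 1) K' → DCoh.IsPseudoCoherentD m K') :
    DCoh.IsPseudoCoherentD m (DerivedCategory.Q.obj G) := by
  let s := singleToCx G b φ
  have hSP := isStrictlyPerfect_single' hP b
  have hT := DerivedCategory.mappingCone_triangle_distinguished s
  let T := DerivedCategory.Q.mapTriangle.obj (CochainComplex.mappingCone.triangle s)
  -- the cone
  have hC : CohAbove m (b - 1) T.obj₃ := by
    refine ⟨fun i hi => ?_, fun i hi => ?_⟩
    · have hex := exactAt_mappingCone_of_isApprox s b hφ i (by omega)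
      rw [HomologicalComplex.exactAt_iff_isZero_homology] at hex
      exact IsZero.of_iso hex ((DerivedCategory.homologyFunctorFactors X.Modules i).app _)
    · obtain ⟨a1, -⟩ := isCoh_HD_Q_of_isStrictlyPerfect hSP i
      obtain ⟨a2, a3⟩ := isCoh_HD_Q_of_isStrictlyPerfect hSP (i + 1)
      obtain ⟨a4, a5⟩ := hG.2 i hi
      obtain ⟨a6, -⟩ := hG.2 (i + 1) (by omega)
      haveI : (DCoh.HD T.obj₁ i).IsQuasicoherent := a1
      haveI : (DCoh.HD T.obj₁ (i + 1)).IsQuasicoherent := a2
      haveI : (DCoh.HD T.obj₁ (i + 1)).IsFiniteType := a3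
      haveI : (DCoh.HD T.obj₂ i).IsQuasicoherent := a4
      haveI : (DCoh.HD T.obj₂ i).IsFiniteType := a5
      haveI : (DCoh.HD T.obj₂ (i + 1)).IsQuasicoherent := a6
      exact isCoh_of_five (A' := DCoh.HD T.obj₁ i) (A := DCoh.HD T.obj₂ i)
        (D := DCoh.HD T.obj₁ (i + 1)) (D' := DCoh.HD T.obj₂ (i + 1))
        ((DerivedCategory.homologyFunctor X.Modules i).map T.mor₁)
        ((DerivedCategory.homologyFunctor X.Modules i).map T.mor₂)
        ((DerivedCategory.homologyFunctor X.Modules 0).homologySequenceδ T i (i + 1) rfl)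
        ((DerivedCategory.homologyFunctor X.Modules (i + 1)).map T.mor₁) _ _ _
        (DerivedCategory.HomologySequence.exact₂ T hT i)
        (DerivedCategory.HomologySequence.exact₃ T hT i (i + 1) rfl)
        (DerivedCategory.HomologySequence.exact₁ T hT i (i + 1) rfl)
  have h₃ := IH T.obj₃ hC
  have h₁ : DCoh.IsPseudoCoherentD m T.obj₁ :=
    isPseudoCoherentD_of_glob _ (𝟙 _) hSP (isApprox_id m _)
  exact (isPseudoCoherentD_triangle m T hT).2.1 h₁ h₃

/-- **Step with a global epimorphism onto the top cohomology.** -/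
theorem isPseudoCoherentD_of_epi_top [IsLocallyNoetherian X] (m b : ℤ)
    (G : CochainComplex X.Modules ℤ) {P : X.Modules} (hP : FlatMod.IsFinLocFree P)
    (π : P ⟶ G.homology b) [Epi π] (hG : CohAbove m b (DerivedCategory.Q.obj G))
    (IH : ∀ (U : Scheme.{u}) [IsLocallyNoetherian U] (K' : DCoh.D U),
      CohAbove m (b - 1) K' → DCoh.IsPseudoCoherentD m K') :
    DCoh.IsPseudoCoherentD m (DerivedCategory.Q.obj G) := by
  have hex : ∀ i, b < i → G.ExactAt i := fun i hi => by
    rw [HomologicalComplex.exactAt_iff_isZero_homology]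
    exact IsZero.of_iso (hG.1 i hi)
      ((DerivedCategory.homologyFunctorFactors X.Modules i).app G).symm
  refine isPseudoCoherentD_of_locally fun y => ?_
  obtain ⟨V, hyV, φ, hφ⟩ := exists_local_singleToCx G b hex hP π y
  refine ⟨V, V.ι, inferInstance, by rw [Scheme.Opens.range_ι]; exact hyV, ?_⟩
  have hG₂ : CohAbove m b (DerivedCategory.Q.obj ((resCx V.ι).obj G)) :=
    (hG.restrictD V.ι).of_iso ((resDQ V.ι).app G)
  have := isPseudoCoherentD_of_singleToCx m b ((resCx V.ι).obj G)
    (isFinLocFree_restrict V.ι hP) φ hφ hG₂ (fun K' hK' => IH V K' hK')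
  exact isPseudoCoherentD_of_iso ((resDQ V.ι).app G).symm this

/-- **General step.** -/
theorem isPseudoCoherentD_of_cohAbove_step [IsLocallyNoetherian X] (m b : ℤ) (hmb : m ≤ b)
    (K : DCoh.D X) (hK : CohAbove m b K)
    (IH : ∀ (U : Scheme.{u}) [IsLocallyNoetherian U] (K' : DCoh.D U),
      CohAbove m (b - 1) K' → DCoh.IsPseudoCoherentD m K') :
    DCoh.IsPseudoCoherentD m K := by
  refine isPseudoCoherentD_of_locally fun y => ?_
  haveI := (hK.2 b hmb).2
  obtain ⟨V, hyV, P, π, hP, hπ⟩ := exists_epi_of_isFiniteType (DCoh.HD K b) y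
  refine ⟨V, V.ι, inferInstance, by rw [Scheme.Opens.range_ι]; exact hyV, ?_⟩
  let K₁ := (resD V.ι).obj K
  let G₁ := DerivedCategory.Q.objPreimage K₁
  let e₁ : DerivedCategory.Q.obj G₁ ≅ K₁ := DerivedCategory.Q.objObjPreimageIso K₁
  let ι : (DCoh.HD K b).restrict V.ι ≅ G₁.homology b :=
    (HDresDIso V.ι K b).symm ≪≫ (DerivedCategory.homologyFunctor _ b).mapIso e₁.symm ≪≫
      (DerivedCategory.homologyFunctorFactors _ b).app G₁
  haveI : Epi (π ≫ ι.hom) := epi_comp _ _
  have hG₁ : CohAbove m b (DerivedCategory.Q.obj G₁) := (hK.restrictD V.ι).of_iso e₁.symm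
  exact isPseudoCoherentD_of_iso e₁ (isPseudoCoherentD_of_epi_top m b G₁ hP (π ≫ ι.hom) hG₁ IH)

/-- **Bounded above with coherent cohomology in degrees `≥ m` ⇒ `m`-pseudo-coherent**, on a
locally Noetherian scheme. -/
theorem isPseudoCoherentD_of_cohAbove (m : ℤ) : ∀ (k : ℕ) {X : Scheme.{u}} [IsLocallyNoetherian X]
    (K : DCoh.D X) (b : ℤ), b + 1 ≤ m + k → CohAbove m b K → DCoh.IsPseudoCoherentD m K
  | 0 => fun K b hb hK =>
      isPseudoCoherentD_of_isZero_homology fun i hi => hK.1 i (by push_cast at hb; omega)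
  | (k + 1) => fun K b hb hK => by
      by_cases hmb : m ≤ b
      · exact isPseudoCoherentD_of_cohAbove_step m b hmb K hK fun U _ K' hK' =>
          isPseudoCoherentD_of_cohAbove m k K' (b - 1) (by push_cast at hb; omega) hK'
      · exact isPseudoCoherentD_of_isZero_homology fun i hi => hK.1 i (by omega)

/-- **Pseudo-coherent ⇒ coherent cohomology and bounded above**, on a Noetherian scheme. -/
theorem cohAbove_of_isPseudoCoherentD [IsLocallyNoetherian X] [CompactSpace X] (K : DCoh.D X)
    (hq : DCoh.IsQCohD K) (m : ℤ) (h : DCoh.IsPseudoCoherentD m K) :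
    (∀ i : ℤ, m ≤ i → Coh.IsCoh (DCoh.HD K i)) ∧ ∃ b : ℤ, K.IsLE b := by
  rw [isPseudoCoherentD_iff] at h
  constructor
  · intro i hi
    haveI : (DCoh.HD K i).IsQuasicoherent := hq i
    refine ⟨hq i, isFiniteType_of_locally _ fun x => ?_⟩
    obtain ⟨U, j, hj, hx, P, α, hP, hα⟩ := h x
    have : IsLocallyNoetherian U := isLocallyNoetherian_of_isOpenImmersion j
    obtain ⟨a1, a2⟩ := isCoh_HD_Q_of_isStrictlyPerfect hP i
    have a3 : ((DCoh.HD K i).restrict j).IsQuasicoherent := inferInstance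
    haveI := hα.epi_of_le i hi
    exact ⟨U, j, hj, hx, isFiniteType_of_epi
      ((DerivedCategory.homologyFunctor U.Modules i).map α ≫ (HDresDIso j K i).hom)⟩
  · choose U j hj hx P α hP hα using h
    have hbd : ∀ x, ∃ a b : ℤ, DCoh.VanishesOutside (P x) a b := fun x => (hP x).1
    choose a b hab using hbd
    obtain ⟨s, hs⟩ := isCompact_univ.elim_finite_subcover
      (fun x : X => ((j x).opensRange : Set X))
      (fun x => (j x).opensRange.2) (fun x _ => Set.mem_iUnion.2 ⟨x, hx x⟩)
    obtain ⟨b₀, hb₀⟩ := (s.image b).exists_le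
    refine ⟨max b₀ m, ?_⟩
    rw [DerivedCategory.isLE_iff]
    intro i hi
    have h1 := le_max_left b₀ m
    have h2 := le_max_right b₀ m
    refine isZero_of_locally _ fun x => ?_
    obtain ⟨y, hys, hxy⟩ : ∃ y ∈ s, x ∈ ((j y).opensRange : Set X) := by
      have := hs (Set.mem_univ x)
      simpa using this
    have h3 := hb₀ (b y) (Finset.mem_image_of_mem b hys)
    refine ⟨U y, j y, hj y, hxy, ?_⟩
    haveI := hj y
    refine IsZero.of_iso ?_ (HDresDIso (j y) K i).symm
    haveI := (hα y).1 i (by omega)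
    refine IsZero.of_iso ?_
      (asIso ((DerivedCategory.homologyFunctor (U y).Modules i).map (α y))).symm
    exact isZero_homology_Q_of_isZero_X (P y) i (hab y i (Or.inr (by omega)))

end

end Groth.Agent.Lib.Helper28.DCohRes
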