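import Mathlib
import Groth.Agent.Lib.Helper28.DCohRes30

/-!
# Extensions of flat modules, flatness of cokernels from a quasi-isomorphic bounded flat complex
-/

set_option autoImplicit false

universe u

open CategoryTheory Limits AlgebraicGeometry TopologicalSpace

namespace Groth.Agent.Lib.Helper28.DCohRes

noncomputable section

open Groth.Agent.Lib.Helper29.QCoh

open TensorProduct LinearMap in
/-- an extension of a flat module by a flat module is flat -/
theorem flat_middle_of_exact {R : Type*} {A B C : Type*} [CommRing R]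
    [AddCommGroup A] [AddCommGroup B] [AddCommGroup C] [Module R A] [Module R B] [Module R C]
    [Module.Flat R A] [Module.Flat R C]
    (f : A →ₗ[R] B) (g : B →ₗ[R] C) (hf : Function.Injective f) (hg : Function.Surjective g)
    (H : Function.Exact f g) : Module.Flat R B := by
  rw [Module.Flat.iff_rTensor_injective']
  intro I
  rw [injective_iff_map_eq_zero]
  intro z hz
  have hC : Function.Injective (I.subtype.rTensor C) :=
    Module.Flat.rTensor_preserves_injective_linearMap _ Subtype.val_injective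
  have hA : Function.Injective (I.subtype.rTensor A) :=
    Module.Flat.rTensor_preserves_injective_linearMap _ Subtype.val_injective
  have c1 : (g.lTensor R) ∘ₗ (I.subtype.rTensor B) = (I.subtype.rTensor C) ∘ₗ (g.lTensor I) := by
    ext; simp
  have c2 : (f.lTensor R) ∘ₗ (I.subtype.rTensor A) = (I.subtype.rTensor B) ∘ₗ (f.lTensor I) := by
    ext; simp
  have h1 : g.lTensor I z = 0 := by
    apply hC
    rw [map_zero]
    have := congrArg (fun l => l z) c1
    simp only [LinearMap.coe_comp, Function.comp_apply] at this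
    rw [← this, hz, map_zero]
  obtain ⟨y, rfl⟩ := (lTensor_exact I H hg z).1 h1
  have hfR : Function.Injective (f.lTensor R) :=
    Module.Flat.lTensor_preserves_injective_linearMap _ hf
  have h2 : I.subtype.rTensor A y = 0 := by
    apply hfR
    rw [map_zero]
    have := congrArg (fun l => l y) c2
    simp only [LinearMap.coe_comp, Function.comp_apply] at this
    rw [this, hz]
  rw [hA (h2.trans (map_zero _).symm), map_zero]

variable {X : Scheme.{u}}

/-- in a short exact sequence with flat outer terms, the middle term is flat -/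
theorem isFlat_of_shortExact_middle (S : ShortComplex X.Modules) (hS : S.ShortExact)
    (h1 : FlatMod.IsFlat S.X₁) (h3 : FlatMod.IsFlat S.X₃) : FlatMod.IsFlat S.X₂ := by
  intro x
  have := hS.mono_f
  have := hS.epi_g
  have hinj : Function.Injective (stalkMapₗ S.f x) :=
    (mono_iff_stalkMap_injective S.f).mp inferInstance x
  have hsurj : Function.Surjective (stalkMapₗ S.g x) :=
    (epi_iff_stalkMap_surjective S.g).mp inferInstance x
  have hex : Function.Exact (stalkMapₗ S.f x) (stalkMapₗ S.g x) :=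
    (exact_iff_stalk_function_exact S).mp hS.exact x
  haveI : Module.Flat (X.presheaf.stalk x) (S.X₁.presheaf.stalk x) := h1 x
  haveI : Module.Flat (X.presheaf.stalk x) (S.X₃.presheaf.stalk x) := h3 x
  exact flat_middle_of_exact (stalkMapₗ S.f x) (stalkMapₗ S.g x) hinj hsurj hex

/-- flatness is local -/
theorem isFlat_of_locally {M : X.Modules}
    (h : ∀ x : X, ∃ (U : Scheme.{u}) (j : U ⟶ X) (_ : IsOpenImmersion j), x ∈ Set.range j.base ∧
      FlatMod.IsFlat (M.restrict j)) : FlatMod.IsFlat M := by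
  intro x
  obtain ⟨U, j, hj, ⟨y, rfl⟩, hM⟩ := h x
  let e : X.presheaf.stalk (j y) ≃+* U.presheaf.stalk y :=
    (asIso (j.stalkMap y)).commRingCatIsoToRingEquiv
  letI : RingHomInvPair (e : X.presheaf.stalk (j y) →+* U.presheaf.stalk y)
    (e.symm : U.presheaf.stalk y →+* X.presheaf.stalk (j y)) := RingHomInvPair.of_ringEquiv e
  letI : RingHomInvPair (e.symm : U.presheaf.stalk y →+* X.presheaf.stalk (j y))
    (e : X.presheaf.stalk (j y) →+* U.presheaf.stalk y) := RingHomInvPair.of_ringEquiv e.symm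
  haveI : Module.Flat (U.presheaf.stalk y) ((M.restrict j).presheaf.stalk y) := hM y
  exact flat_of_semilinearEquiv (restrictStalkSemilinearEquiv j M y).symm

/-- **Flatness of the second term.** Let `E` be a bounded above exact complex with `E^p = 0`,
`E^q` flat (`q = p + 1`) and `E^i` flat for `i > r = q + 1`. Then `E^r` is flat. -/
theorem isFlat_X_succ_of_exact {E : CochainComplex X.Modules ℤ} (p q r b : ℤ) (hpq : p + 1 = q)
    (hqr : q + 1 = r) (hz : IsZero (E.X p)) (hq : FlatMod.IsFlat (E.X q))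
    (hE : ∀ i, r < i → FlatMod.IsFlat (E.X i)) (hEb : ∀ i, b < i → IsZero (E.X i))
    (hex : ∀ i, q ≤ i → E.ExactAt i) : FlatMod.IsFlat (E.X r) := by
  subst hpq hqr
  have hZ := isFlat_kernel_d (p + 1 + 1 + 1) b (fun i hi => hE i (by omega)) hEb
    (fun i hi => hex i (by omega)) (p + 1 + 1 + 1) le_rfl
  have hexact1 : (E.sc' p (p + 1) (p + 1 + 1)).Exact :=
    (E.exactAt_iff' p (p + 1) (p + 1 + 1) (by simp) (by simp)).1 (hex (p + 1) le_rfl)
  have hexact2 : (E.sc' (p + 1) (p + 1 + 1) (p + 1 + 1 + 1)).Exact :=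
    (E.exactAt_iff' (p + 1) (p + 1 + 1) (p + 1 + 1 + 1) (by simp) (by simp)).1
      (hex (p + 1 + 1) (by omega))
  have hexact3 : (E.sc' (p + 1 + 1) (p + 1 + 1 + 1) (p + 1 + 1 + 1 + 1)).Exact :=
    (E.exactAt_iff' (p + 1 + 1) (p + 1 + 1 + 1) (p + 1 + 1 + 1 + 1) (by simp) (by simp)).1
      (hex (p + 1 + 1 + 1) (by omega))
  have hmono : Mono (E.d (p + 1) (p + 1 + 1)) := by
    have h0 : (E.sc' p (p + 1) (p + 1 + 1)).f = 0 := hz.eq_of_src _ _
    exact (ShortComplex.exact_iff_mono _ h0).1 hexact1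
  have hepi : Epi (kernel.lift (E.d (p + 1 + 1 + 1) (p + 1 + 1 + 1 + 1))
      (E.d (p + 1 + 1) (p + 1 + 1 + 1)) (E.d_comp_d _ _ _)) := hexact3.epi_kernelLift
  let S : ShortComplex X.Modules := ShortComplex.mk (E.d (p + 1) (p + 1 + 1))
    (kernel.lift (E.d (p + 1 + 1 + 1) (p + 1 + 1 + 1 + 1))
      (E.d (p + 1 + 1) (p + 1 + 1 + 1)) (E.d_comp_d _ _ _))
    (by rw [← cancel_mono (kernel.ι _)]; simp)
  let φ : S ⟶ E.sc' (p + 1) (p + 1 + 1) (p + 1 + 1 + 1) :=
    { τ₁ := 𝟙 _
      τ₂ := 𝟙 _
      τ₃ := kernel.ι _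
      comm₁₂ := by
        change 𝟙 _ ≫ E.d _ _ = E.d _ _ ≫ 𝟙 _
        rw [Category.id_comp, Category.comp_id]
      comm₂₃ := by
        change 𝟙 _ ≫ E.d _ _ = kernel.lift _ _ _ ≫ kernel.ι _
        rw [Category.id_comp, kernel.lift_ι] }
  haveI : Epi φ.τ₁ := (inferInstance : Epi (𝟙 (E.X (p + 1))))
  haveI : IsIso φ.τ₂ := (inferInstance : IsIso (𝟙 (E.X (p + 1 + 1))))
  haveI : Mono φ.τ₃ :=
    (inferInstance : Mono (kernel.ι (E.d (p + 1 + 1 + 1) (p + 1 + 1 + 1 + 1))))
  have hSex : S.Exact := (ShortComplex.exact_iff_of_epi_of_isIso_of_mono φ).2 hexact2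
  have hS : S.ShortExact := { exact := hSex, mono_f := hmono, epi_g := hepi }
  exact isFlat_of_shortExact_middle S hS hq hZ

attribute [local instance] HasDerivedCategory.standard

/-- **Flatness of a cokernel.** Let `ψ : P ⟶ G` be a quasi-isomorphism of bounded above complexes
of flat modules with `P^i = 0` for `i < m`. Then the cokernel of `G^{m-1} ⟶ G^m` is flat. -/
theorem isFlat_cokernel_d_of_quasiIso {P G : CochainComplex X.Modules ℤ} (m b : ℤ)
    (hPf : ∀ i, FlatMod.IsFlat (P.X i)) (hPa : ∀ i, i < m → IsZero (P.X i))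
    (hPb : ∀ i, b < i → IsZero (P.X i)) (hGf : ∀ i, FlatMod.IsFlat (G.X i))
    (hGb : ∀ i, b < i → IsZero (G.X i)) (ψ : P ⟶ G) (hψ : QuasiIso ψ) :
    FlatMod.IsFlat (cokernel (G.d (m - 1) m)) := by
  haveI : G.IsGE m := by
    rw [CochainComplex.isGE_iff]
    intro i hi
    rw [HomologicalComplex.exactAt_iff_isZero_homology]
    have hz : IsZero (P.homology i) :=
      IsZero.of_mono (P.homologyι i) (IsZero.of_epi (P.pOpcycles i) (hPa i hi))
    exact hz.of_iso (asIso (HomologicalComplex.homologyMap ψ i)).symm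
  let G' := G.truncGE m
  let ψ' : P ⟶ G' := ψ ≫ G.πTruncGE m
  have hq : QuasiIso ψ' := by
    dsimp only [ψ']
    infer_instance
  have hac := (Groth.Agent.Lib.Helper28.KFlatAbs.quasiIso_iff_acyclic_mappingCone ψ').1 hq
  have hG'lt : ∀ i, i < m → IsZero (G'.X i) := fun i hi =>
    CochainComplex.isZero_of_isStrictlyGE G' m i hi
  have hG'gt : ∀ i, m < i → FlatMod.IsFlat (G'.X i) := fun i hi =>
    isFlat_of_iso (G.truncGEXIso m i hi).symm (hGf i)
  have hG'gt0 : ∀ i, m < i → b < i → IsZero (G'.X i) := fun i hi hi' =>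
    IsZero.of_iso (hGb i hi') (G.truncGEXIso m i hi)
  have key : ∀ i j : ℤ, i + 1 = j → ((CochainComplex.mappingCone ψ').X i ≅ P.X j ⊞ G'.X i) :=
    fun i j hij => HomologicalComplex.homotopyCofiber.XIsoBiprod ψ' i j hij
  have h1 : FlatMod.IsFlat ((CochainComplex.mappingCone ψ').X m) := by
    refine isFlat_X_succ_of_exact (m - 1 - 1) (m - 1) m (max b m) (by omega) (by omega) ?_ ?_
      (fun i hi => ?_) (fun i hi => ?_) (fun i _ => hac i)
    · refine IsZero.of_iso ?_ (key (m - 1 - 1) (m - 1) (by omega))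
      rw [biprod_isZero_iff]
      exact ⟨hPa (m - 1) (by omega), hG'lt (m - 1 - 1) (by omega)⟩
    · exact isFlat_of_iso (key (m - 1) m (by omega)).symm
        (isFlat_biprod (hPf m) (isFlat_of_isZero (hG'lt (m - 1) (by omega))))
    · exact isFlat_of_iso (key i (i + 1) rfl).symm (isFlat_biprod (hPf (i + 1)) (hG'gt i hi))
    · refine IsZero.of_iso ?_ (key i (i + 1) rfl)
      rw [biprod_isZero_iff]
      have h3 := le_max_left b m
      have h4 := le_max_right b m
      exact ⟨hPb (i + 1) (by omega), hG'gt0 i (by omega) (by omega)⟩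
  have h2 := isFlat_of_iso (key m (m + 1) rfl) h1
  have h3 : FlatMod.IsFlat (G'.X m) :=
    isFlat_of_retract biprod.inr biprod.snd biprod.inr_snd h2
  exact isFlat_of_iso ((G.truncGEXIsoOpcycles m) ≪≫
    (opcyclesIsoCokernel G (m - 1) m (by omega)).symm) h3

end

end Groth.Agent.Lib.Helper28.DCohRes
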