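import Mathlib
import Groth.Agent.Lib.Helper28.KFlatAbs

/-!
# Abstract K-flat calculus II: a single flat object is K-flat (helper28)
-/

open CategoryTheory Limits HomologicalComplex

namespace Groth.Agent.Lib.Helper28.KFlatAbs

universe v u

variable {A : Type u} [Category.{v} A] [Abelian A]

/-- If all summands but one vanish, the inclusion of that summand is an isomorphism. -/
theorem isIso_ιMapObj_of_isZero {I J : Type*} (X : GradedObject I A) (p : I → J) [X.HasMap p]
    (i₀ : I) (j : J) (h₀ : p i₀ = j) (hz : ∀ i, p i = j → i ≠ i₀ → IsZero (X i)) :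
    IsIso (X.ιMapObj p i₀ j h₀) := by
  classical
  refine ⟨X.descMapObj p (fun i _ => if h : i = i₀ then eqToHom (by rw [h]) else 0), ?_, ?_⟩
  · rw [GradedObject.ι_descMapObj]
    simp
  · apply GradedObject.mapObj_ext
    intro i hi
    rw [GradedObject.ι_descMapObj_assoc, Category.comp_id]
    by_cases h : i = i₀
    · subst h
      simp
    · exact (hz i hi h).eq_of_src _ _

section Single

variable (T : A ⥤ A ⥤ A) [T.Additive] [∀ X, (T.obj X).Additive]
  [∀ K L : CochainComplex A ℤ, HasMapBifunctor K L T (.up ℤ)]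
  (F : CochainComplex A ℤ) (M : A) (a : ℤ)

/-- The comparison `F^p ⊗ M ⟶ Tot(F ⊗ M[-a])^n` for `p + a = n`. -/
noncomputable def θ (p n : ℤ) (h : p + a = n) :
    (T.obj (F.X p)).obj M ⟶
      (mapBifunctor F ((HomologicalComplex.single A (ComplexShape.up ℤ) a).obj M) T (.up ℤ)).X n :=
  (T.obj (F.X p)).map (HomologicalComplex.singleObjXSelf (ComplexShape.up ℤ) a M).inv ≫
    ιMapBifunctor F ((HomologicalComplex.single A (ComplexShape.up ℤ) a).obj M) T (.up ℤ) p a n h

instance isIso_θ (p n : ℤ) (h : p + a = n) : IsIso (θ T F M a p n h) := by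
  have : IsIso (ιMapBifunctor F ((HomologicalComplex.single A (ComplexShape.up ℤ) a).obj M) T
      (.up ℤ) p a n h) := by
    refine isIso_ιMapObj_of_isZero
      (((GradedObject.mapBifunctor T ℤ ℤ).obj F.X).obj
        ((HomologicalComplex.single A (ComplexShape.up ℤ) a).obj M).X)
      (ComplexShape.π (.up ℤ) (.up ℤ) (.up ℤ)) (p, a) n h ?_
    rintro ⟨p', q'⟩ hi hne
    have hq : q' ≠ a := by
      rintro rfl
      apply hne
      have h1 : p' + q' = n := hi
      have : p' = p := by omega
      rw [this]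
    exact (T.obj (F.X p')).map_isZero (isZero_single_obj_X (ComplexShape.up ℤ) a M q' hq)
  unfold θ
  infer_instance

theorem θ_d (p n p' n' : ℤ) (h : p + a = n) (hp : p + 1 = p') (hn : n + 1 = n') :
    θ T F M a p n h ≫
        (mapBifunctor F ((HomologicalComplex.single A (ComplexShape.up ℤ) a).obj M) T (.up ℤ)).d n n' =
      (T.map (F.d p p')).app M ≫ θ T F M a p' n' (by omega) := by
  unfold θ
  have hd1 := mapBifunctor.d₁_eq F ((HomologicalComplex.single A (ComplexShape.up ℤ) a).obj M) T
    (.up ℤ) (show (ComplexShape.up ℤ).Rel p p' from hp) a n' (show p' + a = n' by omega)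
  have hd2 : mapBifunctor.d₂ F ((HomologicalComplex.single A (ComplexShape.up ℤ) a).obj M) T
      (.up ℤ) p a n' = 0 :=
    by
      rw [mapBifunctor.d₂_eq F _ T (.up ℤ) p
        (show (ComplexShape.up ℤ).Rel a (a + 1) from rfl) n' (show p + (a + 1) = n' by omega),
        single_obj_d, Functor.map_zero, zero_comp, smul_zero]
  have e1 : (ComplexShape.up ℤ).ε₁ (ComplexShape.up ℤ) (ComplexShape.up ℤ) (p, a) = 1 := rfl
  rw [Category.assoc, mapBifunctor.d_eq, Preadditive.comp_add, mapBifunctor.ι_D₁,
    mapBifunctor.ι_D₂, hd1, hd2, e1, one_smul, add_zero]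
  simp only [← Category.assoc]
  congr 1
  exact (T.map (F.d p p')).naturality _

/-- A single object `M` such that `- ⊗ M` is exact is K-flat (in any degree). -/
theorem isKFlat_single [PreservesFiniteLimits (T.flip.obj M)] [PreservesFiniteColimits (T.flip.obj M)] :
    IsKFlat T ((HomologicalComplex.single A (ComplexShape.up ℤ) a).obj M) := by
  intro F hF n
  have hp := hF (n - a)
  rw [HomologicalComplex.exactAt_iff' _ (n - a - 1) (n - a) (n - a + 1) (by simp) (by simp)] at hp
  rw [HomologicalComplex.exactAt_iff' _ (n - 1) n (n + 1) (by simp) (by simp)]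
  have hp' := hp.map (T.flip.obj M)
  refine (ShortComplex.exact_iff_of_iso ?_).1 hp'
  have i1 : IsIso (θ T F M a (n - a - 1) (n - 1) (by omega)) := inferInstance
  have i2 : IsIso (θ T F M a (n - a) n (by omega)) := inferInstance
  have i3 : IsIso (θ T F M a (n - a + 1) (n + 1) (by omega)) := inferInstance
  refine ShortComplex.isoMk (@asIso _ _ _ _ _ i1) (@asIso _ _ _ _ _ i2) (@asIso _ _ _ _ _ i3)
    ?_ ?_
  · exact θ_d T F M a (n - a - 1) (n - 1) (n - a) n (by omega) (by omega) (by omega)
  · exact θ_d T F M a (n - a) n (n - a + 1) (n + 1) (by omega) (by omega) (by omega)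

end Single

end Groth.Agent.Lib.Helper28.KFlatAbs
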