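import Mathlib
import Groth.Agent.Lib.Helper28.KFlatAbs

/-!
# Abstract K-flat calculus III: colimits (helper28)
-/

open CategoryTheory Limits HomologicalComplex

namespace Groth.Agent.Lib.Helper28.KFlatAbs

universe v u

variable {A : Type u} [Category.{v} A] [Abelian A]

section Colim

variable {J : Type*} [Category J] [HasColimitsOfShape J A]

/-- If colimits of shape `J` are exact, a colimit of acyclic complexes is acyclic. -/
theorem acyclic_of_isColimit [HasExactColimitsOfShape J A] {D : J ⥤ CochainComplex A ℤ}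
    {c : Cocone D} (hc : IsColimit c) (h : ∀ j, (D.obj j).Acyclic) : c.pt.Acyclic := by
  intro n
  rw [HomologicalComplex.exactAt_iff' _ (n - 1) n (n + 1) (by simp) (by simp)]
  let S : ShortComplex (J ⥤ A) :=
    ShortComplex.mk (Functor.whiskerLeft D (HomologicalComplex.dNatTrans A (.up ℤ) (n - 1) n))
      (Functor.whiskerLeft D (HomologicalComplex.dNatTrans A (.up ℤ) n (n + 1))) (by
        ext j
        exact (D.obj j).d_comp_d _ _ _)
  have hS : S.Exact := exact_of_pointwise S (fun j => by
    have := h j n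
    rw [HomologicalComplex.exactAt_iff' _ (n - 1) n (n + 1) (by simp) (by simp)] at this
    exact this)
  exact colim.exact_mapShortComplex hS
    (isColimitOfPreserves (HomologicalComplex.eval A (.up ℤ) (n - 1)) hc)
    (isColimitOfPreserves (HomologicalComplex.eval A (.up ℤ) n) hc)
    (isColimitOfPreserves (HomologicalComplex.eval A (.up ℤ) (n + 1)) hc)
    (c.pt.d (n - 1) n) (c.pt.d n (n + 1))
    (fun j => (c.ι.app j).comm _ _) (fun j => (c.ι.app j).comm _ _)

variable (T : A ⥤ A ⥤ A) [T.Additive] [∀ X, (T.obj X).Additive]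
  [∀ K L : CochainComplex A ℤ, HasMapBifunctor K L T (.up ℤ)]
  [∀ X, PreservesColimitsOfShape J (T.obj X)]

/-- `Tot(F ⊗ -)` preserves colimits of shape `J` if each `X ⊗ -` does. -/
noncomputable def isColimitMapCoconeTot (F : CochainComplex A ℤ) {D : J ⥤ CochainComplex A ℤ}
    {c : Cocone D} (hc : IsColimit c) :
    IsColimit (((T.map₂CochainComplex).obj F).mapCocone c) := by
  refine HomologicalComplex.isColimitOfEval _ _ (fun n => ?_)
  have hγ : ∀ p q : ℤ, IsColimit ((T.obj (F.X p)).mapCocone
      ((HomologicalComplex.eval A (.up ℤ) q).mapCocone c)) := fun p q =>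
    isColimitOfPreserves (T.obj (F.X p))
      (isColimitOfPreserves (HomologicalComplex.eval A (.up ℤ) q) hc)
  have hmap : ∀ {L L' : CochainComplex A ℤ} (g : L ⟶ L') (p q : ℤ) (h : p + q = n),
      ιMapBifunctor F L T (.up ℤ) p q n h ≫ (mapBifunctorMap (𝟙 F) g T (.up ℤ)).f n =
        (T.obj (F.X p)).map (g.f q) ≫ ιMapBifunctor F L' T (.up ℤ) p q n h := by
    intro L L' g p q h
    rw [ι_mapBifunctorMap]
    simp
  let coc : ∀ (s : Cocone (D ⋙ (T.map₂CochainComplex).obj F ⋙ HomologicalComplex.eval A (.up ℤ) n))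
      (p q : ℤ) (h : p + q = n),
      Cocone ((D ⋙ HomologicalComplex.eval A (.up ℤ) q) ⋙ T.obj (F.X p)) := fun s p q h =>
    { pt := s.pt
      ι :=
        { app := fun j => ιMapBifunctor F (D.obj j) T (.up ℤ) p q n h ≫ s.ι.app j
          naturality := fun j j' f => by
            have hw : (mapBifunctorMap (𝟙 F) (D.map f) T (.up ℤ)).f n ≫ s.ι.app j' =
                s.ι.app j := s.w f
            change (T.obj (F.X p)).map ((D.map f).f q) ≫
                ιMapBifunctor F (D.obj j') T (.up ℤ) p q n h ≫ s.ι.app j' =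
              (ιMapBifunctor F (D.obj j) T (.up ℤ) p q n h ≫ s.ι.app j) ≫ 𝟙 _
            rw [Category.comp_id, ← hw, ← Category.assoc, ← Category.assoc, hmap] } }
  refine
    { desc := fun s => mapBifunctorDesc (fun p q h => (hγ p q).desc (coc s p q h))
      fac := fun s j => ?_
      uniq := fun s m hm => ?_ }
  · change (mapBifunctorMap (𝟙 F) (c.ι.app j) T (.up ℤ)).f n ≫ _ = _
    apply mapBifunctor.hom_ext
    intro p q h
    rw [← Category.assoc, hmap, Category.assoc, ι_mapBifunctorDesc]
    exact (hγ p q).fac (coc s p q h) j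
  · apply mapBifunctor.hom_ext
    intro p q h
    rw [ι_mapBifunctorDesc]
    refine (hγ p q).hom_ext (fun j => ?_)
    rw [(hγ p q).fac (coc s p q h) j]
    have := hm j
    change (mapBifunctorMap (𝟙 F) (c.ι.app j) T (.up ℤ)).f n ≫ _ = _ at this
    change (T.obj (F.X p)).map ((c.ι.app j).f q) ≫ _ = ιMapBifunctor F (D.obj j) T (.up ℤ) p q n h ≫ _
    rw [← this, ← Category.assoc, ← Category.assoc, hmap]
    rfl

/-- A colimit (of a shape along which colimits are exact and commute with `X ⊗ -`) of K-flat
complexes is K-flat. -/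
theorem isKFlat_of_isColimit [HasExactColimitsOfShape J A] {D : J ⥤ CochainComplex A ℤ}
    {c : Cocone D} (hc : IsColimit c) (h : ∀ j, IsKFlat T (D.obj j)) : IsKFlat T c.pt :=
  fun F hF => acyclic_of_isColimit (isColimitMapCoconeTot T F hc) (fun j => h j F hF)

end Colim

end Groth.Agent.Lib.Helper28.KFlatAbs
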