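import Mathlib
import Groth.Agent.Lib.Helper28.KFlatAbs
import Groth.Agent.Lib.Helper28.KFlatAbs2
import Groth.Agent.Lib.Helper28.KFlatAbs3

/-!
# Abstract K-flat calculus IV: stupid truncations, bounded above complexes of flats (helper28)
-/

open CategoryTheory Limits HomologicalComplex

namespace Groth.Agent.Lib.Helper28.KFlatAbs

universe v u

variable {A : Type u} [Category.{v} A] [Abelian A] [HasCoproducts.{0} A]

section Trunc

variable (K : CochainComplex A ℤ) (a : ℤ)

/-- the terms of the stupid truncation `σ_{≥ a} K` -/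
noncomputable def truncX (n : ℤ) : A := ∐ (fun _ : PLift (a ≤ n) => K.X n)

/-- inclusion of `K^n` into the truncation for `a ≤ n` -/
noncomputable def truncι (n : ℤ) (h : a ≤ n) : K.X n ⟶ truncX K a n :=
  Sigma.ι (fun _ : PLift (a ≤ n) => K.X n) ⟨h⟩

/-- the map from the truncation to `K^n` -/
noncomputable def truncπ (n : ℤ) : truncX K a n ⟶ K.X n := Sigma.desc (fun _ => 𝟙 _)

@[reassoc (attr := simp)]
lemma truncι_π (n : ℤ) (h : a ≤ n) : truncι K a n h ≫ truncπ K a n = 𝟙 _ :=
  Sigma.ι_desc _ _

@[ext]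
lemma truncX_ext {n : ℤ} {Z : A} {f g : truncX K a n ⟶ Z}
    (h : ∀ h : a ≤ n, truncι K a n h ≫ f = truncι K a n h ≫ g) : f = g := by
  apply Sigma.hom_ext
  rintro ⟨h'⟩
  exact h h'

@[reassoc (attr := simp)]
lemma truncπ_ι (n : ℤ) (h : a ≤ n) : truncπ K a n ≫ truncι K a n h = 𝟙 _ := by
  ext h'
  simp

lemma isZero_truncX (n : ℤ) (h : ¬ a ≤ n) : IsZero (truncX K a n) := by
  rw [IsZero.iff_id_eq_zero]
  ext h'
  exact absurd h' h

/-- inclusion or zero -/
noncomputable def truncιOrZero (n : ℤ) : K.X n ⟶ truncX K a n :=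
  if h : a ≤ n then truncι K a n h else 0

lemma truncιOrZero_eq (n : ℤ) (h : a ≤ n) : truncιOrZero K a n = truncι K a n h := dif_pos h

/-- the stupid truncation `σ_{≥ a} K` -/
noncomputable def trunc : CochainComplex A ℤ where
  X := truncX K a
  d i j := truncπ K a i ≫ K.d i j ≫ truncιOrZero K a j
  shape i j h := by rw [K.shape i j h, zero_comp, comp_zero]
  d_comp_d' i j k _ _ := by
    by_cases h : a ≤ j
    · rw [truncιOrZero_eq K a j h]
      simp
    · have : truncιOrZero K a j = 0 := dif_neg h
      rw [this]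
      simp

/-- the inclusion `σ_{≥ a} K ⟶ K` -/
noncomputable def truncInc : trunc K a ⟶ K where
  f := truncπ K a
  comm' i j hij := by
    change truncπ K a i ≫ K.d i j = (truncπ K a i ≫ K.d i j ≫ truncιOrZero K a j) ≫ truncπ K a j
    by_cases h : a ≤ j
    · rw [truncιOrZero_eq K a j h]
      simp
    · have hi : ¬ a ≤ i := by
        have : i + 1 = j := hij
        omega
      exact (isZero_truncX K a i hi).eq_of_src _ _

theorem isIso_truncInc_f (n : ℤ) (h : a ≤ n) : IsIso ((truncInc K a).f n) :=
  ⟨truncι K a n h, truncπ_ι K a n h, truncι_π K a n h⟩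

variable {a} in
/-- the transition maps `σ_{≥ a} K ⟶ σ_{≥ a'} K` for `a' ≤ a` -/
noncomputable def truncMap {a' : ℤ} (hle : a' ≤ a) : trunc K a ⟶ trunc K a' where
  f n := truncπ K a n ≫ truncιOrZero K a' n
  comm' i j hij := by
    change (truncπ K a i ≫ truncιOrZero K a' i) ≫ (truncπ K a' i ≫ K.d i j ≫ truncιOrZero K a' j) =
      (truncπ K a i ≫ K.d i j ≫ truncιOrZero K a j) ≫ (truncπ K a j ≫ truncιOrZero K a' j)
    by_cases h : a ≤ i
    · have hj : a ≤ j := by
        have : i + 1 = j := hij
        omega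
      rw [truncιOrZero_eq K a' i (le_trans hle h), truncιOrZero_eq K a j hj]
      simp
    · exact (isZero_truncX K a i h).eq_of_src _ _

variable {a} in
@[reassoc (attr := simp)]
lemma truncMap_truncInc {a' : ℤ} (hle : a' ≤ a) : truncMap K hle ≫ truncInc K a' = truncInc K a := by
  ext n : 1
  change (truncπ K a n ≫ truncιOrZero K a' n) ≫ truncπ K a' n = truncπ K a n
  by_cases h : a ≤ n
  · rw [truncιOrZero_eq K a' n (le_trans hle h)]
    simp
  · exact (isZero_truncX K a n h).eq_of_src _ _

lemma truncMap_refl : truncMap K (le_refl a) = 𝟙 _ := by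
  ext n : 1
  change truncπ K a n ≫ truncιOrZero K a n = 𝟙 _
  by_cases h : a ≤ n
  · rw [truncιOrZero_eq K a n h]
    simp
  · exact (isZero_truncX K a n h).eq_of_src _ _

variable {a} in
lemma truncMap_trans {a' a'' : ℤ} (h1 : a' ≤ a) (h2 : a'' ≤ a') :
    truncMap K h1 ≫ truncMap K h2 = truncMap K (le_trans h2 h1) := by
  ext n : 1
  change (truncπ K a n ≫ truncιOrZero K a' n) ≫ (truncπ K a' n ≫ truncιOrZero K a'' n) =
    truncπ K a n ≫ truncιOrZero K a'' n
  by_cases h : a ≤ n
  · rw [truncιOrZero_eq K a' n (le_trans h1 h)]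
    simp
  · exact (isZero_truncX K a n h).eq_of_src _ _

variable {a} in
theorem isIso_truncMap_f {a' : ℤ} (hle : a' ≤ a) (n : ℤ) (h : a ≤ n) :
    IsIso ((truncMap K hle).f n) := by
  refine ⟨truncπ K a' n ≫ truncι K a n h, ?_, ?_⟩
  · change (truncπ K a n ≫ truncιOrZero K a' n) ≫ truncπ K a' n ≫ truncι K a n h = 𝟙 _
    rw [truncιOrZero_eq K a' n (le_trans hle h)]
    simp
  · change (truncπ K a' n ≫ truncι K a n h) ≫ truncπ K a n ≫ truncιOrZero K a' n = 𝟙 _
    rw [truncιOrZero_eq K a' n (le_trans hle h)]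
    simp

/-- the projection `σ_{≥ a} K ⟶ K^a[-a]` -/
noncomputable def truncToSingle :
    trunc K a ⟶ (HomologicalComplex.single A (ComplexShape.up ℤ) a).obj (K.X a) :=
  HomologicalComplex.mkHomToSingle (truncπ K a a) (fun i hi => by
    have hi' : ¬ a ≤ i := by
      have : i + 1 = a := hi
      omega
    exact (isZero_truncX K a i hi').eq_of_src _ _)

/-- the short complex `σ_{≥ a+1} K ⟶ σ_{≥ a} K ⟶ K^a[-a]` -/
noncomputable def truncSC : ShortComplex (CochainComplex A ℤ) :=
  ShortComplex.mk (truncMap K (show a ≤ a + 1 by omega)) (truncToSingle K a) (by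
    refine HomologicalComplex.hom_ext _ _ (fun n => ?_)
    by_cases h : n = a
    · subst h
      exact (isZero_truncX K (n + 1) n (by omega)).eq_of_src _ _
    · exact (isZero_single_obj_X (ComplexShape.up ℤ) a (K.X a) n h).eq_of_tgt _ _)

/-- the truncation short complex is degreewise split -/
noncomputable def truncSCSplitting (n : ℤ) :
    ((truncSC K a).map (HomologicalComplex.eval A (ComplexShape.up ℤ) n)).Splitting := by
  by_cases h : n = a
  · subst h
    refine ShortComplex.Splitting.ofIsZeroOfIsIso _ (isZero_truncX K (n + 1) n (by omega)) ?_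
    change IsIso ((truncToSingle K n).f n)
    rw [truncToSingle, HomologicalComplex.mkHomToSingle_f]
    have h1 : IsIso (truncπ K n n) :=
      ⟨truncι K n n le_rfl, truncπ_ι K n n le_rfl, truncι_π K n n le_rfl⟩
    exact @IsIso.comp_isIso _ _ _ _ _ _ _ h1 inferInstance
  · refine ShortComplex.Splitting.ofIsIsoOfIsZero _ ?_
      (isZero_single_obj_X (ComplexShape.up ℤ) a (K.X a) n h)
    change IsIso ((truncMap K (show a ≤ a + 1 by omega)).f n)
    by_cases h' : a + 1 ≤ n
    · exact isIso_truncMap_f K _ n h'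
    · have h1 : IsZero (truncX K (a + 1) n) := isZero_truncX K (a + 1) n h'
      have h2 : IsZero (truncX K a n) := isZero_truncX K a n (by omega)
      exact ⟨0, h1.eq_of_src _ _, h2.eq_of_src _ _⟩

end Trunc

section BoundedAbove

variable (K : CochainComplex A ℤ) (b : ℤ)

/-- the tower `m ↦ σ_{≥ b - m} K` -/
noncomputable def truncTower : ℕ ⥤ CochainComplex A ℤ where
  obj m := trunc K (b - m)
  map {m m'} f := truncMap K (show b - (m' : ℤ) ≤ b - (m : ℤ) by have := leOfHom f; omega)
  map_id m := truncMap_refl K _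
  map_comp f g := (truncMap_trans K _ _).symm

/-- the cocone of the truncation tower with point `K` -/
noncomputable def truncCocone : Cocone (truncTower K b) where
  pt := K
  ι :=
    { app := fun m => truncInc K (b - m)
      naturality := fun m m' f =>
        (truncMap_truncInc K (show b - (m' : ℤ) ≤ b - (m : ℤ) by
          have := leOfHom f; omega)).trans (Category.comp_id _).symm }

/-- `K` is the colimit of its stupid truncations -/
noncomputable def isColimitTruncCocone : IsColimit (truncCocone K b) := by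
  refine HomologicalComplex.isColimitOfEval _ _ (fun n => ?_)
  have h : (truncTower K b ⋙ HomologicalComplex.eval A (ComplexShape.up ℤ) n).IsEventuallyConstantFrom
      (b - n).toNat := by
    intro j f
    exact isIso_truncMap_f K (show b - (j : ℤ) ≤ b - ((b - n).toNat : ℤ) by
      have := leOfHom f; omega) n (by omega)
  haveI : IsIso (((HomologicalComplex.eval A (ComplexShape.up ℤ) n).mapCocone
      (truncCocone K b)).ι.app (b - n).toNat) := by
    change IsIso ((truncInc K _).f n)
    exact isIso_truncInc_f K _ n (by omega)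
  exact h.isColimitOfIsIso _

variable [AB4OfSize.{0} A] (T : A ⥤ A ⥤ A) [T.Additive] [∀ X, (T.obj X).Additive]
  [∀ K L : CochainComplex A ℤ, HasMapBifunctor K L T (.up ℤ)]

omit [HasCoproducts.{0} A] [AB4OfSize.{0} A] in
/-- a complex all of whose terms are zero is K-flat -/
theorem isKFlat_of_isZero_X (Z : CochainComplex A ℤ) (hZ : ∀ n, IsZero (Z.X n)) : IsKFlat T Z := by
  intro F _ n
  have hz : IsZero Z := by
    rw [IsZero.iff_id_eq_zero]
    ext n
    exact (hZ n).eq_of_src _ _
  have : IsZero (mapBifunctor F Z T (.up ℤ)) := ((T.map₂CochainComplex).obj F).map_isZero hz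
  rw [HomologicalComplex.exactAt_iff_isZero_homology]
  exact (HomologicalComplex.homologyFunctor A (.up ℤ) n).map_isZero this

variable {K b} in
/-- a bounded above complex whose terms `M` have `- ⊗ M` exact is K-flat -/
theorem isKFlat_of_isStrictlyLE [HasColimitsOfShape ℕ A] [HasExactColimitsOfShape ℕ A]
    [∀ X, PreservesColimitsOfShape ℕ (T.obj X)] (hb : ∀ n, b < n → IsZero (K.X n))
    (hfl : ∀ n, PreservesFiniteLimits (T.flip.obj (K.X n)) ∧
      PreservesFiniteColimits (T.flip.obj (K.X n))) : IsKFlat T K := by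
  have key : ∀ m : ℕ, IsKFlat T (trunc K (b + 1 - m)) := by
    intro m
    induction m with
    | zero =>
      refine isKFlat_of_isZero_X T _ (fun n => ?_)
      by_cases h : b + 1 - ((0 : ℕ) : ℤ) ≤ n
      · have hz : IsZero (K.X n) := hb n (by omega)
        rw [IsZero.iff_id_eq_zero]
        apply truncX_ext
        intro h'
        exact hz.eq_of_src _ _
      · exact isZero_truncX K _ n h
    | succ m ih =>
      have h2 := (isKFlat_two_of_three_of_split (T := T) (truncSC K (b + 1 - ((m + 1 : ℕ) : ℤ)))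
        (truncSCSplitting K _)).2.1
      have e : b + 1 - ((m + 1 : ℕ) : ℤ) + 1 = b + 1 - (m : ℤ) := by push_cast; ring
      have ih' : IsKFlat T (trunc K (b + 1 - ((m + 1 : ℕ) : ℤ) + 1)) := by rw [e]; exact ih
      have := (hfl (b + 1 - ((m + 1 : ℕ) : ℤ))).1
      have := (hfl (b + 1 - ((m + 1 : ℕ) : ℤ))).2
      exact h2 ih' (isKFlat_single T (K.X _) _)
  exact isKFlat_of_isColimit T (isColimitTruncCocone K (b + 1)) key

end BoundedAbove

end Groth.Agent.Lib.Helper28.KFlatAbs
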