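import Mathlib
import Groth.Prelude.Def_KFlatSite
import Groth.Agent.Lib.Helper17.FlatSES
import Groth.Agent.Lib.Helper17.ModSiteExact
import Groth.Agent.Lib.Helper28.KFlatAbs

/-!
# K-flat complexes on a ringed site: instantiation of the abstract calculus (helper28)
-/

open CategoryTheory Limits HomologicalComplex

namespace Groth.Agent.Lib.Helper28.KFlatSite

open Groth.Agent.Lib.Helper28.KFlatAbs Groth.Agent.Lib.Helper17

universe u

variable {C : Type u} [SmallCategory C] {J : GrothendieckTopology C} (O : Sheaf J CommRingCat.{u})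

instance ab4 : AB4OfSize.{u} (ModSite.Mod O) :=
  ⟨fun ι => ModSiteExact.hasExactColimitsOfShape_discrete (ModSite.ringSh O) ι⟩

instance hasCoproducts0 : HasCoproducts.{0} (ModSite.Mod O) := hasCoproducts_shrink.{0, u}

instance ab4_0 : AB4OfSize.{0} (ModSite.Mod O) := AB4OfSize_shrink.{0, u} (ModSite.Mod O)

variable {O}

/-- The prelude's K-flatness is the abstract one for `tensorBi O`. -/
theorem isKFlat_iff (K : CochainComplex (ModSite.Mod O) ℤ) :
    ModSite.IsKFlat K ↔ KFlatAbs.IsKFlat (ModSite.tensorBi O) K := by
  constructor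
  · intro h F hF i
    rw [exactAt_iff_isZero_homology]
    exact h F (fun i => by have := hF i; rwa [exactAt_iff_isZero_homology] at this) i
  · intro h F hF i
    have := h F (fun i => by rw [exactAt_iff_isZero_homology]; exact hF i) i
    rwa [exactAt_iff_isZero_homology] at this

/-- The hypothesis-form of K-flatness used in several statements. -/
theorem isKFlat_iff' (K : CochainComplex (ModSite.Mod O) ℤ) :
    (∀ L : CochainComplex (ModSite.Mod O) ℤ, L.Acyclic →
      (HomologicalComplex.mapBifunctor L K (ModSite.tensorBi O) (ComplexShape.up ℤ)).Acyclic) ↔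
      KFlatAbs.IsKFlat (ModSite.tensorBi O) K := Iff.rfl

/-- `X ⊗ -` applied to a short exact sequence with flat third term is short exact. -/
theorem shortExact_map_obj_of_isFlat (S : ShortComplex (ModSite.Mod O)) (hS : S.ShortExact)
    (hF : ModSite.IsFlat S.X₃) (G : ModSite.Mod O) :
    (S.map ((ModSite.tensorBi O).obj G)).ShortExact :=
  ShortComplex.shortExact_of_iso
    (S.mapNatIso (Tensor.objIsoFlipObj G).symm)
    (FlatSES.tensor_shortExact_of_isFlat S hS hF G)

end Groth.Agent.Lib.Helper28.KFlatSite
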