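import Mathlib
import Groth.Prelude.Def_KFlatSite
import Groth.Agent.Lib.Helper28.KFlatSite
import Groth.Agent.Lib.Helper28.KFlatAbs2
import Groth.Agent.Lib.Helper28.KFlatAbs3

/-!
# K-flat complexes on a ringed site II: colimits, single flat modules (helper28)
-/

open CategoryTheory Limits HomologicalComplex

namespace Groth.Agent.Lib.Helper28.KFlatSite

open Groth.Agent.Lib.Helper28.KFlatAbs Groth.Agent.Lib.Helper17

universe u

variable {C : Type u} [SmallCategory C] {J : GrothendieckTopology C} (O : Sheaf J CommRingCat.{u})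

/-- exactness of colimits indexed by a small filtered category in any universe below `u` -/
theorem hasExactColimitsOfShape_of_filtered (Λ : Type) [SmallCategory Λ] [IsFiltered Λ] :
    HasExactColimitsOfShape Λ (ModSite.Mod O) := by
  let e : Λ ≌ ULiftHom.{u} (ULift.{u} Λ) := ULiftHomULiftCategory.equiv Λ
  have : IsFiltered (ULiftHom.{u} (ULift.{u} Λ)) := IsFiltered.of_equivalence e
  have := ModSiteExact.hasExactColimitsOfShape_filtered (ModSite.ringSh O)
    (ULiftHom.{u} (ULift.{u} Λ))
  exact HasExactColimitsOfShape.of_domain_equivalence (ModSite.Mod O) e.symm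

theorem hasExactColimitsOfShape_nat : HasExactColimitsOfShape ℕ (ModSite.Mod O) :=
  hasExactColimitsOfShape_of_filtered O ℕ

theorem preservesColimitsOfShape_obj (Λ : Type) [SmallCategory Λ] (X : ModSite.Mod O) :
    PreservesColimitsOfShape Λ ((ModSite.tensorBi O).obj X) := by
  have : PreservesColimitsOfSize.{0, 0} ((ModSite.tensorBi O).obj X) :=
    preservesColimitsOfSize_shrink.{0, u, 0, u} _
  infer_instance

variable {O}

/-- colimits of sequences of K-flat complexes are K-flat -/
theorem isKFlat_colimit_nat (K : ℕ ⥤ CochainComplex (ModSite.Mod O) ℤ)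
    (hK : ∀ n : ℕ, ModSite.IsKFlat (K.obj n)) : ModSite.IsKFlat (colimit K) := by
  rw [isKFlat_iff]
  have := hasExactColimitsOfShape_nat O
  have := fun X => preservesColimitsOfShape_obj O ℕ X
  have h1 := (colimit.isColimit K)
  have h2 := @isKFlat_of_isColimit _ _ _ ℕ _ _ (ModSite.tensorBi O) _ _ _ _ _ K _ h1
  exact h2 (fun n => (isKFlat_iff _).1 (hK n))

/-- a flat module in a single degree is K-flat -/
theorem isKFlat_single (M : ModSite.Mod O) (hM : ModSite.IsFlat M) (a : ℤ) :
    ModSite.IsKFlat ((HomologicalComplex.single (ModSite.Mod O) (ComplexShape.up ℤ) a).obj M) := by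
  rw [isKFlat_iff]
  have : PreservesFiniteLimits ((ModSite.tensorBi O).flip.obj M) := hM.1
  have : PreservesFiniteColimits ((ModSite.tensorBi O).flip.obj M) := hM.2
  exact KFlatAbs.isKFlat_single (ModSite.tensorBi O) M a

end Groth.Agent.Lib.Helper28.KFlatSite
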