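import Mathlib
import Groth.Prelude.Def_KFlatSite
import Groth.Agent.Lib.Helper28.KFlatSite2
import Groth.Agent.Lib.Helper28.KFlatAbs4

/-!
# K-flat complexes on a ringed site III: bounded above complexes of flat modules (helper28)
-/

open CategoryTheory Limits HomologicalComplex

namespace Groth.Agent.Lib.Helper28.KFlatSite

open Groth.Agent.Lib.Helper28.KFlatAbs Groth.Agent.Lib.Helper17

universe u

variable {C : Type u} [SmallCategory C] {J : GrothendieckTopology C} {O : Sheaf J CommRingCat.{u}}

/-- a bounded above complex of flat modules is K-flat -/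
theorem isKFlat_of_isStrictlyLE (K : CochainComplex (ModSite.Mod O) ℤ) (b : ℤ)
    (hb : K.IsStrictlyLE b) (hflat : ∀ n : ℤ, ModSite.IsFlat (K.X n)) : ModSite.IsKFlat K := by
  rw [isKFlat_iff]
  have := hasExactColimitsOfShape_nat O
  have := fun X => preservesColimitsOfShape_obj O ℕ X
  exact @KFlatAbs.isKFlat_of_isStrictlyLE _ _ _ _ K b _ (ModSite.tensorBi O) _ _ _ _ _ _
    (fun n hn => CochainComplex.isZero_of_isStrictlyLE K b n hn) (fun n => hflat n)

end Groth.Agent.Lib.Helper28.KFlatSite
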