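import Mathlib
import Groth.Prelude.Def_KFlatSite
import Groth.Agent.Lib.Helper28.KFlatSite3
import Groth.Agent.Lib.Helper8.TruncIso
import Groth.Agent.S9078

/-!
# K-flat complexes on a ringed site IV: K-flat resolutions (helper28)
-/

open CategoryTheory Limits HomologicalComplex

namespace Groth.Agent.Lib.Helper28.KFlatSite

open Groth.Agent.Lib.Helper28.KFlatAbs Groth.Agent.Lib.Helper17

universe u

variable {C : Type u} [SmallCategory C] {J : GrothendieckTopology C} {O : Sheaf J CommRingCat.{u}}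

/-- flatness is invariant under isomorphism -/
theorem isFlat_of_iso {F F' : ModSite.Mod O} (e : F ≅ F') (h : ModSite.IsFlat F) :
    ModSite.IsFlat F' := by
  rw [Tensor.isFlat_iff] at h ⊢
  exact preservesFiniteLimits_of_natIso ((ModSite.tensorBi O).flip.mapIso e)

/-- a colimit of flat modules along a sequence is flat -/
theorem isFlat_of_isColimit_nat (D : ℕ ⥤ ModSite.Mod O) (hD : ∀ k, ModSite.IsFlat (D.obj k))
    (c : Cocone D) (hc : IsColimit c) : ModSite.IsFlat c.pt := by
  have := hasExactColimitsOfShape_nat O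
  have := fun X => preservesColimitsOfShape_obj O ℕ X
  apply ProjFormula.isFlat_of_preservesMonomorphisms
  constructor
  intro X Y f hf
  have hX : IsColimit (((ModSite.tensorBi O).obj X).mapCocone c) := isColimitOfPreserves _ hc
  have hY : IsColimit (((ModSite.tensorBi O).obj Y).mapCocone c) := isColimitOfPreserves _ hc
  let φ : D ⋙ (ModSite.tensorBi O).obj X ⟶ D ⋙ (ModSite.tensorBi O).obj Y :=
    Functor.whiskerLeft D ((ModSite.tensorBi O).map f)
  have h1 : ∀ k, Mono (φ.app k) := fun k => by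
    have := ProjFormula.preservesMonomorphisms_of_isFlat (D.obj k) (hD k)
    exact inferInstanceAs (Mono (((ModSite.tensorBi O).flip.obj (D.obj k)).map f))
  have h2 : Mono φ := NatTrans.mono_of_mono_app φ
  exact colim.map_mono' φ hX hY _ (fun k => ((ModSite.tensorBi O).map f).naturality (c.ι.app k))

/-- a coproduct of modules `j_! O_U` is flat -/
theorem isFlat_of_iso_sigma_freeOn {F : ModSite.Mod O} {ι : Type u} (U : ι → C)
    (e : F ≅ ∐ fun j => ModSite.freeOn O (U j)) : ModSite.IsFlat F :=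
  isFlat_of_iso e.symm (FlatColim.isFlat_sigmaObj _ (fun j => ProjFormula.isFlat_freeOn (U j)))

/-- Existence of K-flat resolutions with flat terms, termwise epimorphic. -/
theorem exists_kflat_resolution (G : CochainComplex (ModSite.Mod O) ℤ) :
    ∃ (K : CochainComplex (ModSite.Mod O) ℤ) (q : K ⟶ G), ModSite.IsKFlat K ∧
      (∀ n : ℤ, ModSite.IsFlat (K.X n)) ∧ QuasiIso q ∧ ∀ n : ℤ, Epi (q.f n) := by
  obtain ⟨Kc, π, _, hπ, hb, hterms, _, c, hc, hqc⟩ := Groth.Agent.S9078.result O G
  have hfl : ∀ (n : ℕ) (i : ℤ), ModSite.IsFlat ((Kc.obj n).X i) := fun n i => by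
    obtain ⟨ι, U, ⟨e⟩⟩ := hterms n i
    exact isFlat_of_iso_sigma_freeOn U e
  refine ⟨colimit Kc, c, ?_, ?_, hqc, ?_⟩
  · refine isKFlat_colimit_nat Kc (fun n => ?_)
    obtain ⟨b, hb'⟩ := hb n
    exact isKFlat_of_isStrictlyLE (Kc.obj n) b hb' (hfl n)
  · intro i
    exact isFlat_of_isColimit_nat (Kc ⋙ HomologicalComplex.eval _ _ i) (fun k => hfl k i)
      ((HomologicalComplex.eval _ _ i).mapCocone (colimit.cocone Kc))
      (isColimitOfPreserves _ (colimit.isColimit Kc))
  · intro i
    have h1 := congrArg (fun φ => φ.f i) (hc i.toNat)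
    simp only [HomologicalComplex.comp_f] at h1
    have : IsIso ((G.ιTruncLE ((i.toNat : ℤ) + 1)).f i) :=
      Groth.Agent.Lib.Helper8.TruncIso.isIso_ιTruncLE_f_of_lt G _ i (by omega)
    have : Epi ((π i.toNat).f i) := (hπ i.toNat).2 i
    have : Epi ((colimit.ι Kc i.toNat).f i ≫ c.f i) := by
      rw [h1]
      infer_instance
    exact epi_of_epi ((colimit.ι Kc i.toNat).f i) (c.f i)

end Groth.Agent.Lib.Helper28.KFlatSite
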