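import Mathlib
import Groth.Agent.Lib.Helper17.FlatCalc

/-!
# Flatness of a cokernel from exactness of tensored complexes (helper28)
-/

open CategoryTheory Limits HomologicalComplex

namespace Groth.Agent.Lib.Helper28.KFlatAbs

open Groth.Agent.Lib.Helper17.FlatCalc

universe v u

variable {A : Type u} [Category.{v} A] [Abelian A] (T : A ⥤ A ⥤ A) [RightExactBi T]

instance rightExactBi_flip' : RightExactBi T.flip where
  obj_add := fun X => RightExactBi.flip_add (T := T) X
  obj_colim := fun X => RightExactBi.flip_colim (T := T) X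
  flip_add := fun Y => inferInstanceAs ((T.obj Y).Additive)
  flip_colim := fun Y => inferInstanceAs (PreservesFiniteColimits (T.obj Y))

/-- If `P` is flat and `ι ⊗ G` is a monomorphism for all `G`, then `coker ι` is flat. -/
theorem preservesMono_cokernel_of_mono {K P : A} (ι : K ⟶ P)
    (h₂ : (T.obj P).PreservesMonomorphisms) (hm : ∀ G : A, Mono ((T.flip.obj G).map ι)) :
    (T.obj (cokernel ι)).PreservesMonomorphisms := by
  constructor
  intro G' G f hf
  let S' : ShortComplex A := ShortComplex.mk f (cokernel.π f) (cokernel.condition f)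
  have hS' : S'.ShortExact :=
    { exact := ShortComplex.exact_of_g_is_cokernel _ (cokernelIsCokernel f)
      mono_f := hf
      epi_g := inferInstanceAs (Epi (cokernel.π f)) }
  have : (T.flip.flip.obj P).PreservesMonomorphisms := h₂
  exact mono_of_snake T.flip S' hS' ι (cokernel.π ι) (cokernel.condition ι)
    (cokernelIsCokernel ι) (hm (cokernel f))

/-- If `K^m` is flat and `K ⊗ G` is exact at `n` for every `G`, then `coker (K^n ⟶ K^m)` is flat. -/
theorem preservesMono_cokernel_d (K : CochainComplex A ℤ) (l n m : ℤ)
    (h₂ : (T.obj (K.X m)).PreservesMonomorphisms)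
    (hex : ∀ G : A, ((K.sc' l n m).map (T.flip.obj G)).Exact) :
    (T.obj (cokernel (K.d n m))).PreservesMonomorphisms := by
  let ι : cokernel (K.d l n) ⟶ K.X m := cokernel.desc (K.d l n) (K.d n m) (K.d_comp_d l n m)
  have hι : cokernel.π (K.d l n) ≫ ι = K.d n m := cokernel.π_desc _ _ _
  have hm : ∀ G : A, Mono ((T.flip.obj G).map ι) := by
    intro G
    have hex' := hex G
    rw [ShortComplex.exact_iff_mono_cokernel_desc] at hex'
    have w0 : (T.flip.obj G).map (K.d l n) ≫ (T.flip.obj G).map (K.d n m) = 0 := by
      rw [← Functor.map_comp, K.d_comp_d, Functor.map_zero]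
    have hex'' : Mono (cokernel.desc ((T.flip.obj G).map (K.d l n))
        ((T.flip.obj G).map (K.d n m)) w0) := hex'
    have e : (T.flip.obj G).map ι = (PreservesCokernel.iso (T.flip.obj G) (K.d l n)).hom ≫
        cokernel.desc ((T.flip.obj G).map (K.d l n)) ((T.flip.obj G).map (K.d n m)) w0 := by
      rw [← cancel_epi ((T.flip.obj G).map (cokernel.π (K.d l n))), ← Functor.map_comp, hι,
        ← Category.assoc, PreservesCokernel.π_iso_hom, cokernel.π_desc]
    rw [e]
    infer_instance
  have h1 := preservesMono_cokernel_of_mono T ι h₂ hm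
  have w1 : K.d n m ≫ cokernel.π ι = 0 := by
    rw [← hι, Category.assoc, cokernel.condition, comp_zero]
  have w2 : ι ≫ cokernel.π (K.d n m) = 0 := by
    rw [← cancel_epi (cokernel.π (K.d l n)), ← Category.assoc, hι, cokernel.condition, comp_zero]
  let e : cokernel ι ≅ cokernel (K.d n m) :=
    { hom := cokernel.desc ι (cokernel.π (K.d n m)) w2
      inv := cokernel.desc (K.d n m) (cokernel.π ι) w1
      hom_inv_id := by
        apply coequalizer.hom_ext
        simp
      inv_hom_id := by
        apply coequalizer.hom_ext
        simp }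
  exact Functor.preservesMonomorphisms.of_iso (T.mapIso e)

end Groth.Agent.Lib.Helper28.KFlatAbs
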