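import Mathlib
import Groth.Prelude.Def_KFlatSite
import Groth.Agent.Lib.Helper28.KFlatAbs9
import Groth.Agent.Lib.Helper17.FlatSES

/-!
# K-flat complexes on a ringed site IX: flatness of cokernels (helper28)
-/

open CategoryTheory Limits HomologicalComplex

namespace Groth.Agent.Lib.Helper28.KFlatSite

open Groth.Agent.Lib.Helper28.KFlatAbs Groth.Agent.Lib.Helper17

universe u

variable {C : Type u} [SmallCategory C] {J : GrothendieckTopology C} {O : Sheaf J CommRingCat.{u}}

/-- If `K^m` is flat and `K ⊗ G` is exact at `n` for every `G`, then `coker (K^n ⟶ K^m)` is flat. -/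
theorem isFlat_cokernel_d (K : CochainComplex (ModSite.Mod O) ℤ) (l n m : ℤ)
    (h₂ : ModSite.IsFlat (K.X m))
    (hex : ∀ G : ModSite.Mod O, ((K.sc' l n m).map ((ModSite.tensorBi O).flip.obj G)).Exact) :
    ModSite.IsFlat (cokernel (K.d n m)) := by
  rw [FlatSES.isFlat_iff_obj_preservesMono]
  exact KFlatAbs.preservesMono_cokernel_d (ModSite.tensorBi O) K l n m
    ((FlatSES.isFlat_iff_obj_preservesMono _).1 h₂) hex

end Groth.Agent.Lib.Helper28.KFlatSite
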