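import Mathlib
import Groth.Prelude.Def_KFlatSite
import Groth.Agent.Lib.Helper28.KFlatSite9
import Groth.Agent.Lib.Helper28.KFlatSite4
import Groth.Agent.S0970

/-!
# K-flat complexes on a ringed site X: flat resolutions of a module, flatness via Tor₁ (helper28)
-/

open CategoryTheory Limits HomologicalComplex

namespace Groth.Agent.Lib.Helper28.KFlatSite

open Groth.Agent.Lib.Helper28.KFlatAbs Groth.Agent.Lib.Helper17

universe u

variable {C : Type u} [SmallCategory C] {J : GrothendieckTopology C} {O : Sheaf J CommRingCat.{u}}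

/-- a zero object is flat -/
theorem isFlat_of_isZero (Z : ModSite.Mod O) (hZ : IsZero Z) : ModSite.IsFlat Z := by
  have h0 : IsZero (∐ (fun j : PEmpty.{u + 1} => (j.elim : ModSite.Mod O))) := by
    rw [IsZero.iff_id_eq_zero]
    apply Sigma.hom_ext
    intro j
    exact j.elim
  exact isFlat_of_iso (h0.iso hZ) (FlatColim.isFlat_sigmaObj _ (fun j => j.elim))

/-- every module has a flat resolution concentrated in degrees `≤ 0` -/
theorem exists_flat_resolution_single (F : ModSite.Mod O) :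
    ∃ (Q : CochainComplex (ModSite.Mod O) ℤ)
      (α : Q ⟶ (HomologicalComplex.single (ModSite.Mod O) (ComplexShape.up ℤ) 0).obj F),
      Q.IsStrictlyLE 0 ∧ (∀ n, ModSite.IsFlat (Q.X n)) ∧ (∀ n, Epi (α.f n)) ∧ QuasiIso α :=
  Groth.Agent.S0970.result (A := ModSite.Mod O) ModSite.IsFlat
    (by
      obtain ⟨Z, hZ⟩ := (inferInstance : HasZeroObject (ModSite.Mod O)).zero
      exact ⟨Z, hZ, isFlat_of_isZero Z hZ⟩)
    (fun X => FlatColim.exists_epi_of_isFlat X)
    ((HomologicalComplex.single (ModSite.Mod O) (ComplexShape.up ℤ) 0).obj F) 0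

/-- If `Q → F[0]` is a flat resolution in degrees `≤ 0` and `Q ⊗ G` is exact at `-1` for all `G`,
then `F` is flat. -/
theorem isFlat_of_resolution (F : ModSite.Mod O) (Q : CochainComplex (ModSite.Mod O) ℤ)
    (α : Q ⟶ (HomologicalComplex.single (ModSite.Mod O) (ComplexShape.up ℤ) 0).obj F)
    (hQ : Q.IsStrictlyLE 0) (hfl0 : ModSite.IsFlat (Q.X 0)) (hα : QuasiIso α)
    (hex : ∀ G : ModSite.Mod O,
      ((Q.sc' (-2) (-1) 0).map ((ModSite.tensorBi O).flip.obj G)).Exact) : ModSite.IsFlat F := by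
  have hC := isFlat_cokernel_d Q (-2) (-1) 0 hfl0 hex
  have hd : Q.d 0 1 = 0 := (Q.isZero_of_isStrictlyLE 0 1).eq_of_tgt _ _
  let e1 : Q.opcycles 0 ≅ cokernel (Q.d (-1) 0) :=
    IsColimit.coconePointUniqueUpToIso (Q.opcyclesIsCokernel (-1) 0 (by simp))
      (colimit.isColimit (parallelPair (Q.d (-1) 0) 0))
  let e2 : Q.homology 0 ≅ Q.opcycles 0 := Q.isoHomologyι 0 1 (by simp) hd
  have : IsIso (HomologicalComplex.homologyMap α 0) := by
    rw [← quasiIsoAt_iff_isIso_homologyMap]
    exact (quasiIso_iff α).1 hα 0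
  let e3 : Q.homology 0 ≅
      ((HomologicalComplex.single (ModSite.Mod O) (ComplexShape.up ℤ) 0).obj F).homology 0 :=
    asIso (HomologicalComplex.homologyMap α 0)
  let e4 := HomologicalComplex.singleObjHomologySelfIso (ComplexShape.up ℤ) 0 F
  exact isFlat_of_iso (e1.symm ≪≫ e2.symm ≪≫ e3 ≪≫ e4) hC

end Groth.Agent.Lib.Helper28.KFlatSite
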