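import Mathlib
import Groth.Prelude.Def_KFlatSite
import Groth.Agent.Lib.Helper28.KFlatSite10
import Groth.Agent.Lib.Helper17.ProjFormula

/-!
# K-flat complexes on a ringed site XI: the unit, truncations of flat complexes (helper28)
-/

open CategoryTheory Limits HomologicalComplex

namespace Groth.Agent.Lib.Helper28.KFlatSite

open Groth.Agent.Lib.Helper28.KFlatAbs Groth.Agent.Lib.Helper17

universe u

variable {C : Type u} [SmallCategory C] {J : GrothendieckTopology C} {O : Sheaf J CommRingCat.{u}}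

/-- the right unit isomorphism `- ⊗ O ≅ id` -/
noncomputable def rightUnitNatIso :
    (ModSite.tensorBi O).flip.obj (ModSite.unit O) ≅ 𝟭 (ModSite.Mod O) :=
  ((Tensor.flipIso O).app (ModSite.unit O)).symm ≪≫ ProjFormula.leftUnitNatIso

/-- `P ⊗ O ≅ P` for complexes -/
noncomputable def tensorUnitCxIso (P : CochainComplex (ModSite.Mod O) ℤ) :
    (((ModSite.tensorBi O).flip.obj (ModSite.unit O)).mapHomologicalComplex
      (ComplexShape.up ℤ)).obj P ≅ P :=
  (NatIso.mapHomologicalComplex rightUnitNatIso (ComplexShape.up ℤ)).app P ≪≫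
    (Functor.mapHomologicalComplexIdIso (ModSite.Mod O) (ComplexShape.up ℤ)).app P

/-- a cohomologically bounded above complex has a bounded above flat resolution -/
theorem exists_flat_resolution_of_isLE (P : CochainComplex (ModSite.Mod O) ℤ) (b : ℤ)
    (hP : P.IsLE b) :
    ∃ (Q : CochainComplex (ModSite.Mod O) ℤ) (β : Q ⟶ P),
      Q.IsStrictlyLE b ∧ (∀ n, ModSite.IsFlat (Q.X n)) ∧ QuasiIso β := by
  obtain ⟨Q, α, hQ, hfl, _, hα⟩ := Groth.Agent.S0970.result (A := ModSite.Mod O) ModSite.IsFlat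
    (by
      obtain ⟨Z, hZ⟩ := (inferInstance : HasZeroObject (ModSite.Mod O)).zero
      exact ⟨Z, hZ, isFlat_of_isZero Z hZ⟩)
    (fun X => FlatColim.exists_epi_of_isFlat X) (P.truncLE b) b
  refine ⟨Q, α ≫ P.ιTruncLE b, hQ, hfl, ?_⟩
  infer_instance

/-- truncating a bounded above flat complex below, when the relevant cokernel is flat -/
theorem truncGE_flat (Q : CochainComplex (ModSite.Mod O) ℤ) (a b : ℤ) (hab : a ≤ b)
    (hQ : Q.IsStrictlyLE b) (hfl : ∀ n, ModSite.IsFlat (Q.X n))
    (hc : ModSite.IsFlat (cokernel (Q.d (a - 1) a))) :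
    (∀ i : ℤ, (i < a ∨ b < i) → IsZero ((Q.truncGE a).X i)) ∧
      (∀ i : ℤ, ModSite.IsFlat ((Q.truncGE a).X i)) := by
  constructor
  · rintro i (hi | hi)
    · exact (Q.truncGE a).isZero_of_isStrictlyGE a i hi
    · exact IsZero.of_iso (Q.isZero_of_isStrictlyLE b i hi) (Q.truncGEXIso a i (by omega))
  · intro i
    rcases lt_trichotomy i a with hi | rfl | hi
    · exact isFlat_of_isZero _ ((Q.truncGE a).isZero_of_isStrictlyGE a i hi)
    · let e1 : Q.opcycles i ≅ cokernel (Q.d (i - 1) i) :=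
        IsColimit.coconePointUniqueUpToIso (Q.opcyclesIsCokernel (i - 1) i (by simp))
          (colimit.isColimit (parallelPair (Q.d (i - 1) i) 0))
      exact isFlat_of_iso (e1.symm ≪≫ (Q.truncGEXIsoOpcycles i).symm) hc
    · exact isFlat_of_iso (Q.truncGEXIso a i hi).symm (hfl i)

end Groth.Agent.Lib.Helper28.KFlatSite
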