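import Mathlib
import Groth.Agent.Lib.Helper28.DCohRes31
import Groth.Agent.Lib.Helper28.KFlatSite11
import Groth.Agent.Lib.Helper17.FlatBridge
import Groth.Prelude.Def_KSix

/-!
# Perfect amplitude in an interval
-/

set_option autoImplicit false

universe u

open CategoryTheory Limits AlgebraicGeometry TopologicalSpace

namespace Groth.Agent.Lib.Helper28.DCohRes

noncomputable section

attribute [local instance] HasDerivedCategory.standard

open Groth.Agent.Lib.Helper29.QCoh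

variable {X : Scheme.{u}}

/-- `K` becomes isomorphic to a complex of finite locally free modules placed in `[m, n]` after
restriction along `j` -/
def PerfAmpAlong (m n : ℤ) (K : DCoh.D X) {U : Scheme.{u}} (j : U ⟶ X) [IsOpenImmersion j] :
    Prop :=
  ∃ E : CochainComplex U.Modules ℤ, DCoh.VanishesOutside E m n ∧
    (∀ i : ℤ, FlatMod.IsFinLocFree (E.X i)) ∧
    Nonempty ((resD j).obj K ≅ DerivedCategory.Q.obj E)

lemma PerfAmpAlong.of_eq {m n : ℤ} {K : DCoh.D X} {U : Scheme.{u}} {j j' : U ⟶ X}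
    [IsOpenImmersion j] [IsOpenImmersion j'] (h : PerfAmpAlong m n K j) (e : j = j') :
    PerfAmpAlong m n K j' := by
  subst e
  exact h

lemma PerfAmpAlong.comp {m n : ℤ} {K : DCoh.D X} {U U' : Scheme.{u}} {j : U ⟶ X}
    [IsOpenImmersion j] (h : PerfAmpAlong m n K j) (j' : U' ⟶ U) [IsOpenImmersion j'] :
    PerfAmpAlong m n K (j' ≫ j) := by
  obtain ⟨E, hv, hE, ⟨e⟩⟩ := h
  exact ⟨(resCx j').obj E, vanishesOutside_resCx j' hv, fun i => isFinLocFree_restrict j' (hE i),
    ⟨(resDComp j' j).app K ≪≫ (resD j').mapIso e ≪≫ (resDQ j').app E⟩⟩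

/-- dictionary for perfect amplitude -/
theorem hasPerfectAmplitudeIn_iff (m n : ℤ) (K : DCoh.D X) :
    KSix.HasPerfectAmplitudeIn m n K ↔ ∀ x : X, ∃ (U : Scheme.{u}) (j : U ⟶ X)
      (_ : IsOpenImmersion j), x ∈ Set.range j.base ∧ PerfAmpAlong m n K j := by
  constructor
  · intro h x
    obtain ⟨V, hxV, hV⟩ := h x
    obtain ⟨E, hv, hE, ⟨e⟩⟩ := hV (DerivedCategory.Q.objPreimage K)
      ⟨DerivedCategory.Q.objObjPreimageIso K⟩
    refine ⟨V, V.ι, inferInstance, by rw [Scheme.Opens.range_ι]; exact hxV, E, hv, hE, ⟨?_⟩⟩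
    exact (resD V.ι).mapIso (DerivedCategory.Q.objObjPreimageIso K).symm ≪≫
      (resDQ V.ι).app _ ≪≫ e
  · intro h x
    obtain ⟨U, j, hj, hx, hK⟩ := h x
    refine ⟨j.opensRange, hx, fun F ⟨eF⟩ => ?_⟩
    obtain ⟨E, hv, hE, ⟨e⟩⟩ := (hK.comp j.isoOpensRange.inv).of_eq j.isoOpensRange_inv_comp
    exact ⟨E, hv, hE,
      ⟨((resDQ j.opensRange.ι).app F).symm ≪≫ (resD j.opensRange.ι).mapIso eF ≪≫ e⟩⟩

/-- perfect amplitude implies perfect -/
theorem isPerfect_of_hasPerfectAmplitudeIn {m n : ℤ} {K : DCoh.D X}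
    (h : KSix.HasPerfectAmplitudeIn m n K) : DCoh.IsPerfect K := by
  intro x
  obtain ⟨V, hxV, hV⟩ := h x
  refine ⟨V, hxV, fun F hF => ?_⟩
  obtain ⟨E, hv, hE, he⟩ := hV F hF
  exact ⟨E, ⟨⟨m, n, hv⟩, hE⟩, he⟩

/-- **Refined key statement.** Let `F` be a complex of flat modules vanishing outside `[a, b]` and
`φ : P ⟶ F` a chain map from a strictly perfect complex which is a quasi-isomorphism in degrees
`≥ a`. Then `F` is quasi-isomorphic to a complex of finite locally free modules vanishing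
outside `[a, b]`. -/
theorem exists_perfAmp_of_flat {P F : CochainComplex X.Modules ℤ} (a b : ℤ) (hab : a ≤ b)
    (hP : DCoh.IsStrictlyPerfect P) (hF : DCoh.VanishesOutside F a b)
    (hflat : ∀ i, FlatMod.IsFlat (F.X i)) (φ : P ⟶ F)
    (hφ : IsApprox (a - 1) (DerivedCategory.Q.map φ)) :
    ∃ P' : CochainComplex X.Modules ℤ, DCoh.VanishesOutside P' a b ∧
      (∀ i, FlatMod.IsFinLocFree (P'.X i)) ∧
      Nonempty (DerivedCategory.Q.obj F ≅ DerivedCategory.Q.obj P') := by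
  have hP1 := isStrictlyPerfect_truncGE a hP (isFlat_truncGE_X a b hP hF hflat φ hφ)
  obtain ⟨e1⟩ := nonempty_iso_truncGE a φ hφ fun i hi =>
    (HomologicalComplex.exactAt_iff_isZero_homology _ _).2
      (IsZero.of_mono (F.homologyι i) (IsZero.of_epi (F.pOpcycles i) (hF i (Or.inl hi))))
  set P1 := P.truncGE a with hP1def
  obtain ⟨⟨a₁, b₁, hab₁⟩, hfree⟩ := hP1
  have hex : ∀ i, b < i → P1.ExactAt i := by
    intro i hi
    rw [HomologicalComplex.exactAt_iff_isZero_homology]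
    have hz : IsZero (F.homology i) :=
      IsZero.of_mono (F.homologyι i) (IsZero.of_epi (F.pOpcycles i) (hF i (Or.inr hi)))
    exact hz.of_iso (((DerivedCategory.homologyFunctorFactors X.Modules i).app P1).symm ≪≫
      (DerivedCategory.homologyFunctor X.Modules i).mapIso e1.symm ≪≫
      (DerivedCategory.homologyFunctorFactors X.Modules i).app F)
  haveI : P1.IsLE b := by
    rw [CochainComplex.isLE_iff]
    exact hex
  haveI : IsIso (DerivedCategory.Q.map (P1.ιTruncLE b)) := by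
    rw [DerivedCategory.isIso_Q_map_iff_quasiIso]
    infer_instance
  refine ⟨P1.truncLE b, fun i hi => ?_, fun i => ?_,
    ⟨e1 ≪≫ (asIso (DerivedCategory.Q.map (P1.ιTruncLE b))).symm⟩⟩
  · rcases hi with hi | hi
    · exact IsZero.of_iso (CochainComplex.isZero_of_isStrictlyGE P1 a i hi)
        (P1.truncLEXIso b i (by omega))
    · exact CochainComplex.isZero_of_isStrictlyLE (P1.truncLE b) b i hi
  · rcases lt_trichotomy i b with hi | rfl | hi
    · exact isFinLocFree_of_iso (P1.truncLEXIso b i hi).symm (hfree i)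
    · exact isFinLocFree_of_iso (P1.truncLEXIsoCycles i).symm
        (isFinLocFree_cycles i b₁ hfree (fun k hk => hab₁ k (Or.inr hk)) hex i le_rfl)
    · exact isFinLocFree_of_isZero (CochainComplex.isZero_of_isStrictlyLE (P1.truncLE b) b i hi)

/-- **Main theorem (⇐)**: an object represented by a complex of flat modules in `[a, b]`
which is `(a-1)`-pseudo-coherent has perfect amplitude in `[a, b]`. -/
theorem hasPerfectAmplitudeIn_of_flat_of_isPseudoCoherentD {K : DCoh.D X}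
    (F : CochainComplex X.Modules ℤ) (a b : ℤ) (hab : a ≤ b) (hF : DCoh.VanishesOutside F a b)
    (hflat : ∀ i, FlatMod.IsFlat (F.X i))
    (e : DerivedCategory.Q.obj F ≅ K) (h : DCoh.IsPseudoCoherentD (a - 1) K) :
    KSix.HasPerfectAmplitudeIn a b K := by
  rw [hasPerfectAmplitudeIn_iff]
  intro x
  obtain ⟨U, j, hj, ⟨y, rfl⟩, P, α, hP, hα⟩ := (isPseudoCoherentD_iff (a - 1) K).1 h x
  let ι : (resD j).obj K ≅ DerivedCategory.Q.obj ((resCx j).obj F) :=
    (resD j).mapIso e.symm ≪≫ (resDQ j).app F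
  have hα' : IsApprox (a - 1) (α ≫ ι.hom) := hα.comp_iso ι
  obtain ⟨⟨a₁, b₁, hab₁⟩, hfree⟩ := hP
  obtain ⟨U', j', hj', hy, ψ, hψ⟩ := exists_chainMap_locally P ((resCx j).obj F) a₁ b₁ hfree
    (fun i hi => hab₁ i (Or.inl hi)) (fun i hi => hab₁ i (Or.inr hi)) (α ≫ ι.hom) y
  have hψ' : IsApprox (a - 1) (DerivedCategory.Q.map ψ) := by
    rw [hψ]
    exact ((hα'.resD j').comp_iso ((resDQ j').app _)).iso_comp ((resDQ j').app P).symm
  obtain ⟨P', hv', hP', ⟨e'⟩⟩ := exists_perfAmp_of_flat a b hab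
    (isStrictlyPerfect_resCx j' ⟨⟨a₁, b₁, hab₁⟩, hfree⟩)
    (vanishesOutside_resCx j' (vanishesOutside_resCx j hF))
    (isFlat_resCx_X j' (isFlat_resCx_X j hflat)) ψ hψ'
  refine ⟨U', j' ≫ j, inferInstance, mem_range_comp j j' hy, P', hv', hP', ⟨?_⟩⟩
  exact (resDComp j' j).app K ≪≫ (resD j').mapIso ι ≪≫ (resDQ j').app _ ≪≫ e'

end

end Groth.Agent.Lib.Helper28.DCohRes
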