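import Mathlib
import Groth.Agent.Lib.Helper28.DCohRes32

/-!
# Perfect amplitude in an interval implies flat amplitude in that interval
-/

set_option autoImplicit false

universe u

open CategoryTheory Limits AlgebraicGeometry TopologicalSpace

namespace Groth.Agent.Lib.Helper28.DCohRes

noncomputable section

attribute [local instance] HasDerivedCategory.standard

open Groth.Agent.Lib.Helper29.QCoh

variable {X : Scheme.{u}}

/-- vanishing of cohomology sheaves outside the interval -/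
theorem isZero_HD_of_hasPerfectAmplitudeIn {m n : ℤ} {K : DCoh.D X}
    (h : KSix.HasPerfectAmplitudeIn m n K) (i : ℤ) (hi : i < m ∨ n < i) :
    IsZero (DCoh.HD K i) := by
  rw [hasPerfectAmplitudeIn_iff] at h
  refine isZero_of_locally _ fun x => ?_
  obtain ⟨U, j, hj, hx, E, hv, hE, ⟨e⟩⟩ := h x
  refine ⟨U, j, hj, hx, ?_⟩
  have hz : IsZero (E.homology i) :=
    IsZero.of_mono (E.homologyι i) (IsZero.of_epi (E.pOpcycles i) (hv i hi))
  exact hz.of_iso ((HDresDIso j K i).symm ≪≫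
    (DerivedCategory.homologyFunctor U.Modules i).mapIso e ≪≫
    (DerivedCategory.homologyFunctorFactors U.Modules i).app E)

/-- **Local flatness of the cokernel.** -/
theorem isFlat_cokernel_d_of_perfAmp {m n : ℤ} {K : DCoh.D X} (Q : CochainComplex X.Modules ℤ)
    (eQ : DerivedCategory.Q.obj Q ≅ K) (hQf : ∀ i, FlatMod.IsFlat (Q.X i))
    (hQb : ∀ i, n < i → IsZero (Q.X i)) (h : KSix.HasPerfectAmplitudeIn m n K) :
    FlatMod.IsFlat (cokernel (Q.d (m - 1) m)) := by
  rw [hasPerfectAmplitudeIn_iff] at h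
  refine isFlat_of_locally fun x => ?_
  obtain ⟨U, j, hj, ⟨y, rfl⟩, E, hv, hE, ⟨e⟩⟩ := h x
  let ι : DerivedCategory.Q.obj E ≅ DerivedCategory.Q.obj ((resCx j).obj Q) :=
    e.symm ≪≫ (resD j).mapIso eQ.symm ≪≫ (resDQ j).app Q
  obtain ⟨U', j', hj', hy, ψ, hψ⟩ := exists_chainMap_locally E ((resCx j).obj Q) m n hE
    (fun i hi => hv i (Or.inl hi)) (fun i hi => hv i (Or.inr hi)) ι.hom y
  have hψi : IsIso (DerivedCategory.Q.map ψ) := by
    rw [hψ]
    infer_instance
  let ψ' : (resCx j').obj E ⟶ (resCx (j' ≫ j)).obj Q := ψ ≫ (resCxComp j' j).inv.app Q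
  have hψ'i : IsIso (DerivedCategory.Q.map ψ') := by
    dsimp only [ψ']
    rw [Functor.map_comp]
    infer_instance
  have hq : QuasiIso ψ' := (DerivedCategory.isIso_Q_map_iff_quasiIso _ ψ').1 hψ'i
  have hfl := isFlat_cokernel_d_of_quasiIso (P := (resCx j').obj E)
    (G := (resCx (j' ≫ j)).obj Q) m n
    (fun i => isFlat_of_isFinLocFree (isFinLocFree_restrict j' (hE i)))
    (fun i hi => (vanishesOutside_resCx j' hv) i (Or.inl hi))
    (fun i hi => (vanishesOutside_resCx j' hv) i (Or.inr hi))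
    (isFlat_resCx_X (j' ≫ j) hQf)
    (fun i hi => (Scheme.Modules.restrictFunctor (j' ≫ j)).map_isZero (hQb i hi)) ψ' hq
  refine ⟨U', j' ≫ j, inferInstance, mem_range_comp j j' hy, ?_⟩
  exact isFlat_of_iso
    (PreservesCokernel.iso (Scheme.Modules.restrictFunctor (j' ≫ j)) (Q.d (m - 1) m)).symm hfl

/-- **Main theorem (⇒)**: perfect amplitude in `[m, n]` implies flat amplitude in `[m, n]`. -/
theorem hasFlatAmplitudeIn_of_hasPerfectAmplitudeIn {m n : ℤ} (hmn : m ≤ n) {K : DCoh.D X}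
    (h : KSix.HasPerfectAmplitudeIn m n K) : DCoh.HasFlatAmplitudeIn m n K := by
  let F0 : CochainComplex X.Modules ℤ := DerivedCategory.Q.objPreimage K
  let e0 : DerivedCategory.Q.obj F0 ≅ K := DerivedCategory.Q.objObjPreimageIso K
  have hH : ∀ (G : CochainComplex X.Modules ℤ) (_ : DerivedCategory.Q.obj G ≅ K) (i : ℤ),
      (i < m ∨ n < i) → G.ExactAt i := by
    intro G eG i hi
    rw [HomologicalComplex.exactAt_iff_isZero_homology]
    exact (isZero_HD_of_hasPerfectAmplitudeIn h i hi).of_iso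
      (((DerivedCategory.homologyFunctorFactors X.Modules i).app G).symm ≪≫
        (DerivedCategory.homologyFunctor X.Modules i).mapIso eG)
  have hLE : F0.IsLE n := by
    rw [CochainComplex.isLE_iff]
    intro i hi
    exact hH F0 e0 i (Or.inr hi)
  obtain ⟨Q0, β0, hQb, hQfl, hβ0⟩ :=
    Groth.Agent.Lib.Helper28.KFlatSite.exists_flat_resolution_of_isLE (O := X.sheaf) F0 n hLE
  let Q : CochainComplex X.Modules ℤ := Q0
  let β : Q ⟶ F0 := β0
  have hβ : QuasiIso β := hβ0
  have hi2 : IsIso (DerivedCategory.Q.map β) := by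
    rw [DerivedCategory.isIso_Q_map_iff_quasiIso]
    exact hβ
  have eQ : DerivedCategory.Q.obj Q ≅ K := @asIso _ _ _ _ (DerivedCategory.Q.map β) hi2 ≪≫ e0
  have hQge : Q.IsGE m := by
    rw [CochainComplex.isGE_iff]
    intro i hi
    exact hH Q eQ i (Or.inl hi)
  have hQf : ∀ i, FlatMod.IsFlat (Q.X i) := fun i =>
    (Groth.Agent.Lib.Helper17.FlatBridge.isFlat_iff _).2 (hQfl i)
  have hQb' : ∀ i, n < i → IsZero (Q.X i) := fun i hi =>
    CochainComplex.isZero_of_isStrictlyLE Q0 n i hi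
  have hc0 := isFlat_cokernel_d_of_perfAmp Q eQ hQf hQb' h
  have hc : ModSite.IsFlat (O := X.sheaf) (Limits.cokernel (Q0.d (m - 1) m)) :=
    (Groth.Agent.Lib.Helper17.FlatBridge.isFlat_iff _).1 hc0
  obtain ⟨hv, hfl⟩ :=
    Groth.Agent.Lib.Helper28.KFlatSite.truncGE_flat (O := X.sheaf) Q0 m n hmn hQb hQfl hc
  have hi3 : IsIso (DerivedCategory.Q.map (Q.πTruncGE m)) := by
    rw [DerivedCategory.isIso_Q_map_iff_quasiIso]
    infer_instance
  refine ⟨Q.truncGE m, hv, fun i => (Groth.Agent.Lib.Helper17.FlatBridge.isFlat_iff _).2 (hfl i),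
    ⟨(@asIso _ _ _ _ (DerivedCategory.Q.map (Q.πTruncGE m)) hi3).symm ≪≫ eQ⟩⟩

end

end Groth.Agent.Lib.Helper28.DCohRes
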