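import Mathlib
import Groth.Agent.Lib.Helper28.DCohRes33

/-!
# Quasi-coherence of the cohomology sheaves of pseudo-coherent objects
-/

set_option autoImplicit false

universe u

open CategoryTheory Limits AlgebraicGeometry TopologicalSpace

namespace Groth.Agent.Lib.Helper28.DCohRes

noncomputable section

attribute [local instance] HasDerivedCategory.standard

open Groth.Agent.Lib.Helper29.QCoh

variable {X : Scheme.{u}}

/-- the cohomology sheaves of a strictly perfect complex are quasi-coherent -/
lemma isQuasicoherent_homology_of_isStrictlyPerfect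
    {P : CochainComplex X.Modules ℤ} (hP : DCoh.IsStrictlyPerfect P) (i : ℤ) :
    (P.homology i).IsQuasicoherent := by
  have hq : ∀ k, (P.X k).IsQuasicoherent := fun k => isQuasicoherent_of_isFinLocFree (hP.2 k)
  have hZq : (P.cycles i).IsQuasicoherent :=
    isQuasicoherent_of_iso (cyclesIsoKernel P i).symm
  have e : cokernel (P.toCycles (i - 1) i) ≅ P.homology i := by
    let e := IsColimit.coconePointUniqueUpToIso (cokernelIsCokernel (P.toCycles (i - 1) i))
      (P.homologyIsCokernel (i - 1) i (by simp))
    exact e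
  exact isQuasicoherent_of_iso e

/-- the cohomology sheaves above `m` of an `m`-pseudo-coherent object are quasi-coherent -/
theorem isQuasicoherent_HD_of_isPseudoCoherentD {m : ℤ} {E : DCoh.D X}
    (hE : DCoh.IsPseudoCoherentD m E) (i : ℤ) (hi : m < i) :
    (DCoh.HD E i).IsQuasicoherent := by
  rw [isPseudoCoherentD_iff] at hE
  refine isQuasicoherent_of_locally _ fun x => ?_
  obtain ⟨U, j, hj, hx, P, α, hP, hα⟩ := hE x
  refine ⟨U, j, hj, hx, ?_⟩
  have := hα.1 i hi
  have hq := isQuasicoherent_homology_of_isStrictlyPerfect hP i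
  exact isQuasicoherent_of_iso (hM := hq) (((DerivedCategory.homologyFunctorFactors U.Modules i).app P).symm ≪≫
    asIso ((DerivedCategory.homologyFunctor U.Modules i).map α) ≪≫ HDresDIso j E i)

/-- the bottom cohomology sheaf of an `m`-pseudo-coherent object is locally a quotient of a
quasi-coherent module -/
theorem exists_epi_HD_of_isPseudoCoherentD {m : ℤ} {E : DCoh.D X}
    (hE : DCoh.IsPseudoCoherentD m E) (x : X) :
    ∃ (V : X.Opens) (Q : (V : Scheme.{u}).Modules)
      (π : Q ⟶ (Scheme.Modules.restrictFunctor V.ι).obj (DCoh.HD E m)),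
      x ∈ V ∧ Q.IsQuasicoherent ∧ Epi π := by
  obtain ⟨V, hxV, hV⟩ := hE x
  obtain ⟨P, α, hP, hα⟩ := hV (DerivedCategory.Q.objPreimage E)
    ⟨DerivedCategory.Q.objObjPreimageIso E⟩
  have h0 : IsApprox m α := hα
  have h1 := h0.comp_iso (((resDQ V.ι).app _).symm ≪≫
    (resD V.ι).mapIso (DerivedCategory.Q.objObjPreimageIso E))
  have hepi := h1.2
  refine ⟨V, P.homology m, ((DerivedCategory.homologyFunctorFactors _ m).app P).inv ≫
    (DerivedCategory.homologyFunctor _ m).map (α ≫ (((resDQ V.ι).app _).symm ≪≫
      (resD V.ι).mapIso (DerivedCategory.Q.objObjPreimageIso E)).hom) ≫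
    (HDresDIso V.ι E m).hom, hxV, isQuasicoherent_homology_of_isStrictlyPerfect hP m, ?_⟩
  exact epi_comp' inferInstance (epi_comp' hepi inferInstance)

end

end Groth.Agent.Lib.Helper28.DCohRes
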