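import Mathlib
import Groth.Agent.Lib.Helper28.DCohRes34
import Groth.Prelude.Def_DerSch

/-!
# The stalk functor on `O_X`-modules is exact
-/

set_option autoImplicit false

universe u

open CategoryTheory Limits AlgebraicGeometry TopologicalSpace

namespace Groth.Agent.Lib.Helper28.DCohStalk

noncomputable section

open Groth.Agent.Lib.Helper29.QCoh

variable {X Y : Scheme.{u}}

lemma stalkFunctor_map_apply {M N : X.Modules} (φ : M ⟶ N) (x : X) (t : M.presheaf.stalk x) :
    ((DerSch.stalkFunctor X x).map φ).hom t = stalkMap φ x t := rfl

/-- the stalk functor preserves exact sequences -/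
lemma stalkFunctor_map_exact (x : X) (S : ShortComplex X.Modules) (hS : S.Exact) :
    (S.map (DerSch.stalkFunctor X x)).Exact := by
  rw [ShortComplex.ShortExact.moduleCat_exact_iff_function_exact]
  exact (exact_iff_stalk_function_exact S).1 hS x

instance preservesFiniteLimits_stalkFunctor (x : X) :
    PreservesFiniteLimits (DerSch.stalkFunctor X x) :=
  (((Functor.exact_tfae (DerSch.stalkFunctor X x)).out 1 3 rfl rfl).1
    (stalkFunctor_map_exact x)).1

instance preservesFiniteColimits_stalkFunctor (x : X) :
    PreservesFiniteColimits (DerSch.stalkFunctor X x) :=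
  (((Functor.exact_tfae (DerSch.stalkFunctor X x)).out 1 3 rfl rfl).1
    (stalkFunctor_map_exact x)).2

instance additive_stalkOver (f : X ⟶ Y) (x : X) : (DerSch.stalkOver f x).Additive := by
  dsimp only [DerSch.stalkOver]
  infer_instance

instance preservesFiniteLimits_stalkOver (f : X ⟶ Y) (x : X) :
    PreservesFiniteLimits (DerSch.stalkOver f x) := by
  dsimp only [DerSch.stalkOver]
  infer_instance

instance preservesFiniteColimits_stalkOver (f : X ⟶ Y) (x : X) :
    PreservesFiniteColimits (DerSch.stalkOver f x) := by
  dsimp only [DerSch.stalkOver]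
  infer_instance

end

end Groth.Agent.Lib.Helper28.DCohStalk
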