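import Mathlib
import Groth.Agent.Lib.Helper28.DCohStalk1

/-!
# Stalks detect vanishing and flatness; the derived stalk functor
-/

set_option autoImplicit false

universe u

open CategoryTheory Limits AlgebraicGeometry TopologicalSpace

namespace Groth.Agent.Lib.Helper28.DCohStalk

noncomputable section

attribute [local instance] HasDerivedCategory.standard

open Groth.Agent.Lib.Helper29.QCoh Groth.Agent.Lib.Helper28.DCohRes

/-- flatness under restriction of scalars along a bijective ring homomorphism -/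
lemma flat_restrictScalars_iff {R' R : Type u} [CommRing R'] [CommRing R] (σ : R' →+* R)
    (hσ : Function.Bijective σ) (N : ModuleCat.{u} R) :
    Module.Flat R' ((ModuleCat.restrictScalars σ).obj N) ↔ Module.Flat R N := by
  let σe : R' ≃+* R := RingEquiv.ofBijective σ hσ
  letI : RingHomInvPair (σe : R' →+* R) (σe.symm : R →+* R') := RingHomInvPair.of_ringEquiv σe
  letI : RingHomInvPair (σe.symm : R →+* R') (σe : R' →+* R) :=
    RingHomInvPair.of_ringEquiv σe.symm
  let e : ((ModuleCat.restrictScalars σ).obj N) ≃ₛₗ[(σe : R' →+* R)] N :=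
    { toFun := fun t => t
      invFun := fun t => t
      map_add' := fun _ _ => rfl
      map_smul' := fun r t => rfl
      left_inv := fun _ => rfl
      right_inv := fun _ => rfl }
  constructor
  · intro h
    exact flat_of_semilinearEquiv e
  · intro h
    exact flat_of_semilinearEquiv e.symm

variable {X Y : Scheme.{u}}

lemma isZero_stalkOver_iff (f : X ⟶ Y) (x : X) (M : X.Modules) :
    IsZero ((DerSch.stalkOver f x).obj M) ↔ Subsingleton (M.presheaf.stalk x) :=
  ModuleCat.isZero_iff_subsingleton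

/-- stalks detect vanishing -/
lemma isZero_of_forall_isZero_stalkOver (f : X ⟶ Y) (M : X.Modules)
    (h : ∀ x, IsZero ((DerSch.stalkOver f x).obj M)) : IsZero M := by
  rw [isZero_iff_stalk_subsingleton]
  exact fun x => (isZero_stalkOver_iff f x M).1 (h x)

lemma stalkMap_id_bijective (x : X) : Function.Bijective ((𝟙 X : X ⟶ X).stalkMap x).hom :=
  (ConcreteCategory.isIso_iff_bijective _).1 inferInstance

/-- flatness at a point in terms of the stalk functor relative to the identity -/
lemma isFlatAt_iff_stalkOver_id (M : X.Modules) (x : X) :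
    FlatMod.IsFlatAt M x ↔ Module.Flat (X.presheaf.stalk ((𝟙 X : X ⟶ X).base x))
      ((DerSch.stalkOver (𝟙 X) x).obj M) :=
  (flat_restrictScalars_iff ((𝟙 X : X ⟶ X).stalkMap x).hom (stalkMap_id_bijective x)
    ((DerSch.stalkFunctor X x).obj M)).symm

/-- the derived stalk functor -/
abbrev stalkD (f : X ⟶ Y) (x : X) :
    DerivedCategory X.Modules ⥤ DerivedCategory (ModuleCat.{u} (Y.presheaf.stalk (f.base x))) :=
  (DerSch.stalkOver f x).mapDerivedCategory

/-- `Q ⋙ stalkD ≅ stalkCxOver ⋙ Q` -/
abbrev stalkDQ (f : X ⟶ Y) (x : X) :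
    DerivedCategory.Q ⋙ stalkD f x ≅ DerSch.stalkCxOver f x ⋙ DerivedCategory.Q :=
  (DerSch.stalkOver f x).mapDerivedCategoryFactors

/-- stalks commute with cohomology of complexes -/
def stalkHomologyIso (f : X ⟶ Y) (x : X) (F : CochainComplex X.Modules ℤ) (i : ℤ) :
    ((DerSch.stalkCxOver f x).obj F).homology i ≅ (DerSch.stalkOver f x).obj (F.homology i) :=
  (mapHCHomologyIso (DerSch.stalkOver f x) i).app F

/-- **(⇒)** flat amplitude implies stalkwise tor amplitude -/
theorem hasTorAmplitude_of_hasFlatAmplitudeIn (F : CochainComplex X.Modules ℤ) (a b : ℤ)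
    (h : DCoh.HasFlatAmplitudeIn a b (DCoh.toD X F)) : DerSch.HasTorAmplitude (𝟙 X) a b F := by
  intro x
  obtain ⟨G, hv, hfl, ⟨e⟩⟩ := h
  refine ⟨(DerSch.stalkCxOver (𝟙 X) x).obj G, ?_, ?_, ⟨?_⟩⟩
  · intro i hi
    exact (DerSch.stalkOver (𝟙 X) x).map_isZero (hv i hi)
  · intro i
    exact (isFlatAt_iff_stalkOver_id (G.X i) x).1 (hfl i x)
  · exact ((stalkDQ (𝟙 X) x).app G).symm ≪≫ (stalkD (𝟙 X) x).mapIso e ≪≫
      (stalkDQ (𝟙 X) x).app F

end

end Groth.Agent.Lib.Helper28.DCohStalk
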