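import Mathlib
import Groth.Prelude.Def_DCoh4

/-!
# Stalks of presheaves of modules on a scheme: germs and descent (helper28)

Basic API for the stalk `P_x` of a presheaf of modules `P` over the structure presheaf of a scheme,
as a module over the local ring `O_{X,x}`: germs, their compatibility with restriction and scalar
multiplication, and the universal property (descent of compatible families of additive maps).
-/

set_option autoImplicit false

universe u

open CategoryTheory Limits AlgebraicGeometry TopologicalSpace Opposite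

namespace Groth.Agent.Lib.Helper28.StalkTensor

noncomputable section

variable {X : Scheme.{u}}

/-- presheaves of modules over the structure presheaf -/
abbrev PM (X : Scheme.{u}) : Type (u + 1) :=
  PresheafOfModules.{u} (X.presheaf ⋙ forget₂ CommRingCat RingCat.{u})

/-- the stalk of a presheaf of modules, as a type -/
abbrev St (P : PM X) (x : X) : Type u := ↑(TopCat.Presheaf.stalk P.presheaf x)

/-- the germ of a section -/
def gm (P : PM X) {x : X} (U : X.Opens) (hx : x ∈ U) (s : P.obj (op U)) : St P x :=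
  TopCat.Presheaf.germ P.presheaf U x hx s

variable (P : PM X) {x : X}

lemma gm_add (U : X.Opens) (hx : x ∈ U) (s t : P.obj (op U)) :
    gm P U hx (s + t) = gm P U hx s + gm P U hx t :=
  map_add (TopCat.Presheaf.germ P.presheaf U x hx).hom s t

lemma gm_zero (U : X.Opens) (hx : x ∈ U) : gm P U hx (0 : P.obj (op U)) = 0 :=
  map_zero (TopCat.Presheaf.germ P.presheaf U x hx).hom

/-- restriction of sections, with clean types -/
def rs {U V : X.Opens} (i : V ⟶ U) (s : P.obj (op U)) : P.obj (op V) := P.map i.op s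

lemma rs_add {U V : X.Opens} (i : V ⟶ U) (s t : P.obj (op U)) :
    rs P i (s + t) = rs P i s + rs P i t := map_add (P.map i.op).hom s t

lemma rs_zero {U V : X.Opens} (i : V ⟶ U) : rs P i (0 : P.obj (op U)) = 0 :=
  map_zero (P.map i.op).hom

lemma rs_smul {U V : X.Opens} (i : V ⟶ U) (r : X.presheaf.obj (op U)) (s : P.obj (op U)) :
    rs P i (r • s) = (X.presheaf.map i.op).hom r • rs P i s :=
  P.map_smul i.op r s

lemma gm_res {U V : X.Opens} (i : V ⟶ U) (hx : x ∈ V) (s : P.obj (op U)) :
    gm P V hx (rs P i s) = gm P U (leOfHom i hx) s :=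
  TopCat.Presheaf.germ_res_apply P.presheaf i x hx s

lemma gm_smul (U : X.Opens) (hx : x ∈ U) (r : X.presheaf.obj (op U)) (s : P.obj (op U)) :
    gm P U hx (r • s) = X.presheaf.germ U x hx r • gm P U hx s :=
  PresheafOfModules.germ_smul (R := X.presheaf) P x U hx r s

lemma exists_gm_eq (t : St P x) : ∃ (U : X.Opens) (hx : x ∈ U) (s : P.obj (op U)), gm P U hx s = t :=
  TopCat.Presheaf.exists_germ_eq P.presheaf t

lemma gm_eq {U V : X.Opens} (hU : x ∈ U) (hV : x ∈ V) (s : P.obj (op U)) (t : P.obj (op V))
    (h : gm P U hU s = gm P V hV t) :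
    ∃ (W : X.Opens) (_ : x ∈ W) (iU : W ⟶ U) (iV : W ⟶ V), rs P iU s = rs P iV t :=
  TopCat.Presheaf.germ_eq P.presheaf x hU hV s t h

/-- descent of a compatible family of additive maps to the stalk -/
def descAdd (x : X) (A : Type u) [AddCommGroup A]
    (a : ∀ (U : X.Opens) (_ : x ∈ U), P.obj (op U) →+ A)
    (ha : ∀ (U V : X.Opens) (hU : x ∈ U) (hV : x ∈ V) (i : V ⟶ U) (s : P.obj (op U)),
      a V hV (rs P i s) = a U hU s) : St P x →+ A :=
  (colimit.desc ((OpenNhds.inclusion x).op ⋙ P.presheaf)
    ⟨AddCommGrpCat.of A,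
      { app := fun U => AddCommGrpCat.ofHom (a U.unop.1 U.unop.2)
        naturality := by
          intro U V f
          ext s
          exact ha U.unop.1 V.unop.1 U.unop.2 V.unop.2 f.unop s }⟩).hom

lemma descAdd_gm (A : Type u) [AddCommGroup A]
    (a : ∀ (U : X.Opens) (_ : x ∈ U), P.obj (op U) →+ A)
    (ha : ∀ (U V : X.Opens) (hU : x ∈ U) (hV : x ∈ V) (i : V ⟶ U) (s : P.obj (op U)),
      a V hV (rs P i s) = a U hU s) (U : X.Opens) (hx : x ∈ U) (s : P.obj (op U)) :
    descAdd P x A a ha (gm P U hx s) = a U hx s := by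
  have := colimit.ι_desc (F := (OpenNhds.inclusion x).op ⋙ P.presheaf)
    ⟨AddCommGrpCat.of A,
      { app := fun U => AddCommGrpCat.ofHom (a U.unop.1 U.unop.2)
        naturality := by
          intro U V f
          ext s
          exact ha U.unop.1 V.unop.1 U.unop.2 V.unop.2 f.unop s }⟩ (op ⟨U, hx⟩)
  exact congrArg (fun k => k.hom s) this

lemma addHom_ext {A : Type*} [AddCommGroup A] (f g : St P x →+ A)
    (h : ∀ (U : X.Opens) (hx : x ∈ U) (s : P.obj (op U)), f (gm P U hx s) = g (gm P U hx s)) :
    f = g := by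
  ext t
  obtain ⟨U, hx, s, rfl⟩ := exists_gm_eq P t
  exact h U hx s

end

end Groth.Agent.Lib.Helper28.StalkTensor
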