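import Mathlib
import Groth.Agent.Lib.Helper28.StalkTensor1

/-!
# The stalk of a tensor product of presheaves of modules (helper28)

`(P ⊗ Q)_x ≃ P_x ⊗_{O_{X,x}} Q_x` for presheaves of modules `P`, `Q` on a scheme: the map `ψ`.
-/

set_option autoImplicit false

universe u

open CategoryTheory Limits AlgebraicGeometry TopologicalSpace Opposite MonoidalCategory
open scoped TensorProduct

namespace Groth.Agent.Lib.Helper28.StalkTensor

noncomputable section

variable {X : Scheme.{u}} (P Q : PM X) (x : X)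

/-- the tensor product of the stalks -/
abbrev TT : Type u := St P x ⊗[X.presheaf.stalk x] St Q x

/-- sections of the tensor product presheaf, as a tensor product -/
abbrev TS (U : X.Opens) : Type u := P.obj (op U) ⊗[X.presheaf.obj (op U)] Q.obj (op U)

/-- the tensor product presheaf -/
abbrev PQ : PM X := (P ⊗ Q : PM X)

/-- a section of the tensor product presheaf, as an element of a tensor product -/
def toTS {U : X.Opens} (z : (PQ P Q).obj (op U)) : TS P Q U := z

/-- an element of a tensor product, as a section of the tensor product presheaf -/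
def ofTS {U : X.Opens} (z : TS P Q U) : (PQ P Q).obj (op U) := z

@[simp] lemma toTS_ofTS {U : X.Opens} (z : TS P Q U) : toTS P Q (ofTS P Q z) = z := rfl

@[simp] lemma ofTS_toTS {U : X.Opens} (z : (PQ P Q).obj (op U)) : ofTS P Q (toTS P Q z) = z := rfl

lemma ofTS_add {U : X.Opens} (a b : TS P Q U) : ofTS P Q (a + b) = ofTS P Q a + ofTS P Q b := rfl

lemma ofTS_zero {U : X.Opens} : ofTS P Q (0 : TS P Q U) = 0 := rfl

lemma toTS_add {U : X.Opens} (a b : (PQ P Q).obj (op U)) :
    toTS P Q (a + b) = toTS P Q a + toTS P Q b := rfl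

lemma toTS_zero {U : X.Opens} : toTS P Q (0 : (PQ P Q).obj (op U)) = 0 := rfl

/-- restriction on the tensor product presheaf, as a map of tensor products -/
def rsT {U V : X.Opens} (i : V ⟶ U) (z : TS P Q U) : TS P Q V :=
  toTS P Q (rs (PQ P Q) i (ofTS P Q z))

lemma rsT_tmul {U V : X.Opens} (i : V ⟶ U) (s : P.obj (op U)) (t : Q.obj (op U)) :
    rsT P Q i (s ⊗ₜ t) = rs P i s ⊗ₜ rs Q i t :=
  PresheafOfModules.Monoidal.tensorObj_map_tmul i.op s t

lemma rsT_add {U V : X.Opens} (i : V ⟶ U) (a b : TS P Q U) :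
    rsT P Q i (a + b) = rsT P Q i a + rsT P Q i b := by
  unfold rsT
  rw [ofTS_add, rs_add, toTS_add]

lemma rsT_zero {U V : X.Opens} (i : V ⟶ U) : rsT P Q i (0 : TS P Q U) = 0 := by
  unfold rsT
  rw [ofTS_zero, rs_zero, toTS_zero]

variable {x}

/-- the bilinear pairing on germs, sectionwise -/
def tauAux (U : X.Opens) (hx : x ∈ U) : P.obj (op U) →+ Q.obj (op U) →+ TT P Q x where
  toFun s :=
    { toFun := fun t => gm P U hx s ⊗ₜ gm Q U hx t
      map_zero' := by rw [gm_zero, TensorProduct.tmul_zero]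
      map_add' := fun t t' => by rw [gm_add, TensorProduct.tmul_add] }
  map_zero' := by
    ext t
    change gm P U hx 0 ⊗ₜ gm Q U hx t = 0
    rw [gm_zero, TensorProduct.zero_tmul]
  map_add' s s' := by
    ext t
    change gm P U hx (s + s') ⊗ₜ gm Q U hx t = gm P U hx s ⊗ₜ gm Q U hx t + gm P U hx s' ⊗ₜ gm Q U hx t
    rw [gm_add, TensorProduct.add_tmul]

/-- `s ⊗ t ↦ s_x ⊗ t_x`, sectionwise -/
def tau (U : X.Opens) (hx : x ∈ U) : TS P Q U →+ TT P Q x :=
  TensorProduct.liftAddHom (tauAux P Q U hx) (by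
    intro r s t
    change gm P U hx (r • s) ⊗ₜ gm Q U hx t = gm P U hx s ⊗ₜ gm Q U hx (r • t)
    rw [gm_smul, gm_smul, TensorProduct.smul_tmul])

@[simp] lemma tau_tmul (U : X.Opens) (hx : x ∈ U) (s : P.obj (op U)) (t : Q.obj (op U)) :
    tau P Q U hx (s ⊗ₜ t) = gm P U hx s ⊗ₜ gm Q U hx t := rfl

lemma tau_res {U V : X.Opens} (i : V ⟶ U) (hx : x ∈ V) (z : TS P Q U) :
    tau P Q V hx (rsT P Q i z) = tau P Q U (leOfHom i hx) z := by
  induction z using TensorProduct.induction_on with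
  | zero => rw [rsT_zero, map_zero, map_zero]
  | tmul s t => rw [rsT_tmul, tau_tmul, tau_tmul, gm_res, gm_res]
  | add a b ha hb => rw [rsT_add, map_add, map_add, ha, hb]

variable (x) in
/-- `ψ : (P ⊗ Q)_x → P_x ⊗ Q_x` -/
def psi : St (PQ P Q) x →+ TT P Q x :=
  descAdd (PQ P Q) x (TT P Q x)
    (fun U hx => (tau P Q U hx).comp
      (show (PQ P Q).obj (op U) →+ TS P Q U from AddMonoidHom.id _))
    (fun _ _ _ hV i s => tau_res P Q i hV (toTS P Q s))

lemma psi_gm (U : X.Opens) (hx : x ∈ U) (z : TS P Q U) :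
    psi P Q x (gm (PQ P Q) U hx (ofTS P Q z)) = tau P Q U hx z :=
  descAdd_gm (PQ P Q) (TT P Q x) _ _ U hx _

lemma psi_gm_tmul (U : X.Opens) (hx : x ∈ U) (s : P.obj (op U)) (t : Q.obj (op U)) :
    psi P Q x (gm (PQ P Q) U hx (ofTS P Q (s ⊗ₜ t))) = gm P U hx s ⊗ₜ gm Q U hx t :=
  psi_gm P Q U hx (s ⊗ₜ t)

end

end Groth.Agent.Lib.Helper28.StalkTensor
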