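import Mathlib
import Groth.Agent.Lib.Helper28.StalkTensor2

/-!
# The stalk of a tensor product of presheaves of modules (helper28)

The inverse map `φ : P_x ⊗ Q_x → (P ⊗ Q)_x`.
-/

set_option autoImplicit false

universe u

open CategoryTheory Limits AlgebraicGeometry TopologicalSpace Opposite MonoidalCategory
open scoped TensorProduct

namespace Groth.Agent.Lib.Helper28.StalkTensor

noncomputable section

variable {X : Scheme.{u}} (P Q : PM X) {x : X}

lemma rs_comp (P : PM X) {U V W : X.Opens} (g : V ⟶ U) (h : W ⟶ V) (m : P.obj (op U)) :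
    rs P (h ≫ g) m = rs P h (rs P g m) := by
  unfold rs
  rw [op_comp, P.map_comp_apply]

lemma rs_congr (P : PM X) {U V : X.Opens} (g g' : V ⟶ U) (m : P.obj (op U)) :
    rs P g m = rs P g' m := by
  rw [Subsingleton.elim g g']

/-- the germ of `s|_W ⊗ t|_W` -/
def gmT {U V : X.Opens} (W : X.Opens) (hW : x ∈ W) (hU : W ≤ U) (hV : W ≤ V)
    (s : P.obj (op U)) (t : Q.obj (op V)) : St (PQ P Q) x :=
  gm (PQ P Q) W hW (ofTS P Q (rs P (homOfLE hU) s ⊗ₜ rs Q (homOfLE hV) t))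

lemma gmT_of_le {U V : X.Opens} (W W' : X.Opens) (hW' : x ∈ W') (hWW : W' ≤ W) (hU : W ≤ U)
    (hV : W ≤ V) (s : P.obj (op U)) (t : Q.obj (op V)) :
    gmT P Q W' hW' (hWW.trans hU) (hWW.trans hV) s t = gmT P Q W (hWW hW') hU hV s t := by
  unfold gmT
  rw [← gm_res (PQ P Q) (homOfLE hWW) hW']
  congr 1
  change _ = ofTS P Q (rsT P Q (homOfLE hWW) _)
  rw [rsT_tmul, ← rs_comp, ← rs_comp]
  rfl

lemma gmT_eq {U V : X.Opens} (W W' : X.Opens) (hW : x ∈ W) (hW' : x ∈ W') (hU : W ≤ U)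
    (hV : W ≤ V) (hU' : W' ≤ U) (hV' : W' ≤ V) (s : P.obj (op U)) (t : Q.obj (op V)) :
    gmT P Q W hW hU hV s t = gmT P Q W' hW' hU' hV' s t := by
  have h1 := gmT_of_le P Q W (W ⊓ W') ⟨hW, hW'⟩ inf_le_left hU hV s t
  have h2 := gmT_of_le P Q W' (W ⊓ W') ⟨hW, hW'⟩ inf_le_right hU' hV' s t
  exact h1.symm.trans h2

lemma gmT_add_right {U V : X.Opens} (W : X.Opens) (hW : x ∈ W) (hU : W ≤ U) (hV : W ≤ V)
    (s : P.obj (op U)) (t t' : Q.obj (op V)) :
    gmT P Q W hW hU hV s (t + t') = gmT P Q W hW hU hV s t + gmT P Q W hW hU hV s t' := by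
  unfold gmT
  rw [rs_add, TensorProduct.tmul_add, ofTS_add, gm_add]

lemma gmT_zero_right {U V : X.Opens} (W : X.Opens) (hW : x ∈ W) (hU : W ≤ U) (hV : W ≤ V)
    (s : P.obj (op U)) : gmT P Q W hW hU hV s (0 : Q.obj (op V)) = 0 := by
  unfold gmT
  rw [rs_zero, TensorProduct.tmul_zero, ofTS_zero, gm_zero]

lemma gmT_add_left {U V : X.Opens} (W : X.Opens) (hW : x ∈ W) (hU : W ≤ U) (hV : W ≤ V)
    (s s' : P.obj (op U)) (t : Q.obj (op V)) :
    gmT P Q W hW hU hV (s + s') t = gmT P Q W hW hU hV s t + gmT P Q W hW hU hV s' t := by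
  unfold gmT
  rw [rs_add, TensorProduct.add_tmul, ofTS_add, gm_add]

lemma gmT_zero_left {U V : X.Opens} (W : X.Opens) (hW : x ∈ W) (hU : W ≤ U) (hV : W ≤ V)
    (t : Q.obj (op V)) : gmT P Q W hW hU hV (0 : P.obj (op U)) t = 0 := by
  unfold gmT
  rw [rs_zero, TensorProduct.zero_tmul, ofTS_zero, gm_zero]

lemma gmT_rs_right {U V V' : X.Opens} (j : V' ⟶ V) (W : X.Opens) (hW : x ∈ W) (hU : W ≤ U)
    (hV' : W ≤ V') (s : P.obj (op U)) (t : Q.obj (op V)) :
    gmT P Q W hW hU hV' s (rs Q j t) = gmT P Q W hW hU (hV'.trans (leOfHom j)) s t := by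
  unfold gmT
  rw [← rs_comp]
  rfl

lemma gmT_rs_left {U U' V : X.Opens} (j : U' ⟶ U) (W : X.Opens) (hW : x ∈ W) (hU' : W ≤ U')
    (hV : W ≤ V) (s : P.obj (op U)) (t : Q.obj (op V)) :
    gmT P Q W hW hU' hV (rs P j s) t = gmT P Q W hW (hU'.trans (leOfHom j)) hV s t := by
  unfold gmT
  rw [← rs_comp]
  rfl

lemma gmT_smul {U V : X.Opens} (W : X.Opens) (hW : x ∈ W) (hU : W ≤ U) (hV : W ≤ V)
    (r : X.presheaf.obj (op W)) (s : P.obj (op U)) (t : Q.obj (op V)) :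
    gm (PQ P Q) W hW (ofTS P Q ((r • rs P (homOfLE hU) s) ⊗ₜ rs Q (homOfLE hV) t)) =
      gm (PQ P Q) W hW (ofTS P Q (rs P (homOfLE hU) s ⊗ₜ (r • rs Q (homOfLE hV) t))) := by
  rw [TensorProduct.smul_tmul]

/-- for a section `s` near `x`: `t_x ↦ (s ⊗ t)_x` -/
def b₂ (U : X.Opens) (hU : x ∈ U) (s : P.obj (op U)) : St Q x →+ St (PQ P Q) x :=
  descAdd Q x (St (PQ P Q) x)
    (fun V hV =>
      { toFun := fun t => gmT P Q (U ⊓ V) ⟨hU, hV⟩ inf_le_left inf_le_right s t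
        map_zero' := gmT_zero_right P Q _ _ _ _ s
        map_add' := gmT_add_right P Q _ _ _ _ s })
    (fun V V' hV hV' j t => by
      change gmT P Q (U ⊓ V') ⟨hU, hV'⟩ inf_le_left inf_le_right s (rs Q j t) =
        gmT P Q (U ⊓ V) ⟨hU, hV⟩ inf_le_left inf_le_right s t
      rw [gmT_rs_right]
      exact gmT_eq P Q _ _ _ _ _ _ _ _ s t)

lemma b₂_gm (U : X.Opens) (hU : x ∈ U) (s : P.obj (op U)) (V : X.Opens) (hV : x ∈ V)
    (t : Q.obj (op V)) :
    b₂ P Q U hU s (gm Q V hV t) = gmT P Q (U ⊓ V) ⟨hU, hV⟩ inf_le_left inf_le_right s t :=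
  descAdd_gm Q (St (PQ P Q) x) _ _ V hV t

variable (x) in
/-- `s_x ↦ (t_x ↦ (s ⊗ t)_x)` -/
def b₁ : St P x →+ St Q x →+ St (PQ P Q) x :=
  descAdd P x (St Q x →+ St (PQ P Q) x)
    (fun U hU =>
      { toFun := fun s => b₂ P Q U hU s
        map_zero' := by
          apply addHom_ext
          intro V hV t
          rw [b₂_gm, gmT_zero_left]
          rfl
        map_add' := fun s s' => by
          apply addHom_ext
          intro V hV t
          rw [AddMonoidHom.add_apply, b₂_gm, b₂_gm, b₂_gm, gmT_add_left] })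
    (fun U U' hU hU' j s => by
      apply addHom_ext
      intro V hV t
      change b₂ P Q U' hU' (rs P j s) (gm Q V hV t) = b₂ P Q U hU s (gm Q V hV t)
      rw [b₂_gm, b₂_gm, gmT_rs_left]
      exact gmT_eq P Q _ _ _ _ _ _ _ _ s t)

lemma b₁_gm (U : X.Opens) (hU : x ∈ U) (s : P.obj (op U)) (V : X.Opens) (hV : x ∈ V)
    (t : Q.obj (op V)) :
    b₁ P Q x (gm P U hU s) (gm Q V hV t) =
      gmT P Q (U ⊓ V) ⟨hU, hV⟩ inf_le_left inf_le_right s t := by
  have : b₁ P Q x (gm P U hU s) = b₂ P Q U hU s := descAdd_gm P _ _ _ U hU s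
  rw [this, b₂_gm]

end

end Groth.Agent.Lib.Helper28.StalkTensor
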