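import Mathlib
import Groth.Agent.Lib.Helper28.StalkTensor3

/-!
# The stalk of a tensor product of presheaves of modules (helper28)

`(P ⊗ Q)_x ≃ₗ[O_{X,x}] P_x ⊗ Q_x`.
-/

set_option autoImplicit false

universe u

open CategoryTheory Limits AlgebraicGeometry TopologicalSpace Opposite MonoidalCategory
open scoped TensorProduct

namespace Groth.Agent.Lib.Helper28.StalkTensor

noncomputable section

variable {X : Scheme.{u}} (P Q : PM X) {x : X}

/-- a germ of the ring, a germ of `P` and a germ of `Q` can be represented on a common open -/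
lemma exists_common (r : X.presheaf.stalk x) (a : St P x) (b : St Q x) :
    ∃ (N : X.Opens) (hN : x ∈ N) (r' : X.presheaf.obj (op N)) (s : P.obj (op N))
      (t : Q.obj (op N)), X.presheaf.germ N x hN r' = r ∧ gm P N hN s = a ∧ gm Q N hN t = b := by
  obtain ⟨U, hU, s, rfl⟩ := exists_gm_eq P a
  obtain ⟨V, hV, t, rfl⟩ := exists_gm_eq Q b
  obtain ⟨W, hW, r', rfl⟩ := X.presheaf.exists_germ_eq (x := x) r
  refine ⟨U ⊓ V ⊓ W, ⟨⟨hU, hV⟩, hW⟩,
    (X.presheaf.map (homOfLE (inf_le_right : U ⊓ V ⊓ W ≤ W)).op).hom r',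
    rs P (homOfLE (inf_le_left.trans inf_le_left : U ⊓ V ⊓ W ≤ U)) s,
    rs Q (homOfLE (inf_le_left.trans inf_le_right : U ⊓ V ⊓ W ≤ V)) t, ?_, ?_, ?_⟩
  · exact X.presheaf.germ_res_apply (homOfLE (inf_le_right : U ⊓ V ⊓ W ≤ W)) x _ r'
  · exact gm_res P _ _ s
  · exact gm_res Q _ _ t

lemma b₁_balanced (r : X.presheaf.stalk x) (a : St P x) (b : St Q x) :
    b₁ P Q x (r • a) b = b₁ P Q x a (r • b) := by
  obtain ⟨N, hN, r', s, t, rfl, rfl, rfl⟩ := exists_common P Q r a b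
  rw [← gm_smul, ← gm_smul, b₁_gm, b₁_gm]
  unfold gmT
  rw [rs_smul, rs_smul, TensorProduct.smul_tmul]

variable (x) in
/-- `φ : P_x ⊗ Q_x → (P ⊗ Q)_x` -/
def phi : TT P Q x →+ St (PQ P Q) x :=
  TensorProduct.liftAddHom (b₁ P Q x) (b₁_balanced P Q)

lemma phi_tmul (a : St P x) (b : St Q x) : phi P Q x (a ⊗ₜ b) = b₁ P Q x a b := rfl

lemma phi_psi (w : St (PQ P Q) x) : phi P Q x (psi P Q x w) = w := by
  obtain ⟨U, hU, z, rfl⟩ := exists_gm_eq (PQ P Q) w
  have hz : z = ofTS P Q (toTS P Q z) := rfl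
  rw [hz]
  generalize toTS P Q z = y
  induction y using TensorProduct.induction_on with
  | zero => rw [ofTS_zero, gm_zero, map_zero, map_zero]
  | tmul s t =>
    rw [psi_gm_tmul, phi_tmul, b₁_gm]
    unfold gmT
    rw [← gm_res (PQ P Q) (homOfLE (inf_le_left : U ⊓ U ≤ U)) ⟨hU, hU⟩]
    congr 1
  | add a b ha hb => rw [ofTS_add, gm_add, map_add, map_add, ha, hb]

lemma psi_phi (w : TT P Q x) : psi P Q x (phi P Q x w) = w := by
  induction w using TensorProduct.induction_on with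
  | zero => rw [map_zero, map_zero]
  | tmul a b =>
    obtain ⟨U, hU, s, rfl⟩ := exists_gm_eq P a
    obtain ⟨V, hV, t, rfl⟩ := exists_gm_eq Q b
    rw [phi_tmul, b₁_gm]
    unfold gmT
    rw [psi_gm_tmul, gm_res, gm_res]
  | add a b ha hb => rw [map_add, map_add, ha, hb]

lemma tau_smul (U : X.Opens) (hx : x ∈ U) (r : X.presheaf.obj (op U)) (z : TS P Q U) :
    tau P Q U hx (r • z) = X.presheaf.germ U x hx r • tau P Q U hx z := by
  induction z using TensorProduct.induction_on with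
  | zero => rw [smul_zero, map_zero, smul_zero]
  | tmul s t => rw [TensorProduct.smul_tmul', tau_tmul, tau_tmul, gm_smul, TensorProduct.smul_tmul']
  | add a b ha hb => rw [smul_add, map_add, map_add, ha, hb, smul_add]

lemma psi_smul (r : X.presheaf.stalk x) (w : St (PQ P Q) x) :
    psi P Q x (r • w) = r • psi P Q x w := by
  obtain ⟨U, hU, z, rfl⟩ := exists_gm_eq (PQ P Q) w
  obtain ⟨W, hW, r', rfl⟩ := X.presheaf.exists_germ_eq (x := x) r
  have e1 : gm (PQ P Q) U hU z =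
      gm (PQ P Q) (U ⊓ W) ⟨hU, hW⟩ (rs (PQ P Q) (homOfLE inf_le_left) z) := (gm_res _ _ _ z).symm
  have e2 : X.presheaf.germ W x hW r' = X.presheaf.germ (U ⊓ W) x ⟨hU, hW⟩
      ((X.presheaf.map (homOfLE (inf_le_right : U ⊓ W ≤ W)).op).hom r') :=
    (X.presheaf.germ_res_apply (homOfLE (inf_le_right : U ⊓ W ≤ W)) x _ r').symm
  rw [e1, e2, ← gm_smul]
  generalize rs (PQ P Q) (homOfLE inf_le_left) z = z'
  generalize (X.presheaf.map (homOfLE (inf_le_right : U ⊓ W ≤ W)).op).hom r' = r''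
  have h1 : r'' • z' = ofTS P Q (r'' • toTS P Q z') := rfl
  have h2 : z' = ofTS P Q (toTS P Q z') := rfl
  rw [h1, psi_gm, tau_smul]
  conv_rhs => rw [h2, psi_gm]

variable (x) in
/-- the stalk of a tensor product of presheaves of modules is the tensor product of the stalks -/
def stalkTensorEquiv : St (PQ P Q) x ≃ₗ[X.presheaf.stalk x] TT P Q x where
  toFun := psi P Q x
  map_add' := map_add _
  map_smul' := psi_smul P Q
  invFun := phi P Q x
  left_inv := phi_psi P Q
  right_inv := psi_phi P Q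

lemma stalkTensorEquiv_gm_tmul (U : X.Opens) (hx : x ∈ U) (s : P.obj (op U)) (t : Q.obj (op U)) :
    stalkTensorEquiv P Q x (gm (PQ P Q) U hx (ofTS P Q (s ⊗ₜ t))) = gm P U hx s ⊗ₜ gm Q U hx t :=
  psi_gm_tmul P Q U hx s t

end

end Groth.Agent.Lib.Helper28.StalkTensor
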