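import Mathlib
import Groth.Agent.Lib.Helper28.StalkTensor4

/-!
# Stalk maps of morphisms of presheaves of modules; naturality of the stalk-tensor iso (helper28)
-/

set_option autoImplicit false

universe u

open CategoryTheory Limits AlgebraicGeometry TopologicalSpace Opposite MonoidalCategory
open scoped TensorProduct

namespace Groth.Agent.Lib.Helper28.StalkTensor

noncomputable section

variable {X : Scheme.{u}} {P P' Q Q' : PM X}

/-- a morphism of presheaves of modules on sections, with clean types -/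
def ap (f : P ⟶ P') (U : X.Opens) (s : P.obj (op U)) : P'.obj (op U) := f.app (op U) s

lemma ap_add (f : P ⟶ P') (U : X.Opens) (s t : P.obj (op U)) :
    ap f U (s + t) = ap f U s + ap f U t := map_add (f.app (op U)).hom s t

lemma ap_zero (f : P ⟶ P') (U : X.Opens) : ap f U (0 : P.obj (op U)) = 0 :=
  map_zero (f.app (op U)).hom

lemma ap_smul (f : P ⟶ P') (U : X.Opens) (r : X.presheaf.obj (op U)) (s : P.obj (op U)) :
    ap f U (r • s) = r • ap f U s := (f.app (op U)).hom.map_smul r s

lemma ap_rs (f : P ⟶ P') {U V : X.Opens} (i : V ⟶ U) (s : P.obj (op U)) :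
    ap f V (rs P i s) = rs P' i (ap f U s) :=
  PresheafOfModules.naturality_apply f i.op s

variable (x : X)

/-- the map on stalks induced by a morphism of presheaves of modules -/
def stMap (f : P ⟶ P') : St P x →+ St P' x :=
  descAdd P x (St P' x)
    (fun U hU =>
      { toFun := fun s => gm P' U hU (ap f U s)
        map_zero' := by rw [ap_zero, gm_zero]
        map_add' := fun s t => by rw [ap_add, gm_add] })
    (fun U V hU hV i s => by
      change gm P' V hV (ap f V (rs P i s)) = gm P' U hU (ap f U s)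
      rw [ap_rs, gm_res])

variable {x}

lemma stMap_gm (f : P ⟶ P') (U : X.Opens) (hU : x ∈ U) (s : P.obj (op U)) :
    stMap x f (gm P U hU s) = gm P' U hU (ap f U s) :=
  descAdd_gm P (St P' x) _ _ U hU s

lemma stMap_smul (f : P ⟶ P') (r : X.presheaf.stalk x) (a : St P x) :
    stMap x f (r • a) = r • stMap x f a := by
  obtain ⟨N, hN, r', s, -, rfl, rfl, -⟩ := exists_common P P r a 0
  rw [← gm_smul, stMap_gm, stMap_gm, ap_smul, gm_smul]

variable (x) in
/-- the linear map on stalks induced by a morphism of presheaves of modules -/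
def stMapₗ (f : P ⟶ P') : St P x →ₗ[X.presheaf.stalk x] St P' x where
  toFun := stMap x f
  map_add' := map_add _
  map_smul' := stMap_smul f

lemma stMapₗ_gm (f : P ⟶ P') (U : X.Opens) (hU : x ∈ U) (s : P.obj (op U)) :
    stMapₗ x f (gm P U hU s) = gm P' U hU (ap f U s) := stMap_gm f U hU s

lemma stMapₗ_id (P : PM X) : stMapₗ x (𝟙 P) = LinearMap.id := by
  ext a
  obtain ⟨U, hU, s, rfl⟩ := exists_gm_eq P a
  rw [stMapₗ_gm]
  rfl

lemma stMapₗ_comp {P'' : PM X} (f : P ⟶ P') (g : P' ⟶ P'') :
    stMapₗ x (f ≫ g) = (stMapₗ x g).comp (stMapₗ x f) := by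
  ext a
  obtain ⟨U, hU, s, rfl⟩ := exists_gm_eq P a
  rw [LinearMap.comp_apply, stMapₗ_gm, stMapₗ_gm, stMapₗ_gm]
  rfl

lemma ap_tensorHom_tmul (f : P ⟶ P') (g : Q ⟶ Q') (U : X.Opens) (s : P.obj (op U))
    (t : Q.obj (op U)) :
    ap (f ⊗ₘ g) U (ofTS P Q (s ⊗ₜ t)) = ofTS P' Q' (ap f U s ⊗ₜ ap g U t) := rfl

/-- naturality of the stalk-tensor isomorphism -/
lemma stalkTensorEquiv_naturality (f : P ⟶ P') (g : Q ⟶ Q') (w : St (PQ P Q) x) :
    stalkTensorEquiv P' Q' x (stMapₗ x (f ⊗ₘ g) w) =
      TensorProduct.map (stMapₗ x f) (stMapₗ x g) (stalkTensorEquiv P Q x w) := by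
  obtain ⟨U, hU, z, rfl⟩ := exists_gm_eq (PQ P Q) w
  have hz : z = ofTS P Q (toTS P Q z) := rfl
  rw [hz]
  generalize toTS P Q z = y
  induction y using TensorProduct.induction_on with
  | zero => rw [ofTS_zero, gm_zero, map_zero, map_zero, map_zero, map_zero]
  | tmul s t =>
    rw [stMapₗ_gm, ap_tensorHom_tmul, stalkTensorEquiv_gm_tmul, stalkTensorEquiv_gm_tmul,
      TensorProduct.map_tmul, stMapₗ_gm, stMapₗ_gm]
  | add a b ha hb => rw [ofTS_add, gm_add, map_add, map_add, map_add, map_add, ha, hb]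

end

end Groth.Agent.Lib.Helper28.StalkTensor
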