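import Mathlib
import Groth.Agent.Lib.Helper28.StalkTensor5

/-!
# The stalk of the sheafification of a presheaf of modules (helper28)
-/

set_option autoImplicit false

universe u

open CategoryTheory Limits AlgebraicGeometry TopologicalSpace Opposite MonoidalCategory
open scoped TensorProduct

namespace Groth.Agent.Lib.Helper28.StalkTensor

noncomputable section

variable {X : Scheme.{u}}

/-- the underlying presheaf of modules of an `O_X`-module -/
def vP (M : X.Modules) : PM X := M.val

/-- the underlying morphism of presheaves of modules -/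
def vMap {M N : X.Modules} (f : M ⟶ N) : vP M ⟶ vP N := f.val

/-- sheafification, with clean types -/
def shv (P : PM X) : X.Modules :=
  (PresheafOfModules.sheafification.{u} (R := X.ringCatSheaf) (𝟙 X.ringCatSheaf.obj)).obj P

/-- sheafification on morphisms, with clean types -/
def shvMap {P Q : PM X} (f : P ⟶ Q) : shv P ⟶ shv Q :=
  (PresheafOfModules.sheafification.{u} (R := X.ringCatSheaf) (𝟙 X.ringCatSheaf.obj)).map f

/-- the unit of sheafification, with clean types -/
def un (P : PM X) : P ⟶ vP (shv P) :=
  (PresheafOfModules.sheafificationAdjunction (𝟙 X.ringCatSheaf.obj)).unit.app P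

lemma un_naturality {P Q : PM X} (f : P ⟶ Q) : f ≫ un Q = un P ≫ vMap (shvMap f) :=
  (PresheafOfModules.sheafificationAdjunction (𝟙 X.ringCatSheaf.obj)).unit.naturality f

lemma ap_un (P : PM X) (U : X.Opens) (s : P.obj (op U)) :
    ap (un P) U s =
      (CategoryTheory.toSheafify (Opens.grothendieckTopology X) P.presheaf).app (op U) s := rfl

variable (P : PM X) {x : X}

lemma stMap_un_injective : Function.Injective (stMap x (un P)) := by
  rw [injective_iff_map_eq_zero]
  intro a ha
  obtain ⟨U, hU, s, rfl⟩ := exists_gm_eq P a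
  rw [stMap_gm] at ha
  have ha' : gm (vP (shv P)) U hU (ap (un P) U s) = gm (vP (shv P)) U hU 0 := by
    rw [ha, gm_zero]
  obtain ⟨W, hW, iU, iV, e⟩ := gm_eq (vP (shv P)) hU hU _ _ ha'
  rw [rs_zero, ← ap_rs] at e
  have e' : (CategoryTheory.toSheafify (Opens.grothendieckTopology X) P.presheaf).app (op W)
      (rs P iU s) =
      (CategoryTheory.toSheafify (Opens.grothendieckTopology X) P.presheaf).app (op W)
      (0 : P.obj (op W)) := by
    rw [← ap_un, ← ap_un, e, ap_zero]
  have hmem := Presheaf.equalizerSieve_mem (Opens.grothendieckTopology X)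
    (CategoryTheory.toSheafify (Opens.grothendieckTopology X) P.presheaf)
    (X := op W) (rs P iU s) (0 : P.obj (op W)) e'
  obtain ⟨V, f, hf, hxV⟩ := hmem x hW
  have hf' : rs P f (rs P iU s) = rs P f 0 := hf
  rw [← gm_res P iU hW s, ← gm_res P f hxV, hf', rs_zero, gm_zero]

lemma stMap_un_surjective : Function.Surjective (stMap x (un P)) := by
  intro b
  obtain ⟨U, hU, s', rfl⟩ := exists_gm_eq (vP (shv P)) b
  have hmem := Presheaf.imageSieve_mem (Opens.grothendieckTopology X)
    (CategoryTheory.toSheafify (Opens.grothendieckTopology X) P.presheaf)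
    (U := op U) s'
  obtain ⟨V, f, ⟨t, ht⟩, hxV⟩ := hmem x hU
  refine ⟨gm P V hxV t, ?_⟩
  rw [stMap_gm, ← gm_res (vP (shv P)) f hxV s']
  congr 1

/-- the stalk of the sheafification is the stalk -/
def stalkShvEquiv (x : X) : St P x ≃ₗ[X.presheaf.stalk x] St (vP (shv P)) x :=
  LinearEquiv.ofBijective (stMapₗ x (un P)) ⟨stMap_un_injective P, stMap_un_surjective P⟩

lemma stalkShvEquiv_apply (a : St P x) : stalkShvEquiv P x a = stMapₗ x (un P) a := rfl

end

end Groth.Agent.Lib.Helper28.StalkTensor
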