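import Mathlib
import Groth.Prelude.Def_DerSch
import Groth.Agent.Lib.Helper17.ModSiteColim

/-!
# The stalk functor on `O_X`-modules preserves colimits (helper28)
-/

set_option autoImplicit false

universe u

open CategoryTheory Limits AlgebraicGeometry TopologicalSpace Opposite

namespace Groth.Agent.Lib.Helper28.StalkTensor

noncomputable section

variable (X : Scheme.{u}) (x : X)

/-- the stalk of the underlying abelian sheaf -/
def stalkAb : X.Modules ⥤ Ab.{u} :=
  SheafOfModules.toSheaf.{u} X.ringCatSheaf ⋙
    (sheafToPresheaf _ _ ⋙ TopCat.Presheaf.stalkFunctor Ab.{u} x)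

instance : PreservesColimitsOfSize.{u, u} (stalkAb X x) := by
  have h1 : PreservesColimitsOfSize.{u, u} (SheafOfModules.toSheaf.{u} X.ringCatSheaf) :=
    Groth.Agent.Lib.Helper17.ModSiteColim.toSheaf_preservesColimits X.ringCatSheaf
  have h2 : PreservesColimitsOfSize.{u, u}
      (sheafToPresheaf (Opens.grothendieckTopology X) Ab.{u} ⋙
        TopCat.Presheaf.stalkFunctor Ab.{u} x) :=
    haveI : ∀ U : Opens X, Decidable (x ∈ U) := fun _ => Classical.dec _
    (stalkSkyscraperSheafAdjunction (C := Ab.{u}) x).leftAdjoint_preservesColimits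
  exact @comp_preservesColimits _ _ _ _ _ _ (SheafOfModules.toSheaf.{u} X.ringCatSheaf)
    (sheafToPresheaf (Opens.grothendieckTopology X) Ab.{u} ⋙
        TopCat.Presheaf.stalkFunctor Ab.{u} x) h1 h2

/-- the stalk functor, after forgetting the module structure, is the stalk of the underlying
abelian sheaf -/
def stalkFunctorCompForget :
    DerSch.stalkFunctor X x ⋙ forget₂ (ModuleCat.{u} (X.presheaf.stalk x)) Ab.{u} ≅ stalkAb X x :=
  NatIso.ofComponents (fun M => Iso.refl _) (by
    intro M N φ
    exact (Category.comp_id _).trans ((show _ = _ from rfl).trans (Category.id_comp _).symm))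

instance preservesColimitsOfSize_stalkFunctor :
    PreservesColimitsOfSize.{u, u} (DerSch.stalkFunctor X x) := by
  have h3 : PreservesColimitsOfSize.{u, u}
      (DerSch.stalkFunctor X x ⋙ forget₂ (ModuleCat.{u} (X.presheaf.stalk x)) Ab.{u}) :=
    preservesColimits_of_natIso (stalkFunctorCompForget X x).symm
  have h4 : ReflectsColimitsOfSize.{u, u}
      (forget₂ (ModuleCat.{u} (X.presheaf.stalk x)) Ab.{u}) :=
    ⟨fun {K} _ => reflectsColimitsOfShape_of_reflectsIsomorphisms⟩
  exact preservesColimits_of_reflects_of_preserves (DerSch.stalkFunctor X x)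
    (forget₂ (ModuleCat.{u} (X.presheaf.stalk x)) Ab.{u})

instance preservesColimitsOfShape_discrete_stalkFunctor (J : Type) :
    PreservesColimitsOfShape (Discrete J) (DerSch.stalkFunctor X x) := by
  have : PreservesColimitsOfSize.{0, 0} (DerSch.stalkFunctor X x) :=
    preservesColimitsOfSize_shrink.{0, u, 0, u} _
  infer_instance

end

end Groth.Agent.Lib.Helper28.StalkTensor
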