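import Mathlib

/-!
# A coproduct preserving functor commutes with total complexes of bifunctors (helper28)

Given bifunctors `T' : C₁ ⥤ C₂ ⥤ D'`, `T : B₁ ⥤ B₂ ⥤ D`, functors `G₁ : C₁ ⥤ B₁`, `G₂ : C₂ ⥤ B₂`,
`G : D' ⥤ D` (with `G` preserving coproducts) and isomorphisms
`φ X Y : G(T'(X, Y)) ≅ T(G₁ X, G₂ Y)` natural in both variables, we get
`G(Tot_{T'}(K₁, K₂)) ≅ Tot_T(G₁ K₁, G₂ K₂)` for cochain complexes `K₁`, `K₂`.
-/

open CategoryTheory Limits HomologicalComplex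

namespace Groth.Agent.Lib.Helper28.TotMap

variable {C₁ C₂ D' B₁ B₂ D : Type*} [Category C₁] [Category C₂] [Category D'] [Category B₁]
  [Category B₂] [Category D]
  [Preadditive C₁] [Preadditive C₂] [Preadditive D'] [Preadditive B₁] [Preadditive B₂]
  [Preadditive D]
  (T' : C₁ ⥤ C₂ ⥤ D') (T : B₁ ⥤ B₂ ⥤ D) (G₁ : C₁ ⥤ B₁) (G₂ : C₂ ⥤ B₂) (G : D' ⥤ D)
  [T'.Additive] [∀ X, (T'.obj X).Additive] [T.Additive] [∀ X, (T.obj X).Additive]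
  [G₁.Additive] [G₂.Additive] [G.Additive]
  (φ : ∀ X Y, G.obj ((T'.obj X).obj Y) ≅ (T.obj (G₁.obj X)).obj (G₂.obj Y))
  (K₁ : CochainComplex C₁ ℤ) (K₂ : CochainComplex C₂ ℤ)
  [HasMapBifunctor K₁ K₂ T' (ComplexShape.up ℤ)]
  [HasMapBifunctor ((G₁.mapHomologicalComplex (ComplexShape.up ℤ)).obj K₁)
    ((G₂.mapHomologicalComplex (ComplexShape.up ℤ)).obj K₂) T (ComplexShape.up ℤ)]

/-- the target total complex -/
noncomputable abbrev totB : CochainComplex D ℤ :=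
  mapBifunctor ((G₁.mapHomologicalComplex (ComplexShape.up ℤ)).obj K₁)
    ((G₂.mapHomologicalComplex (ComplexShape.up ℤ)).obj K₂) T (ComplexShape.up ℤ)

/-- the source total complex -/
noncomputable abbrev totA : CochainComplex D' ℤ := mapBifunctor K₁ K₂ T' (ComplexShape.up ℤ)

/-- inclusions into `totB` with explicit source -/
noncomputable def ιB (p q n : ℤ) (h : p + q = n) :
    (T.obj (G₁.obj (K₁.X p))).obj (G₂.obj (K₂.X q)) ⟶ (totB T G₁ G₂ K₁ K₂).X n :=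
  ιMapBifunctor ((G₁.mapHomologicalComplex (ComplexShape.up ℤ)).obj K₁)
    ((G₂.mapHomologicalComplex (ComplexShape.up ℤ)).obj K₂) T (ComplexShape.up ℤ) p q n h

/-- inclusions into `totA` -/
noncomputable def ιA (p q n : ℤ) (h : p + q = n) :
    (T'.obj (K₁.X p)).obj (K₂.X q) ⟶ (totA T' K₁ K₂).X n :=
  ιMapBifunctor K₁ K₂ T' (ComplexShape.up ℤ) p q n h

lemma homB_ext {n : ℤ} {Z : D} (f g : (totB T G₁ G₂ K₁ K₂).X n ⟶ Z)
    (h : ∀ (p q : ℤ) (hpq : p + q = n), ιB T G₁ G₂ K₁ K₂ p q n hpq ≫ f =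
      ιB T G₁ G₂ K₁ K₂ p q n hpq ≫ g) : f = g :=
  mapBifunctor.hom_ext (fun p q hpq => h p q hpq)

lemma ιB_d (p q n n' : ℤ) (h : p + q = n) (hn : n + 1 = n') :
    ιB T G₁ G₂ K₁ K₂ p q n h ≫ (totB T G₁ G₂ K₁ K₂).d n n' =
      (T.map (G₁.map (K₁.d p (p + 1)))).app (G₂.obj (K₂.X q)) ≫
        ιB T G₁ G₂ K₁ K₂ (p + 1) q n' (by omega) +
      (p.negOnePow : ℤˣ) • ((T.obj (G₁.obj (K₁.X p))).map (G₂.map (K₂.d q (q + 1))) ≫
        ιB T G₁ G₂ K₁ K₂ p (q + 1) n' (by omega)) := by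
  have h1 := mapBifunctor.d₁_eq ((G₁.mapHomologicalComplex (ComplexShape.up ℤ)).obj K₁)
      ((G₂.mapHomologicalComplex (ComplexShape.up ℤ)).obj K₂) T (ComplexShape.up ℤ)
      (show (ComplexShape.up ℤ).Rel p (p + 1) from rfl) q n' (show (p + 1) + q = n' by omega)
  have h2 := mapBifunctor.d₂_eq ((G₁.mapHomologicalComplex (ComplexShape.up ℤ)).obj K₁)
      ((G₂.mapHomologicalComplex (ComplexShape.up ℤ)).obj K₂) T (ComplexShape.up ℤ) p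
      (show (ComplexShape.up ℤ).Rel q (q + 1) from rfl) n' (show p + (q + 1) = n' by omega)
  have e1 : (ComplexShape.up ℤ).ε₁ (ComplexShape.up ℤ) (ComplexShape.up ℤ) (p, q) = 1 := rfl
  have e2 : (ComplexShape.up ℤ).ε₂ (ComplexShape.up ℤ) (ComplexShape.up ℤ) (p, q) =
      p.negOnePow := rfl
  rw [e1, one_smul] at h1
  rw [e2] at h2
  have hd : (totB T G₁ G₂ K₁ K₂).d n n' =
      mapBifunctor.D₁ ((G₁.mapHomologicalComplex (ComplexShape.up ℤ)).obj K₁)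
        ((G₂.mapHomologicalComplex (ComplexShape.up ℤ)).obj K₂) T (ComplexShape.up ℤ) n n' +
      mapBifunctor.D₂ ((G₁.mapHomologicalComplex (ComplexShape.up ℤ)).obj K₁)
        ((G₂.mapHomologicalComplex (ComplexShape.up ℤ)).obj K₂) T (ComplexShape.up ℤ) n n' :=
    mapBifunctor.d_eq _ _ _ _ _ _
  have hι1 : ιB T G₁ G₂ K₁ K₂ p q n h ≫
      mapBifunctor.D₁ ((G₁.mapHomologicalComplex (ComplexShape.up ℤ)).obj K₁)
        ((G₂.mapHomologicalComplex (ComplexShape.up ℤ)).obj K₂) T (ComplexShape.up ℤ) n n' =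
      (T.map (G₁.map (K₁.d p (p + 1)))).app (G₂.obj (K₂.X q)) ≫
        ιB T G₁ G₂ K₁ K₂ (p + 1) q n' (by omega) :=
    (mapBifunctor.ι_D₁ _ _ _ _ _ _ _ _ _).trans h1
  have hι2 : ιB T G₁ G₂ K₁ K₂ p q n h ≫
      mapBifunctor.D₂ ((G₁.mapHomologicalComplex (ComplexShape.up ℤ)).obj K₁)
        ((G₂.mapHomologicalComplex (ComplexShape.up ℤ)).obj K₂) T (ComplexShape.up ℤ) n n' =
      (p.negOnePow : ℤˣ) • ((T.obj (G₁.obj (K₁.X p))).map (G₂.map (K₂.d q (q + 1))) ≫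
        ιB T G₁ G₂ K₁ K₂ p (q + 1) n' (by omega)) :=
    (mapBifunctor.ι_D₂ _ _ _ _ _ _ _ _ _).trans h2
  rw [hd, Preadditive.comp_add, hι1, hι2]

lemma ιA_d (p q n n' : ℤ) (h : p + q = n) (hn : n + 1 = n') :
    ιA T' K₁ K₂ p q n h ≫ (totA T' K₁ K₂).d n n' =
      (T'.map (K₁.d p (p + 1))).app (K₂.X q) ≫ ιA T' K₁ K₂ (p + 1) q n' (by omega) +
      (p.negOnePow : ℤˣ) • ((T'.obj (K₁.X p)).map (K₂.d q (q + 1)) ≫
        ιA T' K₁ K₂ p (q + 1) n' (by omega)) := by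
  unfold ιA
  have h1 := mapBifunctor.d₁_eq K₁ K₂ T' (ComplexShape.up ℤ)
      (show (ComplexShape.up ℤ).Rel p (p + 1) from rfl) q n' (show (p + 1) + q = n' by omega)
  have h2 := mapBifunctor.d₂_eq K₁ K₂ T' (ComplexShape.up ℤ) p
      (show (ComplexShape.up ℤ).Rel q (q + 1) from rfl) n' (show p + (q + 1) = n' by omega)
  have e1 : (ComplexShape.up ℤ).ε₁ (ComplexShape.up ℤ) (ComplexShape.up ℤ) (p, q) = 1 := rfl
  have e2 : (ComplexShape.up ℤ).ε₂ (ComplexShape.up ℤ) (ComplexShape.up ℤ) (p, q) =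
      p.negOnePow := rfl
  rw [e1, one_smul] at h1
  rw [e2] at h2
  rw [mapBifunctor.d_eq, Preadditive.comp_add, mapBifunctor.ι_D₁, mapBifunctor.ι_D₂, h1, h2]

/-- the comparison in degree `n` -/
noncomputable def ψ (n : ℤ) : (totB T G₁ G₂ K₁ K₂).X n ⟶ G.obj ((totA T' K₁ K₂).X n) :=
  mapBifunctorDesc (fun p q h => (φ (K₁.X p) (K₂.X q)).inv ≫ G.map (ιA T' K₁ K₂ p q n h))

@[reassoc]
lemma ι_ψ (p q n : ℤ) (h : p + q = n) :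
    ιB T G₁ G₂ K₁ K₂ p q n h ≫ ψ T' T G₁ G₂ G φ K₁ K₂ n =
    (φ (K₁.X p) (K₂.X q)).inv ≫ G.map (ιA T' K₁ K₂ p q n h) :=
  ι_mapBifunctorDesc _ p q h

variable [∀ (J : Type), PreservesColimitsOfShape (Discrete J) G]

/-- the cocone used to define the inverse -/
noncomputable def invCocone (n : ℤ) :
    Cocone (Discrete.functor
      ((((GradedObject.mapBifunctor T' ℤ ℤ).obj K₁.X).obj K₂.X).mapObjFun
        (ComplexShape.π (ComplexShape.up ℤ) (ComplexShape.up ℤ) (ComplexShape.up ℤ)) n) ⋙ G) where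
  pt := (totB T G₁ G₂ K₁ K₂).X n
  ι := Discrete.natTrans (fun ⟨⟨⟨p, q⟩, h⟩⟩ => (φ (K₁.X p) (K₂.X q)).hom ≫
    ιB T G₁ G₂ K₁ K₂ p q n h)

/-- `G` applied to the coproduct cofan is a colimit -/
noncomputable def isColimitMap (n : ℤ) :
    IsColimit (G.mapCocone ((((GradedObject.mapBifunctor T' ℤ ℤ).obj K₁.X).obj K₂.X).cofanMapObj
      (ComplexShape.π (ComplexShape.up ℤ) (ComplexShape.up ℤ) (ComplexShape.up ℤ)) n)) :=
  isColimitOfPreserves G ((((GradedObject.mapBifunctor T' ℤ ℤ).obj K₁.X).obj K₂.X).isColimitCofanMapObj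
      (ComplexShape.π (ComplexShape.up ℤ) (ComplexShape.up ℤ) (ComplexShape.up ℤ)) n)

/-- the inverse comparison in degree `n` -/
noncomputable def ψinv (n : ℤ) : G.obj ((totA T' K₁ K₂).X n) ⟶ (totB T G₁ G₂ K₁ K₂).X n :=
  (isColimitMap T' G K₁ K₂ n).desc (invCocone T' T G₁ G₂ G φ K₁ K₂ n)

@[reassoc]
lemma map_ι_ψinv (p q n : ℤ) (h : p + q = n) :
    G.map (ιA T' K₁ K₂ p q n h) ≫ ψinv T' T G₁ G₂ G φ K₁ K₂ n =
      (φ (K₁.X p) (K₂.X q)).hom ≫ ιB T G₁ G₂ K₁ K₂ p q n h :=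
  (isColimitMap T' G K₁ K₂ n).fac (invCocone T' T G₁ G₂ G φ K₁ K₂ n) ⟨⟨⟨p, q⟩, h⟩⟩

lemma map_hom_ext {n : ℤ} {Z : D} (f g : G.obj ((totA T' K₁ K₂).X n) ⟶ Z)
    (h : ∀ (p q : ℤ) (hpq : p + q = n),
      G.map (ιA T' K₁ K₂ p q n hpq) ≫ f = G.map (ιA T' K₁ K₂ p q n hpq) ≫ g) : f = g :=
  (isColimitMap T' G K₁ K₂ n).hom_ext (fun ⟨⟨⟨p, q⟩, hpq⟩⟩ => h p q hpq)

lemma ψ_ψinv (n : ℤ) : ψ T' T G₁ G₂ G φ K₁ K₂ n ≫ ψinv T' T G₁ G₂ G φ K₁ K₂ n = 𝟙 _ := by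
  apply homB_ext
  intro p q h
  rw [ι_ψ_assoc, map_ι_ψinv, Iso.inv_hom_id_assoc, Category.comp_id]

lemma ψinv_ψ (n : ℤ) : ψinv T' T G₁ G₂ G φ K₁ K₂ n ≫ ψ T' T G₁ G₂ G φ K₁ K₂ n = 𝟙 _ := by
  apply map_hom_ext T' G K₁ K₂
  intro p q h
  rw [map_ι_ψinv_assoc, ι_ψ, Iso.hom_inv_id_assoc, Category.comp_id]

variable
  (nat₁ : ∀ {X X' : C₁} (f : X ⟶ X') (Y : C₂), G.map ((T'.map f).app Y) ≫ (φ X' Y).hom =
    (φ X Y).hom ≫ (T.map (G₁.map f)).app (G₂.obj Y))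
  (nat₂ : ∀ (X : C₁) {Y Y' : C₂} (g : Y ⟶ Y'), G.map ((T'.obj X).map g) ≫ (φ X Y').hom =
    (φ X Y).hom ≫ (T.obj (G₁.obj X)).map (G₂.map g))

include nat₁ nat₂ in
lemma ψ_comm (n n' : ℤ) (hn : n + 1 = n') :
    ψ T' T G₁ G₂ G φ K₁ K₂ n ≫ G.map ((totA T' K₁ K₂).d n n') =
      (totB T G₁ G₂ K₁ K₂).d n n' ≫ ψ T' T G₁ G₂ G φ K₁ K₂ n' := by
  apply homB_ext
  intro p q h
  have n1 : (φ (K₁.X p) (K₂.X q)).inv ≫ G.map ((T'.map (K₁.d p (p + 1))).app (K₂.X q)) =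
      (T.map (G₁.map (K₁.d p (p + 1)))).app (G₂.obj (K₂.X q)) ≫
        (φ (K₁.X (p + 1)) (K₂.X q)).inv := by
    rw [Iso.inv_comp_eq, ← Category.assoc, Iso.eq_comp_inv]
    exact nat₁ (K₁.d p (p + 1)) (K₂.X q)
  have n2 : (φ (K₁.X p) (K₂.X q)).inv ≫ G.map ((T'.obj (K₁.X p)).map (K₂.d q (q + 1))) =
      (T.obj (G₁.obj (K₁.X p))).map (G₂.map (K₂.d q (q + 1))) ≫
        (φ (K₁.X p) (K₂.X (q + 1))).inv := by
    rw [Iso.inv_comp_eq, ← Category.assoc, Iso.eq_comp_inv]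
    exact nat₂ (K₁.X p) (K₂.d q (q + 1))
  have lhs : ιB T G₁ G₂ K₁ K₂ p q n h ≫ ψ T' T G₁ G₂ G φ K₁ K₂ n ≫
      G.map ((totA T' K₁ K₂).d n n') =
      (T.map (G₁.map (K₁.d p (p + 1)))).app (G₂.obj (K₂.X q)) ≫
        (φ (K₁.X (p + 1)) (K₂.X q)).inv ≫ G.map (ιA T' K₁ K₂ (p + 1) q n' (by omega)) +
      (p.negOnePow : ℤˣ) • ((T.obj (G₁.obj (K₁.X p))).map (G₂.map (K₂.d q (q + 1))) ≫
        (φ (K₁.X p) (K₂.X (q + 1))).inv ≫ G.map (ιA T' K₁ K₂ p (q + 1) n' (by omega))) := by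
    rw [ι_ψ_assoc, ← G.map_comp, ιA_d T' K₁ K₂ p q n n' h hn, G.map_add, Preadditive.comp_add,
      G.map_comp, reassoc_of% n1, Functor.map_units_smul, Linear.comp_units_smul, G.map_comp,
      reassoc_of% n2]
  have rhs : ιB T G₁ G₂ K₁ K₂ p q n h ≫ (totB T G₁ G₂ K₁ K₂).d n n' ≫
      ψ T' T G₁ G₂ G φ K₁ K₂ n' =
      (T.map (G₁.map (K₁.d p (p + 1)))).app (G₂.obj (K₂.X q)) ≫
        (φ (K₁.X (p + 1)) (K₂.X q)).inv ≫ G.map (ιA T' K₁ K₂ (p + 1) q n' (by omega)) +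
      (p.negOnePow : ℤˣ) • ((T.obj (G₁.obj (K₁.X p))).map (G₂.map (K₂.d q (q + 1))) ≫
        (φ (K₁.X p) (K₂.X (q + 1))).inv ≫ G.map (ιA T' K₁ K₂ p (q + 1) n' (by omega))) := by
    rw [← Category.assoc, ιB_d T G₁ G₂ K₁ K₂ p q n n' h hn, Preadditive.add_comp,
      Category.assoc, Linear.units_smul_comp, Category.assoc, ι_ψ, ι_ψ]
  rw [lhs, rhs]

include nat₁ nat₂ in
/-- `G(Tot_{T'}(K₁, K₂)) ≅ Tot_T(G₁ K₁, G₂ K₂)` -/
noncomputable def mapTotIso :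
    (G.mapHomologicalComplex (ComplexShape.up ℤ)).obj (totA T' K₁ K₂) ≅ totB T G₁ G₂ K₁ K₂ :=
  (HomologicalComplex.Hom.isoOfComponents
    (fun n => { hom := ψ T' T G₁ G₂ G φ K₁ K₂ n
                inv := ψinv T' T G₁ G₂ G φ K₁ K₂ n
                hom_inv_id := ψ_ψinv T' T G₁ G₂ G φ K₁ K₂ n
                inv_hom_id := ψinv_ψ T' T G₁ G₂ G φ K₁ K₂ n })
    (by
      intro i j hij
      exact ψ_comm T' T G₁ G₂ G φ K₁ K₂ nat₁ nat₂ i j hij)).symm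

end Groth.Agent.Lib.Helper28.TotMap
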