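import Mathlib
import Groth.Prelude.Def_DCoh4
import Groth.Agent.Lib.Helper28.StalkTensor6
import Groth.Agent.Lib.Helper28.StalkTensor7
import Groth.Agent.Lib.Helper28.TotMap

/-!
# The stalk of a tensor product of `O_X`-modules (helper28)

`(F ⊗ G)_x ≅ F_x ⊗_{O_{X,x}} G_x`, naturally in `F` and `G`, and the version for total complexes.
-/

set_option autoImplicit false

universe u

open CategoryTheory Limits AlgebraicGeometry TopologicalSpace Opposite MonoidalCategory
open scoped TensorProduct

namespace Groth.Agent.Lib.Helper28.StalkTensor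

noncomputable section

variable {X : Scheme.{u}} (x : X)

lemma tensorBi_obj_obj (F G : X.Modules) :
    ((DCoh.tensorBi (X := X)).obj F).obj G = shv (PQ (vP F) (vP G)) := rfl

lemma tensorBi_map_app {F F' : X.Modules} (f : F ⟶ F') (G : X.Modules) :
    ((DCoh.tensorBi (X := X)).map f).app G = shvMap (vMap f ▷ vP G) := rfl

lemma tensorBi_obj_map (F : X.Modules) {G G' : X.Modules} (g : G ⟶ G') :
    ((DCoh.tensorBi (X := X)).obj F).map g = shvMap (vP F ◁ vMap g) := rfl

/-- the stalk functor on morphisms, in terms of `stMapₗ` -/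
lemma stalkFunctor_map_hom {M N : X.Modules} (φ : M ⟶ N) (a : St (vP M) x) :
    ((DerSch.stalkFunctor X x).map φ).hom a = stMapₗ x (vMap φ) a := by
  obtain ⟨U, hU, s, rfl⟩ := exists_gm_eq (vP M) a
  rw [stMapₗ_gm]
  exact DerSch.stalkFunctor_map_germ x φ U hU s

/-- the stalk-tensor isomorphism, as a linear equivalence -/
def stalkTensorLinearEquiv (F G : X.Modules) :
    St (vP (shv (PQ (vP F) (vP G)))) x ≃ₗ[X.presheaf.stalk x] TT (vP F) (vP G) x :=
  (stalkShvEquiv (PQ (vP F) (vP G)) x).symm ≪≫ₗ stalkTensorEquiv (vP F) (vP G) x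

lemma stalkTensorLinearEquiv_stMap (F G : X.Modules) (w : St (PQ (vP F) (vP G)) x) :
    stalkTensorLinearEquiv x F G (stMapₗ x (un (PQ (vP F) (vP G))) w) =
      stalkTensorEquiv (vP F) (vP G) x w := by
  unfold stalkTensorLinearEquiv
  rw [LinearEquiv.trans_apply, ← stalkShvEquiv_apply, LinearEquiv.symm_apply_apply]

lemma stalkTensorLinearEquiv_naturality {F F' G G' : X.Modules} (f : F ⟶ F') (g : G ⟶ G')
    (w : St (vP (shv (PQ (vP F) (vP G)))) x) :
    stalkTensorLinearEquiv x F' G' (stMapₗ x (vMap (shvMap (vMap f ⊗ₘ vMap g))) w) =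
      TensorProduct.map (stMapₗ x (vMap f)) (stMapₗ x (vMap g)) (stalkTensorLinearEquiv x F G w) := by
  obtain ⟨w, rfl⟩ := (stalkShvEquiv (PQ (vP F) (vP G)) x).surjective w
  rw [stalkShvEquiv_apply, stalkTensorLinearEquiv_stMap, ← stalkTensorEquiv_naturality,
    ← stalkTensorLinearEquiv_stMap, ← LinearMap.comp_apply, ← LinearMap.comp_apply,
    ← stMapₗ_comp, ← stMapₗ_comp, un_naturality]

/-- `(F ⊗ G)_x ≅ F_x ⊗ G_x` -/
def stalkTensorIso (F G : X.Modules) :
    (DerSch.stalkFunctor X x).obj (((DCoh.tensorBi (X := X)).obj F).obj G) ≅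
      (DerSch.stalkFunctor X x).obj F ⊗ (DerSch.stalkFunctor X x).obj G :=
  (stalkTensorLinearEquiv x F G).toModuleIso

lemma stalkTensorIso_hom_apply (F G : X.Modules) (w : St (vP (shv (PQ (vP F) (vP G)))) x) :
    (stalkTensorIso x F G).hom.hom w = stalkTensorLinearEquiv x F G w := rfl

lemma stalkTensorIso_nat₁ {F F' : X.Modules} (f : F ⟶ F') (G : X.Modules) :
    (DerSch.stalkFunctor X x).map (((DCoh.tensorBi (X := X)).map f).app G) ≫
        (stalkTensorIso x F' G).hom =
      (stalkTensorIso x F G).hom ≫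
        (DerSch.stalkFunctor X x).map f ▷ (DerSch.stalkFunctor X x).obj G := by
  ext w
  change (stalkTensorIso x F' G).hom.hom
      (((DerSch.stalkFunctor X x).map (((DCoh.tensorBi (X := X)).map f).app G)).hom w) =
    ((DerSch.stalkFunctor X x).map f ▷ (DerSch.stalkFunctor X x).obj G).hom
      ((stalkTensorIso x F G).hom.hom w)
  rw [tensorBi_map_app, stalkFunctor_map_hom, stalkTensorIso_hom_apply, stalkTensorIso_hom_apply]
  have h := stalkTensorLinearEquiv_naturality x f (𝟙 G) w
  have e1 : vMap f ⊗ₘ vMap (𝟙 G) = vMap f ▷ vP G := by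
    change vMap f ⊗ₘ 𝟙 (vP G) = _
    exact MonoidalCategory.tensorHom_id _ _
  have e2 : stMapₗ x (vMap (𝟙 G)) = LinearMap.id := stMapₗ_id (vP G)
  rw [e1, e2] at h
  refine h.trans ?_
  generalize stalkTensorLinearEquiv x F G w = y
  induction y using TensorProduct.induction_on with
  | zero => rw [map_zero]; exact (map_zero _).symm
  | tmul a b =>
    rw [TensorProduct.map_tmul, LinearMap.id_apply]
    change _ = (((DerSch.stalkFunctor X x).map f).hom a) ⊗ₜ b
    rw [stalkFunctor_map_hom]
    rfl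
  | add a b ha hb =>
    rw [map_add, ha, hb]
    exact (map_add _ _ _).symm

lemma stalkTensorIso_nat₂ (F : X.Modules) {G G' : X.Modules} (g : G ⟶ G') :
    (DerSch.stalkFunctor X x).map (((DCoh.tensorBi (X := X)).obj F).map g) ≫
        (stalkTensorIso x F G').hom =
      (stalkTensorIso x F G).hom ≫
        (DerSch.stalkFunctor X x).obj F ◁ (DerSch.stalkFunctor X x).map g := by
  ext w
  change (stalkTensorIso x F G').hom.hom
      (((DerSch.stalkFunctor X x).map (((DCoh.tensorBi (X := X)).obj F).map g)).hom w) =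
    ((DerSch.stalkFunctor X x).obj F ◁ (DerSch.stalkFunctor X x).map g).hom
      ((stalkTensorIso x F G).hom.hom w)
  rw [tensorBi_obj_map, stalkFunctor_map_hom, stalkTensorIso_hom_apply, stalkTensorIso_hom_apply]
  have h := stalkTensorLinearEquiv_naturality x (𝟙 F) g w
  have e1 : vMap (𝟙 F) ⊗ₘ vMap g = vP F ◁ vMap g := by
    change 𝟙 (vP F) ⊗ₘ vMap g = _
    exact MonoidalCategory.id_tensorHom _ _
  have e2 : stMapₗ x (vMap (𝟙 F)) = LinearMap.id := stMapₗ_id (vP F)
  rw [e1, e2] at h
  refine h.trans ?_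
  generalize stalkTensorLinearEquiv x F G w = y
  induction y using TensorProduct.induction_on with
  | zero => rw [map_zero]; exact (map_zero _).symm
  | tmul a b =>
    rw [TensorProduct.map_tmul, LinearMap.id_apply]
    change _ = a ⊗ₜ (((DerSch.stalkFunctor X x).map g).hom b)
    rw [stalkFunctor_map_hom]
    rfl
  | add a b ha hb =>
    rw [map_add, ha, hb]
    exact (map_add _ _ _).symm

end

end Groth.Agent.Lib.Helper28.StalkTensor
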