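import Mathlib
import Groth.Prelude.Def_KFlatSite
import Groth.Agent.Lib.Helper28.StalkTensor8
import Groth.Agent.Lib.Helper28.DCohStalk2

/-!
# Stalks of tensor products of complexes; stalkwise K-flat complexes are K-flat (helper28)
-/

set_option autoImplicit false

universe u

open CategoryTheory Limits AlgebraicGeometry TopologicalSpace Opposite MonoidalCategory
open scoped TensorProduct

namespace Groth.Agent.Lib.Helper28.StalkTensor

noncomputable section

variable {X : Scheme.{u}} (x : X)

/-- the complex of stalks -/
abbrev stalkCx : CochainComplex X.Modules ℤ ⥤ CochainComplex (ModuleCat.{u} (X.presheaf.stalk x)) ℤ :=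
  (DerSch.stalkFunctor X x).mapHomologicalComplex (ComplexShape.up ℤ)

/-- the stalk of the tensor product of two complexes is the tensor product of the stalks -/
def stalkTotIso (L E : CochainComplex X.Modules ℤ) :
    (stalkCx x).obj ((DCoh.tensorCx.obj L).obj E) ≅ (stalkCx x).obj L ⊗ (stalkCx x).obj E :=
  TotMap.mapTotIso (DCoh.tensorBi (X := X)) (curriedTensor (ModuleCat.{u} (X.presheaf.stalk x)))
    (DerSch.stalkFunctor X x) (DerSch.stalkFunctor X x) (DerSch.stalkFunctor X x)
    (fun F G => stalkTensorIso x F G) L E
    (fun f G => stalkTensorIso_nat₁ x f G) (fun F _ _ g => stalkTensorIso_nat₂ x F g)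

/-- the stalk of an acyclic complex is acyclic -/
lemma isZero_homology_stalkCx (L : CochainComplex X.Modules ℤ) (hL : ∀ i : ℤ, IsZero (L.homology i))
    (i : ℤ) : IsZero (((stalkCx x).obj L).homology i) :=
  IsZero.of_iso (Functor.map_isZero (DerSch.stalkFunctor X x) (hL i))
    (show ((stalkCx x).obj L).homology i ≅ (DerSch.stalkFunctor X x).obj (L.homology i) from
      (Groth.Agent.Lib.Helper28.DCohRes.mapHCHomologyIso (DerSch.stalkFunctor X x) i).app L)

/-- acyclicity can be checked on stalks -/
lemma isZero_homology_of_forall_stalkCx (L : CochainComplex X.Modules ℤ) (i : ℤ)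
    (h : ∀ x : X, IsZero (((stalkCx x).obj L).homology i)) : IsZero (L.homology i) := by
  rw [Groth.Agent.Lib.Helper29.QCoh.isZero_iff_stalk_subsingleton]
  intro x
  have h1 : IsZero ((DerSch.stalkFunctor X x).obj (L.homology i)) :=
    IsZero.of_iso (h x)
      (show ((stalkCx x).obj L).homology i ≅ (DerSch.stalkFunctor X x).obj (L.homology i) from
        (Groth.Agent.Lib.Helper28.DCohRes.mapHCHomologyIso (DerSch.stalkFunctor X x) i).app L).symm
  exact ModuleCat.isZero_iff_subsingleton.1 h1

/-- a stalkwise K-flat complex of `O_X`-modules is K-flat -/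
theorem isKFlat_of_forall_stalk (F : CochainComplex X.Modules ℤ)
    (h : ∀ x : X, DRing.IsKFlat (X.presheaf.stalk x) ((stalkCx x).obj F)) : DCoh.IsKFlat F := by
  intro L hL i
  apply isZero_homology_of_forall_stalkCx
  intro x
  refine IsZero.of_iso (h x _ (isZero_homology_stalkCx x L hL) i)
    ((HomologicalComplex.homologyFunctor _ _ i).mapIso (stalkTotIso x L F))

end

end Groth.Agent.Lib.Helper28.StalkTensor
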