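import Mathlib
import Groth.Agent.Lib.Helper29.Sky
import Groth.Agent.Lib.Helper28.StalkTensor9

/-!
# The skyscraper functor on modules and its stalk (helper28)
-/

set_option autoImplicit false

universe u

open CategoryTheory Limits AlgebraicGeometry TopologicalSpace Opposite

namespace Groth.Agent.Lib.Helper28.StalkTensor

noncomputable section

open Groth.Agent.Lib.Helper29.QCoh

variable {X : Scheme.{u}} (y : X)

/-- sections of a skyscraper module, as functions -/
def skySec {Q : ModuleCat.{u} (X.presheaf.stalk y)} {V : X.Opens} (φ : Γ(sky y Q, V)) :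
    PLift (y ∈ V) → Q := φ

/-- functions, as sections of a skyscraper module -/
def ofSkySec {Q : ModuleCat.{u} (X.presheaf.stalk y)} {V : X.Opens} (φ : PLift (y ∈ V) → Q) :
    Γ(sky y Q, V) := φ

/-- the skyscraper construction on morphisms -/
def skyMap {Q Q' : ModuleCat.{u} (X.presheaf.stalk y)} (g : Q ⟶ Q') : sky y Q ⟶ sky y Q' :=
  homOfApp (M := sky y Q) (N := sky y Q')
    (fun V => (show (PLift (y ∈ V) → Q) →+ (PLift (y ∈ V) → Q') from
      { toFun := fun φ h => g.hom (φ h)
        map_zero' := by funext h; exact map_zero g.hom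
        map_add' := fun φ ψ => by funext h; exact map_add g.hom _ _ }))
    (fun V r φ => by
      funext h
      change g.hom (X.presheaf.germ V y h.down r • skySec y φ h) =
        X.presheaf.germ V y h.down r • g.hom (skySec y φ h)
      rw [map_smul])
    (fun _ _ => rfl)

lemma skyMap_app {Q Q' : ModuleCat.{u} (X.presheaf.stalk y)} (g : Q ⟶ Q') (V : X.Opens)
    (φ : Γ(sky y Q, V)) (h : PLift (y ∈ V)) :
    skySec y ((skyMap y g).app V φ) h = g.hom (skySec y φ h) := rfl

/-- the skyscraper functor -/
def skyF : ModuleCat.{u} (X.presheaf.stalk y) ⥤ X.Modules where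
  obj Q := sky y Q
  map g := skyMap y g
  map_id Q := by
    apply Scheme.Modules.hom_ext
    intro U
    ext φ
    rfl
  map_comp g g' := by
    apply Scheme.Modules.hom_ext
    intro U
    ext φ
    rfl

instance : (skyF y).Additive where
  map_add {Q Q' g g'} := by
    apply Scheme.Modules.hom_ext
    intro U
    ext φ
    rfl

end

end Groth.Agent.Lib.Helper28.StalkTensor
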