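import Mathlib
import Groth.Agent.Lib.Helper28.StalkSky1

/-!
# Exactness of the skyscraper functor and its stalk (helper28)
-/

set_option autoImplicit false

universe u

open CategoryTheory Limits AlgebraicGeometry TopologicalSpace Opposite

namespace Groth.Agent.Lib.Helper28.StalkTensor

noncomputable section

open Groth.Agent.Lib.Helper29.QCoh

variable {X : Scheme.{u}}

lemma app_res {M N : X.Modules} (φ : M ⟶ N) {U V : X.Opens} (h : V ≤ U) (s : Γ(M, U)) :
    φ.app V (res M h s) = res N h (φ.app U s) :=
  NatTrans.naturality_apply φ.mapPresheaf (homOfLE h).op s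

/-- a short complex of `O_X`-modules which is exact on sections is exact -/
theorem exact_of_sections_exact (S : ShortComplex X.Modules)
    (h : ∀ (U : X.Opens) (s : Γ(S.X₂, U)), S.g.app U s = 0 → ∃ t : Γ(S.X₁, U), S.f.app U t = s) :
    S.Exact := by
  rw [exact_iff_stalk_function_exact]
  intro x a
  constructor
  · intro ha
    obtain ⟨U, hU, s, rfl⟩ := S.X₂.presheaf.exists_germ_eq (x := x) a
    rw [stalkMap_germ] at ha
    have ha' : S.X₃.presheaf.germ U x hU (S.g.app U s) = S.X₃.presheaf.germ U x hU 0 := by
      rw [ha, map_zero]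
    obtain ⟨W, hW, iU, iV, e⟩ := S.X₃.presheaf.germ_eq x hU hU _ _ ha'
    have e' : res S.X₃ (leOfHom iU) (S.g.app U s) = 0 := by
      have : res S.X₃ (leOfHom iU) (S.g.app U s) = res S.X₃ (leOfHom iV) 0 := e
      rw [this, map_zero]
    rw [← app_res] at e'
    obtain ⟨t, ht⟩ := h W _ e'
    refine ⟨S.X₁.presheaf.germ W x hW t, ?_⟩
    rw [stalkMap_germ, ht, germ_res]
  · rintro ⟨b, rfl⟩
    rw [← ConcreteCategory.comp_apply]
    have : stalkMap S.f x ≫ stalkMap S.g x = 0 := by
      change (stalkFunctor X x).map S.f ≫ (stalkFunctor X x).map S.g = 0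
      rw [← Functor.map_comp, S.zero, Functor.map_zero]
    rw [this]
    rfl

variable (y : X)

/-- the skyscraper of an exact short complex is exact -/
lemma exact_map_skyF (S : ShortComplex (ModuleCat.{u} (X.presheaf.stalk y))) (hS : S.Exact) :
    (S.map (skyF y)).Exact := by
  apply exact_of_sections_exact
  intro U φ hφ
  rw [ShortComplex.moduleCat_exact_iff] at hS
  have key : ∀ h : PLift (y ∈ U), ∃ q : S.X₁, S.f.hom q = skySec y φ h := by
    intro h
    apply hS
    have := congrFun (show skySec y ((skyMap y S.g).app U φ) = 0 from hφ) h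
    exact this
  refine ⟨ofSkySec y (fun h => (key h).choose), ?_⟩
  funext h
  exact (key h).choose_spec

/-- the skyscraper of an acyclic complex is acyclic -/
lemma isZero_homology_skyCx (M : CochainComplex (ModuleCat.{u} (X.presheaf.stalk y)) ℤ)
    (hM : ∀ i : ℤ, IsZero (M.homology i)) (i : ℤ) :
    IsZero ((((skyF y).mapHomologicalComplex (ComplexShape.up ℤ)).obj M).homology i) := by
  rw [← HomologicalComplex.exactAt_iff_isZero_homology]
  have h1 : (M.sc i).Exact := by
    have := hM i
    rwa [← HomologicalComplex.exactAt_iff_isZero_homology] at this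
  exact exact_map_skyF y (M.sc i) h1

end

end Groth.Agent.Lib.Helper28.StalkTensor
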