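import Mathlib
import Groth.Agent.Lib.Helper28.StalkSky2

/-!
# The stalk of a skyscraper module; K-flat complexes are stalkwise K-flat (helper28)
-/

set_option autoImplicit false

universe u

open CategoryTheory Limits AlgebraicGeometry TopologicalSpace Opposite MonoidalCategory

namespace Groth.Agent.Lib.Helper28.StalkTensor

noncomputable section

open Groth.Agent.Lib.Helper29.QCoh

variable {X : Scheme.{u}} (y : X)

/-- a section of the underlying presheaf of modules of a skyscraper, as a function -/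
def skyFun {Q : ModuleCat.{u} (X.presheaf.stalk y)} {V : X.Opens}
    (φ : (vP (sky y Q)).obj (op V)) : PLift (y ∈ V) → Q := φ

/-- a function, as a section of the underlying presheaf of modules of a skyscraper -/
def ofSkyFun {Q : ModuleCat.{u} (X.presheaf.stalk y)} {V : X.Opens}
    (φ : PLift (y ∈ V) → Q) : (vP (sky y Q)).obj (op V) := φ

lemma skyFun_rs {Q : ModuleCat.{u} (X.presheaf.stalk y)} {U V : X.Opens} (i : V ⟶ U)
    (φ : (vP (sky y Q)).obj (op U)) (h : PLift (y ∈ V)) :
    skyFun y (rs (vP (sky y Q)) i φ) h = skyFun y φ ⟨leOfHom i h.down⟩ := rfl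

lemma skyFun_smul {Q : ModuleCat.{u} (X.presheaf.stalk y)} {V : X.Opens}
    (r : X.presheaf.obj (op V)) (φ : (vP (sky y Q)).obj (op V)) (h : PLift (y ∈ V)) :
    skyFun y (r • φ) h = X.presheaf.germ V y h.down r • skyFun y φ h := rfl

lemma skyFun_ext {Q : ModuleCat.{u} (X.presheaf.stalk y)} {V : X.Opens} (hy : y ∈ V)
    (φ ψ : (vP (sky y Q)).obj (op V)) (h : skyFun y φ ⟨hy⟩ = skyFun y ψ ⟨hy⟩) : φ = ψ := by
  change skyFun y φ = skyFun y ψ
  funext h'
  cases h'
  exact h

variable (Q : ModuleCat.{u} (X.presheaf.stalk y))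

/-- evaluation of a germ of the skyscraper -/
def skyStalkAdd : St (vP (sky y Q)) y →+ Q :=
  descAdd (vP (sky y Q)) y Q
    (fun U hU =>
      { toFun := fun φ => skyFun y φ ⟨hU⟩
        map_zero' := rfl
        map_add' := fun _ _ => rfl })
    (fun _ _ _ _ _ _ => rfl)

lemma skyStalkAdd_gm (U : X.Opens) (hU : y ∈ U) (φ : (vP (sky y Q)).obj (op U)) :
    skyStalkAdd y Q (gm (vP (sky y Q)) U hU φ) = skyFun y φ ⟨hU⟩ :=
  descAdd_gm (vP (sky y Q)) Q _ _ U hU φ

lemma skyStalkAdd_smul (r : X.presheaf.stalk y) (a : St (vP (sky y Q)) y) :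
    skyStalkAdd y Q (r • a) = r • skyStalkAdd y Q a := by
  obtain ⟨N, hN, r', φ, -, rfl, rfl, -⟩ :=
    exists_common (vP (sky y Q)) (vP (sky y Q)) r a 0
  rw [← gm_smul, skyStalkAdd_gm, skyStalkAdd_gm, skyFun_smul]

/-- the stalk of the skyscraper at its point -/
def skyStalkLinearMap : St (vP (sky y Q)) y →ₗ[X.presheaf.stalk y] Q where
  toFun := skyStalkAdd y Q
  map_add' := map_add _
  map_smul' := skyStalkAdd_smul y Q

lemma skyStalkLinearMap_bijective : Function.Bijective (skyStalkLinearMap y Q) := by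
  constructor
  · rw [injective_iff_map_eq_zero]
    intro a ha
    obtain ⟨U, hU, φ, rfl⟩ := exists_gm_eq (vP (sky y Q)) a
    have ha' : skyFun y φ ⟨hU⟩ = 0 := (skyStalkAdd_gm y Q U hU φ).symm.trans ha
    have : φ = 0 := skyFun_ext y hU φ 0 ha'
    rw [this, gm_zero]
  · intro q
    refine ⟨gm (vP (sky y Q)) ⊤ trivial (ofSkyFun y (fun _ => q)), ?_⟩
    exact skyStalkAdd_gm y Q ⊤ trivial _

/-- `(sky_y Q)_y ≅ Q` -/
def skyStalkIso : (DerSch.stalkFunctor X y).obj ((skyF y).obj Q) ≅ Q :=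
  (LinearEquiv.ofBijective (skyStalkLinearMap y Q) (skyStalkLinearMap_bijective y Q)).toModuleIso

lemma skyStalkIso_hom_apply (a : St (vP (sky y Q)) y) :
    (skyStalkIso y Q).hom.hom a = skyStalkAdd y Q a := rfl

/-- the natural isomorphism `(sky_y -)_y ≅ id` -/
def skyStalkNatIso : skyF y ⋙ DerSch.stalkFunctor X y ≅ 𝟭 _ :=
  NatIso.ofComponents (fun Q => skyStalkIso y Q) (by
    intro Q Q' g
    ext a
    obtain ⟨U, hU, φ, rfl⟩ := exists_gm_eq (vP (sky y Q)) a
    change (skyStalkIso y Q').hom.hom (((DerSch.stalkFunctor X y).map (skyMap y g)).hom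
      (gm (vP (sky y Q)) U hU φ)) = g.hom ((skyStalkIso y Q).hom.hom (gm (vP (sky y Q)) U hU φ))
    rw [stalkFunctor_map_hom, stMapₗ_gm, skyStalkIso_hom_apply, skyStalkIso_hom_apply,
      skyStalkAdd_gm, skyStalkAdd_gm]
    rfl)

/-- the stalk complex of the skyscraper of a complex -/
def stalkCxSkyIso (M : CochainComplex (ModuleCat.{u} (X.presheaf.stalk y)) ℤ) :
    (stalkCx y).obj (((skyF y).mapHomologicalComplex (ComplexShape.up ℤ)).obj M) ≅ M :=
  HomologicalComplex.Hom.isoOfComponents (fun i => (skyStalkNatIso y).app (M.X i))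
    (fun i j _ => ((skyStalkNatIso y).hom.naturality (M.d i j)).symm)

/-- a K-flat complex of `O_X`-modules is stalkwise K-flat -/
theorem isKFlat_stalk_of_isKFlat (F : CochainComplex X.Modules ℤ) (hF : DCoh.IsKFlat F) :
    DRing.IsKFlat (X.presheaf.stalk y) ((stalkCx y).obj F) := by
  intro M hM i
  have hL := isZero_homology_skyCx y M hM
  have h1 := hF _ hL
  have h2 := isZero_homology_stalkCx y _ h1 i
  exact IsZero.of_iso h2 ((HomologicalComplex.homologyFunctor _ _ i).mapIso
    (whiskerRightIso (stalkCxSkyIso y M).symm _ ≪≫ (stalkTotIso y _ F).symm))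

/-- a complex of `O_X`-modules is K-flat iff it is stalkwise K-flat -/
theorem isKFlat_iff_forall_stalk (F : CochainComplex X.Modules ℤ) :
    DCoh.IsKFlat F ↔ ∀ x : X, DRing.IsKFlat (X.presheaf.stalk x) ((stalkCx x).obj F) :=
  ⟨fun h x => isKFlat_stalk_of_isKFlat x F h, isKFlat_of_forall_stalk F⟩

end

end Groth.Agent.Lib.Helper28.StalkTensor
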