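import Mathlib
import Groth.Agent.Lib.Helper28.StalkSky3

/-!
# The adjunction between the stalk functor and the skyscraper functor (helper28)
-/

set_option autoImplicit false

universe u

open CategoryTheory Limits AlgebraicGeometry TopologicalSpace Opposite

namespace Groth.Agent.Lib.Helper28.StalkTensor

noncomputable section

open Groth.Agent.Lib.Helper29.QCoh

variable {X : Scheme.{u}} (x : X)

/-- the morphism to a skyscraper attached to a morphism out of the stalk -/
def toSkyF (F : X.Modules) (Q : ModuleCat.{u} (X.presheaf.stalk x))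
    (g : (DerSch.stalkFunctor X x).obj F ⟶ Q) : F ⟶ (skyF x).obj Q :=
  toSky x F g.hom

lemma toSkyF_app (F : X.Modules) (Q : ModuleCat.{u} (X.presheaf.stalk x))
    (g : (DerSch.stalkFunctor X x).obj F ⟶ Q) (V : X.Opens) (m : Γ(F, V)) (h : PLift (x ∈ V)) :
    skySec x ((toSkyF x F Q g).app V m) h = g.hom (gm (vP F) V h.down m) := rfl

/-- the morphism out of the stalk attached to a morphism to a skyscraper -/
def ofSkyF (F : X.Modules) (Q : ModuleCat.{u} (X.presheaf.stalk x))
    (φ : F ⟶ (skyF x).obj Q) : (DerSch.stalkFunctor X x).obj F ⟶ Q :=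
  (DerSch.stalkFunctor X x).map φ ≫ (skyStalkIso x Q).hom

lemma ofSkyF_gm (F : X.Modules) (Q : ModuleCat.{u} (X.presheaf.stalk x))
    (φ : F ⟶ (skyF x).obj Q) (V : X.Opens) (hV : x ∈ V) (m : Γ(F, V)) :
    (ofSkyF x F Q φ).hom (gm (vP F) V hV m) = skySec x (φ.app V m) ⟨hV⟩ := by
  change (skyStalkIso x Q).hom.hom (((DerSch.stalkFunctor X x).map φ).hom (gm (vP F) V hV m)) = _
  rw [stalkFunctor_map_hom, stMapₗ_gm, skyStalkIso_hom_apply]
  exact skyStalkAdd_gm x Q V hV _

/-- the hom-equivalence of the adjunction stalk ⊣ skyscraper -/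
def stalkSkyHomEquiv (F : X.Modules) (Q : ModuleCat.{u} (X.presheaf.stalk x)) :
    ((DerSch.stalkFunctor X x).obj F ⟶ Q) ≃ (F ⟶ (skyF x).obj Q) where
  toFun g := toSkyF x F Q g
  invFun φ := ofSkyF x F Q φ
  left_inv g := by
    ext a
    obtain ⟨U, hU, s, rfl⟩ := exists_gm_eq (vP F) a
    rw [ofSkyF_gm, toSkyF_app]
  right_inv φ := by
    apply Scheme.Modules.hom_ext
    intro V
    ext m
    change skySec x ((toSkyF x F Q (ofSkyF x F Q φ)).app V m) = skySec x (φ.app V m)
    funext h
    rw [toSkyF_app, ofSkyF_gm]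

/-- the adjunction between the stalk functor and the skyscraper functor -/
def stalkSkyAdj : DerSch.stalkFunctor X x ⊣ skyF x :=
  Adjunction.mkOfHomEquiv
    { homEquiv := fun F Q => stalkSkyHomEquiv x F Q
      homEquiv_naturality_left_symm := by
        intro F' F Q f φ
        change ofSkyF x F' Q (f ≫ φ) = (DerSch.stalkFunctor X x).map f ≫ ofSkyF x F Q φ
        unfold ofSkyF
        rw [Functor.map_comp, Category.assoc]
      homEquiv_naturality_right := by
        intro F Q Q' g k
        change toSkyF x F Q' (g ≫ k) = toSkyF x F Q g ≫ (skyF x).map k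
        apply Scheme.Modules.hom_ext
        intro V
        ext m
        rfl }

end

end Groth.Agent.Lib.Helper28.StalkTensor
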