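import Mathlib
import Groth.Agent.Lib.Helper28.StalkAdj1
import Groth.Agent.Lib.Helper29.QCohPush

/-!
# The pushforward of a skyscraper; the stalk of a pullback (helper28)
-/

set_option autoImplicit false

universe u

open CategoryTheory Limits AlgebraicGeometry TopologicalSpace Opposite

namespace Groth.Agent.Lib.Helper28.StalkTensor

noncomputable section

open Groth.Agent.Lib.Helper29.QCoh

variable {X Y : Scheme.{u}} (f : X ⟶ Y) (x : X)

/-- restriction of scalars along the stalk map -/
abbrev rsStalk : ModuleCat.{u} (X.presheaf.stalk x) ⥤ ModuleCat.{u} (Y.presheaf.stalk (f.base x)) :=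
  ModuleCat.restrictScalars (f.stalkMap x).hom

/-- extension of scalars along the stalk map -/
abbrev esStalk : ModuleCat.{u} (Y.presheaf.stalk (f.base x)) ⥤ ModuleCat.{u} (X.presheaf.stalk x) :=
  ModuleCat.extendScalars (f.stalkMap x).hom

/-- sections of the pushforward of a skyscraper, as functions -/
def pushSkySec {M : ModuleCat.{u} (X.presheaf.stalk x)} {V : Y.Opens}
    (φ : Γ((Scheme.Modules.pushforward f).obj ((skyF x).obj M), V)) :
    PLift (f.base x ∈ V) → M := fun h => skySec x (V := f ⁻¹ᵁ V) φ ⟨h.down⟩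

/-- sections of the skyscraper of the restriction of scalars, as functions -/
def skyRsSec {M : ModuleCat.{u} (X.presheaf.stalk x)} {V : Y.Opens}
    (φ : Γ((skyF (f.base x)).obj ((rsStalk f x).obj M), V)) :
    PLift (f.base x ∈ V) → M := φ

lemma stalkMap_germ_smul {M : ModuleCat.{u} (X.presheaf.stalk x)} (V : Y.Opens)
    (h : f.base x ∈ V) (r : Γ(Y, V)) (m : M) :
    (X.presheaf.germ (f ⁻¹ᵁ V) x h (f.app V r)) • m =
      (f.stalkMap x).hom (Y.presheaf.germ V (f.base x) h r) • m := by
  congr 1
  exact (Scheme.Hom.germ_stalkMap_apply f V x h r).symm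

/-- the comparison between the pushforward of a skyscraper and the skyscraper of the restriction
of scalars -/
def pushSkyHom (M : ModuleCat.{u} (X.presheaf.stalk x)) :
    (Scheme.Modules.pushforward f).obj ((skyF x).obj M) ⟶
      (skyF (f.base x)).obj ((rsStalk f x).obj M) :=
  homOfApp (M := (Scheme.Modules.pushforward f).obj ((skyF x).obj M))
    (N := (skyF (f.base x)).obj ((rsStalk f x).obj M))
    (fun V => (show Γ((Scheme.Modules.pushforward f).obj ((skyF x).obj M), V) →+
        (PLift (f.base x ∈ V) → M) from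
      { toFun := fun φ => pushSkySec f x φ
        map_zero' := rfl
        map_add' := fun _ _ => rfl }))
    (fun V r φ => by
      funext h
      exact stalkMap_germ_smul f x V h.down r _)
    (fun _ _ => rfl)

/-- the inverse comparison -/
def pushSkyInv (M : ModuleCat.{u} (X.presheaf.stalk x)) :
    (skyF (f.base x)).obj ((rsStalk f x).obj M) ⟶
      (Scheme.Modules.pushforward f).obj ((skyF x).obj M) :=
  homOfApp (M := (skyF (f.base x)).obj ((rsStalk f x).obj M))
    (N := (Scheme.Modules.pushforward f).obj ((skyF x).obj M))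
    (fun V => (show (PLift (f.base x ∈ V) → M) →+
        (PLift (x ∈ f ⁻¹ᵁ V) → M) from
      { toFun := fun φ h => φ ⟨h.down⟩
        map_zero' := rfl
        map_add' := fun _ _ => rfl }))
    (fun V r φ => by
      funext h
      exact (stalkMap_germ_smul f x V h.down r _).symm)
    (fun _ _ => rfl)

/-- the pushforward of a skyscraper is the skyscraper of the restriction of scalars -/
def pushSkyIso (M : ModuleCat.{u} (X.presheaf.stalk x)) :
    (Scheme.Modules.pushforward f).obj ((skyF x).obj M) ≅
      (skyF (f.base x)).obj ((rsStalk f x).obj M) where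
  hom := pushSkyHom f x M
  inv := pushSkyInv f x M
  hom_inv_id := by
    apply Scheme.Modules.hom_ext
    intro V
    ext φ
    rfl
  inv_hom_id := by
    apply Scheme.Modules.hom_ext
    intro V
    ext φ
    rfl

/-- naturality of `pushSkyIso` -/
def pushSkyNatIso :
    skyF x ⋙ Scheme.Modules.pushforward f ≅ rsStalk f x ⋙ skyF (f.base x) :=
  NatIso.ofComponents (fun M => pushSkyIso f x M) (by
    intro M M' g
    apply Scheme.Modules.hom_ext
    intro V
    ext φ
    rfl)

/-- the adjunction `(f^* -)_x ⊣ f_* sky_x` -/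
def pullStalkAdj : Scheme.Modules.pullback f ⋙ DerSch.stalkFunctor X x ⊣
    skyF x ⋙ Scheme.Modules.pushforward f :=
  (Scheme.Modules.pullbackPushforwardAdjunction f).comp (stalkSkyAdj x)

/-- the adjunction `(-)_{f x} ⊗ O_{X,x} ⊣ sky_{f x} ∘ res` -/
def stalkExtAdj : DerSch.stalkFunctor Y (f.base x) ⋙ esStalk f x ⊣
    rsStalk f x ⋙ skyF (f.base x) :=
  (stalkSkyAdj (f.base x)).comp (ModuleCat.extendRestrictScalarsAdj (f.stalkMap x).hom)

/-- **The stalk of a pullback**: `(f^* F)_x ≅ F_{f x} ⊗_{O_{Y, f x}} O_{X,x}`, naturally in `F`. -/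
def pullStalkNatIso : Scheme.Modules.pullback f ⋙ DerSch.stalkFunctor X x ≅
    DerSch.stalkFunctor Y (f.base x) ⋙ esStalk f x :=
  ((pullStalkAdj f x).ofNatIsoRight (pushSkyNatIso f x)).leftAdjointUniq (stalkExtAdj f x)

end

end Groth.Agent.Lib.Helper28.StalkTensor
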