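import Mathlib
import Groth.Agent.Lib.Helper28.DCohStalk2
import Groth.Agent.S6944

/-!
# Stalkwise tor amplitude implies flat amplitude
-/

set_option autoImplicit false

universe u

open CategoryTheory Limits AlgebraicGeometry TopologicalSpace

namespace Groth.Agent.Lib.Helper28.DCohStalk

noncomputable section

attribute [local instance] HasDerivedCategory.standard

open Groth.Agent.Lib.Helper29.QCoh Groth.Agent.Lib.Helper28.DCohRes

open ZeroObject

variable {X : Scheme.{u}}

/-- transport of the derived stalk along an isomorphism in `D(O_X)` -/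
def stalkCxIsoOfIso (x : X) {G F : CochainComplex X.Modules ℤ}
    (e : DerivedCategory.Q.obj G ≅ DerivedCategory.Q.obj F) :
    DerivedCategory.Q.obj ((DerSch.stalkCxOver (𝟙 X) x).obj G) ≅
      DerivedCategory.Q.obj ((DerSch.stalkCxOver (𝟙 X) x).obj F) :=
  ((stalkDQ (𝟙 X) x).app G).symm ≪≫ (stalkD (𝟙 X) x).mapIso e ≪≫ (stalkDQ (𝟙 X) x).app F

/-- stalkwise tor amplitude forces exactness outside the interval -/
lemma exactAt_of_hasTorAmplitude {F G : CochainComplex X.Modules ℤ} {a b : ℤ}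
    (h : DerSch.HasTorAmplitude (𝟙 X) a b F)
    (eG : DerivedCategory.Q.obj G ≅ DerivedCategory.Q.obj F) (i : ℤ) (hi : i < a ∨ b < i) :
    G.ExactAt i := by
  rw [HomologicalComplex.exactAt_iff_isZero_homology]
  refine isZero_of_forall_isZero_stalkOver (𝟙 X) _ fun x => ?_
  obtain ⟨E, hv, hfl, ⟨eE⟩⟩ := h x
  have hz : IsZero (E.homology i) :=
    IsZero.of_mono (E.homologyι i) (IsZero.of_epi (E.pOpcycles i) (hv i hi))
  refine hz.of_iso ((stalkHomologyIso (𝟙 X) x G i).symm ≪≫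
    ((DerivedCategory.homologyFunctorFactors _ i).app _).symm ≪≫
    (DerivedCategory.homologyFunctor _ i).mapIso (stalkCxIsoOfIso x eG ≪≫ eE.symm) ≪≫
    (DerivedCategory.homologyFunctorFactors _ i).app E)

/-- stalkwise flatness of the cokernel -/
lemma isFlat_cokernel_d_of_hasTorAmplitude {F Q : CochainComplex X.Modules ℤ} {a b : ℤ}
    (h : DerSch.HasTorAmplitude (𝟙 X) a b F)
    (eQ : DerivedCategory.Q.obj Q ≅ DerivedCategory.Q.obj F)
    (hQf : ∀ i, FlatMod.IsFlat (Q.X i)) (n : ℤ) (hQb : ∀ i, n < i → IsZero (Q.X i)) :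
    FlatMod.IsFlat (cokernel (Q.d (a - 1) a)) := by
  intro x
  rw [isFlatAt_iff_stalkOver_id]
  obtain ⟨E, hv, hfl, ⟨eE⟩⟩ := h x
  let K := (DerSch.stalkCxOver (𝟙 X) x).obj Q
  have hK : Module.Flat (X.presheaf.stalk ((𝟙 X : X ⟶ X).base x))
      ((K.X a) ⧸ LinearMap.range (K.d (a - 1) a).hom) := by
    refine Groth.Agent.S6944.result _ K n (fun i hi => ?_) (fun i => ?_) a b
      ⟨E, hv, hfl, ⟨eE ≪≫ (stalkCxIsoOfIso x eQ).symm⟩⟩
    · exact (DerSch.stalkOver (𝟙 X) x).map_isZero (hQb i hi)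
    · exact (isFlatAt_iff_stalkOver_id (Q.X i) x).1 (hQf i x)
  let e1 : (DerSch.stalkOver (𝟙 X) x).obj (cokernel (Q.d (a - 1) a)) ≅
      cokernel ((DerSch.stalkOver (𝟙 X) x).map (Q.d (a - 1) a)) :=
    PreservesCokernel.iso _ _
  let e2 := ModuleCat.cokernelIsoRangeQuotient ((DerSch.stalkOver (𝟙 X) x).map (Q.d (a - 1) a))
  haveI : Module.Flat (X.presheaf.stalk ((𝟙 X : X ⟶ X).base x))
      (ModuleCat.of (X.presheaf.stalk ((𝟙 X : X ⟶ X).base x))
        (((DerSch.stalkOver (𝟙 X) x).obj (Q.X a)) ⧸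
          LinearMap.range ((DerSch.stalkOver (𝟙 X) x).map (Q.d (a - 1) a)).hom)) := hK
  exact Module.Flat.of_linearEquiv (e1 ≪≫ e2).toLinearEquiv

/-- **(⇐)** stalkwise tor amplitude implies flat amplitude -/
theorem hasFlatAmplitudeIn_of_hasTorAmplitude (F : CochainComplex X.Modules ℤ) (a b : ℤ)
    (h : DerSch.HasTorAmplitude (𝟙 X) a b F) : DCoh.HasFlatAmplitudeIn a b (DCoh.toD X F) := by
  by_cases hab : a ≤ b
  · have hLE : F.IsLE b := by
      rw [CochainComplex.isLE_iff]
      intro i hi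
      exact exactAt_of_hasTorAmplitude h (Iso.refl _) i (Or.inr hi)
    obtain ⟨Q0, β0, hQb, hQfl, hβ0⟩ :=
      Groth.Agent.Lib.Helper28.KFlatSite.exists_flat_resolution_of_isLE (O := X.sheaf) F b hLE
    let Q : CochainComplex X.Modules ℤ := Q0
    let β : Q ⟶ F := β0
    have hβ : QuasiIso β := hβ0
    have hi2 : IsIso (DerivedCategory.Q.map β) := by
      rw [DerivedCategory.isIso_Q_map_iff_quasiIso]
      exact hβ
    have eQ : DerivedCategory.Q.obj Q ≅ DerivedCategory.Q.obj F :=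
      @asIso _ _ _ _ (DerivedCategory.Q.map β) hi2
    have hQge : Q.IsGE a := by
      rw [CochainComplex.isGE_iff]
      intro i hi
      exact exactAt_of_hasTorAmplitude h eQ i (Or.inl hi)
    have hQf : ∀ i, FlatMod.IsFlat (Q.X i) := fun i =>
      (Groth.Agent.Lib.Helper17.FlatBridge.isFlat_iff _).2 (hQfl i)
    have hQb' : ∀ i, b < i → IsZero (Q.X i) := fun i hi =>
      CochainComplex.isZero_of_isStrictlyLE Q0 b i hi
    have hc0 := isFlat_cokernel_d_of_hasTorAmplitude h eQ hQf b hQb'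
    have hc : ModSite.IsFlat (O := X.sheaf) (Limits.cokernel (Q0.d (a - 1) a)) :=
      (Groth.Agent.Lib.Helper17.FlatBridge.isFlat_iff _).1 hc0
    obtain ⟨hv, hfl⟩ :=
      Groth.Agent.Lib.Helper28.KFlatSite.truncGE_flat (O := X.sheaf) Q0 a b hab hQb hQfl hc
    have hi3 : IsIso (DerivedCategory.Q.map (Q.πTruncGE a)) := by
      rw [DerivedCategory.isIso_Q_map_iff_quasiIso]
      infer_instance
    exact ⟨Q.truncGE a, hv,
      fun i => (Groth.Agent.Lib.Helper17.FlatBridge.isFlat_iff _).2 (hfl i),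
      ⟨(@asIso _ _ _ _ (DerivedCategory.Q.map (Q.πTruncGE a)) hi3).symm ≪≫ eQ⟩⟩
  · have zero : ∀ i, IsZero ((0 : CochainComplex X.Modules ℤ).X i) := fun i =>
      (HomologicalComplex.eval _ _ i).map_isZero (isZero_zero _)
    have hq : QuasiIso (0 : (0 : CochainComplex X.Modules ℤ) ⟶ F) := by
      rw [quasiIso_iff]
      intro i
      rw [quasiIsoAt_iff_isIso_homologyMap]
      have h1 : IsZero ((0 : CochainComplex X.Modules ℤ).homology i) :=
        IsZero.of_mono (HomologicalComplex.homologyι _ i)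
          (IsZero.of_epi (HomologicalComplex.pOpcycles _ i) (zero i))
      have h2 : IsZero (F.homology i) :=
        (HomologicalComplex.exactAt_iff_isZero_homology _ _).1
          (exactAt_of_hasTorAmplitude h (Iso.refl _) i (by omega))
      exact ⟨⟨0, h1.eq_of_src _ _, h2.eq_of_src _ _⟩⟩
    have hi : IsIso (DerivedCategory.Q.map (0 : (0 : CochainComplex X.Modules ℤ) ⟶ F)) := by
      rw [DerivedCategory.isIso_Q_map_iff_quasiIso]
      exact hq
    exact ⟨0, fun i _ => zero i, fun i => isFlat_of_isZero (zero i),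
      ⟨@asIso _ _ _ _ (DerivedCategory.Q.map (0 : (0 : CochainComplex X.Modules ℤ) ⟶ F)) hi⟩⟩

end

end Groth.Agent.Lib.Helper28.DCohStalk
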