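import Mathlib
import Groth.Agent.Lib.Helper28.DCohStalk3

/-!
# Flatness at a point: permanence properties
-/

set_option autoImplicit false

universe u

open CategoryTheory Limits AlgebraicGeometry TopologicalSpace

namespace Groth.Agent.Lib.Helper28.DCohStalk

noncomputable section

open Groth.Agent.Lib.Helper29.QCoh Groth.Agent.Lib.Helper28.DCohRes

variable {X : Scheme.{u}}

lemma isFlatAt_of_iso {M N : X.Modules} (e : M ≅ N) {x : X} (h : FlatMod.IsFlatAt M x) :
    FlatMod.IsFlatAt N x := by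
  haveI : Module.Flat (X.presheaf.stalk x) (M.presheaf.stalk x) := h
  exact Module.Flat.of_linearEquiv (stalkLinearEquiv e x).symm

lemma isFlatAt_of_isZero {M : X.Modules} (h : IsZero M) (x : X) : FlatMod.IsFlatAt M x :=
  isFlat_of_isZero h x

lemma isFlatAt_of_retract {K M : X.Modules} (i : K ⟶ M) (r : M ⟶ K) (h : i ≫ r = 𝟙 K) {x : X}
    (hM : FlatMod.IsFlatAt M x) : FlatMod.IsFlatAt K x := by
  haveI : Module.Flat (X.presheaf.stalk x) (M.presheaf.stalk x) := hM
  refine Module.Flat.of_retract (stalkMapₗ i x) (stalkMapₗ r x) ?_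
  rw [← stalkMapₗ_comp, h, stalkMapₗ_id]

lemma isFlatAt_biprod {M N : X.Modules} {x : X} (hM : FlatMod.IsFlatAt M x)
    (hN : FlatMod.IsFlatAt N x) : FlatMod.IsFlatAt (M ⊞ N) x := by
  haveI : Module.Flat (X.presheaf.stalk x) (M.presheaf.stalk x) := hM
  haveI : Module.Flat (X.presheaf.stalk x) (N.presheaf.stalk x) := hN
  haveI := Groth.Agent.Lib.Helper22.flat_prod (X.presheaf.stalk x) (M.presheaf.stalk x)
    (N.presheaf.stalk x)
  let i : (M ⊞ N).presheaf.stalk x →ₗ[X.presheaf.stalk x]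
      (M.presheaf.stalk x × N.presheaf.stalk x) :=
    (stalkMapₗ (biprod.fst : M ⊞ N ⟶ M) x).prod (stalkMapₗ (biprod.snd : M ⊞ N ⟶ N) x)
  let r : (M.presheaf.stalk x × N.presheaf.stalk x) →ₗ[X.presheaf.stalk x]
      (M ⊞ N).presheaf.stalk x :=
    (stalkMapₗ (biprod.inl : M ⟶ M ⊞ N) x).coprod (stalkMapₗ (biprod.inr : N ⟶ M ⊞ N) x)
  refine Module.Flat.of_retract i r ?_
  have h1 : r.comp i = (stalkMapₗ (biprod.inl : M ⟶ M ⊞ N) x).comp
      (stalkMapₗ (biprod.fst : M ⊞ N ⟶ M) x) + (stalkMapₗ (biprod.inr : N ⟶ M ⊞ N) x).comp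
      (stalkMapₗ (biprod.snd : M ⊞ N ⟶ N) x) := by
    ext t
    simp [i, r]
  rw [h1, ← stalkMapₗ_comp, ← stalkMapₗ_comp, ← stalkMapₗ_add, biprod.total, stalkMapₗ_id]

lemma isFlatAt_restrict_iff {Y : Scheme.{u}} (f : Y ⟶ X) [IsOpenImmersion f] (M : X.Modules)
    (y : Y) : FlatMod.IsFlatAt (M.restrict f) y ↔ FlatMod.IsFlatAt M (f y) := by
  let e : X.presheaf.stalk (f y) ≃+* Y.presheaf.stalk y :=
    (asIso (f.stalkMap y)).commRingCatIsoToRingEquiv
  letI : RingHomInvPair (e : X.presheaf.stalk (f y) →+* Y.presheaf.stalk y)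
    (e.symm : Y.presheaf.stalk y →+* X.presheaf.stalk (f y)) := RingHomInvPair.of_ringEquiv e
  letI : RingHomInvPair (e.symm : Y.presheaf.stalk y →+* X.presheaf.stalk (f y))
    (e : X.presheaf.stalk (f y) →+* Y.presheaf.stalk y) := RingHomInvPair.of_ringEquiv e.symm
  constructor
  · intro h
    haveI : Module.Flat (Y.presheaf.stalk y) ((M.restrict f).presheaf.stalk y) := h
    exact flat_of_semilinearEquiv (restrictStalkSemilinearEquiv f M y).symm
  · intro h
    haveI : Module.Flat (X.presheaf.stalk (f y)) (M.presheaf.stalk (f y)) := h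
    exact flat_of_semilinearEquiv (restrictStalkSemilinearEquiv f M y)

/-- in a short exact sequence with middle and right terms flat at `x`, the left term is flat at
`x` -/
theorem isFlatAt_of_shortExact (S : ShortComplex X.Modules) (hS : S.ShortExact) {x : X}
    (h2 : FlatMod.IsFlatAt S.X₂ x) (h3 : FlatMod.IsFlatAt S.X₃ x) : FlatMod.IsFlatAt S.X₁ x := by
  have := hS.mono_f
  have := hS.epi_g
  have hinj : Function.Injective (stalkMapₗ S.f x) :=
    (mono_iff_stalkMap_injective S.f).mp inferInstance x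
  have hsurj : Function.Surjective (stalkMapₗ S.g x) :=
    (epi_iff_stalkMap_surjective S.g).mp inferInstance x
  have hex : Function.Exact (stalkMapₗ S.f x) (stalkMapₗ S.g x) :=
    (exact_iff_stalk_function_exact S).mp hS.exact x
  haveI : Module.Flat (X.presheaf.stalk x) (S.X₂.presheaf.stalk x) := h2
  haveI : Module.Flat (X.presheaf.stalk x) (S.X₃.presheaf.stalk x) := h3
  exact Groth.Agent.Lib.Helper22.flat_of_exact_of_flat (stalkMapₗ S.f x) (stalkMapₗ S.g x)
    hinj hsurj hex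

theorem isFlatAt_kernel_of_epi {P Q : X.Modules} (f : P ⟶ Q) [Epi f] {x : X}
    (hP : FlatMod.IsFlatAt P x) (hQ : FlatMod.IsFlatAt Q x) : FlatMod.IsFlatAt (kernel f) x := by
  refine isFlatAt_of_shortExact (ShortComplex.mk (kernel.ι f) f (kernel.condition f)) ?_ hP hQ
  exact { exact := ShortComplex.exact_of_f_is_kernel _ (kernelIsKernel f)
          mono_f := inferInstanceAs (Mono (kernel.ι f))
          epi_g := inferInstanceAs (Epi f) }

theorem isFlatAt_kernel_d {E : CochainComplex X.Modules ℤ} (m b : ℤ) {x : X}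
    (hE : ∀ i, m ≤ i → FlatMod.IsFlatAt (E.X i) x) (hEb : ∀ i, b < i → IsZero (E.X i))
    (hex : ∀ i, m < i → E.ExactAt i) (i : ℤ) (hi : m ≤ i) :
    FlatMod.IsFlatAt (kernel (E.d i (i + 1))) x := by
  have key : ∀ (k : ℕ) (i : ℤ), m ≤ i → b + 1 ≤ i + k →
      FlatMod.IsFlatAt (kernel (E.d i (i + 1))) x := by
    intro k
    induction k with
    | zero =>
      intro i _ hib
      exact isFlatAt_of_isZero
        (IsZero.of_mono (kernel.ι _) (hEb i (by push_cast at hib; omega))) x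
    | succ k ih =>
      intro i him hib
      have hZ := ih (i + 1) (by omega) (by push_cast at hib ⊢; omega)
      have hexact : (E.sc' i (i + 1) (i + 1 + 1)).Exact :=
        (E.exactAt_iff' i (i + 1) (i + 1 + 1) (by simp) (by simp)).1 (hex (i + 1) (by omega))
      have hepi : Epi (kernel.lift (E.d (i + 1) (i + 1 + 1)) (E.d i (i + 1)) (E.d_comp_d _ _ _)) :=
        hexact.epi_kernelLift
      have hk := isFlatAt_kernel_of_epi
        (kernel.lift (E.d (i + 1) (i + 1 + 1)) (E.d i (i + 1)) (E.d_comp_d _ _ _)) (hE i him) hZ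
      have e : kernel (kernel.lift (E.d (i + 1) (i + 1 + 1)) (E.d i (i + 1)) (E.d_comp_d _ _ _)) ≅
          kernel (E.d i (i + 1)) :=
        (kernelCompMono _ (kernel.ι (E.d (i + 1) (i + 1 + 1)))).symm ≪≫
          kernel.mapIso _ _ (Iso.refl _) (Iso.refl _) (by simp)
      exact isFlatAt_of_iso e hk
  obtain ⟨k, hk⟩ : ∃ k : ℕ, b + 1 ≤ i + k := ⟨(b + 1 - i).toNat, by omega⟩
  exact key k i hi hk

/-- **Flatness of the bottom term at a point.** -/
theorem isFlatAt_X_of_exact {E : CochainComplex X.Modules ℤ} (n b : ℤ) {x : X}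
    (hE : ∀ i, n < i → FlatMod.IsFlatAt (E.X i) x) (hEb : ∀ i, b < i → IsZero (E.X i))
    (hz : IsZero (E.X (n - 1))) (hex : ∀ i, n ≤ i → E.ExactAt i) :
    FlatMod.IsFlatAt (E.X n) x := by
  have hZ := isFlatAt_kernel_d (n + 1) b (fun i hi => hE i (by omega)) hEb
    (fun i hi => hex i (by omega)) (n + 1) le_rfl
  have hexact : (E.sc' n (n + 1) (n + 1 + 1)).Exact :=
    (E.exactAt_iff' n (n + 1) (n + 1 + 1) (by simp) (by simp)).1 (hex (n + 1) (by omega))
  have hepi : Epi (kernel.lift (E.d (n + 1) (n + 1 + 1)) (E.d n (n + 1)) (E.d_comp_d _ _ _)) :=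
    hexact.epi_kernelLift
  have hexact' : (E.sc' (n - 1) n (n + 1)).Exact :=
    (E.exactAt_iff' (n - 1) n (n + 1) (by simp) (by simp)).1 (hex n le_rfl)
  have hmono : Mono (E.d n (n + 1)) := by
    have h0 : (E.sc' (n - 1) n (n + 1)).f = 0 := hz.eq_of_src _ _
    exact (ShortComplex.exact_iff_mono _ h0).1 hexact'
  have hmono' : Mono (kernel.lift (E.d (n + 1) (n + 1 + 1)) (E.d n (n + 1))
      (E.d_comp_d _ _ _)) := by
    apply mono_of_mono_fac (kernel.lift_ι _ _ _)
  haveI : IsIso (kernel.lift (E.d (n + 1) (n + 1 + 1)) (E.d n (n + 1)) (E.d_comp_d _ _ _)) :=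
    isIso_of_mono_of_epi _
  exact isFlatAt_of_iso (asIso (kernel.lift (E.d (n + 1) (n + 1 + 1)) (E.d n (n + 1))
    (E.d_comp_d _ _ _))).symm hZ

attribute [local instance] HasDerivedCategory.standard

/-- **Pointwise Part A.** Let `ψ : P ⟶ G` be a chain map from a strictly perfect complex to a
bounded above complex whose terms, as well as the cokernel of `G^{m-1} ⟶ G^m`, are flat at `y`,
which is a quasi-isomorphism in degrees `≥ m`. Then the bottom term of `τ_{≥ m} P` is flat at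
`y`. -/
theorem isFlatAt_truncGE_X {P G : CochainComplex X.Modules ℤ} (m b : ℤ) (y : X)
    (hP : DCoh.IsStrictlyPerfect P) (hGf : ∀ i, FlatMod.IsFlatAt (G.X i) y)
    (hGb : ∀ i, b < i → IsZero (G.X i))
    (hGc : FlatMod.IsFlatAt (cokernel (G.d (m - 1) m)) y) (ψ : P ⟶ G)
    (hψ : IsApprox (m - 1) (DerivedCategory.Q.map ψ)) :
    FlatMod.IsFlatAt ((P.truncGE m).X m) y := by
  obtain ⟨⟨a₁, b₁, hab₁⟩, hfree⟩ := hP
  let P' := P.truncGE m
  let G' := G.truncGE m
  let ψ' : P' ⟶ G' := CochainComplex.truncGEMap ψ m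
  have hq : QuasiIso ψ' := by
    rw [CochainComplex.quasiIso_truncGEMap_iff]
    intro i hi
    rw [quasiIsoAt_iff_isIso_homologyMap]
    exact ((isApprox_Q_map_iff ψ (m - 1)).1 hψ).1 i (by omega)
  have hac := (Groth.Agent.Lib.Helper28.KFlatAbs.quasiIso_iff_acyclic_mappingCone ψ').1 hq
  have hP'lt : ∀ i, i < m → IsZero (P'.X i) := fun i hi =>
    CochainComplex.isZero_of_isStrictlyGE P' m i hi
  have hG'lt : ∀ i, i < m → IsZero (G'.X i) := fun i hi =>
    CochainComplex.isZero_of_isStrictlyGE G' m i hi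
  have hP'gt : ∀ i, m < i → FlatMod.IsFlatAt (P'.X i) y := fun i hi =>
    isFlatAt_of_iso (P.truncGEXIso m i hi).symm (isFlat_of_isFinLocFree (hfree i) y)
  have hP'gt0 : ∀ i, m < i → b₁ < i → IsZero (P'.X i) := fun i hi hi' =>
    IsZero.of_iso (hab₁ i (Or.inr hi')) (P.truncGEXIso m i hi)
  have hG'ge : ∀ i, m ≤ i → FlatMod.IsFlatAt (G'.X i) y := by
    intro i hi
    rcases eq_or_lt_of_le hi with rfl | hi'
    · exact isFlatAt_of_iso ((opcyclesIsoCokernel G (m - 1) m (by omega)) ≪≫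
        (G.truncGEXIsoOpcycles m).symm) hGc
    · exact isFlatAt_of_iso (G.truncGEXIso m i hi').symm (hGf i)
  have hG'gt0 : ∀ i, m < i → b < i → IsZero (G'.X i) := fun i hi hi' =>
    IsZero.of_iso (hGb i hi') (G.truncGEXIso m i hi)
  have key : ∀ i j : ℤ, i + 1 = j → ((CochainComplex.mappingCone ψ').X i ≅ P'.X j ⊞ G'.X i) :=
    fun i j hij => HomologicalComplex.homotopyCofiber.XIsoBiprod ψ' i j hij
  have h1 : FlatMod.IsFlatAt ((CochainComplex.mappingCone ψ').X (m - 1)) y := by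
    refine isFlatAt_X_of_exact (m - 1) (max (max b₁ m) b) (fun i hi => ?_) (fun i hi => ?_) ?_
      (fun i _ => hac i)
    · exact isFlatAt_of_iso (key i (i + 1) rfl).symm
        (isFlatAt_biprod (hP'gt (i + 1) (by omega)) (hG'ge i (by omega)))
    · refine IsZero.of_iso ?_ (key i (i + 1) rfl)
      rw [biprod_isZero_iff]
      have h1 := le_max_left (max b₁ m) b
      have h2 := le_max_right (max b₁ m) b
      have h3 := le_max_left b₁ m
      have h4 := le_max_right b₁ m
      exact ⟨hP'gt0 (i + 1) (by omega) (by omega), hG'gt0 i (by omega) (by omega)⟩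
    · refine IsZero.of_iso ?_ (key (m - 1 - 1) (m - 1) (by omega))
      rw [biprod_isZero_iff]
      exact ⟨hP'lt (m - 1) (by omega), hG'lt (m - 1 - 1) (by omega)⟩
  have h2 := isFlatAt_of_iso (key (m - 1) m (by omega)) h1
  exact isFlatAt_of_retract biprod.inl biprod.fst biprod.inl_fst h2

end

end Groth.Agent.Lib.Helper28.DCohStalk
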