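import Mathlib
import Groth.Agent.Lib.Helper28.DCohStalk4
import Groth.Agent.S5612

/-!
# Pseudo-coherent objects with finite tor dimension at the stalks are perfect
-/

set_option autoImplicit false

universe u

open CategoryTheory Limits AlgebraicGeometry TopologicalSpace

namespace Groth.Agent.Lib.Helper28.DCohStalk

noncomputable section

attribute [local instance] HasDerivedCategory.standard

open Groth.Agent.Lib.Helper29.QCoh Groth.Agent.Lib.Helper28.DCohRes

variable {X : Scheme.{u}}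

/-- a finitely presented module which is flat at `x` is finite locally free near `x` -/
lemma lfAt_of_isFlatAt {N : X.Modules} [N.IsFinitePresentation] {x : X}
    (h : FlatMod.IsFlatAt N x) : LFAt N x := by
  refine lfAt_of_isFinitePresentation ?_
  have : Module.Flat (X.presheaf.stalk x) (N.presheaf.stalk x) := h
  have := finitePresentation_stalk N x
  exact ⟨Module.free_of_flat_of_isLocalRing, inferInstance⟩

/-- **Spreading out.** Let `Q` be a bounded above complex of flat modules, exact in degrees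
`≤ m`, whose image in `D(O_X)` is `(m-1)`-pseudo-coherent, and suppose that the cokernel of
`Q^{m-1} ⟶ Q^m` is flat at `x`. Then `Q` is perfect near `x`. -/
theorem perfAlong_of_isFlatAt {K : DCoh.D X} (Q : CochainComplex X.Modules ℤ)
    (eQ : DerivedCategory.Q.obj Q ≅ K) (hQf : ∀ i, FlatMod.IsFlat (Q.X i)) (d : ℤ)
    (hQb : ∀ i, d < i → IsZero (Q.X i)) (m : ℤ) (hm : ∀ i, i < m → Q.ExactAt i) (x : X)
    (hx : FlatMod.IsFlatAt (cokernel (Q.d (m - 1) m)) x)
    (hpc : DCoh.IsPseudoCoherentD (m - 1) K) :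
    ∃ (U : Scheme.{u}) (j : U ⟶ X) (_ : IsOpenImmersion j), x ∈ Set.range j.base ∧
      PerfAlong K j := by
  obtain ⟨U, j, hj, ⟨y, rfl⟩, P, α, hP, hα⟩ := (isPseudoCoherentD_iff (m - 1) K).1 hpc x
  let ι : (resD j).obj K ≅ DerivedCategory.Q.obj ((resCx j).obj Q) :=
    (resD j).mapIso eQ.symm ≪≫ (resDQ j).app Q
  have hα' : IsApprox (m - 1) (α ≫ ι.hom) := hα.comp_iso ι
  obtain ⟨⟨a₁, b₁, hab₁⟩, hfree⟩ := hP
  obtain ⟨U', j', hj', ⟨y', rfl⟩, ψ, hψ⟩ := exists_chainMap_locally P ((resCx j).obj Q) a₁ b₁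
    hfree (fun i hi => hab₁ i (Or.inl hi)) (fun i hi => hab₁ i (Or.inr hi)) (α ≫ ι.hom) y
  have hψ' : IsApprox (m - 1) (DerivedCategory.Q.map ψ) := by
    rw [hψ]
    exact ((hα'.resD j').comp_iso ((resDQ j').app _)).iso_comp ((resDQ j').app P).symm
  let P' := (resCx j').obj P
  let G := (resCx j').obj ((resCx j).obj Q)
  have hP' : DCoh.IsStrictlyPerfect P' := isStrictlyPerfect_resCx j' ⟨⟨a₁, b₁, hab₁⟩, hfree⟩
  have hGf : ∀ i, FlatMod.IsFlat (G.X i) := isFlat_resCx_X j' (isFlat_resCx_X j hQf)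
  have hGb : ∀ i, d < i → IsZero (G.X i) := fun i hi =>
    (Scheme.Modules.restrictFunctor j').map_isZero
      ((Scheme.Modules.restrictFunctor j).map_isZero (hQb i hi))
  have hGc : FlatMod.IsFlatAt (cokernel (G.d (m - 1) m)) y' := by
    have e : ((cokernel (Q.d (m - 1) m)).restrict j).restrict j' ≅ cokernel (G.d (m - 1) m) :=
      (Scheme.Modules.restrictFunctor j').mapIso
        (PreservesCokernel.iso (Scheme.Modules.restrictFunctor j) (Q.d (m - 1) m)) ≪≫
        PreservesCokernel.iso (Scheme.Modules.restrictFunctor j') _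
    refine isFlatAt_of_iso e ?_
    rw [isFlatAt_restrict_iff, isFlatAt_restrict_iff]
    exact hx
  have hfl := isFlatAt_truncGE_X m d y' hP' (fun i => hGf i y') hGb hGc ψ hψ'
  have hfp : ((P'.truncGE m).X m).IsFinitePresentation :=
    isFinitePresentation_of_cokernel (P'.d (m - 1) m) (hP'.2 _) (hP'.2 _)
      (opcyclesIsoCokernel P' (m - 1) m (by omega) ≪≫ (P'.truncGEXIsoOpcycles m).symm)
  obtain ⟨W, hyW, hW⟩ := lfAt_of_isFlatAt hfl
  obtain ⟨e1⟩ := nonempty_iso_truncGE m ψ hψ' fun i hi =>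
    exactAt_resCx j' _ i (exactAt_resCx j _ i (hm i hi))
  obtain ⟨⟨a₂, b₂, hab₂⟩, hfree₂⟩ := hP'
  have hSP : DCoh.IsStrictlyPerfect ((resCx W.ι).obj (P'.truncGE m)) := by
    refine ⟨⟨m, max b₂ m, fun i hi => ?_⟩, fun i => ?_⟩
    · refine (Scheme.Modules.restrictFunctor W.ι).map_isZero ?_
      rcases hi with hi | hi
      · exact CochainComplex.isZero_of_isStrictlyGE (P'.truncGE m) m i hi
      · have h3 := le_max_left b₂ m
        have h4 := le_max_right b₂ m
        exact IsZero.of_iso (hab₂ i (Or.inr (by omega))) (P'.truncGEXIso m i (by omega))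
    · rcases lt_trichotomy i m with hi | rfl | hi
      · exact isFinLocFree_of_isZero ((Scheme.Modules.restrictFunctor W.ι).map_isZero
          (CochainComplex.isZero_of_isStrictlyGE (P'.truncGE m) m i hi))
      · exact hW
      · exact isFinLocFree_restrict W.ι
          (isFinLocFree_of_iso (P'.truncGEXIso m i hi).symm (hfree₂ i))
  refine ⟨W, W.ι ≫ j' ≫ j, inferInstance, ?_, (resCx W.ι).obj (P'.truncGE m), hSP, ⟨?_⟩⟩
  · have h1 : y' ∈ Set.range W.ι.base := by
      rw [Scheme.Opens.range_ι]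
      exact hyW
    exact mem_range_comp (j' ≫ j) W.ι h1
  · exact (resDComp W.ι (j' ≫ j)).app K ≪≫ (resD W.ι).mapIso
      ((resDComp j' j).app K ≪≫ (resD j').mapIso ι ≪≫ (resDQ j').app _ ≪≫ e1) ≪≫
      (resDQ W.ι).app _

end

end Groth.Agent.Lib.Helper28.DCohStalk
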