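import Mathlib
import Groth.Agent.Lib.Helper28.DCohStalk5

/-!
# Pseudo-coherent + finite tor dimension at the stalks ⇒ perfect
-/

set_option autoImplicit false

universe u

open CategoryTheory Limits AlgebraicGeometry TopologicalSpace

namespace Groth.Agent.Lib.Helper28.DCohStalk

noncomputable section

attribute [local instance] HasDerivedCategory.standard

open Groth.Agent.Lib.Helper29.QCoh Groth.Agent.Lib.Helper28.DCohRes

variable {X : Scheme.{u}}

/-- the complex of stalks (over the local ring itself) -/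
abbrev stalkCx (x : X) :
    CochainComplex X.Modules ℤ ⥤ CochainComplex (ModuleCat.{u} (X.presheaf.stalk x)) ℤ :=
  (DerSch.stalkFunctor X x).mapHomologicalComplex (ComplexShape.up ℤ)

/-- flatness at `x` of the cokernel of a differential, from the complex of stalks -/
lemma isFlatAt_cokernel_d_of_stalkCx (Q : CochainComplex X.Modules ℤ) (x : X) (m : ℤ)
    (h : Module.Flat (X.presheaf.stalk x)
      ((((stalkCx x).obj Q).X m) ⧸ LinearMap.range (((stalkCx x).obj Q).d (m - 1) m).hom)) :
    FlatMod.IsFlatAt (cokernel (Q.d (m - 1) m)) x := by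
  let e1 : (DerSch.stalkFunctor X x).obj (cokernel (Q.d (m - 1) m)) ≅
      cokernel ((DerSch.stalkFunctor X x).map (Q.d (m - 1) m)) :=
    PreservesCokernel.iso _ _
  let e2 := ModuleCat.cokernelIsoRangeQuotient ((DerSch.stalkFunctor X x).map (Q.d (m - 1) m))
  haveI : Module.Flat (X.presheaf.stalk x)
      (ModuleCat.of (X.presheaf.stalk x)
        (((DerSch.stalkFunctor X x).obj (Q.X m)) ⧸
          LinearMap.range ((DerSch.stalkFunctor X x).map (Q.d (m - 1) m)).hom)) := h
  have : Module.Flat (X.presheaf.stalk x)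
      ((DerSch.stalkFunctor X x).obj (cokernel (Q.d (m - 1) m))) :=
    Module.Flat.of_linearEquiv (e1 ≪≫ e2).toLinearEquiv
  exact this

/-- **Main theorem.** -/
theorem isPerfect_of_isPseudoCoherentD_of_stalk_finiteTorDim
    (hX : ∀ (x : X) (M : Type u) [AddCommGroup M] [Module (X.presheaf.stalk x) M],
      DRing.HasFiniteTorDim (X.presheaf.stalk x) M)
    (F : CochainComplex X.Modules ℤ) (c d : ℤ) (hc : ∀ i, i < c → F.ExactAt i)
    (hd : ∀ i, d < i → F.ExactAt i)
    (hpc : ∀ m : ℤ, DCoh.IsPseudoCoherentD m (DerivedCategory.Q.obj F)) :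
    DCoh.IsPerfect (DerivedCategory.Q.obj F) := by
  rw [isPerfect_iff]
  intro x
  have hLE : F.IsLE d := by
    rw [CochainComplex.isLE_iff]
    exact hd
  obtain ⟨Q0, β0, hQb, hQfl, hβ0⟩ :=
    Groth.Agent.Lib.Helper28.KFlatSite.exists_flat_resolution_of_isLE (O := X.sheaf) F d hLE
  let Q : CochainComplex X.Modules ℤ := Q0
  let β : Q ⟶ F := β0
  have hβ : QuasiIso β := hβ0
  have hi2 : IsIso (DerivedCategory.Q.map β) := by
    rw [DerivedCategory.isIso_Q_map_iff_quasiIso]
    exact hβ
  have eQ : DerivedCategory.Q.obj Q ≅ DerivedCategory.Q.obj F :=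
    @asIso _ _ _ _ (DerivedCategory.Q.map β) hi2
  have hQf : ∀ i, FlatMod.IsFlat (Q.X i) := fun i =>
    (Groth.Agent.Lib.Helper17.FlatBridge.isFlat_iff _).2 (hQfl i)
  have hQb' : ∀ i, d < i → IsZero (Q.X i) := fun i hi =>
    CochainComplex.isZero_of_isStrictlyLE Q0 d i hi
  have hQz : ∀ i, (i < c ∨ d < i) → IsZero (Q.homology i) := by
    intro i hi
    have h1 : IsZero (F.homology i) := by
      rw [← HomologicalComplex.exactAt_iff_isZero_homology]
      rcases hi with hi | hi
      · exact hc i hi
      · exact hd i hi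
    exact h1.of_iso (asIso (HomologicalComplex.homologyMap β i))
  -- the complex of stalks has bounded cohomology, hence finite tor dimension
  let K' := (stalkCx x).obj Q
  have hbd : ∀ i : ℤ, i < c ∨ d < i →
      Subsingleton (Dual.HD (X.presheaf.stalk x) (DerivedCategory.Q.obj K') i) := by
    intro i hi
    have hz : IsZero ((DerivedCategory.homologyFunctor _ i).obj (DerivedCategory.Q.obj K')) :=
      ((DerSch.stalkFunctor X x).map_isZero (hQz i hi)).of_iso
        ((DerivedCategory.homologyFunctorFactors _ i).app K' ≪≫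
          (mapHCHomologyIso (DerSch.stalkFunctor X x) i).app Q)
    exact ModuleCat.subsingleton_of_isZero hz
  obtain ⟨a, b, E, hv, hfl, ⟨eE⟩⟩ :=
    ((Groth.Agent.S5612.result (hX x) (DerivedCategory.Q.obj K')).1).2 ⟨c, d, hbd⟩
  let m : ℤ := min a c - 1
  have hma : m < a := by
    have := min_le_left a c
    omega
  have hmc : m < c := by
    have := min_le_right a c
    omega
  have hK : Module.Flat (X.presheaf.stalk x)
      ((K'.X m) ⧸ LinearMap.range (K'.d (m - 1) m).hom) := by
    refine Groth.Agent.S6944.result _ K' d (fun i hi => ?_) (fun i => ?_) m b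
      ⟨E, fun i hi => hv i (by omega), hfl, ⟨eE⟩⟩
    · exact (DerSch.stalkFunctor X x).map_isZero (hQb' i hi)
    · exact hQf i x
  have hx := isFlatAt_cokernel_d_of_stalkCx Q x m hK
  refine perfAlong_of_isFlatAt Q eQ hQf d hQb' m (fun i hi => ?_) x hx (hpc (m - 1))
  rw [HomologicalComplex.exactAt_iff_isZero_homology]
  exact hQz i (Or.inl (by omega))

end

end Groth.Agent.Lib.Helper28.DCohStalk
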