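import Mathlib
import Groth.Agent.Lib.Helper28.DCohStalk6

/-!
# The stalk of the structure sheaf (as a module) is the local ring
-/

set_option autoImplicit false

universe u

open CategoryTheory Limits AlgebraicGeometry TopologicalSpace Opposite

namespace Groth.Agent.Lib.Helper28.DCohStalk

noncomputable section

open Groth.Agent.Lib.Helper29.QCoh Groth.Agent.Lib.Helper28.DCohRes

variable (Y : Scheme.{u}) (y : Y)

/-- the germ at `y` of the unit section -/
def unitGerm : (Coh.structureModule Y).presheaf.stalk y :=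
  (Coh.structureModule Y).presheaf.germ ⊤ y trivial (1 : Γ(Y, ⊤))

/-- `r ↦ r • 1` -/
def unitStalkLinearMap :
    Y.presheaf.stalk y →ₗ[Y.presheaf.stalk y] (Coh.structureModule Y).presheaf.stalk y :=
  LinearMap.toSpanSingleton _ _ (unitGerm Y y)

lemma unitStalkLinearMap_germ (U : Y.Opens) (hy : y ∈ U) (a : Γ(Y, U)) :
    unitStalkLinearMap Y y (Y.presheaf.germ U y hy a) =
      (Coh.structureModule Y).presheaf.germ U y hy (a : Γ(Coh.structureModule Y, U)) := by
  have h1 : unitGerm Y y = (Coh.structureModule Y).presheaf.germ U y hy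
      ((1 : Γ(Y, U)) : Γ(Coh.structureModule Y, U)) := by
    have := germ_res (Coh.structureModule Y) (le_top : U ≤ ⊤) y hy (1 : Γ(Y, ⊤))
    rw [unitGerm, ← this]
    congr 1
    exact map_one (Y.presheaf.map (homOfLE (le_top : U ≤ ⊤)).op).hom
  change (Y.presheaf.germ U y hy a) • unitGerm Y y = _
  rw [h1, ← germ_smul]
  congr 1
  exact mul_one a

lemma unitStalkLinearMap_bijective : Function.Bijective (unitStalkLinearMap Y y) := by
  constructor
  · rw [injective_iff_map_eq_zero]
    intro r hr
    obtain ⟨U, hy, a, rfl⟩ := Y.presheaf.exists_germ_eq (x := y) r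
    rw [unitStalkLinearMap_germ] at hr
    have h' : (Coh.structureModule Y).presheaf.germ U y hy (a : Γ(Coh.structureModule Y, U)) =
        (Coh.structureModule Y).presheaf.germ U y hy 0 := by rw [hr, map_zero]
    obtain ⟨W, hyW, iU, iV, e⟩ := (Coh.structureModule Y).presheaf.germ_eq y hy hy _ _ h'
    have e0 : (Y.presheaf.map iU.op).hom a = 0 := by
      have e' : (Y.presheaf.map iU.op).hom a = (Y.presheaf.map iV.op).hom 0 := e
      rw [e', map_zero]
    rw [← Y.presheaf.germ_res_apply iU y hyW a]
    erw [e0]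
    exact map_zero _
  · intro m
    obtain ⟨U, hy, b, rfl⟩ := (Coh.structureModule Y).presheaf.exists_germ_eq (x := y) m
    exact ⟨Y.presheaf.germ U y hy (b : Γ(Y, U)), unitStalkLinearMap_germ Y y U hy b⟩

/-- `O_{Y,y} ≃ (O_Y)_y` as modules over the local ring -/
def unitStalkLinearEquiv :
    Y.presheaf.stalk y ≃ₗ[Y.presheaf.stalk y] (Coh.structureModule Y).presheaf.stalk y :=
  LinearEquiv.ofBijective (unitStalkLinearMap Y y) (unitStalkLinearMap_bijective Y y)

/-- the stalk of the structure module, in `ModuleCat` -/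
def stalkFunctorUnitIso :
    (DerSch.stalkFunctor Y y).obj (Coh.structureModule Y) ≅
      ModuleCat.of (Y.presheaf.stalk y) (Y.presheaf.stalk y) :=
  (unitStalkLinearEquiv Y y).symm.toModuleIso

end

end Groth.Agent.Lib.Helper28.DCohStalk
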