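import Mathlib
import Groth.Agent.Lib.Helper28.DCohStalk7
import Groth.Agent.S6947

/-!
# Tor amplitude relative to a composition
-/

set_option autoImplicit false

universe u

open CategoryTheory Limits AlgebraicGeometry TopologicalSpace Opposite

namespace Groth.Agent.Lib.Helper28.DCohStalk

noncomputable section

attribute [local instance] HasDerivedCategory.standard

open Groth.Agent.Lib.Helper29.QCoh Groth.Agent.Lib.Helper28.DCohRes

variable {X Y Z : Scheme.{u}}

/-- `stalkOver` of a composition -/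
def stalkOverCompIso (f : X ⟶ Y) (g : Y ⟶ Z) (x : X) :
    DerSch.stalkOver f x ⋙ ModuleCat.restrictScalars (g.stalkMap (f x)).hom ≅
      DerSch.stalkOver (f ≫ g) x :=
  Functor.associator _ _ _ ≪≫ Functor.isoWhiskerLeft (DerSch.stalkFunctor X x)
    (ModuleCat.restrictScalarsComp' (g.stalkMap (f x)).hom (f.stalkMap x).hom
      ((f ≫ g).stalkMap x).hom (by rw [Scheme.Hom.stalkMap_comp]; rfl)).symm

/-- `stalkCxOver` of a composition -/
def stalkCxOverCompIso (f : X ⟶ Y) (g : Y ⟶ Z) (x : X) (F : CochainComplex X.Modules ℤ) :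
    (DRing.restrictCx (g.stalkMap (f x)).hom).obj ((DerSch.stalkCxOver f x).obj F) ≅
      (DerSch.stalkCxOver (f ≫ g) x).obj F :=
  HomologicalComplex.Hom.isoOfComponents (fun i => (stalkOverCompIso f g x).app (F.X i))
    (fun i j _ => ((stalkOverCompIso f g x).hom.naturality (F.d i j)).symm)

/-- the stalk complex of `O_Y[0]` over `O_{Z, g y}` is `O_{Y,y}[0]` -/
def stalkCxOverUnitIso (g : Y ⟶ Z) (y : Y) :
    letI : Algebra (Z.presheaf.stalk (g y)) (Y.presheaf.stalk y) := (g.stalkMap y).hom.toAlgebra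
    DRing.toD ((DerSch.stalkCxOver g y).obj (DerSch.unitCx Y)) ≅
      Dual.inD (Z.presheaf.stalk (g y)) (Y.presheaf.stalk y) :=
  letI : Algebra (Z.presheaf.stalk (g y)) (Y.presheaf.stalk y) := (g.stalkMap y).hom.toAlgebra
  let e1 : (DerSch.stalkCxOver g y).obj (DerSch.unitCx Y) ≅
      (HomologicalComplex.single _ (ComplexShape.up ℤ) 0).obj
        ((DerSch.stalkOver g y).obj (Coh.structureModule Y)) :=
    (HomologicalComplex.singleMapHomologicalComplex (DerSch.stalkOver g y)
      (ComplexShape.up ℤ) 0).app (Coh.structureModule Y)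
  let e2 : (DerSch.stalkOver g y).obj (Coh.structureModule Y) ≅
      (ModuleCat.restrictScalars (g.stalkMap y).hom).obj
        (ModuleCat.of (Y.presheaf.stalk y) (Y.presheaf.stalk y)) :=
    (ModuleCat.restrictScalars (g.stalkMap y).hom).mapIso (stalkFunctorUnitIso Y y)
  let e3 : (ModuleCat.restrictScalars (g.stalkMap y).hom).obj
        (ModuleCat.of (Y.presheaf.stalk y) (Y.presheaf.stalk y)) ≅
      ModuleCat.of (Z.presheaf.stalk (g y)) (Y.presheaf.stalk y) :=
    (AddEquiv.toLinearEquiv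
      (M := ↑((ModuleCat.restrictScalars (g.stalkMap y).hom).obj
        (ModuleCat.of (Y.presheaf.stalk y) (Y.presheaf.stalk y))))
      (M₂ := Y.presheaf.stalk y) (AddEquiv.refl _) (fun r x => rfl)).toModuleIso
  DerivedCategory.Q.mapIso (e1 ≪≫
    (HomologicalComplex.single _ (ComplexShape.up ℤ) 0).mapIso (e2 ≪≫ e3)) ≪≫
    ((DerivedCategory.singleFunctorIsoCompQ (ModuleCat.{u} (Z.presheaf.stalk (g y))) 0).app
      (ModuleCat.of (Z.presheaf.stalk (g y)) (Y.presheaf.stalk y))).symm

theorem hasTorAmplitude_comp_of_hasTorDimLE (f : X ⟶ Y) (g : Y ⟶ Z) (n : ℕ)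
    (hg : DerSch.HasTorDimLE g n) (F : CochainComplex X.Modules ℤ) (a b : ℤ)
    (hF : DerSch.HasTorAmplitude f a b F) : DerSch.HasTorAmplitude (f ≫ g) (a - n) b F := by
  intro x
  letI : Algebra (Z.presheaf.stalk (g (f x))) (Y.presheaf.stalk (f x)) :=
    (g.stalkMap (f x)).hom.toAlgebra
  have hB : DRing.HasTorAmplitudeIn (Z.presheaf.stalk (g (f x))) (-(n : ℤ)) 0
      (Dual.inD (Z.presheaf.stalk (g (f x))) (Y.presheaf.stalk (f x))) :=
    Groth.Agent.Lib.Helper13.DR.hasTorAmplitudeIn_of_iso (stalkCxOverUnitIso g (f x)) (hg (f x))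
  have h := Groth.Agent.S6947.result (A := Z.presheaf.stalk (g (f x)))
    (B := Y.presheaf.stalk (f x)) n hB
    (DRing.toD ((DerSch.stalkCxOver f x).obj F)) a b (hF x)
  exact Groth.Agent.Lib.Helper13.DR.hasTorAmplitudeIn_of_iso
    (Groth.Agent.Lib.Helper13.DR.restrictDQIso (g.stalkMap (f x)).hom _ ≪≫
      DerivedCategory.Q.mapIso (stalkCxOverCompIso f g x F)) h

end

end Groth.Agent.Lib.Helper28.DCohStalk
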