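import Mathlib
import Groth.Agent.Lib.Helper28.DCohStalk6
import Groth.Agent.Lib.Helper8.FlatAffine

/-!
# Flatness of quasi-coherent modules on affine opens; flatness of `M~`
-/

set_option autoImplicit false
set_option backward.isDefEq.respectTransparency.types false

universe u

open CategoryTheory Limits AlgebraicGeometry TopologicalSpace Opposite

namespace Groth.Agent.Lib.Helper28.DCohTilde

noncomputable section

open Groth.Agent.Lib.Helper29.QCoh Groth.Agent.Lib.Helper28.DCohRes
  Groth.Agent.Lib.Helper8.FlatLoc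

/-- flatness for two commutative rings related by a bijective algebra map -/
lemma flat_iff_of_bijective_algebraMap {R S M : Type*} [CommRing R] [CommRing S] [Algebra R S]
    [AddCommGroup M] [Module R M] [Module S M] [IsScalarTower R S M]
    (h : Function.Bijective (algebraMap R S)) : Module.Flat R M ↔ Module.Flat S M := by
  let σe : R ≃+* S := RingEquiv.ofBijective (algebraMap R S) h
  letI : RingHomInvPair (σe : R →+* S) (σe.symm : S →+* R) := RingHomInvPair.of_ringEquiv σe
  letI : RingHomInvPair (σe.symm : S →+* R) (σe : R →+* S) := RingHomInvPair.of_ringEquiv σe.symm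
  let e : M ≃ₛₗ[(σe : R →+* S)] M :=
    { toFun := fun t => t
      invFun := fun t => t
      map_add' := fun _ _ => rfl
      map_smul' := fun r t => (algebraMap_smul S r t).symm
      left_inv := fun _ => rfl
      right_inv := fun _ => rfl }
  constructor
  · intro _
    exact flat_of_semilinearEquiv e
  · intro _
    exact flat_of_semilinearEquiv e.symm

variable {X : Scheme.{u}} (F : X.Modules)

/-- flatness of the sections over an affine open gives flatness of the stalks -/
theorem isFlatAt_of_flat_sections [F.IsQuasicoherent] {U : X.Opens} (hU : IsAffineOpen U) (x : X)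
    (hx : x ∈ U) (h : Module.Flat Γ(X, U) Γ(F, U)) : FlatMod.IsFlatAt F x := by
  letI mBx : Module Γ(X, U) (F.presheaf.stalk x) := stalkModule F U x hx
  haveI := isLocalizedModule_germ F hU x hx
  have h1 : Module.Flat Γ(X, U) (F.presheaf.stalk x) :=
    flat_of_isLocalizedModule (R := Γ(X, U)) (A := Γ(X, U))
      (hU.primeIdealOf ⟨x, hx⟩).asIdeal.primeCompl (germₗ F U x hx)
  letI alg : Algebra Γ(X, U) (X.presheaf.stalk x) :=
    TopCat.Presheaf.algebra_section_stalk X.presheaf ⟨x, hx⟩
  haveI := hU.isLocalization_stalk ⟨x, hx⟩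
  haveI : IsScalarTower Γ(X, U) (X.presheaf.stalk x) (F.presheaf.stalk x) :=
    IsScalarTower.of_algebraMap_smul (fun r m => rfl)
  exact (Module.flat_iff_of_isLocalization (X.presheaf.stalk x)
    (hU.primeIdealOf ⟨x, hx⟩).asIdeal.primeCompl _).mpr h1

/-- stalkwise flatness gives flatness of the sections over an affine open -/
theorem flat_sections_of_isFlatAt [F.IsQuasicoherent] {U : X.Opens} (hU : IsAffineOpen U)
    (h : ∀ x ∈ U, FlatMod.IsFlatAt F x) : Module.Flat Γ(X, U) Γ(F, U) := by
  apply flat_of_forall_maximal (R := Γ(X, U)) (S := Γ(X, U))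
  intro P hP
  let y : Spec Γ(X, U) := ⟨P, hP.isPrime⟩
  let x : X := hU.fromSpec y
  have hx : x ∈ U := by
    have : x ∈ Set.range hU.fromSpec := ⟨y, rfl⟩
    rw [hU.range_fromSpec] at this
    exact this
  have hP' : hU.primeIdealOf ⟨x, hx⟩ = y :=
    hU.fromSpec.isOpenEmbedding.injective (hU.fromSpec_primeIdealOf ⟨x, hx⟩)
  letI mBx : Module Γ(X, U) (F.presheaf.stalk x) := stalkModule F U x hx
  refine ⟨F.presheaf.stalk x, inferInstance, mBx, mBx, inferInstance, germₗ F U x hx, ?_, ?_⟩
  · have h1 := isLocalizedModule_germ F hU x hx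
    rw [hP'] at h1
    exact h1
  · letI alg : Algebra Γ(X, U) (X.presheaf.stalk x) :=
      TopCat.Presheaf.algebra_section_stalk X.presheaf ⟨x, hx⟩
    haveI := hU.isLocalization_stalk ⟨x, hx⟩
    haveI : IsScalarTower Γ(X, U) (X.presheaf.stalk x) (F.presheaf.stalk x) :=
      IsScalarTower.of_algebraMap_smul (fun r m => rfl)
    have h2 : Module.Flat (X.presheaf.stalk x) (F.presheaf.stalk x) := h x hx
    exact (Module.flat_iff_of_isLocalization (X.presheaf.stalk x)
      (hU.primeIdealOf ⟨x, hx⟩).asIdeal.primeCompl _).mp h2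

end

end Groth.Agent.Lib.Helper28.DCohTilde
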