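import Mathlib
import Groth.Agent.Lib.Helper28.DCohTilde1

/-!
# Flatness of `M~`
-/

set_option autoImplicit false
set_option backward.isDefEq.respectTransparency.types false

universe u

open CategoryTheory Limits AlgebraicGeometry TopologicalSpace Opposite

namespace Groth.Agent.Lib.Helper28.DCohTilde

noncomputable section

open Groth.Agent.Lib.Helper29.QCoh Groth.Agent.Lib.Helper28.DCohRes

variable {A : CommRingCat.{u}}

lemma algebraMap_top_bijective :
    Function.Bijective (algebraMap A Γ(Spec A, (⊤ : (Spec A).Opens))) := by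
  rw [IsAffineOpen.algebraMap_Spec_obj]
  have h : (homOfLE (le_top : (⊤ : (Spec A).Opens) ≤ ⊤)) = 𝟙 _ := Subsingleton.elim _ _
  rw [h, op_id, CategoryTheory.Functor.map_id, Category.comp_id]
  exact (ConcreteCategory.isIso_iff_bijective _).1 inferInstance

/-- `N~` is a flat `O`-module if and only if `N` is a flat module -/
theorem isFlat_tilde_iff (N : ModuleCat.{u} A) :
    FlatMod.IsFlat (tilde N) ↔ Module.Flat A N := by
  have e : N ≃ₗ[A] Γ(tilde N, (⊤ : (Spec A).Opens)) := (tilde.isoTop N).toLinearEquiv
  have h1 : Module.Flat A N ↔ Module.Flat A Γ(tilde N, (⊤ : (Spec A).Opens)) :=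
    ⟨fun _ => Module.Flat.of_linearEquiv e.symm, fun _ => Module.Flat.of_linearEquiv e⟩
  have h2 : Module.Flat A Γ(tilde N, (⊤ : (Spec A).Opens)) ↔
      Module.Flat Γ(Spec A, (⊤ : (Spec A).Opens)) Γ(tilde N, (⊤ : (Spec A).Opens)) :=
    flat_iff_of_bijective_algebraMap algebraMap_top_bijective
  rw [h1, h2]
  constructor
  · intro h
    exact flat_sections_of_isFlatAt (tilde N) (isAffineOpen_top (Spec A)) (fun x _ => h x)
  · intro h x
    exact isFlatAt_of_flat_sections (tilde N) (isAffineOpen_top (Spec A)) x trivial h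

end

end Groth.Agent.Lib.Helper28.DCohTilde
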