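import Mathlib
import Groth.Agent.Lib.Helper28.DCohTilde2
import Groth.Agent.Lib.Helper13.DRingTor2
import Groth.Agent.S0970

/-!
# Flat amplitude of `M~` versus tor amplitude of `M`
-/

set_option autoImplicit false

universe u

open CategoryTheory Limits AlgebraicGeometry TopologicalSpace Opposite ZeroObject

namespace Groth.Agent.Lib.Helper28.DCohTilde

noncomputable section

attribute [local instance] HasDerivedCategory.standard

open Groth.Agent.Lib.Helper29.QCoh Groth.Agent.Lib.Helper28.DCohRes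
  Groth.Agent.Lib.Helper28.DCohStalk

variable (A : CommRingCat.{u}) [PreservesFiniteLimits (tilde.functor A)]

/-- termwise `~` on complexes -/
abbrev tildeCx : CochainComplex (ModuleCat.{u} A) ℤ ⥤
    CochainComplex (Spec (CommRingCat.of A)).Modules ℤ :=
  (tilde.functor A).mapHomologicalComplex (ComplexShape.up ℤ)

/-- `Q ⋙ tildeD ≅ tildeCx ⋙ Q` -/
abbrev tildeDQ : DerivedCategory.Q ⋙ DCoh.tildeD A ≅
    tildeCx A ⋙ DerivedCategory.Q :=
  (tilde.functor A).mapDerivedCategoryFactors

variable {A}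

lemma isFlat_tilde_obj_iff (N : ModuleCat.{u} A) :
    FlatMod.IsFlat ((tilde.functor A).obj N) ↔ Module.Flat A N :=
  isFlat_tilde_iff (A := A) N

/-- a faithful additive functor reflects zero objects -/
lemma isZero_of_isZero_tilde (N : ModuleCat.{u} A)
    (h : IsZero ((tilde.functor A).obj N)) : IsZero N := by
  rw [IsZero.iff_id_eq_zero]
  apply (tilde.functor A).map_injective
  rw [CategoryTheory.Functor.map_id, Functor.map_zero]
  exact h.eq_of_src _ _

/-- **(⇐)** -/
theorem hasFlatAmplitudeIn_tildeD_of_hasTorAmplitudeIn (M : DerivedCategory (ModuleCat.{u} A)) (a b : ℤ)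
    (h : DRing.HasTorAmplitudeIn A a b M) :
    DCoh.HasFlatAmplitudeIn a b ((DCoh.tildeD A).obj M) := by
  obtain ⟨E0, hv, hfl, ⟨e⟩⟩ := h
  refine ⟨(tildeCx A).obj E0, fun i hi => ?_, fun i => ?_, ⟨?_⟩⟩
  · exact (tilde.functor A).map_isZero (hv i hi)
  · exact (isFlat_tilde_obj_iff (E0.X i)).2 (hfl i)
  · exact ((tildeDQ A).app E0).symm ≪≫ (DCoh.tildeD A).mapIso e

/-- **(⇒)** -/
theorem hasTorAmplitudeIn_of_hasFlatAmplitudeIn_tildeD (M : DerivedCategory (ModuleCat.{u} A)) (a b : ℤ)
    (h : DCoh.HasFlatAmplitudeIn a b ((DCoh.tildeD A).obj M)) :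
    DRing.HasTorAmplitudeIn A a b M := by
  let L0 : CochainComplex (ModuleCat.{u} A) ℤ := DerivedCategory.Q.objPreimage M
  let e0 : DerivedCategory.Q.obj L0 ≅ M := DerivedCategory.Q.objObjPreimageIso M
  let F := (tildeCx A).obj L0
  let eF : DerivedCategory.Q.obj F ≅ (DCoh.tildeD A).obj M :=
    ((tildeDQ A).app L0).symm ≪≫ (DCoh.tildeD A).mapIso e0
  have hF : DCoh.HasFlatAmplitudeIn a b (DCoh.toD _ F) := by
    obtain ⟨G, hv, hfl, ⟨e⟩⟩ := h
    exact ⟨G, hv, hfl, ⟨e ≪≫ eF.symm⟩⟩
  have hT := hasTorAmplitude_of_hasFlatAmplitudeIn F a b hF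
  have hz : ∀ (L : CochainComplex (ModuleCat.{u} A) ℤ)
      (_ : DerivedCategory.Q.obj ((tildeCx A).obj L) ≅ DerivedCategory.Q.obj F) (i : ℤ),
      (i < a ∨ b < i) → IsZero (L.homology i) := by
    intro L eL i hi
    apply isZero_of_isZero_tilde
    have h1 : IsZero (((tildeCx A).obj L).homology i) :=
      (HomologicalComplex.exactAt_iff_isZero_homology _ _).1
        (exactAt_of_hasTorAmplitude hT eL i hi)
    exact h1.of_iso ((mapHCHomologyIso (tilde.functor A) i).app L).symm
  by_cases hab : a ≤ b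
  · have hLE : L0.IsLE b := by
      rw [CochainComplex.isLE_iff]
      intro i hi
      rw [HomologicalComplex.exactAt_iff_isZero_homology]
      exact hz L0 (Iso.refl _) i (Or.inr hi)
    obtain ⟨P0, α, hP0b, hP0p, -, hα⟩ := Groth.Agent.S0970.result
      (A := ModuleCat.{u} A) (fun N => Projective N)
      ⟨0, isZero_zero _, inferInstance⟩
      (fun N => ⟨Projective.over N, Projective.π N, inferInstance, inferInstance⟩)
      (L0.truncLE b) b
    let π : P0 ⟶ L0 := α ≫ L0.ιTruncLE b
    have hπ : QuasiIso π := by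
      dsimp only [π]
      infer_instance
    have hi1 : IsIso (DerivedCategory.Q.map π) := by
      rw [DerivedCategory.isIso_Q_map_iff_quasiIso]
      exact hπ
    let eP0 : DerivedCategory.Q.obj P0 ≅ DerivedCategory.Q.obj L0 :=
      @asIso _ _ _ _ (DerivedCategory.Q.map π) hi1
    let eP : DerivedCategory.Q.obj ((tildeCx A).obj P0) ≅ DerivedCategory.Q.obj F :=
      ((tildeDQ A).app P0).symm ≪≫ (DCoh.tildeD A).mapIso eP0 ≪≫
        (tildeDQ A).app L0
    have hP0fl : ∀ i, Module.Flat A (P0.X i) := fun i => by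
      haveI := hP0p i
      exact Module.Flat.of_projective
    have hP0z : ∀ i, b < i → IsZero (P0.X i) := fun i hi =>
      CochainComplex.isZero_of_isStrictlyLE P0 b i hi
    have hc := isFlat_cokernel_d_of_hasTorAmplitude hT eP
      (fun i => (isFlat_tilde_obj_iff (P0.X i)).2 (hP0fl i)) b
      (fun i hi => (tilde.functor A).map_isZero (hP0z i hi))
    have hc' : Module.Flat A (cokernel (P0.d (a - 1) a) : ModuleCat.{u} A) := by
      rw [← isFlat_tilde_obj_iff]
      exact isFlat_of_iso
        (PreservesCokernel.iso (tilde.functor A) (P0.d (a - 1) a)).symm hc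
    have hop : Groth.Agent.Lib.Helper13.DR.Pfl A (P0.opcycles a) := by
      let e : cokernel (P0.d (a - 1) a) ≅ P0.opcycles a := by
        let e := IsColimit.coconePointUniqueUpToIso (cokernelIsCokernel (P0.d (a - 1) a))
          (P0.opcyclesIsCokernel (a - 1) a (by simp))
        exact e
      exact (Groth.Agent.Lib.Helper13.DR.Pfl A).prop_of_iso e hc'
    obtain ⟨E, f, hqf, hzE, hflE⟩ := Groth.Agent.Lib.Helper13.PC.exists_truncGE_of_prop
      (Groth.Agent.Lib.Helper13.DR.Pfl A) P0 a b hP0z hP0fl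
      (fun i hi => hz P0 eP i (Or.inl hi)) hop
    have hi2 : IsIso (DerivedCategory.Q.map f) := by
      rw [DerivedCategory.isIso_Q_map_iff_quasiIso]
      exact hqf
    exact ⟨E, hzE, hflE,
      ⟨(@asIso _ _ _ _ (DerivedCategory.Q.map f) hi2).symm ≪≫ eP0 ≪≫ e0⟩⟩
  · have hq : QuasiIso (0 : (0 : CochainComplex (ModuleCat.{u} A) ℤ) ⟶ L0) := by
      rw [quasiIso_iff]
      intro i
      rw [quasiIsoAt_iff_isIso_homologyMap]
      have zero : IsZero ((0 : CochainComplex (ModuleCat.{u} A) ℤ).X i) :=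
        (HomologicalComplex.eval _ _ i).map_isZero (isZero_zero _)
      have h1 : IsZero ((0 : CochainComplex (ModuleCat.{u} A) ℤ).homology i) :=
        IsZero.of_mono (HomologicalComplex.homologyι _ i)
          (IsZero.of_epi (HomologicalComplex.pOpcycles _ i) zero)
      have h2 : IsZero (L0.homology i) := hz L0 (Iso.refl _) i (by omega)
      exact ⟨⟨0, h1.eq_of_src _ _, h2.eq_of_src _ _⟩⟩
    have hi : IsIso (DerivedCategory.Q.map
        (0 : (0 : CochainComplex (ModuleCat.{u} A) ℤ) ⟶ L0)) := by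
      rw [DerivedCategory.isIso_Q_map_iff_quasiIso]
      exact hq
    refine ⟨0, fun i _ => (HomologicalComplex.eval _ _ i).map_isZero (isZero_zero _),
      fun i => ?_, ⟨@asIso _ _ _ _ (DerivedCategory.Q.map
        (0 : (0 : CochainComplex (ModuleCat.{u} A) ℤ) ⟶ L0)) hi ≪≫ e0⟩⟩
    have : Subsingleton ((0 : CochainComplex (ModuleCat.{u} A) ℤ).X i) :=
      ModuleCat.subsingleton_of_isZero
        ((HomologicalComplex.eval _ _ i).map_isZero (isZero_zero _))
    exact (inferInstance : Module.Flat A ((0 : CochainComplex (ModuleCat.{u} A) ℤ).X i))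

end

end Groth.Agent.Lib.Helper28.DCohTilde
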