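import Mathlib
import Groth.Agent.Lib.Helper13.TorAmpLocal

/-!
# Tor amplitude of a restriction of scalars is local (general localization data)
-/

set_option autoImplicit false

universe u

open CategoryTheory CategoryTheory.Limits MonoidalCategory Pretriangulated Opposite

namespace Groth.Agent.Lib.Helper28.DCohTilde

open DTen Groth.Agent.Lib.Helper13.SF Groth.Agent.Lib.Helper13.DT Groth.Agent.Lib.Helper13.DR
  Groth.Agent.Lib.Helper13.HT Groth.Agent.Lib.Helper13.RE Groth.Agent.Lib.Helper13.PC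
  Groth.Agent.Lib.Helper13.DV

attribute [local instance] HasDerivedCategory.standard

noncomputable section

section FlatExt

variable {B B' : Type u} [CommRing B] [CommRing B'] (l : B →+* B') (hl : l.Flat)

include hl in
lemma preservesFiniteLimits_extendScalars :
    PreservesFiniteLimits (ModuleCat.extendScalars.{u, u, u} l) :=
  ModuleCat.preservesFiniteLimits_extendScalars_of_flat hl

lemma preservesFiniteColimits_extendScalars' :
    PreservesFiniteColimits (ModuleCat.extendScalars.{u, u, u} l) := by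
  have : PreservesColimitsOfSize.{0, 0} (ModuleCat.extendScalars.{u, u, u} l) :=
    (ModuleCat.extendRestrictScalarsAdj l).leftAdjoint_preservesColimits
  exact ⟨fun _ _ _ => inferInstance⟩

include hl in
lemma preservesHomology_extendScalars :
    (ModuleCat.extendScalars.{u, u, u} l).PreservesHomology := by
  haveI := preservesFiniteLimits_extendScalars l hl
  haveI := preservesFiniteColimits_extendScalars' l
  infer_instance

/-- flat extension of scalars commutes with homology -/
def extCxHomologyIso (W : DRing.Cx B) (i : ℤ) :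
    ((extCx l).obj W).homology i ≅ (ModuleCat.extendScalars.{u, u, u} l).obj (W.homology i) :=
  haveI := preservesHomology_extendScalars l hl
  (W.sc i).mapHomologyIso (ModuleCat.extendScalars.{u, u, u} l)

include hl in
lemma quasiIso_extCx_map {Z S : DRing.Cx B} (π : Z ⟶ S) [QuasiIso π] :
    QuasiIso ((extCx l).map π) := by
  haveI := preservesHomology_extendScalars l hl
  infer_instance

include hl in
lemma acyclic_extCx (L : DRing.Cx B) (hL : ∀ i : ℤ, IsZero (L.homology i)) (j : ℤ) :
    IsZero (((extCx l).obj L).homology j) :=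
  IsZero.of_iso (Functor.map_isZero _ (hL j)) (extCxHomologyIso l hl L j)

include hl in
/-- restriction of scalars along a flat ring map preserves K-flatness -/
theorem kflat_resCx (Z : DRing.Cx B') (hZ : KFlat Z) : KFlat ((resCx l).obj Z) := by
  intro L hL i
  let e : L ⊗ (resCx l).obj Z ≅ (resCx l).obj ((extCx l).obj L ⊗ Z) :=
    DTen.braidCx L ((resCx l).obj Z) ≪≫ resExtIso l Z L ≪≫
      (resCx l).mapIso (DTen.braidCx Z ((extCx l).obj L))
  refine IsZero.of_iso ?_ ((HomologicalComplex.homologyFunctor _ _ i).mapIso e)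
  rw [HomologicalComplex.homologyFunctor_obj, isZero_homology_resCx_iff]
  exact hZ _ (acyclic_extCx l hl L hL) i

end FlatExt

section LocalToGlobal

variable {A B : Type u} [CommRing A] [CommRing B] (φ : A →+* B)

/-- local-to-global for the tor amplitude of a restriction of scalars, for a general family of
"localizations" -/
theorem hasTorAmplitudeIn_resCx_of_forall (K : DRing.Cx B) (a b : ℤ) {ι : Type*}
    (Ap Bm : ι → Type u) [∀ j, CommRing (Ap j)] [∀ j, CommRing (Bm j)]
    (lA : ∀ j, A →+* Ap j) (lB : ∀ j, B →+* Bm j) (φ' : ∀ j, Ap j →+* Bm j)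
    (hcomp : ∀ j, (lB j).comp φ = (φ' j).comp (lA j))
    (hlA : ∀ j, (lA j).Flat) (hlB : ∀ j, (lB j).Flat)
    (hz : ∀ H : ModuleCat.{u} B,
      (∀ j, IsZero ((ModuleCat.extendScalars.{u, u, u} (lB j)).obj H)) → IsZero H)
    (h3 : ∀ j, DRing.HasTorAmplitudeIn (Ap j) a b
      (DRing.toD ((resCx (φ' j)).obj ((extCx (lB j)).obj K)))) :
    DRing.HasTorAmplitudeIn A a b (DRing.toD ((resCx φ).obj K)) := by
  refine hasTorAmplitudeIn_of_key _ a b (fun Z S hZ π _ hS i hi => ?_)
  rw [← isZero_homology_mix_iff φ K Z i]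
  apply hz
  intro j
  let W : DRing.Cx B := K ⊗ (extCx φ).obj Z
  refine IsZero.of_iso ?_ (extCxHomologyIso (lB j) (hlB j) W i).symm
  let Km : DRing.Cx (Bm j) := (extCx (lB j)).obj K
  let Zp : DRing.Cx (Ap j) := (extCx (lA j)).obj Z
  let Sp : DRing.Cx (Ap j) := (extCx (lA j)).obj S
  let e1 : (extCx (lB j)).obj W ≅ Km ⊗ (extCx (lB j)).obj ((extCx φ).obj Z) :=
    Groth.Agent.Lib.Helper13.ET.extTenIso (lB j) K _
  let e2 : (extCx (lB j)).obj ((extCx φ).obj Z) ≅ (extCx (φ' j)).obj Zp :=
    extCxCompIso φ (lB j) Z ≪≫ eqToIso (by rw [hcomp j]) ≪≫ (extCxCompIso (lA j) (φ' j) Z).symm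
  let e : (extCx (lB j)).obj W ≅ Km ⊗ (extCx (φ' j)).obj Zp := e1 ≪≫ whiskerLeftIso Km e2
  refine IsZero.of_iso ?_ ((HomologicalComplex.homologyFunctor _ _ i).mapIso e)
  rw [HomologicalComplex.homologyFunctor_obj, isZero_homology_mix_iff (φ' j) Km Zp i]
  have hZp : KFlat Zp := kflat_extCx (lA j) Z hZ
  have hq : QuasiIso ((extCx (lA j)).map π) := quasiIso_extCx_map (lA j) (hlA j) π
  have hSp : ∀ q : ℤ, q ≠ 0 → IsZero (Sp.X q) := fun q hq =>
    Functor.map_isZero (ModuleCat.extendScalars.{u, u, u} (lA j)) (hS q hq)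
  exact isZero_homology_tensor_of_torAmp ((resCx (φ' j)).obj Km) a b (h3 j) Zp Sp hZp
    ((extCx (lA j)).map π) hSp i hi

end LocalToGlobal

section GlobalToLocal

variable {A B Ap Bm : Type u} [CommRing A] [CommRing B] [CommRing Ap] [CommRing Bm]
  (φ : A →+* B) (lA : A →+* Ap) (lB : B →+* Bm) (φ' : Ap →+* Bm)

/-- the counit of extension/restriction on complexes, when it is an isomorphism -/
def extResCxIso (hcounit : ∀ N : ModuleCat.{u} Ap,
    IsIso ((ModuleCat.extendRestrictScalarsAdj.{u, u, u} lA).counit.app N)) (Z : DRing.Cx Ap) :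
    (extCx lA).obj ((resCx lA).obj Z) ≅ Z :=
  HomologicalComplex.Hom.isoOfComponents
    (fun n => @asIso _ _ _ _ ((ModuleCat.extendRestrictScalarsAdj.{u, u, u} lA).counit.app (Z.X n))
      (hcounit _))
    (fun i j _ => ((ModuleCat.extendRestrictScalarsAdj.{u, u, u} lA).counit.naturality
      (Z.d i j)).symm)

/-- global-to-local for the tor amplitude of a restriction of scalars -/
theorem hasTorAmplitudeIn_resCx_localization
    (hcomp : lB.comp φ = φ'.comp lA) (hlA : lA.Flat) (hlB : lB.Flat)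
    (hcounit : ∀ N : ModuleCat.{u} Ap,
      IsIso ((ModuleCat.extendRestrictScalarsAdj.{u, u, u} lA).counit.app N))
    (K : DRing.Cx B) (a b : ℤ)
    (h : DRing.HasTorAmplitudeIn A a b (DRing.toD ((resCx φ).obj K))) :
    DRing.HasTorAmplitudeIn Ap a b (DRing.toD ((resCx φ').obj ((extCx lB).obj K))) := by
  refine hasTorAmplitudeIn_of_key _ a b (fun Z S hZ π _ hS i hi => ?_)
  let Km : DRing.Cx Bm := (extCx lB).obj K
  rw [← isZero_homology_mix_iff φ' Km Z i]
  let Z' : DRing.Cx A := (resCx lA).obj Z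
  let S' : DRing.Cx A := (resCx lA).obj S
  let eZ : (extCx lA).obj Z' ≅ Z := extResCxIso lA hcounit Z
  let e2 : (extCx φ').obj Z ≅ (extCx lB).obj ((extCx φ).obj Z') :=
    (extCx φ').mapIso eZ.symm ≪≫ extCxCompIso lA φ' Z' ≪≫ eqToIso (by rw [hcomp]) ≪≫
      (extCxCompIso φ lB Z').symm
  let W : DRing.Cx B := K ⊗ (extCx φ).obj Z'
  let e : Km ⊗ (extCx φ').obj Z ≅ (extCx lB).obj W :=
    whiskerLeftIso Km e2 ≪≫ (Groth.Agent.Lib.Helper13.ET.extTenIso lB K _).symm
  refine IsZero.of_iso ?_ ((HomologicalComplex.homologyFunctor _ _ i).mapIso e)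
  refine IsZero.of_iso ?_ (extCxHomologyIso lB hlB W i)
  apply Functor.map_isZero
  rw [isZero_homology_mix_iff φ K Z' i]
  have hZ' : KFlat Z' := kflat_resCx lA hlA Z hZ
  have hq : QuasiIso ((resCx lA).map π) := inferInstance
  have hS' : ∀ q : ℤ, q ≠ 0 → IsZero (S'.X q) := fun q hq =>
    Functor.map_isZero (ModuleCat.restrictScalars.{u} lA) (hS q hq)
  exact isZero_homology_tensor_of_torAmp ((resCx φ).obj K) a b h Z' S' hZ'
    ((resCx lA).map π) hS' i hi

end GlobalToLocal

end

end Groth.Agent.Lib.Helper28.DCohTilde
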