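import Mathlib
import Groth.Agent.Lib.Helper28.DCohTilde4
import Groth.Agent.Lib.Helper28.DCohTilde3
import Groth.Agent.Lib.Helper28.DCohStalk8

/-!
# Stalks of `M~` as extension of scalars to the local ring
-/

set_option autoImplicit false
set_option backward.isDefEq.respectTransparency.types false

universe u

open CategoryTheory Limits AlgebraicGeometry TopologicalSpace Opposite
open AlgebraicGeometry.StructureSheaf ChangeOfRings

namespace Groth.Agent.Lib.Helper28.DCohTilde

noncomputable section

variable (R : CommRingCat.{u}) (x : PrimeSpectrum.Top R)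

/-- the localization map `R → O_{Spec R, x}` -/
def lx : R →+* (Spec R).presheaf.stalk x := (StructureSheaf.toStalk R x).hom

instance algebraStalk : Algebra R ((Spec R).presheaf.stalk x) :=
  inferInstanceAs (Algebra R ((structurePresheafInCommRingCat R).stalk x))

instance isLocalizationStalk : IsLocalization.AtPrime ((Spec R).presheaf.stalk x) x.asIdeal :=
  inferInstanceAs (IsLocalization.AtPrime ((structurePresheafInCommRingCat R).stalk x) x.asIdeal)

lemma algebraMap_eq_lx : algebraMap R ((Spec R).presheaf.stalk x) = lx R x := rfl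

lemma lx_flat : (lx R x).Flat := by
  have : Module.Flat R ((Spec R).presheaf.stalk x) := IsLocalization.flat _ x.asIdeal.primeCompl
  exact (RingHom.flat_algebraMap_iff).2 this

lemma lx_square {R₀ : CommRingCat.{u}} (ψ : R₀ ⟶ R) :
    (lx R x).comp ψ.hom = ((Spec.map ψ).stalkMap x).hom.comp (lx R₀ ((Spec.map ψ) x)) := by
  have := AlgebraicGeometry.stalkMap_toStalk ψ x
  exact congrArg CommRingCat.Hom.hom this.symm

open Groth.Agent.Lib.Helper13.DR in
/-- a module all of whose localizations at points vanish is zero -/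
lemma isZero_of_forall_isZero_extendScalars_lx (H : ModuleCat.{u} R)
    (h : ∀ x : PrimeSpectrum.Top R,
      IsZero ((ModuleCat.extendScalars.{u, u, u} (lx R x)).obj H)) : IsZero H := by
  rw [ModuleCat.isZero_iff_subsingleton]
  refine ⟨fun y z => ?_⟩
  have key : ∀ z : H, z = 0 := by
    intro z
    by_contra hz
    have hne : (Submodule.span R {z}).annihilator ≠ ⊤ := by
      intro htop
      apply hz
      have h1 : (1 : R) ∈ (Submodule.span R {z}).annihilator := htop ▸ Submodule.mem_top
      have := (Submodule.mem_annihilator_span_singleton z 1).1 h1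
      rwa [one_smul] at this
    obtain ⟨m, hm, hle⟩ := Ideal.exists_le_maximal _ hne
    let x : PrimeSpectrum.Top R := ⟨m, hm.isPrime⟩
    have h1 := (ModuleCat.isZero_iff_subsingleton).1 (h x)
    haveI : Subsingleton ((ModuleCat.extendScalars.{u, u, u}
        (algebraMap R ((Spec R).presheaf.stalk x))).obj H) := h1
    have h2 : Subsingleton (TensorProduct R ((Spec R).presheaf.stalk x) H) :=
      (extendScalarsEquiv ((Spec R).presheaf.stalk x) H).symm.toEquiv.subsingleton
    have h3 : TensorProduct.mk R ((Spec R).presheaf.stalk x) H 1 z = 0 := Subsingleton.elim _ _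
    haveI hloc : IsLocalization x.asIdeal.primeCompl ((Spec R).presheaf.stalk x) :=
      isLocalizationStalk R x
    haveI : IsLocalizedModule x.asIdeal.primeCompl
        (TensorProduct.mk R ((Spec R).presheaf.stalk x) H 1) :=
      IsLocalization.tensorProduct_isLocalizedModule _ _
    obtain ⟨c, hc⟩ := (IsLocalizedModule.eq_zero_iff x.asIdeal.primeCompl
      (TensorProduct.mk R ((Spec R).presheaf.stalk x) H 1)).1 h3
    have hcm : (c : R) ∈ m := hle ((Submodule.mem_annihilator_span_singleton z (c : R)).2 hc)
    exact c.2 hcm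
  rw [key y, key z]

/-- the counit of extension/restriction along the localization map is an isomorphism -/
lemma isIso_counit_lx (N : ModuleCat.{u} ((Spec R).presheaf.stalk x)) :
    IsIso ((ModuleCat.extendRestrictScalarsAdj.{u, u, u} (lx R x)).counit.app N) := by
  rw [ConcreteCategory.isIso_iff_bijective]
  letI : Module R N := Module.compHom N (lx R x)
  haveI : IsScalarTower R ((Spec R).presheaf.stalk x) N := .of_algebraMap_smul fun _ _ => rfl
  have hloc : IsLocalizedModule x.asIdeal.primeCompl (LinearMap.id : N →ₗ[R] N) :=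
    isLocalizedModule_id _ N ((Spec R).presheaf.stalk x)
  have hbc : IsBaseChange ((Spec R).presheaf.stalk x) (LinearMap.id : N →ₗ[R] N) :=
    IsLocalizedModule.isBaseChange x.asIdeal.primeCompl _ _
  let c := ((ModuleCat.extendRestrictScalarsAdj.{u, u, u} (lx R x)).counit.app N).hom
  have hfun : ∀ z, c z = hbc.equiv z := by
    intro z
    induction z using TensorProduct.induction_on with
    | zero => exact (map_zero c).trans (map_zero hbc.equiv).symm
    | tmul s n => rfl
    | add a b ha hb =>
      exact (map_add c a b).trans ((congrArg₂ (· + ·) ha hb).trans (map_add hbc.equiv a b).symm)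
  have h2 : Function.Bijective c := by
    have : (c : _ → _) = ⇑hbc.equiv := funext hfun
    rw [this]
    exact hbc.equiv.bijective
  exact h2

variable (N : ModuleCat.{u} R)

instance isScalarTowerStalk :
    IsScalarTower R ((Spec R).presheaf.stalk x) ((tilde N).presheaf.stalk x) :=
  .of_algebraMap_smul fun _ _ => rfl

lemma isBaseChange_toStalk :
    IsBaseChange ((Spec R).presheaf.stalk x) (tilde.toStalk N x).hom :=
  IsLocalizedModule.isBaseChange x.asIdeal.primeCompl _ _

open Groth.Agent.Lib.Helper13.DR in
/-- `O_x ⊗ N ≃ (N~)_x` -/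
def thetaEquiv :
    ((ModuleCat.extendScalars.{u, u, u} (lx R x)).obj N) ≃ₗ[(Spec R).presheaf.stalk x]
      ((tilde N).presheaf.stalk x) :=
  (extendScalarsEquiv ((Spec R).presheaf.stalk x) N).trans (isBaseChange_toStalk R x N).equiv

lemma thetaEquiv_one_tmul (n : N) :
    thetaEquiv R x N ((1 : (Spec R).presheaf.stalk x) ⊗ₜ[R, lx R x] n) = tilde.toStalk N x n := by
  change (isBaseChange_toStalk R x N).equiv ((1 : (Spec R).presheaf.stalk x) ⊗ₜ[R] n) = _
  rw [IsBaseChange.equiv_tmul, one_smul]

lemma toStalk_eq_germ (n : N) :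
    tilde.toStalk N x n = (tilde N).presheaf.germ ⊤ x trivial (tilde.toOpen N ⊤ n) := rfl

/-- `O_x ⊗ N ≅ (N~)_x` in `ModuleCat` -/
def thetaIsoApp :
    (ModuleCat.extendScalars.{u, u, u} (lx R x)).obj N ≅
      (DerSch.stalkFunctor (Spec R) x).obj ((tilde.functor R).obj N) :=
  (thetaEquiv R x N).toModuleIso

lemma thetaIsoApp_naturality {N N' : ModuleCat.{u} R} (g : N ⟶ N') :
    (ModuleCat.extendScalars.{u, u, u} (lx R x)).map g ≫ (thetaIsoApp R x N').hom =
      (thetaIsoApp R x N).hom ≫
        (DerSch.stalkFunctor (Spec R) x).map ((tilde.functor R).map g) := by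
  apply ModuleCat.ExtendScalars.hom_ext
  intro n
  change thetaEquiv R x N' ((1 : (Spec R).presheaf.stalk x) ⊗ₜ[R, lx R x] (g n)) =
    (DerSch.stalkFunctor (Spec R) x).map ((tilde.functor R).map g)
      (thetaEquiv R x N ((1 : (Spec R).presheaf.stalk x) ⊗ₜ[R, lx R x] n))
  rw [thetaEquiv_one_tmul, thetaEquiv_one_tmul, toStalk_eq_germ, toStalk_eq_germ]
  erw [DerSch.stalkFunctor_map_germ]
  congr 1
  exact (ConcreteCategory.congr_hom (tilde.toOpen_map_app g ⊤) n).symm

/-- the natural isomorphism `O_x ⊗ - ≅ (-~)_x` -/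
def thetaIso :
    ModuleCat.extendScalars.{u, u, u} (lx R x) ≅
      tilde.functor R ⋙ DerSch.stalkFunctor (Spec R) x :=
  NatIso.ofComponents (fun N => thetaIsoApp R x N) (fun g => thetaIsoApp_naturality R x g)

end

end Groth.Agent.Lib.Helper28.DCohTilde
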