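import Mathlib
import Groth.Agent.Lib.Helper28.StalkTensor9
import Groth.Agent.Lib.Helper28.DCohTilde5
import Groth.Agent.Lib.Helper13.KFlat6

/-!
# The tilde of a K-flat complex is K-flat (helper28)
-/

set_option autoImplicit false

universe u

open CategoryTheory Limits AlgebraicGeometry TopologicalSpace Opposite MonoidalCategory
open scoped TensorProduct

namespace Groth.Agent.Lib.Helper28.StalkTensor

noncomputable section

open Groth.Agent.Lib.Helper28.DCohTilde

/-- K-flatness over a ring is invariant under isomorphism of complexes -/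
lemma isKFlat_ring_of_iso {A : Type u} [CommRing A] {K K' : DRing.Cx A} (e : K ≅ K')
    (hK : DRing.IsKFlat A K) : DRing.IsKFlat A K' := by
  intro L hL i
  exact IsZero.of_iso (hK L hL i)
    ((HomologicalComplex.homologyFunctor _ _ i).mapIso (whiskerLeftIso L e.symm))

variable (R : CommRingCat.{u}) (x : PrimeSpectrum.Top R)

/-- the stalk complex of `K~` is the base change of `K` to the local ring -/
def stalkCxTildeIso (K : DRing.Cx R) :
    (stalkCx (X := Spec R) x).obj
        (((tilde.functor R).mapHomologicalComplex (ComplexShape.up ℤ)).obj K) ≅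
      (DTen.extCx (lx R x)).obj K :=
  HomologicalComplex.Hom.isoOfComponents
    (fun i => ((thetaIso R x).app (K.X i)).symm)
    (fun i j _ => ((thetaIso R x).inv.naturality (K.d i j)).symm)

theorem isKFlat_tildeCx (K : DRing.Cx R) (hK : DRing.IsKFlat R K) :
    DCoh.IsKFlat (((tilde.functor R).mapHomologicalComplex (ComplexShape.up ℤ)).obj K) := by
  apply isKFlat_of_forall_stalk
  intro x
  exact isKFlat_ring_of_iso (stalkCxTildeIso R x K).symm
    (Groth.Agent.Lib.Helper13.HT.kflat_extCx (lx R x) K hK)

end

end Groth.Agent.Lib.Helper28.StalkTensor
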