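import Mathlib
import Groth.Agent.Lib.Helper28.StalkAdj2
import Groth.Agent.Lib.Helper28.StalkTensor10

/-!
# The stalk complex of a pullback; pullback preserves K-flat complexes (helper28)
-/

set_option autoImplicit false

universe u

open CategoryTheory Limits AlgebraicGeometry TopologicalSpace Opposite

namespace Groth.Agent.Lib.Helper28.StalkTensor

noncomputable section

variable {X Y : Scheme.{u}} (f : X ⟶ Y) (x : X)

/-- termwise pullback of complexes -/
abbrev pullCx : CochainComplex Y.Modules ℤ ⥤ CochainComplex X.Modules ℤ :=
  (Scheme.Modules.pullback f).mapHomologicalComplex (ComplexShape.up ℤ)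

/-- the stalk complex of a pullback is the base change of the stalk complex -/
def stalkCxPullIso (K : CochainComplex Y.Modules ℤ) :
    (stalkCx x).obj ((pullCx f).obj K) ≅
      (DTen.extCx (f.stalkMap x).hom).obj ((stalkCx (f.base x)).obj K) :=
  HomologicalComplex.Hom.isoOfComponents
    (fun i => (pullStalkNatIso f x).app (K.X i))
    (fun i j _ => ((pullStalkNatIso f x).hom.naturality (K.d i j)).symm)

/-- **Pullback preserves K-flat complexes.** -/
theorem isKFlat_pullCx (K : CochainComplex Y.Modules ℤ) (hK : DCoh.IsKFlat K) :
    DCoh.IsKFlat ((pullCx f).obj K) := by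
  apply isKFlat_of_forall_stalk
  intro x
  exact isKFlat_ring_of_iso (stalkCxPullIso f x K).symm
    (Groth.Agent.Lib.Helper13.HT.kflat_extCx (f.stalkMap x).hom _
      (isKFlat_stalk_of_isKFlat (f.base x) K hK))

end

end Groth.Agent.Lib.Helper28.StalkTensor
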