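import Mathlib
import Groth.Agent.Lib.Helper28.StalkAdj3
import Groth.Agent.Lib.Helper28.DCohRes1
import Groth.Agent.Lib.Helper13.AdjCx

/-!
# Pullback along a flat morphism is exact; pushforward along a flat morphism preserves
K-injective complexes (helper28)
-/

set_option autoImplicit false

universe u

open CategoryTheory Limits AlgebraicGeometry

namespace Groth.Agent.Lib.Helper28.FlatPull

open Groth.Agent.Lib.Helper28.StalkTensor

noncomputable section

variable {X Y : Scheme.{u}} (f : X ⟶ Y)

/-- extension of scalars along a flat ring map preserves acyclic complexes -/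
lemma acyclic_extCx_of_flat {A B : Type u} [CommRing A] [CommRing B] (φ : A →+* B) (hφ : φ.Flat)
    (K : CochainComplex (ModuleCat.{u} A) ℤ) (hK : ∀ i : ℤ, IsZero (K.homology i)) (i : ℤ) :
    IsZero (((DTen.extCx φ).obj K).homology i) := by
  have := ModuleCat.preservesFiniteLimits_extendScalars_of_flat.{u} hφ
  exact IsZero.of_iso (Functor.map_isZero (ModuleCat.extendScalars.{u, u, u} φ) (hK i))
    ((Groth.Agent.Lib.Helper28.DCohRes.mapHCHomologyIso (ModuleCat.extendScalars.{u, u, u} φ) i).app K)

/-- **Pullback along a flat morphism preserves acyclic complexes.** -/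
theorem acyclic_pullCx_of_flat [Flat f] (K : CochainComplex Y.Modules ℤ)
    (hac : ∀ i : ℤ, IsZero (K.homology i)) (i : ℤ) : IsZero (((pullCx f).obj K).homology i) := by
  apply isZero_homology_of_forall_stalkCx
  intro x
  exact IsZero.of_iso
    (acyclic_extCx_of_flat (f.stalkMap x).hom (Flat.stalkMap f x) _
      (isZero_homology_stalkCx (f.base x) K hac) i)
    ((HomologicalComplex.homologyFunctor _ _ i).mapIso (stalkCxPullIso f x K))

/-- **Pushforward along a flat morphism preserves K-injective complexes.** -/
theorem isKInjective_pushforward [Flat f] (I : CochainComplex X.Modules ℤ) (hI : I.IsKInjective) :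
    CochainComplex.IsKInjective
      (((Scheme.Modules.pushforward f).mapHomologicalComplex (ComplexShape.up ℤ)).obj I) := by
  refine ⟨fun {A} φ hA => ?_⟩
  let adj := Groth.Agent.Lib.Helper13.Kan.adjCx
    (Scheme.Modules.pullbackPushforwardAdjunction f) (ComplexShape.up ℤ)
  have hA' : ((pullCx f).obj A).Acyclic := by
    intro i
    rw [HomologicalComplex.exactAt_iff_isZero_homology]
    exact acyclic_pullCx_of_flat f A
      (fun n => (HomologicalComplex.exactAt_iff_isZero_homology _ _).1 (hA n)) i
  let φ' : (pullCx f).obj A ⟶ I := (adj.homEquiv A I).symm φ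
  have h := CochainComplex.IsKInjective.homotopyZero φ' hA'
  have e : φ = adj.unit.app A ≫
      ((Scheme.Modules.pushforward f).mapHomologicalComplex (ComplexShape.up ℤ)).map φ' := by
    have := adj.homEquiv_unit (X := A) (Y := I) (f := φ')
    rw [← this]
    simp [φ']
  refine ⟨(Homotopy.ofEq e).trans
    ((((Scheme.Modules.pushforward f).mapHomotopy h).compLeft (adj.unit.app A)).trans
      (Homotopy.ofEq ?_))⟩
  simp

end

end Groth.Agent.Lib.Helper28.FlatPull
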