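import Mathlib
import Groth.Agent.Lib.Helper28.FlatPull
import Groth.Agent.Lib.Helper28.DCohStalk1
import Groth.Agent.Lib.Helper29.QCohExact

/-!
# Pullback of modules along a flat morphism is exact (helper28)
-/

set_option autoImplicit false

universe u

open CategoryTheory Limits AlgebraicGeometry

namespace Groth.Agent.Lib.Helper28.FlatPull

open Groth.Agent.Lib.Helper28.StalkTensor Groth.Agent.Lib.Helper28.DCohStalk
  Groth.Agent.Lib.Helper29.QCoh

noncomputable section

variable {X Y : Scheme.{u}} (f : X ⟶ Y)

/-- pullback along a flat morphism preserves monomorphisms -/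
theorem mono_pullback_map_of_flat [Flat f] {M N : Y.Modules} (g : M ⟶ N) [Mono g] :
    Mono ((Scheme.Modules.pullback f).map g) := by
  rw [mono_iff_stalkMap_injective]
  intro x
  have := ModuleCat.preservesFiniteLimits_extendScalars_of_flat.{u} (Flat.stalkMap f x)
  have h1 : Mono ((DerSch.stalkFunctor Y (f.base x) ⋙ esStalk f x).map g) := by
    change Mono ((esStalk f x).map ((DerSch.stalkFunctor Y (f.base x)).map g))
    infer_instance
  have h2 : Mono ((Scheme.Modules.pullback f ⋙ DerSch.stalkFunctor X x).map g) := by
    have e := NatIso.naturality_2 (pullStalkNatIso f x) g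
    rw [← e]
    exact mono_comp' (IsIso.mono_of_iso _) (mono_comp' h1 (IsIso.mono_of_iso _))
  have h3 : Mono ((DerSch.stalkFunctor X x).map ((Scheme.Modules.pullback f).map g)) := h2
  exact (ModuleCat.mono_iff_injective _).1 h3

instance preservesFiniteLimits_pullback_of_flat [Flat f] :
    PreservesFiniteLimits (Scheme.Modules.pullback f) := by
  have hc : PreservesFiniteColimits (Scheme.Modules.pullback f) := inferInstance
  refine ((Functor.preservesFiniteLimits_tfae (Scheme.Modules.pullback f)).out 0 3 rfl rfl).1 ?_
  intro S hS
  have := hS.mono_f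
  exact ⟨(((Functor.preservesFiniteColimits_tfae (Scheme.Modules.pullback f)).out 0 3 rfl rfl).2 hc S hS).1,
    mono_pullback_map_of_flat f S.f⟩

end

end Groth.Agent.Lib.Helper28.FlatPull
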