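import Mathlib
import Groth.Agent.Lib.Helper28.KFlatAbs

/-!
# Abstract K-flat calculus VIII: `Tot(K ⊗ L)` is K-flat when `K` and `L` are (helper28)
-/

open CategoryTheory Limits HomologicalComplex

namespace Groth.Agent.Lib.Helper28.KFlatAbs

universe v u

variable {A : Type u} [Category.{v} A] [Abelian A]

section Assoc

variable (T : A ⥤ A ⥤ A) [T.Additive] [∀ X, (T.obj X).Additive]
  [∀ K L : CochainComplex A ℤ, HasMapBifunctor K L T (.up ℤ)]

theorem hasGoodTrifunctor₁₂Obj
    (h : ∀ (I : Type) (Y : A), PreservesColimitsOfShape (Discrete I) (T.flip.obj Y))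
    (K₁ K₂ K₃ : CochainComplex A ℤ) :
    HasGoodTrifunctor₁₂Obj T T K₁ K₂ K₃ (.up ℤ) (.up ℤ) := fun _ _ => inferInstance

theorem hasGoodTrifunctor₂₃Obj
    (h : ∀ (I : Type) (X : A), PreservesColimitsOfShape (Discrete I) (T.obj X))
    (K₁ K₂ K₃ : CochainComplex A ℤ) :
    HasGoodTrifunctor₂₃Obj T T K₁ K₂ K₃ (.up ℤ) (.up ℤ) (.up ℤ) := fun _ _ => inferInstance

variable {T}

/-- The total tensor product of two K-flat complexes is K-flat (given an associativity constraint
for `T` and commutation of `T` with countable coproducts in each variable). -/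
theorem isKFlat_mapBifunctor (assoc : bifunctorComp₁₂ T T ≅ bifunctorComp₂₃ T T)
    (h₁ : ∀ (I : Type) (Y : A), PreservesColimitsOfShape (Discrete I) (T.flip.obj Y))
    (h₂ : ∀ (I : Type) (X : A), PreservesColimitsOfShape (Discrete I) (T.obj X))
    {K L : CochainComplex A ℤ} (hK : IsKFlat T K) (hL : IsKFlat T L) :
    IsKFlat T (mapBifunctor K L T (.up ℤ)) := by
  intro F hF
  have a1 := hK F hF
  have a2 := hL _ a1
  have := hasGoodTrifunctor₁₂Obj T h₁ F K L
  have := hasGoodTrifunctor₂₃Obj T h₂ F K L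
  exact acyclic_of_iso
    (mapBifunctorAssociator assoc F K L (.up ℤ) (.up ℤ) (.up ℤ)) a2

end Assoc

end Groth.Agent.Lib.Helper28.KFlatAbs
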