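import Mathlib
import Groth.Agent.Lib.Helper28.KFlatAbs8

/-!
# Abstract K-flat calculus X: naturality of the associator of total complexes in the first
variable (helper28)
-/

open CategoryTheory Limits HomologicalComplex

namespace Groth.Agent.Lib.Helper28.KFlatAbs

universe v u

variable {A : Type u} [Category.{v} A] [Abelian A]
  {T : A ⥤ A ⥤ A} [T.Additive] [∀ X, (T.obj X).Additive]
  [∀ K L : CochainComplex A ℤ, HasMapBifunctor K L T (.up ℤ)]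

section

variable {F F' : CochainComplex A ℤ} (f : F ⟶ F') (K L : CochainComplex A ℤ)

/-- the action of `f ⊗ 1 ⊗ 1` on the summands of `Tot(Tot(F ⊗ K) ⊗ L)` -/
lemma ι₁₂_map (i₁ i₂ i₃ n : ℤ) (h : i₁ + i₂ + i₃ = n) :
    mapBifunctor₁₂.ι T T F K L (.up ℤ) (.up ℤ) i₁ i₂ i₃ n h ≫
      (mapBifunctorMap (mapBifunctorMap f (𝟙 K) T (.up ℤ)) (𝟙 L) T (.up ℤ)).f n =
    (T.map ((T.map (f.f i₁)).app (K.X i₂))).app (L.X i₃) ≫
      mapBifunctor₁₂.ι T T F' K L (.up ℤ) (.up ℤ) i₁ i₂ i₃ n h := by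
  rw [mapBifunctor₁₂.ι_eq T T F K L (.up ℤ) (.up ℤ) i₁ i₂ i₃ (i₁ + i₂) n rfl h,
    mapBifunctor₁₂.ι_eq T T F' K L (.up ℤ) (.up ℤ) i₁ i₂ i₃ (i₁ + i₂) n rfl h,
    Category.assoc, ι_mapBifunctorMap]
  rw [← Category.assoc, ← NatTrans.comp_app, ← T.map_comp, ι_mapBifunctorMap]
  simp only [HomologicalComplex.id_f, CategoryTheory.Functor.map_id, Category.comp_id,
    Category.id_comp, CategoryTheory.Functor.map_comp, NatTrans.comp_app, Category.assoc,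
    NatTrans.id_app]

/-- the action of `f ⊗ 1` on the summands of `Tot(F ⊗ Tot(K ⊗ L))` -/
lemma ι₂₃_map (i₁ i₂ i₃ n : ℤ) (h : i₁ + i₂ + i₃ = n) :
    mapBifunctor₂₃.ι T T F K L (.up ℤ) (.up ℤ) (.up ℤ) i₁ i₂ i₃ n h ≫
      (mapBifunctorMap f (𝟙 (mapBifunctor K L T (.up ℤ))) T (.up ℤ)).f n =
    (T.map (f.f i₁)).app ((T.obj (K.X i₂)).obj (L.X i₃)) ≫
      mapBifunctor₂₃.ι T T F' K L (.up ℤ) (.up ℤ) (.up ℤ) i₁ i₂ i₃ n h := by
  rw [mapBifunctor₂₃.ι_eq T T F K L (.up ℤ) (.up ℤ) (.up ℤ) i₁ i₂ i₃ (i₂ + i₃) n rfl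
      (show i₁ + (i₂ + i₃) = n by omega),
    mapBifunctor₂₃.ι_eq T T F' K L (.up ℤ) (.up ℤ) (.up ℤ) i₁ i₂ i₃ (i₂ + i₃) n rfl
      (show i₁ + (i₂ + i₃) = n by omega),
    Category.assoc, ι_mapBifunctorMap]
  simp only [HomologicalComplex.id_f, CategoryTheory.Functor.map_id, Category.comp_id,
    Category.id_comp, Category.assoc]
  rw [← Category.assoc, ← Category.assoc]
  exact congrArg (· ≫ _) ((T.map (f.f i₁)).naturality _)

end

/-- naturality of the associator `Tot(Tot(F ⊗ K) ⊗ L) ≅ Tot(F ⊗ Tot(K ⊗ L))` in `F` -/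
theorem mapBifunctorAssociator_hom_naturality₁
    (assoc : bifunctorComp₁₂ T T ≅ bifunctorComp₂₃ T T)
    (h₁ : ∀ (I : Type) (Y : A), PreservesColimitsOfShape (Discrete I) (T.flip.obj Y))
    (h₂ : ∀ (I : Type) (X : A), PreservesColimitsOfShape (Discrete I) (T.obj X))
    {F F' : CochainComplex A ℤ} (f : F ⟶ F') (K L : CochainComplex A ℤ) :
    haveI := hasGoodTrifunctor₁₂Obj T h₁ F K L
    haveI := hasGoodTrifunctor₂₃Obj T h₂ F K L
    haveI := hasGoodTrifunctor₁₂Obj T h₁ F' K L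
    haveI := hasGoodTrifunctor₂₃Obj T h₂ F' K L
    mapBifunctorMap (mapBifunctorMap f (𝟙 K) T (.up ℤ)) (𝟙 L) T (.up ℤ) ≫
        (mapBifunctorAssociator assoc F' K L (.up ℤ) (.up ℤ) (.up ℤ)).hom =
      (mapBifunctorAssociator assoc F K L (.up ℤ) (.up ℤ) (.up ℤ)).hom ≫
        mapBifunctorMap f (𝟙 (mapBifunctor K L T (.up ℤ))) T (.up ℤ) := by
  haveI := hasGoodTrifunctor₁₂Obj T h₁ F K L
  haveI := hasGoodTrifunctor₂₃Obj T h₂ F K L
  haveI := hasGoodTrifunctor₁₂Obj T h₁ F' K L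
  haveI := hasGoodTrifunctor₂₃Obj T h₂ F' K L
  ext n i₁ i₂ i₃ h
  have e1 : (mapBifunctorAssociator assoc F' K L (.up ℤ) (.up ℤ) (.up ℤ)).hom.f n =
      (mapBifunctorAssociatorX assoc F' K L (.up ℤ) (.up ℤ) (.up ℤ) n).hom := rfl
  have e2 : (mapBifunctorAssociator assoc F K L (.up ℤ) (.up ℤ) (.up ℤ)).hom.f n =
      (mapBifunctorAssociatorX assoc F K L (.up ℤ) (.up ℤ) (.up ℤ) n).hom := rfl
  rw [HomologicalComplex.comp_f, HomologicalComplex.comp_f, e1, e2,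
    reassoc_of% (ι₁₂_map f K L i₁ i₂ i₃ n h), ι_mapBifunctorAssociatorX_hom,
    ι_mapBifunctorAssociatorX_hom_assoc]
  have key := ι₂₃_map (T := T) f K L i₁ i₂ i₃ n h
  have nat := congrArg (fun t => (t.app (K.X i₂)).app (L.X i₃)) (assoc.hom.naturality (f.f i₁))
  refine Eq.trans ?_ (congrArg
    (fun t => ((assoc.hom.app (F.X i₁)).app (K.X i₂)).app (L.X i₃) ≫ t) key.symm)
  exact (Category.assoc _ _ _).symm.trans ((congrArg (fun t => t ≫
    mapBifunctor₂₃.ι T T F' K L (.up ℤ) (.up ℤ) (.up ℤ) i₁ i₂ i₃ n h) nat).trans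
      (Category.assoc _ _ _))

end Groth.Agent.Lib.Helper28.KFlatAbs
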