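import Mathlib

/-!
# Left derived functors and quotient functors (helper28)

If `Φ : C ⥤ K` is essentially surjective, `Lh : K ⥤ D'` and `Φ ⋙ Lh` are localization functors
(for `Wh` and `W`), and `Fh : K ⥤ D` with `Φ ⋙ Fh ≅ F`, then a left derived functor `(LF, α)` of
`F` along `Φ ⋙ Lh` is also a left derived functor of `Fh` along `Lh` (for the induced counit).
-/

open CategoryTheory

namespace Groth.Agent.Lib.Helper28.DerivedQuot

variable {C K D' D : Type*} [Category C] [Category K] [Category D'] [Category D]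

/-- natural transformations out of the essentially surjective `Φ` are determined on the image -/
lemma natTrans_ext_of_essSurj (Φ : C ⥤ K) [Φ.EssSurj] {P Q : K ⥤ D} (η θ : P ⟶ Q)
    (h : ∀ c : C, η.app (Φ.obj c) = θ.app (Φ.obj c)) : η = θ := by
  ext k
  have i := Φ.objObjPreimageIso k
  have h1 : η.app k = P.map i.inv ≫ η.app (Φ.obj (Φ.objPreimage k)) ≫ Q.map i.hom := by
    rw [← η.naturality, ← P.map_comp_assoc, Iso.inv_hom_id, P.map_id, Category.id_comp]
  have h2 : θ.app k = P.map i.inv ≫ θ.app (Φ.obj (Φ.objPreimage k)) ≫ Q.map i.hom := by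
    rw [← θ.naturality, ← P.map_comp_assoc, Iso.inv_hom_id, P.map_id, Category.id_comp]
  rw [h1, h2, h]

theorem isLeftDerivedFunctor_of_quotient
    (Φ : C ⥤ K) [Φ.EssSurj] (Lh : K ⥤ D') (W : MorphismProperty C) (Wh : MorphismProperty K)
    [Lh.IsLocalization Wh] [(Φ ⋙ Lh).IsLocalization W]
    {F : C ⥤ D} {Fh : K ⥤ D} (LF : D' ⥤ D) (α : (Φ ⋙ Lh) ⋙ LF ⟶ F)
    (αh : Lh ⋙ LF ⟶ Fh) (e : Φ ⋙ Fh ≅ F) [LF.IsLeftDerivedFunctor α W]
    (hα : ∀ c : C, αh.app (Φ.obj c) ≫ e.hom.app c = α.app c) :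
    LF.IsLeftDerivedFunctor αh Wh := by
  rw [Functor.isLeftDerivedFunctor_iff_isRightKanExtension]
  have lift_fac : ∀ (G : D' ⥤ D) (β : Lh ⋙ G ⟶ Fh),
      Functor.whiskerLeft Lh (LF.leftDerivedLift α W G (Functor.whiskerLeft Φ β ≫ e.hom)) ≫ αh =
        β := by
    intro G β
    apply natTrans_ext_of_essSurj Φ
    intro c
    have h := LF.leftDerived_fac_app α W G (Functor.whiskerLeft Φ β ≫ e.hom) c
    rw [← hα c] at h
    have h' : ((LF.leftDerivedLift α W G (Functor.whiskerLeft Φ β ≫ e.hom)).app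
        (Lh.obj (Φ.obj c)) ≫ αh.app (Φ.obj c)) ≫ e.hom.app c = β.app (Φ.obj c) ≫ e.hom.app c := by
      rw [Category.assoc]
      exact h
    exact (cancel_mono (e.hom.app c)).1 h'
  have uniq : ∀ (G : D' ⥤ D) (β : Lh ⋙ G ⟶ Fh) (γ : G ⟶ LF),
      Functor.whiskerLeft Lh γ ≫ αh = β →
        γ = LF.leftDerivedLift α W G (Functor.whiskerLeft Φ β ≫ e.hom) := by
    intro G β γ hw
    apply LF.leftDerived_ext α W
    rw [Functor.leftDerived_fac]
    ext c
    have hwc := congrArg (fun t => t.app (Φ.obj c)) hw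
    simp only [NatTrans.comp_app, Functor.whiskerLeft_app] at hwc
    simp only [NatTrans.comp_app, Functor.whiskerLeft_app, Functor.comp_obj]
    rw [← hα c, ← Category.assoc]
    exact congrArg (fun t => t ≫ e.hom.app c) hwc
  refine ⟨⟨Limits.IsTerminal.ofUniqueHom
    (fun G => CostructuredArrow.homMk
      (LF.leftDerivedLift α W G.left (Functor.whiskerLeft Φ G.hom ≫ e.hom))
      (lift_fac G.left G.hom)) ?_⟩⟩
  intro G m
  apply CostructuredArrow.hom_ext
  exact uniq G.left G.hom m.left (CostructuredArrow.w m)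

end Groth.Agent.Lib.Helper28.DerivedQuot
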