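import Mathlib

/-!
# Computing left derived functors on adapted objects (helper28)

`L : C ⥤ D` a localization functor for `W` (with right calculus of fractions), `F : C ⥤ H`,
`(LF, α)` a left derived functor of `F`.  Suppose `τ : F' ⟶ F` where `F'` inverts `W`, and every
object `X` admits `s : E ⟶ X` in `W` with `τ.app E` an isomorphism.  Then `α.app E` is an
isomorphism whenever `τ.app E` is.
-/

open CategoryTheory

namespace Groth.Agent.Lib.Helper28.DerivedAdapted

variable {C D H : Type*} [Category C] [Category D] [Category H]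
  (L : C ⥤ D) (W : MorphismProperty C) [L.IsLocalization W]
  {F F' : C ⥤ H} (τ : F' ⟶ F)
  (LF : D ⥤ H) (α : L ⋙ LF ⟶ F)

/-- a good resolution of `X` -/
structure Good (X : C) where
  E : C
  s : E ⟶ X
  hs : W s
  hτ : IsIso (τ.app E)

variable {W τ}

/-- the isomorphism `LF(L E) ≅ LF(L X)` attached to a good resolution -/
noncomputable def Good.isoL {X : C} (r : Good W τ X) : LF.obj (L.obj r.E) ≅ LF.obj (L.obj X) :=
  LF.mapIso (Localization.isoOfHom L W r.s r.hs)

/-- the isomorphism `F' E ≅ F E` attached to a good resolution -/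
noncomputable def Good.isoτ {X : C} (r : Good W τ X) : F'.obj r.E ≅ F.obj r.E :=
  haveI := r.hτ
  asIso (τ.app r.E)

@[simp] lemma Good.isoL_hom {X : C} (r : Good W τ X) :
    (r.isoL L LF).hom = LF.map (L.map r.s) := rfl

@[simp] lemma Good.isoτ_hom {X : C} (r : Good W τ X) : r.isoτ.hom = τ.app r.E := rfl

/-- the candidate component of `L ⋙ LF ⟶ F'` computed with a good resolution -/
noncomputable def δ' {X : C} (r : Good W τ X) : LF.obj (L.obj X) ⟶ F'.obj X :=
  (r.isoL L LF).inv ≫ α.app r.E ≫ r.isoτ.inv ≫ F'.map r.s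

variable {L LF}

/-- compatibility of `δ'` with morphisms lifted to resolutions -/
lemma δ'_natural {X Y : C} (f : X ⟶ Y) (r : Good W τ X) (r' : Good W τ Y) (g : r.E ⟶ r'.E)
    (comm : r.s ≫ f = g ≫ r'.s) :
    LF.map (L.map f) ≫ δ' L LF α r' = δ' L LF α r ≫ F'.map f := by
  unfold δ'
  have h1 : LF.map (L.map f) ≫ (r'.isoL L LF).inv = (r.isoL L LF).inv ≫ LF.map (L.map g) := by
    rw [Iso.comp_inv_eq, Category.assoc, Iso.eq_inv_comp, Good.isoL_hom, Good.isoL_hom,
      ← LF.map_comp, ← LF.map_comp, ← L.map_comp, ← L.map_comp, comm]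
  have h2 : F.map g ≫ r'.isoτ.inv = r.isoτ.inv ≫ F'.map g := by
    rw [Iso.comp_inv_eq, Category.assoc, Iso.eq_inv_comp, Good.isoτ_hom, Good.isoτ_hom]
    exact (τ.naturality g).symm
  have h3 : LF.map (L.map g) ≫ α.app r'.E = α.app r.E ≫ F.map g := α.naturality g
  rw [reassoc_of% h1, reassoc_of% h3, reassoc_of% h2]
  simp only [Category.assoc, ← F'.map_comp, comm]

/-- independence of refinement -/
lemma δ'_refine [W.IsMultiplicative] {X : C} (r : Good W τ X) {E' : C} (t : E' ⟶ r.E) (ht : W t)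
    (hτ' : IsIso (τ.app E')) :
    δ' L LF α (⟨E', t ≫ r.s, W.comp_mem _ _ ht r.hs, hτ'⟩ : Good W τ X) = δ' L LF α r := by
  have := δ'_natural (L := L) (LF := LF) α (𝟙 X)
    (⟨E', t ≫ r.s, W.comp_mem _ _ ht r.hs, hτ'⟩ : Good W τ X) r t (by simp)
  simpa using this.symm

variable [W.HasRightCalculusOfFractions] (hres : ∀ X : C, Nonempty (Good W τ X))

/-- a chosen good resolution -/
noncomputable def res (X : C) : Good W τ X := (hres X).some

variable (L LF)

/-- the natural transformation `L ⋙ LF ⟶ F'` -/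
noncomputable def δnat : L ⋙ LF ⟶ F' where
  app X := δ' L LF α (res hres X)
  naturality X Y f := by
    let rX := res hres X
    let rY := res hres Y
    obtain ⟨ψ, fac⟩ := (MorphismProperty.LeftFraction.mk (rX.s ≫ f) rY.s rY.hs).exists_rightFraction
    dsimp at fac
    let rZ := res hres ψ.X'
    let r1 : Good W τ X := ⟨rZ.E, (rZ.s ≫ ψ.s) ≫ rX.s,
      W.comp_mem _ _ (W.comp_mem _ _ rZ.hs ψ.hs) rX.hs, rZ.hτ⟩
    have e1 : δ' L LF α r1 = δ' L LF α rX :=
      δ'_refine α rX (rZ.s ≫ ψ.s) (W.comp_mem _ _ rZ.hs ψ.hs) rZ.hτ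
    have e2 := δ'_natural (L := L) (LF := LF) α f r1 rY (rZ.s ≫ ψ.f) (by
      dsimp [r1]
      simp only [Category.assoc]
      rw [fac])
    change LF.map (L.map f) ≫ δ' L LF α rY = δ' L LF α rX ≫ F'.map f
    rw [e2, e1]

lemma δnat_fac : δnat L LF α hres ≫ τ = α := by
  ext X
  change δ' L LF α (res hres X) ≫ τ.app X = α.app X
  unfold δ'
  have h := τ.naturality (res hres X).s
  have h3 := α.naturality (res hres X).s
  simp only [Category.assoc]
  rw [h, ← Good.isoτ_hom, Iso.inv_hom_id_assoc, ← h3, ← Category.assoc]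
  change (((res hres X).isoL L LF).inv ≫ ((res hres X).isoL L LF).hom) ≫ α.app X = α.app X
  rw [Iso.inv_hom_id, Category.id_comp]

variable [LF.IsLeftDerivedFunctor α W] (hF' : W.IsInvertedBy F')

include hres hF' in
/-- **Main theorem.** The counit of the left derived functor is an isomorphism on every object on
which `τ` is an isomorphism. -/
theorem isIso_counit_app_of_isIso (E : C) (hE : IsIso (τ.app E)) : IsIso (α.app E) := by
  let F₀ : D ⥤ H := Localization.lift F' hF' L
  let e : L ⋙ F₀ ≅ F' := Localization.fac F' hF' L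
  let γ : F₀ ⟶ LF := LF.leftDerivedLift α W F₀ (e.hom ≫ τ)
  have hγ : ∀ X : C, γ.app (L.obj X) ≫ α.app X = e.hom.app X ≫ τ.app X := fun X => by
    exact LF.leftDerived_fac_app α W F₀ (e.hom ≫ τ) X
  let δ : LF ⟶ F₀ := Localization.liftNatTrans L W (L ⋙ LF) F' LF F₀ (δnat L LF α hres)
  have hδ : ∀ X : C, δ.app (L.obj X) = (δnat L LF α hres).app X ≫ e.inv.app X := fun X => by
    have := Localization.liftNatTrans_app L W (L ⋙ LF) F' LF F₀ (δnat L LF α hres) X
    rw [this]
    simp [Localization.Lifting.iso, e]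
    rfl
  have h1 : δ ≫ γ = 𝟙 LF := by
    apply LF.leftDerived_ext α W
    ext X
    simp only [Functor.whiskerLeft_app, NatTrans.comp_app, Category.assoc, NatTrans.id_app,
      Category.id_comp]
    rw [hγ, hδ]
    simp only [Category.assoc, Iso.inv_hom_id_app_assoc]
    exact (congrArg (fun t => t.app X) (δnat_fac L LF α hres)).trans (Category.id_comp _).symm
  have h2 : γ ≫ δ = 𝟙 F₀ := by
    apply Localization.natTrans_ext L W
    intro X
    rw [NatTrans.comp_app, hδ, NatTrans.id_app]
    suffices γ.app (L.obj X) ≫ (δnat L LF α hres).app X = e.hom.app X by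
      rw [← Category.assoc, this, Iso.hom_inv_id_app]
      rfl
    let r := res hres X
    change γ.app (L.obj X) ≫ δ' L LF α r = _
    unfold δ'
    have hn : F₀.map (L.map r.s) ≫ γ.app (L.obj X) = γ.app (L.obj r.E) ≫ LF.map (L.map r.s) :=
      γ.naturality (L.map r.s)
    have : IsIso (F₀.map (L.map r.s)) := by
      have := Localization.inverts L W r.s r.hs
      infer_instance
    have hn' : γ.app (L.obj X) ≫ (r.isoL L LF).inv =
        inv (F₀.map (L.map r.s)) ≫ γ.app (L.obj r.E) := by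
      rw [Iso.comp_inv_eq, Category.assoc, Good.isoL_hom, ← hn, IsIso.inv_hom_id_assoc]
    rw [reassoc_of% hn', reassoc_of% (hγ r.E), ← Good.isoτ_hom, Iso.hom_inv_id_assoc]
    have he : e.hom.app r.E ≫ F'.map r.s = F₀.map (L.map r.s) ≫ e.hom.app X :=
      (e.hom.naturality r.s).symm
    rw [he, IsIso.inv_hom_id_assoc]
  have hiso : IsIso (γ.app (L.obj E)) :=
    ⟨δ.app (L.obj E), by rw [← NatTrans.comp_app, h2]; rfl, by rw [← NatTrans.comp_app, h1]; rfl⟩
  have key : α.app E = inv (γ.app (L.obj E)) ≫ e.hom.app E ≫ τ.app E := by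
    rw [IsIso.eq_inv_comp, hγ]
  rw [key]
  infer_instance

end Groth.Agent.Lib.Helper28.DerivedAdapted
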