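import Mathlib
import Groth.Agent.Lib.Helper28.KFlatAbs

/-!
# Abstract K-flat calculus V: symmetry, quasi-isomorphisms between K-flat complexes (helper28)
-/

open CategoryTheory Limits HomologicalComplex

namespace Groth.Agent.Lib.Helper28.KFlatAbs

universe v u

variable {A : Type u} [Category.{v} A] [Abelian A]

section NatIso

variable {T T' : A ⥤ A ⥤ A} [T.PreservesZeroMorphisms] [∀ X, (T.obj X).PreservesZeroMorphisms]
  [T'.PreservesZeroMorphisms] [∀ X, (T'.obj X).PreservesZeroMorphisms]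
  (K L : CochainComplex A ℤ)

/-- the morphism of bicomplexes induced by a natural transformation of bifunctors -/
noncomputable def bicomplexNatTrans (τ : T ⟶ T') :
    ((T.mapBifunctorHomologicalComplex (ComplexShape.up ℤ) (ComplexShape.up ℤ)).obj K).obj L ⟶
      ((T'.mapBifunctorHomologicalComplex (ComplexShape.up ℤ) (ComplexShape.up ℤ)).obj K).obj L :=
  HomologicalComplex₂.homMk (fun i => (τ.app (K.X i.1)).app (L.X i.2))
    (fun p p' q _ => by
      have := NatTrans.congr_app (τ.naturality (K.d p p')) (L.X q)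
      simp only [NatTrans.comp_app] at this
      exact this.symm)
    (fun p q q' _ => ((τ.app (K.X p)).naturality (L.d q q')).symm)

lemma bicomplexNatTrans_id : bicomplexNatTrans K L (𝟙 T) = 𝟙 _ := by
  ext p q
  simp [bicomplexNatTrans, HomologicalComplex₂.homMk]
  rfl

lemma bicomplexNatTrans_comp {T'' : A ⥤ A ⥤ A} [T''.PreservesZeroMorphisms]
    [∀ X, (T''.obj X).PreservesZeroMorphisms] (τ : T ⟶ T') (τ' : T' ⟶ T'') :
    bicomplexNatTrans K L (τ ≫ τ') = bicomplexNatTrans K L τ ≫ bicomplexNatTrans K L τ' := by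
  ext p q
  simp [bicomplexNatTrans, HomologicalComplex₂.homMk]
  rfl

variable [HasMapBifunctor K L T (.up ℤ)] [HasMapBifunctor K L T' (.up ℤ)]

/-- isomorphic bifunctors give isomorphic total complexes -/
noncomputable def mapBifunctorNatIso (τ : T ≅ T') :
    mapBifunctor K L T (.up ℤ) ≅ mapBifunctor K L T' (.up ℤ) :=
  HomologicalComplex₂.total.mapIso
    { hom := bicomplexNatTrans K L τ.hom
      inv := bicomplexNatTrans K L τ.inv
      hom_inv_id := by rw [← bicomplexNatTrans_comp, τ.hom_inv_id, bicomplexNatTrans_id]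
      inv_hom_id := by rw [← bicomplexNatTrans_comp, τ.inv_hom_id, bicomplexNatTrans_id] } _

end NatIso

section Symm

variable (T : A ⥤ A ⥤ A) [T.PreservesZeroMorphisms] [∀ X, (T.obj X).PreservesZeroMorphisms]
  [∀ K L : CochainComplex A ℤ, HasMapBifunctor K L T (.up ℤ)]

instance (Y : A) : (T.flip.obj Y).PreservesZeroMorphisms where
  map_zero X X' := by simp

instance : T.flip.PreservesZeroMorphisms where
  map_zero X X' := by
    ext Y
    simp

/-- symmetry of the total tensor complex for a symmetric bifunctor -/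
noncomputable def symmIso (τ : T ≅ T.flip) (K L : CochainComplex A ℤ) :
    mapBifunctor K L T (.up ℤ) ≅ mapBifunctor L K T (.up ℤ) :=
  mapBifunctorNatIso K L τ ≪≫ mapBifunctorFlipIso L K T (.up ℤ)

end Symm

section Right

variable [HasCoproducts.{0} A] [AB4OfSize.{0} A]
  (T : A ⥤ A ⥤ A) [T.Additive] [∀ X, (T.obj X).Additive]
  [∀ K L : CochainComplex A ℤ, HasMapBifunctor K L T (.up ℤ)]

/-- left K-flatness: `Tot(L ⊗ -)` preserves acyclic complexes -/
def IsKFlatL (L : CochainComplex A ℤ) : Prop :=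
  ∀ M : CochainComplex A ℤ, M.Acyclic → (mapBifunctor L M T (.up ℤ)).Acyclic

variable {T}

omit [HasCoproducts.{0} A] [AB4OfSize.{0} A] in
theorem isKFlatL_of_isKFlat (τ : T ≅ T.flip) {L : CochainComplex A ℤ} (h : IsKFlat T L) :
    IsKFlatL T L := fun M hM =>
  acyclic_of_iso (symmIso T τ M L) (h M hM)

/-- If `L` is left K-flat then `Tot(L ⊗ -)` preserves quasi-isomorphisms. -/
theorem quasiIso_mapBifunctorMap₂_of_isKFlatL {L : CochainComplex A ℤ} (hL : IsKFlatL T L)
    {F F' : CochainComplex A ℤ} (φ : F ⟶ F') [QuasiIso φ] :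
    QuasiIso (mapBifunctorMap (𝟙 L) φ T (.up ℤ)) := by
  let Φ := (T.map₂CochainComplex).obj L
  let S₁ := CochainComplex.mappingCone.triangleRotateShortComplex (𝟙 F)
  let S₂ := CochainComplex.mappingCone.triangleRotateShortComplex φ
  let α : S₁ ⟶ S₂ :=
    { τ₁ := φ
      τ₂ := CochainComplex.mappingCone.map (𝟙 F) φ (𝟙 F) φ (by simp)
      τ₃ := 𝟙 _
      comm₁₂ := by
        dsimp [S₁, S₂, CochainComplex.mappingCone.triangleRotateShortComplex]
        exact ((CochainComplex.mappingCone.triangleMap (𝟙 F) φ (𝟙 F) φ (by simp)).comm₂).symm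
      comm₂₃ := by
        dsimp [S₁, S₂, CochainComplex.mappingCone.triangleRotateShortComplex]
        have := (CochainComplex.mappingCone.triangleMap (𝟙 F) φ (𝟙 F) φ (by simp)).comm₃
        refine this.symm.trans ?_
        congr 1 }
  have hS₁ : (S₁.map Φ).ShortExact := shortExact_tot₂ T L S₁ (fun p q =>
    ((CochainComplex.mappingCone.triangleRotateShortComplexSplitting (𝟙 F) q).map
      (T.obj (L.X p))).shortExact)
  have hS₂ : (S₂.map Φ).ShortExact := shortExact_tot₂ T L S₂ (fun p q =>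
    ((CochainComplex.mappingCone.triangleRotateShortComplexSplitting φ q).map
      (T.obj (L.X p))).shortExact)
  have a₁ : (S₁.map Φ).X₂.Acyclic :=
    hL _ ((quasiIso_iff_acyclic_mappingCone (𝟙 F)).1 inferInstance)
  have a₂ : (S₂.map Φ).X₂.Acyclic :=
    hL _ ((quasiIso_iff_acyclic_mappingCone φ).1 inferInstance)
  have : IsIso (Φ.mapShortComplex.map α).τ₃ := by
    change IsIso (Φ.map (𝟙 _))
    infer_instance
  exact quasiIso_τ₁_of_acyclic (Φ.mapShortComplex.map α) hS₁ hS₂ a₁ a₂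

/-- A quasi-isomorphism between K-flat complexes stays a quasi-isomorphism after `Tot(F ⊗ -)`,
provided `T` is symmetric and K-flat resolutions exist. -/
theorem quasiIso_mapBifunctorMap₂_of_isKFlat (τ : T ≅ T.flip)
    (hres : ∀ F : CochainComplex A ℤ, ∃ (L : CochainComplex A ℤ) (q : L ⟶ F),
      IsKFlat T L ∧ QuasiIso q)
    {P Q : CochainComplex A ℤ} (hP : IsKFlat T P) (hQ : IsKFlat T Q) (α : P ⟶ Q) [QuasiIso α]
    (F : CochainComplex A ℤ) : QuasiIso (mapBifunctorMap (𝟙 F) α T (.up ℤ)) := by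
  obtain ⟨L, q, hL, hq⟩ := hres F
  have h1 : QuasiIso (mapBifunctorMap (𝟙 L) α T (.up ℤ)) :=
    quasiIso_mapBifunctorMap₂_of_isKFlatL (isKFlatL_of_isKFlat τ hL) α
  have h2 : QuasiIso (mapBifunctorMap q (𝟙 P) T (.up ℤ)) :=
    quasiIso_mapBifunctorMap_of_isKFlat hP q
  have h3 : QuasiIso (mapBifunctorMap q (𝟙 Q) T (.up ℤ)) :=
    quasiIso_mapBifunctorMap_of_isKFlat hQ q
  have comm : mapBifunctorMap (𝟙 L) α T (.up ℤ) ≫ mapBifunctorMap q (𝟙 Q) T (.up ℤ) =
      mapBifunctorMap q (𝟙 P) T (.up ℤ) ≫ mapBifunctorMap (𝟙 F) α T (.up ℤ) := by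
    ext n p r h
    simp
  have h4 : QuasiIso (mapBifunctorMap q (𝟙 P) T (.up ℤ) ≫ mapBifunctorMap (𝟙 F) α T (.up ℤ)) := by
    rw [← comm]
    infer_instance
  exact quasiIso_of_comp_left (mapBifunctorMap q (𝟙 P) T (.up ℤ)) _

end Right

end Groth.Agent.Lib.Helper28.KFlatAbs
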