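import Mathlib
import Groth.Agent.Lib.Helper28.KFlatAbs2
import Groth.Agent.Lib.Helper28.KFlatAbs5
import Groth.Agent.Lib.Helper28.DerivedAdapted

/-!
# The derived tensor product with a single object is computed on K-flat complexes (helper28)

`A` abelian, `T : A ⥤ A ⥤ A` symmetric, with K-flat resolutions.  For `G : A`, any left derived
functor `(LF, α)` of `E ↦ E ⊗ G` (termwise, on the homotopy category, followed by `Qh`) has
`α.app E` an isomorphism for every K-flat complex `E`.
-/

open CategoryTheory Limits HomologicalComplex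

namespace Groth.Agent.Lib.Helper28.KFlatAbs

universe w v u

variable {A : Type u} [Category.{v} A] [Abelian A]

section SingleIso

variable (T : A ⥤ A ⥤ A) [T.Additive] [∀ X, (T.obj X).Additive]
  [∀ K L : CochainComplex A ℤ, HasMapBifunctor K L T (.up ℤ)]
  (G : A)

/-- `E ⊗ G` termwise is the total complex `Tot(E ⊗ G[0])` -/
noncomputable def singleIso (E : CochainComplex A ℤ) :
    ((T.flip.obj G).mapHomologicalComplex (.up ℤ)).obj E ≅
      mapBifunctor E ((HomologicalComplex.single A (.up ℤ) 0).obj G) T (.up ℤ) :=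
  HomologicalComplex.Hom.isoOfComponents
    (fun n => @asIso _ _ _ _ (θ T E G 0 n n (by omega)) (isIso_θ T E G 0 n n (by omega)))
    (by
      intro i j hij
      exact θ_d T E G 0 i i j j (by omega) hij hij)

lemma singleIso_hom_f (E : CochainComplex A ℤ) (n : ℤ) :
    (singleIso T G E).hom.f n = θ T E G 0 n n (by omega) := rfl

lemma singleIso_hom_naturality {E E' : CochainComplex A ℤ} (f : E ⟶ E') :
    ((T.flip.obj G).mapHomologicalComplex (.up ℤ)).map f ≫ (singleIso T G E').hom =
      (singleIso T G E).hom ≫ mapBifunctorMap f (𝟙 _) T (.up ℤ) := by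
  ext n
  rw [HomologicalComplex.comp_f, HomologicalComplex.comp_f, singleIso_hom_f, singleIso_hom_f]
  unfold θ
  have h1 : ιMapBifunctor E ((HomologicalComplex.single A (.up ℤ) 0).obj G) T (.up ℤ) n 0 n
        (by simp) ≫ (mapBifunctorMap f (𝟙 _) T (.up ℤ)).f n =
      (T.map (f.f n)).app _ ≫
        ιMapBifunctor E' ((HomologicalComplex.single A (.up ℤ) 0).obj G) T (.up ℤ) n 0 n
          (by simp) := by
    rw [ι_mapBifunctorMap]
    simp
  have h2 := ((T.map (f.f n)).naturality (singleObjXSelf (ComplexShape.up ℤ) 0 G).inv).symm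
  exact (Category.assoc _ _ _).symm.trans
    ((congrArg (fun t => t ≫ ιMapBifunctor E' ((HomologicalComplex.single A (.up ℤ) 0).obj G) T
        (.up ℤ) n 0 n (by simp)) h2).trans
      ((Category.assoc _ _ _).trans
        ((congrArg (fun t => (T.obj (E.X n)).map (singleObjXSelf (ComplexShape.up ℤ) 0 G).inv ≫ t)
          h1.symm).trans (Category.assoc _ _ _).symm)))

variable (P : CochainComplex A ℤ) (q : P ⟶ (HomologicalComplex.single A (.up ℤ) 0).obj G)

/-- the chain-level natural transformation `Tot(- ⊗ P) ⟶ (- ⊗ G)` induced by `q : P ⟶ G[0]` -/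
noncomputable def ρ : (T.map₂CochainComplex).flip.obj P ⟶
    (T.flip.obj G).mapHomologicalComplex (.up ℤ) where
  app E := mapBifunctorMap (𝟙 E) q T (.up ℤ) ≫ (singleIso T G E).inv
  naturality E E' f := by
    change mapBifunctorMap f (𝟙 P) T (.up ℤ) ≫ mapBifunctorMap (𝟙 E') q T (.up ℤ) ≫
        (singleIso T G E').inv =
      (mapBifunctorMap (𝟙 E) q T (.up ℤ) ≫ (singleIso T G E).inv) ≫
        ((T.flip.obj G).mapHomologicalComplex (.up ℤ)).map f
    have h1 : mapBifunctorMap f (𝟙 P) T (.up ℤ) ≫ mapBifunctorMap (𝟙 E') q T (.up ℤ) =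
        mapBifunctorMap (𝟙 E) q T (.up ℤ) ≫ mapBifunctorMap f (𝟙 _) T (.up ℤ) := by
      ext n p r h
      simp
    have h2 : (singleIso T G E).inv ≫ ((T.flip.obj G).mapHomologicalComplex (.up ℤ)).map f =
        mapBifunctorMap f (𝟙 _) T (.up ℤ) ≫ (singleIso T G E').inv := by
      rw [Iso.inv_comp_eq, ← Category.assoc, Iso.eq_comp_inv]
      exact singleIso_hom_naturality T G f
    rw [Category.assoc, h2, reassoc_of% h1]

end SingleIso

section Derived

variable [HasCoproducts.{0} A] [AB4OfSize.{0} A]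
  (T : A ⥤ A ⥤ A) [T.Additive] [∀ X, (T.obj X).Additive]
  [∀ K L : CochainComplex A ℤ, HasMapBifunctor K L T (.up ℤ)]
  [HasDerivedCategory.{w} A]
  (G : A) (P : CochainComplex A ℤ) (q : P ⟶ (HomologicalComplex.single A (.up ℤ) 0).obj G)

/-- `Tot(- ⊗ P)` on the homotopy category, followed by `Qh` -/
noncomputable def totQh : HomotopyCategory A (.up ℤ) ⥤ DerivedCategory A :=
  CategoryTheory.Quotient.lift _
    ((T.map₂CochainComplex).flip.obj P ⋙ HomotopyCategory.quotient A (.up ℤ) ⋙ DerivedCategory.Qh)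
    (fun E E' f g ⟨h⟩ => by
      dsimp
      congr 1
      exact HomotopyCategory.eq_of_homotopy _ _ (mapBifunctorMapHomotopy₁ h (𝟙 P) T (.up ℤ)))

/-- the functor `E ↦ E ⊗ G` (termwise) on the homotopy category, followed by `Qh` -/
noncomputable abbrev tensQh : HomotopyCategory A (.up ℤ) ⥤ DerivedCategory A :=
  (T.flip.obj G).mapHomotopyCategory (.up ℤ) ⋙ DerivedCategory.Qh

/-- the comparison `Tot(- ⊗ P) ⟶ (- ⊗ G)` at the level of the homotopy category -/
noncomputable def τnat : totQh T P ⟶ tensQh T G :=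
  CategoryTheory.Quotient.natTransLift _
    { app := fun E => DerivedCategory.Qh.map
        ((HomotopyCategory.quotient A (.up ℤ)).map ((ρ T G P q).app E))
      naturality := fun E E' f => by
        change DerivedCategory.Qh.map ((HomotopyCategory.quotient A (.up ℤ)).map
            (((T.map₂CochainComplex).flip.obj P).map f)) ≫
            DerivedCategory.Qh.map ((HomotopyCategory.quotient A (.up ℤ)).map
              ((ρ T G P q).app E')) =
          DerivedCategory.Qh.map ((HomotopyCategory.quotient A (.up ℤ)).map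
              ((ρ T G P q).app E)) ≫
            DerivedCategory.Qh.map ((HomotopyCategory.quotient A (.up ℤ)).map
              (((T.flip.obj G).mapHomologicalComplex (.up ℤ)).map f))
        rw [← Functor.map_comp, ← Functor.map_comp, ← Functor.map_comp, ← Functor.map_comp,
          (ρ T G P q).naturality f] }

lemma τnat_app (E : CochainComplex A ℤ) :
    (τnat T G P q).app ((HomotopyCategory.quotient A (.up ℤ)).obj E) =
      DerivedCategory.Qh.map ((HomotopyCategory.quotient A (.up ℤ)).map ((ρ T G P q).app E)) :=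
  rfl

lemma isIso_Qh_map_quotient_map {K L : CochainComplex A ℤ} (f : K ⟶ L) (hf : QuasiIso f) :
    IsIso (DerivedCategory.Qh.map ((HomotopyCategory.quotient A (.up ℤ)).map f)) :=
  Localization.inverts DerivedCategory.Qh (HomotopyCategory.quasiIso A (.up ℤ)) _
    ((HomotopyCategory.quotient_map_mem_quasiIso_iff f).2 ((HomologicalComplex.mem_quasiIso_iff f).2 hf))

variable {T}

lemma totQh_inverts (hP : IsKFlat T P) :
    (HomotopyCategory.quasiIso A (.up ℤ)).IsInvertedBy (totQh T P) := by
  intro X Y f hf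
  obtain ⟨f₀, rfl⟩ := (HomotopyCategory.quotient A (.up ℤ)).map_surjective f
  have hf₀ : QuasiIso f₀ :=
    (HomologicalComplex.mem_quasiIso_iff f₀).1 ((HomotopyCategory.quotient_map_mem_quasiIso_iff f₀).1 hf)
  have h1 : QuasiIso (mapBifunctorMap f₀ (𝟙 P) T (.up ℤ)) :=
    quasiIso_mapBifunctorMap_of_isKFlat hP f₀
  exact isIso_Qh_map_quotient_map (mapBifunctorMap f₀ (𝟙 P) T (.up ℤ)) h1

lemma isIso_τnat_app (τs : T ≅ T.flip) (hq : QuasiIso q) (E : CochainComplex A ℤ)
    (hE : IsKFlat T E) :
    IsIso ((τnat T G P q).app ((HomotopyCategory.quotient A (.up ℤ)).obj E)) := by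
  rw [τnat_app]
  apply isIso_Qh_map_quotient_map
  have h1 : QuasiIso (mapBifunctorMap (𝟙 E) q T (.up ℤ)) :=
    quasiIso_mapBifunctorMap₂_of_isKFlatL (isKFlatL_of_isKFlat τs hE) q
  change QuasiIso (mapBifunctorMap (𝟙 E) q T (.up ℤ) ≫ (singleIso T G E).inv)
  infer_instance

/-- **The derived tensor product with `G` is computed termwise on K-flat complexes.** -/
theorem isIso_counit_app_of_isKFlat (τs : T ≅ T.flip)
    (hres : ∀ F : CochainComplex A ℤ, ∃ (L : CochainComplex A ℤ) (q : L ⟶ F),
      IsKFlat T L ∧ QuasiIso q)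
    (G : A) (LF : DerivedCategory A ⥤ DerivedCategory A)
    (α : DerivedCategory.Qh ⋙ LF ⟶ tensQh T G)
    [LF.IsLeftDerivedFunctor α (HomotopyCategory.quasiIso A (.up ℤ))]
    (E : CochainComplex A ℤ) (hE : IsKFlat T E) :
    IsIso (α.app ((HomotopyCategory.quotient A (.up ℤ)).obj E)) := by
  obtain ⟨P, q, hP, hq⟩ := hres ((HomologicalComplex.single A (.up ℤ) 0).obj G)
  refine DerivedAdapted.isIso_counit_app_of_isIso DerivedCategory.Qh LF α
    (W := HomotopyCategory.quasiIso A (.up ℤ)) (τ := τnat T G P q) ?_ (totQh_inverts P hP) _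
    (isIso_τnat_app G P q τs hq E hE)
  intro X
  obtain ⟨E', s, hE', hs⟩ := hres X.as
  exact ⟨{ E := (HomotopyCategory.quotient A (.up ℤ)).obj E'
           s := (HomotopyCategory.quotient A (.up ℤ)).map s
           hs := (HomotopyCategory.quotient_map_mem_quasiIso_iff s).2
             ((HomologicalComplex.mem_quasiIso_iff s).2 hs)
           hτ := isIso_τnat_app G P q τs hq E' hE' }⟩

end Derived

end Groth.Agent.Lib.Helper28.KFlatAbs
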