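import Mathlib
import Groth.Agent.Lib.Helper28.KFlatDerived
import Groth.Agent.Lib.Helper28.DerivedQuot

/-!
# The derived tensor product with a complex is computed on K-flat complexes (helper28)

Abstract version for left derived functors along `DerivedCategory.Q` (on complexes) of
`Tot(- ⊗ E) ⋙ Q`.
-/

open CategoryTheory Limits HomologicalComplex

namespace Groth.Agent.Lib.Helper28.KFlatAbs

universe w v u

variable {A : Type u} [Category.{v} A] [Abelian A]
  [HasCoproducts.{0} A] [AB4OfSize.{0} A]
  (T : A ⥤ A ⥤ A) [T.Additive] [∀ X, (T.obj X).Additive]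
  [∀ K L : CochainComplex A ℤ, HasMapBifunctor K L T (.up ℤ)]
  [HasDerivedCategory.{w} A]

/-- the natural transformation `Tot(- ⊗ P) ⟶ Tot(- ⊗ E)` on the homotopy category induced by
`q : P ⟶ E` -/
noncomputable def totMapQh {P E : CochainComplex A ℤ} (q : P ⟶ E) : totQh T P ⟶ totQh T E :=
  CategoryTheory.Quotient.natTransLift _
    { app := fun X => DerivedCategory.Qh.map
        ((HomotopyCategory.quotient A (.up ℤ)).map (mapBifunctorMap (𝟙 X) q T (.up ℤ)))
      naturality := fun X Y f => by
        change DerivedCategory.Qh.map ((HomotopyCategory.quotient A (.up ℤ)).map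
            (mapBifunctorMap f (𝟙 P) T (.up ℤ))) ≫
            DerivedCategory.Qh.map ((HomotopyCategory.quotient A (.up ℤ)).map
              (mapBifunctorMap (𝟙 Y) q T (.up ℤ))) =
          DerivedCategory.Qh.map ((HomotopyCategory.quotient A (.up ℤ)).map
              (mapBifunctorMap (𝟙 X) q T (.up ℤ))) ≫
            DerivedCategory.Qh.map ((HomotopyCategory.quotient A (.up ℤ)).map
              (mapBifunctorMap f (𝟙 E) T (.up ℤ)))
        have h1 : mapBifunctorMap f (𝟙 P) T (.up ℤ) ≫ mapBifunctorMap (𝟙 Y) q T (.up ℤ) =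
            mapBifunctorMap (𝟙 X) q T (.up ℤ) ≫ mapBifunctorMap f (𝟙 E) T (.up ℤ) := by
          ext n p r h
          simp
        rw [← Functor.map_comp, ← Functor.map_comp, ← Functor.map_comp, ← Functor.map_comp, h1] }

lemma totMapQh_app {P E : CochainComplex A ℤ} (q : P ⟶ E) (X : CochainComplex A ℤ) :
    (totMapQh T q).app ((HomotopyCategory.quotient A (.up ℤ)).obj X) =
      DerivedCategory.Qh.map
        ((HomotopyCategory.quotient A (.up ℤ)).map (mapBifunctorMap (𝟙 X) q T (.up ℤ))) :=
  rfl

variable {T}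

lemma isIso_totMapQh_app (τs : T ≅ T.flip) {P E : CochainComplex A ℤ} (q : P ⟶ E)
    (hq : QuasiIso q) (X : CochainComplex A ℤ) (hX : IsKFlat T X) :
    IsIso ((totMapQh T q).app ((HomotopyCategory.quotient A (.up ℤ)).obj X)) := by
  rw [totMapQh_app]
  apply isIso_Qh_map_quotient_map
  exact quasiIso_mapBifunctorMap₂_of_isKFlatL (isKFlatL_of_isKFlat τs hX) q

variable (T)

/-- the functor `Tot(- ⊗ E) ⋙ Q` on complexes -/
noncomputable abbrev totQ (E : CochainComplex A ℤ) : CochainComplex A ℤ ⥤ DerivedCategory A :=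
  (T.map₂CochainComplex).flip.obj E ⋙ DerivedCategory.Q

/-- `totQ` factors through the homotopy category -/
noncomputable def totQhFac (E : CochainComplex A ℤ) :
    HomotopyCategory.quotient A (.up ℤ) ⋙ totQh T E ≅ totQ T E :=
  Iso.refl _

variable {T}

/-- the induced counit on the homotopy category -/
noncomputable def counitQh (E : CochainComplex A ℤ)
    (LF : DerivedCategory A ⥤ DerivedCategory A) (α : DerivedCategory.Q ⋙ LF ⟶ totQ T E) :
    DerivedCategory.Qh ⋙ LF ⟶ totQh T E :=
  CategoryTheory.Quotient.natTransLift _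
    { app := fun X => α.app X
      naturality := fun X Y f => α.naturality f }

lemma counitQh_app (E : CochainComplex A ℤ)
    (LF : DerivedCategory A ⥤ DerivedCategory A) (α : DerivedCategory.Q ⋙ LF ⟶ totQ T E)
    (X : CochainComplex A ℤ) :
    (counitQh E LF α).app ((HomotopyCategory.quotient A (.up ℤ)).obj X) = α.app X := rfl

/-- a left derived functor along `Q` of `Tot(- ⊗ E) ⋙ Q` is a left derived functor along `Qh` -/
theorem isLeftDerivedFunctor_counitQh (E : CochainComplex A ℤ)
    (LF : DerivedCategory A ⥤ DerivedCategory A) (α : DerivedCategory.Q ⋙ LF ⟶ totQ T E)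
    (hLF : LF.IsLeftDerivedFunctor α (HomologicalComplex.quasiIso A (.up ℤ))) :
    LF.IsLeftDerivedFunctor (counitQh E LF α) (HomotopyCategory.quasiIso A (.up ℤ)) := by
  haveI : (HomotopyCategory.quotient A (.up ℤ) ⋙ DerivedCategory.Qh).IsLocalization
      (HomologicalComplex.quasiIso A (.up ℤ)) :=
    inferInstanceAs ((DerivedCategory.Q (C := A)).IsLocalization
      (HomologicalComplex.quasiIso A (.up ℤ)))
  haveI hLF' : @Functor.IsLeftDerivedFunctor _ _ _ _ _ _ LF (totQ T E)
      (HomotopyCategory.quotient A (.up ℤ) ⋙ DerivedCategory.Qh) α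
      (HomologicalComplex.quasiIso A (.up ℤ)) this := hLF
  exact DerivedQuot.isLeftDerivedFunctor_of_quotient (HomotopyCategory.quotient A (.up ℤ))
    DerivedCategory.Qh (HomologicalComplex.quasiIso A (.up ℤ))
    (HomotopyCategory.quasiIso A (.up ℤ)) LF α (counitQh E LF α) (totQhFac T E)
    (fun X => by
      rw [counitQh_app]
      exact Category.comp_id _)

/-- **The derived tensor product with a complex `E` is computed by `Tot(- ⊗ E)` on K-flat
complexes.** -/
theorem isIso_counit_app_tot_of_isKFlat (τs : T ≅ T.flip)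
    (hres : ∀ F : CochainComplex A ℤ, ∃ (L : CochainComplex A ℤ) (q : L ⟶ F),
      IsKFlat T L ∧ QuasiIso q)
    (E : CochainComplex A ℤ) (LF : DerivedCategory A ⥤ DerivedCategory A)
    (α : DerivedCategory.Q ⋙ LF ⟶ totQ T E)
    (hLF : LF.IsLeftDerivedFunctor α (HomologicalComplex.quasiIso A (.up ℤ)))
    (X : CochainComplex A ℤ) (hX : IsKFlat T X) : IsIso (α.app X) := by
  obtain ⟨P, q, hP, hq⟩ := hres E
  have := isLeftDerivedFunctor_counitQh E LF α hLF
  have key := DerivedAdapted.isIso_counit_app_of_isIso DerivedCategory.Qh LF (counitQh E LF α)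
    (W := HomotopyCategory.quasiIso A (.up ℤ)) (τ := totMapQh T q) ?_ (totQh_inverts P hP) _
    (isIso_totMapQh_app τs q hq X hX)
  · exact key
  · intro Y
    obtain ⟨E', s, hE', hs⟩ := hres Y.as
    exact ⟨{ E := (HomotopyCategory.quotient A (.up ℤ)).obj E'
             s := (HomotopyCategory.quotient A (.up ℤ)).map s
             hs := (HomotopyCategory.quotient_map_mem_quasiIso_iff s).2
               ((HomologicalComplex.mem_quasiIso_iff s).2 hs)
             hτ := isIso_totMapQh_app τs q hq E' hE' }⟩

end Groth.Agent.Lib.Helper28.KFlatAbs
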