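import Mathlib
import Groth.Prelude.Def_KFlatSite
import Groth.Agent.Lib.Helper28.KFlatSite11

/-!
# K-flat complexes on a ringed site XII: `- ⊗^L K` for K-flat `K`, flatness of total complexes
(helper28)
-/

open CategoryTheory Limits HomologicalComplex

attribute [local instance] HasDerivedCategory.standard

namespace Groth.Agent.Lib.Helper28.KFlatSite

open Groth.Agent.Lib.Helper28.KFlatAbs Groth.Agent.Lib.Helper17

universe u

variable {C : Type u} [SmallCategory C] {J : GrothendieckTopology C} {O : Sheaf J CommRingCat.{u}}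

/-- `Tot(- ⊗ K)` inverts quasi-isomorphisms when `K` is K-flat -/
theorem inverts_tensorCxQ_of_isKFlat (K : CochainComplex (ModSite.Mod O) ℤ)
    (hK : ModSite.IsKFlat K) :
    (HomologicalComplex.quasiIso (ModSite.Mod O) (ComplexShape.up ℤ)).IsInvertedBy
      (ModSite.tensorCxQ K) := by
  intro F F' f hf
  have hf' : QuasiIso f := (HomologicalComplex.mem_quasiIso_iff f).1 hf
  have h1 : QuasiIso (mapBifunctorMap f (𝟙 K) (ModSite.tensorBi O) (.up ℤ)) :=
    quasiIso_mapBifunctorMap_of_isKFlat ((isKFlat_iff K).1 hK) f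
  change IsIso (DerivedCategory.Q.map (((ModSite.tensorCx O).map f).app K))
  rw [DerivedCategory.isIso_Q_map_iff_quasiIso]
  exact h1

/-- the counit of `- ⊗^L K` is an isomorphism when `K` is K-flat -/
theorem isIso_counit_of_isKFlat (K : CochainComplex (ModSite.Mod O) ℤ) [ModSite.HasLTensorCx K]
    (hK : ModSite.IsKFlat K) :
    IsIso ((ModSite.tensorCxQ K).totalLeftDerivedCounit DerivedCategory.Q
      (HomologicalComplex.quasiIso (ModSite.Mod O) (ComplexShape.up ℤ))) :=
  Functor.isIso_of_isLeftDerivedFunctor_of_inverts (ModSite.LTensorCx K) _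
    (inverts_tensorCxQ_of_isKFlat K hK)

/-- `E ⊗^L K ≅ Tot(E ⊗ K)` when `K` is K-flat, naturally in `E` -/
noncomputable def LTensorCxNatIso (K : CochainComplex (ModSite.Mod O) ℤ) [ModSite.HasLTensorCx K]
    (hK : ModSite.IsKFlat K) :
    DerivedCategory.Q ⋙ ModSite.LTensorCx K ≅ ModSite.tensorCxQ K :=
  @asIso _ _ _ _ _ (isIso_counit_of_isKFlat K hK)

/-- `E ⊗^L K ≅ Tot(E ⊗ K)` when `K` is K-flat -/
noncomputable def LTensorCxIso (K : CochainComplex (ModSite.Mod O) ℤ) [ModSite.HasLTensorCx K]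
    (hK : ModSite.IsKFlat K) (E : CochainComplex (ModSite.Mod O) ℤ) :
    (ModSite.LTensorCx K).obj (DerivedCategory.Q.obj E) ≅
      DerivedCategory.Q.obj (((ModSite.tensorCx O).obj E).obj K) :=
  (LTensorCxNatIso K hK).app E

/-- a coproduct of flat modules indexed by a type in universe zero is flat -/
theorem isFlat_of_isColimit_cofan_zero {ι : Type} (F : ι → ModSite.Mod O)
    (hF : ∀ i, ModSite.IsFlat (F i)) (c : Cofan F) (hc : IsColimit c) : ModSite.IsFlat c.pt := by
  let F' : ULift.{u} ι → ModSite.Mod O := fun i => F i.down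
  let c' : Cofan F' := Cofan.mk c.pt (fun i => c.inj i.down)
  have hc' : IsColimit c' := mkCofanColimit c'
    (fun s => Cofan.IsColimit.desc hc (fun i => s.inj ⟨i⟩))
    (fun s i => Cofan.IsColimit.fac hc _ i.down)
    (fun s m hm => Cofan.IsColimit.hom_ext hc _ _ (fun i => by
      rw [Cofan.IsColimit.fac]
      exact hm ⟨i⟩))
  exact FlatColim.isFlat_of_isColimit_cofan F' (fun i => hF i.down) c' hc'

/-- `Tot(P ⊗ F)` vanishes outside `[m + m', n + n']` when `P` vanishes outside `[m, n]` and `F`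
outside `[m', n']` -/
theorem isZero_tensorCx_X (P F : CochainComplex (ModSite.Mod O) ℤ) (m n m' n' : ℤ)
    (hP : ∀ i : ℤ, i < m ∨ n < i → IsZero (P.X i))
    (hF : ∀ i : ℤ, i < m' ∨ n' < i → IsZero (F.X i)) (k : ℤ) (hk : k < m + m' ∨ n + n' < k) :
    IsZero ((((ModSite.tensorCx O).obj P).obj F).X k) := by
  rw [IsZero.iff_id_eq_zero]
  apply HomologicalComplex.mapBifunctor.hom_ext
  intro p q hpq
  have hpq' : p + q = k := hpq
  have hz : IsZero (((ModSite.tensorBi O).obj (P.X p)).obj (F.X q)) := by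
    by_cases h1 : p < m ∨ n < p
    · exact ((ModSite.tensorBi O).flip.obj (F.X q)).map_isZero (hP p h1)
    · exact ((ModSite.tensorBi O).obj (P.X p)).map_isZero (hF q (by omega))
  exact hz.eq_of_src _ _

end Groth.Agent.Lib.Helper28.KFlatSite
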