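import Mathlib
import Groth.Prelude.Def_KFlatSite
import Groth.Agent.Lib.Helper28.KFlatSite12

/-!
# K-flat complexes on a ringed site XII: `- ⊗^L K` for K-flat `K`, flatness of total complexes
(helper28)
-/

open CategoryTheory Limits HomologicalComplex

attribute [local instance] HasDerivedCategory.standard

namespace Groth.Agent.Lib.Helper28.KFlatSite

open Groth.Agent.Lib.Helper28.KFlatAbs Groth.Agent.Lib.Helper17

universe u

variable {C : Type u} [SmallCategory C] {J : GrothendieckTopology C} {O : Sheaf J CommRingCat.{u}}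

set_option maxHeartbeats 400000

/-- the terms of the total complex `Tot(P ⊗ F)` of two complexes of flat modules are flat -/
theorem isFlat_tensorCx_X (P F : CochainComplex (ModSite.Mod O) ℤ)
    (hP : ∀ i, ModSite.IsFlat (P.X i)) (hF : ∀ i, ModSite.IsFlat (F.X i)) (n : ℤ) :
    ModSite.IsFlat ((((ModSite.tensorCx O).obj P).obj F).X n) := by
  let B := (((ModSite.tensorBi O).mapBifunctorHomologicalComplex (.up ℤ) (.up ℤ)).obj P).obj F
  have h := isFlat_of_isColimit_cofan_zero
    (B.toGradedObject.mapObjFun (ComplexShape.π (.up ℤ) (.up ℤ) (.up ℤ)) n)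
    (fun i => by
      show ModSite.IsFlat (((ModSite.tensorBi O).obj (P.X i.1.1)).obj (F.X i.1.2))
      exact Tensor.isFlat_tensor _ _ (hP i.1.1) (hF i.1.2))
    (B.toGradedObject.cofanMapObj (ComplexShape.π (.up ℤ) (.up ℤ) (.up ℤ)) n)
    (B.toGradedObject.isColimitCofanMapObj (ComplexShape.π (.up ℤ) (.up ℤ) (.up ℤ)) n)
  exact h

end Groth.Agent.Lib.Helper28.KFlatSite
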