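import Mathlib

/-!
# The functors `M ↦ H^p(M ⊗ E)` for a complex `E` (helper28)

Abstract setting: an abelian category `A` with a bifunctor `T : A ⥤ A ⥤ A` additive in each
variable.  For a cochain complex `E`, `Θ T E : A ⥤ CochainComplex A ℤ` is `M ↦ T(M, E^•)`.

* `shortExact_map_Θ`: a short exact sequence of `M`'s gives a short exact sequence of complexes
  when the terms of `E` are flat.
* `preservesFiniteColimits_iff_preservesMono`, `preservesFiniteLimits_iff_preservesMono`: from the
  long exact sequence.
* `preservesMono_iff_opcycles`: `H^q(- ⊗ E)` preserves monos iff `- ⊗ opcycles^q(E)` does.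
-/

open CategoryTheory Limits HomologicalComplex

namespace Groth.Agent.Lib.Helper28.TensorDelta

universe v u

variable {A : Type u} [Category.{v} A] [Abelian A]
  (T : A ⥤ A ⥤ A) [T.Additive] [∀ X, (T.obj X).Additive]
  (E : CochainComplex A ℤ)

/-- `M ↦ T(M, E^•)` -/
@[simps]
noncomputable def Θ : A ⥤ CochainComplex A ℤ where
  obj M := ((T.obj M).mapHomologicalComplex (ComplexShape.up ℤ)).obj E
  map f := (NatTrans.mapHomologicalComplex (T.map f) (ComplexShape.up ℤ)).app E
  map_id M := by
    ext n
    simp
  map_comp f g := by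
    ext n
    simp

instance : (Θ T E).Additive where
  map_add {M N f g} := by
    ext n
    show (T.map (f + g)).app (E.X n) = (T.map f).app (E.X n) + (T.map g).app (E.X n)
    rw [Functor.map_add]
    rfl

/-- the functor `M ↦ H^p(T(M, E^•))` -/
noncomputable abbrev Φ (p : ℤ) : A ⥤ A := Θ T E ⋙ HomologicalComplex.homologyFunctor A _ p

section LES

variable {T E}

/-- a short exact sequence preserved by every `T(-, E^n)` gives a short exact sequence of
complexes -/
theorem shortExact_map_Θ (S : ShortComplex A)
    (hS : ∀ n : ℤ, (S.map (T.flip.obj (E.X n))).ShortExact) : (S.map (Θ T E)).ShortExact :=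
  HomologicalComplex.shortExact_of_degreewise_shortExact _ (fun n => hS n)

variable (hfl : ∀ (S : ShortComplex A), S.ShortExact →
  ∀ n : ℤ, (S.map (T.flip.obj (E.X n))).ShortExact)

include hfl

theorem exact_map_Φ (p : ℤ) (S : ShortComplex A) (hS : S.ShortExact) :
    (S.map (Φ T E p)).Exact :=
  (shortExact_map_Θ S (hfl S hS)).homology_exact₂ p

theorem epi_iff_mono (p : ℤ) (S : ShortComplex A) (hS : S.ShortExact) :
    Epi ((Φ T E p).map S.g) ↔ Mono ((Φ T E (p + 1)).map S.f) := by
  have hS' := shortExact_map_Θ S (hfl S hS)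
  have h3 := hS'.homology_exact₃ p (p + 1) rfl
  have h1 := hS'.homology_exact₁ p (p + 1) rfl
  exact h3.epi_f_iff.trans h1.mono_g_iff.symm

theorem preservesFiniteColimits_iff_preservesMono (p : ℤ) :
    PreservesFiniteColimits (Φ T E p) ↔ (Φ T E (p + 1)).PreservesMonomorphisms := by
  rw [Functor.preservesFiniteColimits_iff_forall_exact_map_and_epi]
  constructor
  · intro h
    constructor
    intro M N f hf
    let S : ShortComplex A := ShortComplex.mk f (cokernel.π f) (cokernel.condition f)
    have hS : S.ShortExact := { exact := ShortComplex.exact_cokernel f }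
    exact (epi_iff_mono hfl p S hS).1 (h S hS).2
  · intro h S hS
    have := hS.mono_f
    exact ⟨exact_map_Φ hfl p S hS, (epi_iff_mono hfl p S hS).2 (h.preserves S.f)⟩

theorem preservesFiniteLimits_iff_preservesMono (p : ℤ) :
    PreservesFiniteLimits (Φ T E p) ↔ (Φ T E p).PreservesMonomorphisms := by
  rw [Functor.preservesFiniteLimits_iff_forall_exact_map_and_mono]
  constructor
  · intro h
    constructor
    intro M N f hf
    let S : ShortComplex A := ShortComplex.mk f (cokernel.π f) (cokernel.condition f)
    have hS : S.ShortExact := { exact := ShortComplex.exact_cokernel f }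
    exact (h S hS).2
  · intro h S hS
    have := hS.mono_f
    exact ⟨exact_map_Φ hfl p S hS, h.preserves S.f⟩

end LES

section Opcycles

variable [∀ M, PreservesFiniteColimits (T.obj M)]

/-- `opcycles^q(T(M, E)) ≅ T(M, opcycles^q(E))` -/
noncomputable def opcyclesIso (M : A) (q : ℤ) :
    ((Θ T E).obj M).opcycles q ≅ (T.obj M).obj (E.opcycles q) :=
  IsColimit.coconePointUniqueUpToIso
    (((Θ T E).obj M).opcyclesIsCokernel (q - 1) q (by simp))
    (CokernelCofork.mapIsColimit _ (E.opcyclesIsCokernel (q - 1) q (by simp)) (T.obj M))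

@[reassoc (attr := simp)]
lemma p_opcyclesIso_hom (M : A) (q : ℤ) :
    ((Θ T E).obj M).pOpcycles q ≫ (opcyclesIso T E M q).hom = (T.obj M).map (E.pOpcycles q) :=
  IsColimit.comp_coconePointUniqueUpToIso_hom
    (((Θ T E).obj M).opcyclesIsCokernel (q - 1) q (by simp))
    (CokernelCofork.mapIsColimit _ (E.opcyclesIsCokernel (q - 1) q (by simp)) (T.obj M))
    WalkingParallelPair.one

@[reassoc]
lemma opcyclesIso_hom_naturality {M N : A} (f : M ⟶ N) (q : ℤ) :
    HomologicalComplex.opcyclesMap ((Θ T E).map f) q ≫ (opcyclesIso T E N q).hom =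
      (opcyclesIso T E M q).hom ≫ (T.map f).app (E.opcycles q) := by
  rw [← cancel_epi (((Θ T E).obj M).pOpcycles q), HomologicalComplex.p_opcyclesMap_assoc,
    p_opcyclesIso_hom, p_opcyclesIso_hom_assoc]
  exact ((T.map f).naturality (E.pOpcycles q)).symm

variable {T E}

lemma opcyclesMap_fromOpcycles {K L : CochainComplex A ℤ} (φ : K ⟶ L) (i j : ℤ) :
    HomologicalComplex.opcyclesMap φ i ≫ L.fromOpcycles i j = K.fromOpcycles i j ≫ φ.f j := by
  rw [← cancel_epi (K.pOpcycles i), HomologicalComplex.p_opcyclesMap_assoc,
    HomologicalComplex.p_fromOpcycles, HomologicalComplex.p_fromOpcycles_assoc, φ.comm]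

/-- a four lemma: a map of complexes which is mono on `H^q` and in degree `q + 1` is mono on
`opcycles^q` -/
lemma mono_opcyclesMap_of_mono {K L : CochainComplex A ℤ} (φ : K ⟶ L) (q : ℤ)
    (h1 : Mono (HomologicalComplex.homologyMap φ q)) (h2 : Mono (φ.f (q + 1))) :
    Mono (HomologicalComplex.opcyclesMap φ q) := by
  apply Preadditive.mono_of_cancel_zero
  intro Z k hk
  have hk1 : k ≫ K.fromOpcycles q (q + 1) = 0 := by
    rw [← cancel_mono (φ.f (q + 1)), Category.assoc, zero_comp, ← opcyclesMap_fromOpcycles,
      reassoc_of% hk, zero_comp]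
  let l : Z ⟶ K.homology q :=
    (K.homologyIsKernel q (q + 1) (by simp)).lift (KernelFork.ofι k hk1)
  have hl : l ≫ K.homologyι q = k :=
    (K.homologyIsKernel q (q + 1) (by simp)).fac (KernelFork.ofι k hk1) WalkingParallelPair.zero
  have hl0 : l ≫ HomologicalComplex.homologyMap φ q = 0 := by
    rw [← cancel_mono (L.homologyι q), Category.assoc, HomologicalComplex.homologyι_naturality,
      reassoc_of% hl, hk, zero_comp]
  have : l = 0 := by
    rw [← cancel_mono (HomologicalComplex.homologyMap φ q), hl0, zero_comp]
  rw [← hl, this, zero_comp]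

/-- `H^q(T(-, E))` preserves monomorphisms iff `T(-, opcycles^q E)` does, when the terms of `E`
are flat -/
theorem preservesMono_iff_opcycles (q : ℤ)
    (hfl : ∀ n : ℤ, (T.flip.obj (E.X n)).PreservesMonomorphisms) :
    (Φ T E q).PreservesMonomorphisms ↔ (T.flip.obj (E.opcycles q)).PreservesMonomorphisms := by
  constructor
  · intro h
    constructor
    intro M N f hf
    have h1 : Mono (HomologicalComplex.homologyMap ((Θ T E).map f) q) := h.preserves f
    have h2 : Mono (((Θ T E).map f).f (q + 1)) := (hfl (q + 1)).preserves f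
    have h3 := mono_opcyclesMap_of_mono ((Θ T E).map f) q h1 h2
    have h4 : (T.map f).app (E.opcycles q) = (opcyclesIso T E M q).inv ≫
        HomologicalComplex.opcyclesMap ((Θ T E).map f) q ≫ (opcyclesIso T E N q).hom := by
      rw [opcyclesIso_hom_naturality, Iso.inv_hom_id_assoc]
    show Mono ((T.map f).app (E.opcycles q))
    rw [h4]
    infer_instance
  · intro h
    constructor
    intro M N f hf
    have h1 : Mono ((T.map f).app (E.opcycles q)) := h.preserves f
    have h2 : Mono (HomologicalComplex.opcyclesMap ((Θ T E).map f) q) := by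
      have : HomologicalComplex.opcyclesMap ((Θ T E).map f) q =
          (opcyclesIso T E M q).hom ≫ (T.map f).app (E.opcycles q) ≫
            (opcyclesIso T E N q).inv := by
        rw [← opcyclesIso_hom_naturality_assoc, Iso.hom_inv_id, Category.comp_id]
      rw [this]
      infer_instance
    have h3 : Mono (HomologicalComplex.homologyMap ((Θ T E).map f) q ≫
        ((Θ T E).obj N).homologyι q) := by
      rw [HomologicalComplex.homologyι_naturality]
      infer_instance
    exact @mono_of_mono _ _ _ _ _ (HomologicalComplex.homologyMap ((Θ T E).map f) q)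
      (((Θ T E).obj N).homologyι q) h3

end Opcycles

end Groth.Agent.Lib.Helper28.TensorDelta
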