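import Mathlib
import Groth.Agent.Lib.Helper28.TensorDelta
import Groth.Agent.Lib.Helper28.KFlatAbs2

/-!
# `M ↦ T(M, E^•)` is `M ↦ Tot(M[0] ⊗ E)` (helper28)
-/

open CategoryTheory Limits HomologicalComplex

namespace Groth.Agent.Lib.Helper28.TensorDelta

open Groth.Agent.Lib.Helper28.KFlatAbs

universe v u

variable {A : Type u} [Category.{v} A] [Abelian A]
  (T : A ⥤ A ⥤ A) [T.Additive] [∀ X, (T.obj X).Additive]
  [∀ K L : CochainComplex A ℤ, HasMapBifunctor K L T (.up ℤ)]
  (E : CochainComplex A ℤ)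

/-- The comparison `T(M, E^n) ⟶ Tot(M[0] ⊗ E)^n`. -/
noncomputable def θL (M : A) (n : ℤ) :
    (T.obj M).obj (E.X n) ⟶
      (mapBifunctor ((HomologicalComplex.single A (ComplexShape.up ℤ) 0).obj M) E T (.up ℤ)).X n :=
  (T.map (HomologicalComplex.singleObjXSelf (ComplexShape.up ℤ) 0 M).inv).app (E.X n) ≫
    ιMapBifunctor ((HomologicalComplex.single A (ComplexShape.up ℤ) 0).obj M) E T (.up ℤ) 0 n n
      (zero_add n)

instance isIso_θL (M : A) (n : ℤ) : IsIso (θL T E M n) := by
  have : IsIso (ιMapBifunctor ((HomologicalComplex.single A (ComplexShape.up ℤ) 0).obj M) E T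
      (.up ℤ) 0 n n (zero_add n)) := by
    refine isIso_ιMapObj_of_isZero
      (((GradedObject.mapBifunctor T ℤ ℤ).obj
        ((HomologicalComplex.single A (ComplexShape.up ℤ) 0).obj M).X).obj E.X)
      (ComplexShape.π (.up ℤ) (.up ℤ) (.up ℤ)) (0, n) n (zero_add n) ?_
    rintro ⟨p', q'⟩ hi hne
    have hp : p' ≠ 0 := by
      rintro rfl
      apply hne
      have h1 : 0 + q' = n := hi
      have : q' = n := by omega
      rw [this]
    exact (T.flip.obj (E.X q')).map_isZero (isZero_single_obj_X (ComplexShape.up ℤ) 0 M p' hp)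
  have : IsIso ((T.map (HomologicalComplex.singleObjXSelf (ComplexShape.up ℤ) 0 M).inv).app
      (E.X n)) := inferInstanceAs (IsIso ((T.mapIso
        (HomologicalComplex.singleObjXSelf (ComplexShape.up ℤ) 0 M).symm).app (E.X n)).hom)
  unfold θL
  infer_instance

theorem θL_d (M : A) (n n' : ℤ) (hn : n + 1 = n') :
    θL T E M n ≫
        (mapBifunctor ((HomologicalComplex.single A (ComplexShape.up ℤ) 0).obj M) E T (.up ℤ)).d
          n n' =
      (T.obj M).map (E.d n n') ≫ θL T E M n' := by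
  unfold θL
  have hd2 := mapBifunctor.d₂_eq ((HomologicalComplex.single A (ComplexShape.up ℤ) 0).obj M) E T
    (.up ℤ) 0 (show (ComplexShape.up ℤ).Rel n n' from hn) n' (show 0 + n' = n' by omega)
  have hd1 : mapBifunctor.d₁ ((HomologicalComplex.single A (ComplexShape.up ℤ) 0).obj M) E T
      (.up ℤ) 0 n n' = 0 := by
    rw [mapBifunctor.d₁_eq ((HomologicalComplex.single A (ComplexShape.up ℤ) 0).obj M) E T (.up ℤ)
      (show (ComplexShape.up ℤ).Rel 0 (0 + 1) from rfl) n n' (show (0 + 1) + n = n' by omega),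
      single_obj_d, Functor.map_zero, Limits.zero_app, zero_comp, smul_zero]
  have e2 : (ComplexShape.up ℤ).ε₂ (ComplexShape.up ℤ) (ComplexShape.up ℤ) (0, n) = 1 := rfl
  rw [Category.assoc, mapBifunctor.d_eq, Preadditive.comp_add, mapBifunctor.ι_D₁,
    mapBifunctor.ι_D₂, hd1, hd2, e2, one_smul, zero_add]
  simp only [← Category.assoc]
  congr 1
  exact ((T.map (HomologicalComplex.singleObjXSelf (ComplexShape.up ℤ) 0 M).inv).naturality
    (E.d n n')).symm

theorem θL_naturality {M N : A} (f : M ⟶ N) (n : ℤ) :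
    (T.map f).app (E.X n) ≫ θL T E N n =
      θL T E M n ≫ (mapBifunctorMap ((HomologicalComplex.single A (ComplexShape.up ℤ) 0).map f)
        (𝟙 E) T (.up ℤ)).f n := by
  unfold θL
  rw [Category.assoc, ι_mapBifunctorMap]
  simp only [HomologicalComplex.id_f, Functor.map_id, Category.id_comp]
  simp only [← Category.assoc]
  congr 1
  rw [← NatTrans.comp_app, ← NatTrans.comp_app, ← T.map_comp, ← T.map_comp]
  congr 2
  have := HomologicalComplex.single_map_f_self (ComplexShape.up ℤ) 0 f
  rw [this]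
  simp

/-- `M ↦ T(M, E^•)` is `M ↦ Tot(M[0] ⊗ E)` -/
noncomputable def ΘIso :
    Θ T E ≅ HomologicalComplex.single A (ComplexShape.up ℤ) 0 ⋙ (T.map₂CochainComplex).flip.obj E :=
  NatIso.ofComponents
    (fun M => HomologicalComplex.Hom.isoOfComponents (fun n => @asIso _ _ _ _ (θL T E M n) (isIso_θL T E M n))
      (by
        intro i j hij
        exact θL_d T E M i j hij))
    (by
      intro M N f
      ext n
      exact θL_naturality T E f n)

end Groth.Agent.Lib.Helper28.TensorDelta
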