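import Mathlib
import Groth.Prelude.Def_KFlatSite
import Groth.Agent.Lib.Helper28.KFlatSite13
import Groth.Agent.Lib.Helper28.TensorDelta2

/-!
# K-flat complexes on a ringed site XIV: the functors `M ↦ H^p(M ⊗^L E)` for K-flat `E` (helper28)
-/

open CategoryTheory Limits HomologicalComplex

attribute [local instance] HasDerivedCategory.standard

namespace Groth.Agent.Lib.Helper28.KFlatSite

open Groth.Agent.Lib.Helper28.KFlatAbs Groth.Agent.Lib.Helper17 Groth.Agent.Lib.Helper28.TensorDelta

universe u

variable {C : Type u} [SmallCategory C] {J : GrothendieckTopology C} {O : Sheaf J CommRingCat.{u}}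

/-- `M ↦ H^p(M ⊗^L E)` is `M ↦ H^p(M ⊗ E^•)` when `E` is K-flat -/
noncomputable def homologyLTensorCxIso (E : CochainComplex (ModSite.Mod O) ℤ)
    [ModSite.HasLTensorCx E] (hE : ModSite.IsKFlat E) (p : ℤ) :
    DerivedCategory.singleFunctor (ModSite.Mod O) 0 ⋙ ModSite.LTensorCx E ⋙
      DerivedCategory.homologyFunctor (ModSite.Mod O) p ≅ Φ (ModSite.tensorBi O) E p :=
  Functor.isoWhiskerRight (DerivedCategory.singleFunctorIsoCompQ (ModSite.Mod O) 0) _ ≪≫
    Functor.associator _ _ _ ≪≫
    Functor.isoWhiskerLeft (CochainComplex.singleFunctor (ModSite.Mod O) 0)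
      ((Functor.associator _ _ _).symm ≪≫
        Functor.isoWhiskerRight (LTensorCxNatIso E hE) _ ≪≫
        Functor.associator _ _ _ ≪≫
        Functor.isoWhiskerLeft _ (DerivedCategory.homologyFunctorFactors (ModSite.Mod O) p)) ≪≫
    (Functor.associator _ _ _).symm ≪≫
    Functor.isoWhiskerRight (ΘIso (ModSite.tensorBi O) E).symm _

/-- the flatness hypothesis of the long exact sequence -/
theorem shortExact_map_flip_of_isFlat (E : CochainComplex (ModSite.Mod O) ℤ)
    (hEf : ∀ i : ℤ, ModSite.IsFlat (E.X i)) (S : ShortComplex (ModSite.Mod O))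
    (hS : S.ShortExact) (n : ℤ) :
    (S.map ((ModSite.tensorBi O).flip.obj (E.X n))).ShortExact := by
  have : PreservesFiniteLimits ((ModSite.tensorBi O).flip.obj (E.X n)) := (hEf n).1
  have : PreservesFiniteColimits ((ModSite.tensorBi O).flip.obj (E.X n)) := (hEf n).2
  exact hS.map_of_exact _

/-- flatness in terms of `- ⊗ M` preserving monomorphisms -/
theorem isFlat_iff_flip_preservesMono (M : ModSite.Mod O) :
    ModSite.IsFlat M ↔ ((ModSite.tensorBi O).flip.obj M).PreservesMonomorphisms := by
  constructor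
  · intro h
    have : PreservesFiniteLimits ((ModSite.tensorBi O).flip.obj M) := h.1
    infer_instance
  · exact ProjFormula.isFlat_of_preservesMonomorphisms M

/-- `M ↦ H^p(M ⊗ E)` is right exact iff `coker(E^p ⟶ E^{p+1})` is flat, for a complex `E` of
flat modules -/
theorem preservesFiniteColimits_Φ_iff (E : CochainComplex (ModSite.Mod O) ℤ)
    (hEf : ∀ i : ℤ, ModSite.IsFlat (E.X i)) (p : ℤ) :
    PreservesFiniteColimits (Φ (ModSite.tensorBi O) E p) ↔
      ModSite.IsFlat (cokernel (E.d p (p + 1))) := by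
  rw [preservesFiniteColimits_iff_preservesMono (shortExact_map_flip_of_isFlat E hEf) p,
    preservesMono_iff_opcycles (p + 1)
      (fun n => (isFlat_iff_flip_preservesMono (E.X n)).1 (hEf n)),
    ← isFlat_iff_flip_preservesMono]
  let e1 : E.opcycles (p + 1) ≅ cokernel (E.d p (p + 1)) :=
    IsColimit.coconePointUniqueUpToIso (E.opcyclesIsCokernel p (p + 1) (by simp))
      (colimit.isColimit (parallelPair (E.d p (p + 1)) 0))
  exact ⟨fun h => isFlat_of_iso e1 h, fun h => isFlat_of_iso e1.symm h⟩

/-- `M ↦ H^p(M ⊗ E)` is right exact iff `M ↦ H^{p+1}(M ⊗ E)` is left exact, for a complex `E` of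
flat modules -/
theorem preservesFiniteColimits_Φ_iff_preservesFiniteLimits (E : CochainComplex (ModSite.Mod O) ℤ)
    (hEf : ∀ i : ℤ, ModSite.IsFlat (E.X i)) (p : ℤ) :
    PreservesFiniteColimits (Φ (ModSite.tensorBi O) E p) ↔
      PreservesFiniteLimits (Φ (ModSite.tensorBi O) E (p + 1)) := by
  rw [preservesFiniteColimits_iff_preservesMono (shortExact_map_flip_of_isFlat E hEf) p,
    preservesFiniteLimits_iff_preservesMono (shortExact_map_flip_of_isFlat E hEf) (p + 1)]

end Groth.Agent.Lib.Helper28.KFlatSite
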