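import Mathlib
import Groth.Prelude.Def_KFlatSite
import Groth.Agent.Lib.Helper28.KFlatSite4
import Groth.Agent.Lib.Helper28.KFlatAbs5

/-!
# K-flat complexes on a ringed site V: quasi-isomorphisms between K-flat complexes (helper28)
-/

open CategoryTheory Limits HomologicalComplex

namespace Groth.Agent.Lib.Helper28.KFlatSite

open Groth.Agent.Lib.Helper28.KFlatAbs Groth.Agent.Lib.Helper17

universe u

variable {C : Type u} [SmallCategory C] {J : GrothendieckTopology C} {O : Sheaf J CommRingCat.{u}}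

/-- existence of K-flat resolutions in abstract form -/
theorem hres (F : CochainComplex (ModSite.Mod O) ℤ) :
    ∃ (L : CochainComplex (ModSite.Mod O) ℤ) (q : L ⟶ F),
      KFlatAbs.IsKFlat (ModSite.tensorBi O) L ∧ QuasiIso q := by
  obtain ⟨K, q, h1, _, h3, _⟩ := exists_kflat_resolution F
  exact ⟨K, q, (isKFlat_iff K).1 h1, h3⟩

/-- A quasi-isomorphism between K-flat complexes stays one after `Tot(F ⊗ -)`. -/
theorem quasiIso_tensor_left {P Q : CochainComplex (ModSite.Mod O) ℤ}
    (hP : KFlatAbs.IsKFlat (ModSite.tensorBi O) P) (hQ : KFlatAbs.IsKFlat (ModSite.tensorBi O) Q)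
    (α : P ⟶ Q) (hα : QuasiIso α) (F : CochainComplex (ModSite.Mod O) ℤ) :
    QuasiIso (mapBifunctorMap (𝟙 F) α (ModSite.tensorBi O) (.up ℤ)) :=
  quasiIso_mapBifunctorMap₂_of_isKFlat (Tensor.flipIso O) hres hP hQ α F

/-- K-flat complexes are also left K-flat. -/
theorem isKFlatL_of_isKFlat {L : CochainComplex (ModSite.Mod O) ℤ}
    (h : KFlatAbs.IsKFlat (ModSite.tensorBi O) L) : KFlatAbs.IsKFlatL (ModSite.tensorBi O) L :=
  KFlatAbs.isKFlatL_of_isKFlat (Tensor.flipIso O) h

end Groth.Agent.Lib.Helper28.KFlatSite
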