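import Mathlib
import Groth.Prelude.Def_KFlatSite
import Groth.Agent.Lib.Helper28.KFlatSite14
import Groth.Agent.Lib.Helper28.KFlatDerived2
import Groth.Agent.Lib.Helper28.KFlatSite5

/-!
# K-flat complexes on a ringed site XV: `- ⊗^L E` is computed on K-flat complexes and only depends
on `E` up to quasi-isomorphism (helper28)
-/

open CategoryTheory Limits HomologicalComplex

attribute [local instance] HasDerivedCategory.standard

namespace Groth.Agent.Lib.Helper28.KFlatSite

open Groth.Agent.Lib.Helper28.KFlatAbs Groth.Agent.Lib.Helper17 Groth.Agent.Lib.Helper28.TensorDelta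

universe u

variable {C : Type u} [SmallCategory C] {J : GrothendieckTopology C} {O : Sheaf J CommRingCat.{u}}

/-- the counit of `- ⊗^L E` is an isomorphism on K-flat complexes, for any `E` -/
theorem isIso_counit_app_of_isKFlat_left (E : CochainComplex (ModSite.Mod O) ℤ)
    [ModSite.HasLTensorCx E] (X : CochainComplex (ModSite.Mod O) ℤ) (hX : ModSite.IsKFlat X) :
    IsIso (((ModSite.tensorCxQ E).totalLeftDerivedCounit DerivedCategory.Q
      (HomologicalComplex.quasiIso (ModSite.Mod O) (ComplexShape.up ℤ))).app X) :=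
  KFlatAbs.isIso_counit_app_tot_of_isKFlat (T := ModSite.tensorBi O) (Tensor.flipIso O) hres E
    (ModSite.LTensorCx E) _ inferInstance X ((isKFlat_iff X).1 hX)

/-- `X ⊗^L E ≅ Tot(X ⊗ E)` for `X` K-flat -/
noncomputable def LTensorCxIsoLeft (E : CochainComplex (ModSite.Mod O) ℤ)
    [ModSite.HasLTensorCx E] (X : CochainComplex (ModSite.Mod O) ℤ) (hX : ModSite.IsKFlat X) :
    (ModSite.LTensorCx E).obj (DerivedCategory.Q.obj X) ≅
      DerivedCategory.Q.obj (((ModSite.tensorCx O).obj X).obj E) :=
  @asIso _ _ _ _ _ (isIso_counit_app_of_isKFlat_left E X hX)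

/-- the natural transformation `- ⊗^L E' ⟶ - ⊗^L E` induced by `q : E' ⟶ E` -/
noncomputable def LTensorCxNatTrans {E' E : CochainComplex (ModSite.Mod O) ℤ} (q : E' ⟶ E)
    [ModSite.HasLTensorCx E'] [ModSite.HasLTensorCx E] :
    ModSite.LTensorCx E' ⟶ ModSite.LTensorCx E :=
  Functor.leftDerivedNatTrans (ModSite.LTensorCx E') (ModSite.LTensorCx E)
    ((ModSite.tensorCxQ E').totalLeftDerivedCounit DerivedCategory.Q
      (HomologicalComplex.quasiIso (ModSite.Mod O) (ComplexShape.up ℤ)))
    ((ModSite.tensorCxQ E).totalLeftDerivedCounit DerivedCategory.Q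
      (HomologicalComplex.quasiIso (ModSite.Mod O) (ComplexShape.up ℤ)))
    (HomologicalComplex.quasiIso (ModSite.Mod O) (ComplexShape.up ℤ))
    (Functor.whiskerRight ((ModSite.tensorCx O).flip.map q) DerivedCategory.Q)

/-- `- ⊗^L E' ⟶ - ⊗^L E` is an isomorphism when `E' ⟶ E` is a quasi-isomorphism -/
theorem isIso_LTensorCxNatTrans {E' E : CochainComplex (ModSite.Mod O) ℤ} (q : E' ⟶ E)
    (hq : QuasiIso q) [ModSite.HasLTensorCx E'] [ModSite.HasLTensorCx E] :
    IsIso (LTensorCxNatTrans q) := by
  have key : ∀ (X : CochainComplex (ModSite.Mod O) ℤ), ModSite.IsKFlat X →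
      IsIso ((LTensorCxNatTrans q).app (DerivedCategory.Q.obj X)) := by
    intro X hX
    have h := Functor.leftDerivedNatTrans_app (ModSite.LTensorCx E') (ModSite.LTensorCx E)
      ((ModSite.tensorCxQ E').totalLeftDerivedCounit DerivedCategory.Q
        (HomologicalComplex.quasiIso (ModSite.Mod O) (ComplexShape.up ℤ)))
      ((ModSite.tensorCxQ E).totalLeftDerivedCounit DerivedCategory.Q
        (HomologicalComplex.quasiIso (ModSite.Mod O) (ComplexShape.up ℤ)))
      (HomologicalComplex.quasiIso (ModSite.Mod O) (ComplexShape.up ℤ))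
      (Functor.whiskerRight ((ModSite.tensorCx O).flip.map q) DerivedCategory.Q) X
    have i1 := isIso_counit_app_of_isKFlat_left E X hX
    have i2 := isIso_counit_app_of_isKFlat_left E' X hX
    have i3 : IsIso ((Functor.whiskerRight ((ModSite.tensorCx O).flip.map q)
        DerivedCategory.Q).app X) := by
      change IsIso (DerivedCategory.Q.map (mapBifunctorMap (𝟙 X) q (ModSite.tensorBi O) (.up ℤ)))
      rw [DerivedCategory.isIso_Q_map_iff_quasiIso]
      exact quasiIso_mapBifunctorMap₂_of_isKFlatL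
        (isKFlatL_of_isKFlat ((isKFlat_iff X).1 hX)) q
    have h' : (LTensorCxNatTrans q).app (DerivedCategory.Q.obj X) =
        (((ModSite.tensorCxQ E').totalLeftDerivedCounit DerivedCategory.Q
          (HomologicalComplex.quasiIso (ModSite.Mod O) (ComplexShape.up ℤ))).app X ≫
          (Functor.whiskerRight ((ModSite.tensorCx O).flip.map q) DerivedCategory.Q).app X) ≫
        inv (((ModSite.tensorCxQ E).totalLeftDerivedCounit DerivedCategory.Q
          (HomologicalComplex.quasiIso (ModSite.Mod O) (ComplexShape.up ℤ))).app X) := by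
      rw [IsIso.eq_comp_inv]
      exact h
    rw [h']
    infer_instance
  have : ∀ Y : DerivedCategory (ModSite.Mod O), IsIso ((LTensorCxNatTrans q).app Y) := by
    intro Y
    obtain ⟨X, r, hX, -, hr, -⟩ := exists_kflat_resolution (DerivedCategory.Q.objPreimage Y)
    have hi : IsIso (DerivedCategory.Q.map r) := by
      rw [DerivedCategory.isIso_Q_map_iff_quasiIso]
      exact hr
    let e : DerivedCategory.Q.obj X ≅ Y :=
      @asIso _ _ _ _ (DerivedCategory.Q.map r) hi ≪≫ DerivedCategory.Q.objObjPreimageIso Y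
    have := key X hX
    exact (NatTrans.isIso_app_iff_of_iso (LTensorCxNatTrans q) e).1 (key X hX)
  exact NatIso.isIso_of_isIso_app _

/-- `- ⊗^L E' ≅ - ⊗^L E` for a quasi-isomorphism `E' ⟶ E` -/
noncomputable def LTensorCxNatIsoOfQuasiIso {E' E : CochainComplex (ModSite.Mod O) ℤ} (q : E' ⟶ E)
    (hq : QuasiIso q) [ModSite.HasLTensorCx E'] [ModSite.HasLTensorCx E] :
    ModSite.LTensorCx E' ≅ ModSite.LTensorCx E :=
  @asIso _ _ _ _ _ (isIso_LTensorCxNatTrans q hq)

end Groth.Agent.Lib.Helper28.KFlatSite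

namespace Groth.Agent.Lib.Helper28.KFlatSite

open Groth.Agent.Lib.Helper28.KFlatAbs Groth.Agent.Lib.Helper17 Groth.Agent.Lib.Helper28.TensorDelta

universe u

variable {C : Type u} [SmallCategory C] {J : GrothendieckTopology C} {O : Sheaf J CommRingCat.{u}}

/-- the derived tensor product with a K-flat complex exists -/
theorem hasLTensorCx_of_isKFlat (E : CochainComplex (ModSite.Mod O) ℤ) (hE : ModSite.IsKFlat E) :
    ModSite.HasLTensorCx E := by
  have := Functor.hasPointwiseLeftDerivedFunctor_of_inverts _ (inverts_tensorCxQ_of_isKFlat E hE)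
  exact Functor.hasLeftDerivedFunctor_of_hasPointwiseLeftDerivedFunctor _ _

/-- `M ↦ H^p(M ⊗^L E)` computed with a bounded above flat resolution `E' ⟶ E` -/
noncomputable def homologyLTensorCxIsoOfResolution {E' E : CochainComplex (ModSite.Mod O) ℤ}
    (q : E' ⟶ E) (hq : QuasiIso q) (hE' : ModSite.IsKFlat E') [ModSite.HasLTensorCx E']
    [ModSite.HasLTensorCx E] (p : ℤ) :
    DerivedCategory.singleFunctor (ModSite.Mod O) 0 ⋙ ModSite.LTensorCx E ⋙
      DerivedCategory.homologyFunctor (ModSite.Mod O) p ≅ Φ (ModSite.tensorBi O) E' p :=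
  Functor.isoWhiskerLeft _ (Functor.isoWhiskerRight (LTensorCxNatIsoOfQuasiIso q hq).symm _) ≪≫
    homologyLTensorCxIso E' hE' p

end Groth.Agent.Lib.Helper28.KFlatSite
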