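import Mathlib
import Groth.Prelude.Def_KFlatSite
import Groth.Agent.Lib.Helper28.KFlatSite2
import Groth.Agent.Lib.Helper28.KFlatAbs8

/-!
# K-flat complexes on a ringed site VII: associativity, `Tot(K ⊗ L)` K-flat (helper28)
-/

open CategoryTheory Limits HomologicalComplex MonoidalCategory

namespace Groth.Agent.Lib.Helper28.KFlatSite

open Groth.Agent.Lib.Helper28.KFlatAbs Groth.Agent.Lib.Helper17 Groth.Agent.Lib.Helper17.Tensor
  Groth.Agent.Lib.Helper17.IHom

universe u

variable {C : Type u} [SmallCategory C] {J : GrothendieckTopology C} {O : Sheaf J CommRingCat.{u}}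

lemma assocIso_naturality_middle (X : ModSite.Mod O) {M M' : ModSite.Mod O} (f : M ⟶ M')
    (N : ModSite.Mod O) :
    tensR (tensL X f) N ≫ (assocIso X M' N).hom = (assocIso X M N).hom ≫ tensL X (tensR f N) := by
  have h1 : (shWhiskerRightIso (toPMod X ⊗ toPMod M) (toPMod N)).hom ≫ tensR (tensL X f) N =
        (shF O).map ((toPMod X ◁ pv f) ▷ toPMod N) ≫
          (shWhiskerRightIso (toPMod X ⊗ toPMod M') (toPMod N)).hom := by
    rw [shWhiskerRightIso_hom, shWhiskerRightIso_hom, tensR, ← Functor.map_comp, ← Functor.map_comp]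
    congr 1
    rw [← MonoidalCategory.comp_whiskerRight, ← MonoidalCategory.comp_whiskerRight]
    congr 1
    exact (un_naturality (toPMod X ◁ pv f)).symm
  have h2 : (shF O).map ((toPMod X ◁ pv f) ▷ toPMod N) ≫
      (shF O).map (α_ (toPMod X) (toPMod M') (toPMod N)).hom =
        (shF O).map (α_ (toPMod X) (toPMod M) (toPMod N)).hom ≫
          (shF O).map (toPMod X ◁ (pv f ▷ toPMod N)) := by
    rw [← Functor.map_comp, ← Functor.map_comp]
    congr 1
    exact MonoidalCategory.associator_naturality_middle (toPMod X) (pv f) (toPMod N)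
  have h3 : (shF O).map (toPMod X ◁ (pv f ▷ toPMod N)) ≫
      (shWhiskerLeftIso (toPMod X) (toPMod M' ⊗ toPMod N)).hom =
        (shWhiskerLeftIso (toPMod X) (toPMod M ⊗ toPMod N)).hom ≫ tensL X (tensR f N) := by
    rw [shWhiskerLeftIso_hom, shWhiskerLeftIso_hom, tensL, ← Functor.map_comp, ← Functor.map_comp]
    congr 1
    rw [← MonoidalCategory.whiskerLeft_comp, ← MonoidalCategory.whiskerLeft_comp]
    congr 1
    exact un_naturality (pv f ▷ toPMod N)
  have h1' : tensR (tensL X f) N ≫ (shWhiskerRightIso (toPMod X ⊗ toPMod M') (toPMod N)).inv =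
        (shWhiskerRightIso (toPMod X ⊗ toPMod M) (toPMod N)).inv ≫
          (shF O).map ((toPMod X ◁ pv f) ▷ toPMod N) := by
    rw [Iso.comp_inv_eq, Category.assoc, Iso.eq_inv_comp]
    exact h1
  rw [assocIso_hom, assocIso_hom, reassoc_of% h1', reassoc_of% h2, h3]
  simp only [Category.assoc]

lemma assocIso_naturality_right (X M : ModSite.Mod O) {N N' : ModSite.Mod O} (g : N ⟶ N') :
    tensL (tens X M) g ≫ (assocIso X M N').hom = (assocIso X M N).hom ≫ tensL X (tensL M g) := by
  have h1 : (shWhiskerRightIso (toPMod X ⊗ toPMod M) (toPMod N)).hom ≫ tensL (tens X M) g =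
        (shF O).map ((toPMod X ⊗ toPMod M) ◁ pv g) ≫
          (shWhiskerRightIso (toPMod X ⊗ toPMod M) (toPMod N')).hom := by
    rw [shWhiskerRightIso_hom, shWhiskerRightIso_hom, tensL, ← Functor.map_comp, ← Functor.map_comp]
    congr 1
    exact (MonoidalCategory.whisker_exchange (un (toPMod X ⊗ toPMod M)) (pv g)).symm
  have h2 : (shF O).map ((toPMod X ⊗ toPMod M) ◁ pv g) ≫
      (shF O).map (α_ (toPMod X) (toPMod M) (toPMod N')).hom =
        (shF O).map (α_ (toPMod X) (toPMod M) (toPMod N)).hom ≫
          (shF O).map (toPMod X ◁ (toPMod M ◁ pv g)) := by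
    rw [← Functor.map_comp, ← Functor.map_comp]
    congr 1
    exact MonoidalCategory.associator_naturality_right (toPMod X) (toPMod M) (pv g)
  have h3 : (shF O).map (toPMod X ◁ (toPMod M ◁ pv g)) ≫
      (shWhiskerLeftIso (toPMod X) (toPMod M ⊗ toPMod N')).hom =
        (shWhiskerLeftIso (toPMod X) (toPMod M ⊗ toPMod N)).hom ≫ tensL X (tensL M g) := by
    rw [shWhiskerLeftIso_hom, shWhiskerLeftIso_hom, tensL, ← Functor.map_comp, ← Functor.map_comp]
    congr 1
    rw [← MonoidalCategory.whiskerLeft_comp, ← MonoidalCategory.whiskerLeft_comp]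
    congr 1
    exact un_naturality (toPMod M ◁ pv g)
  have h1' : tensL (tens X M) g ≫ (shWhiskerRightIso (toPMod X ⊗ toPMod M) (toPMod N')).inv =
        (shWhiskerRightIso (toPMod X ⊗ toPMod M) (toPMod N)).inv ≫
          (shF O).map ((toPMod X ⊗ toPMod M) ◁ pv g) := by
    rw [Iso.comp_inv_eq, Category.assoc, Iso.eq_inv_comp]
    exact h1
  rw [assocIso_hom, assocIso_hom, reassoc_of% h1', reassoc_of% h2, h3]
  simp only [Category.assoc]

variable (O) in
/-- the associativity constraint of the tensor product as an isomorphism of trifunctors -/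
noncomputable def assocTriIso :
    bifunctorComp₁₂ (ModSite.tensorBi O) (ModSite.tensorBi O) ≅
      bifunctorComp₂₃ (ModSite.tensorBi O) (ModSite.tensorBi O) :=
  NatIso.ofComponents (fun X => NatIso.ofComponents (fun M => NatIso.ofComponents
    (fun N => assocIso X M N) (fun g => assocIso_naturality_right X M g))
    (by
      intro M M' f
      apply NatTrans.ext
      funext N
      exact assocIso_naturality_middle X f N))
    (by
      intro X X' f
      apply NatTrans.ext
      funext M
      apply NatTrans.ext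
      funext N
      exact assocIso_naturality_left f M N)

theorem preservesColimitsOfShape_flip_obj (Λ : Type) [SmallCategory Λ] (X : ModSite.Mod O) :
    PreservesColimitsOfShape Λ ((ModSite.tensorBi O).flip.obj X) := by
  have : PreservesColimitsOfSize.{0, 0} ((ModSite.tensorBi O).flip.obj X) :=
    preservesColimitsOfSize_shrink.{0, u, 0, u} _
  infer_instance

/-- `Tot(K ⊗ L)` is K-flat when `K` and `L` are -/
theorem isKFlat_tensorCx {K L : CochainComplex (ModSite.Mod O) ℤ}
    (hK : ModSite.IsKFlat K) (hL : ModSite.IsKFlat L) :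
    ModSite.IsKFlat (((ModSite.tensorCx O).obj K).obj L) := by
  rw [isKFlat_iff] at hK hL ⊢
  exact KFlatAbs.isKFlat_mapBifunctor (assocTriIso O)
    (fun I Y => preservesColimitsOfShape_flip_obj (Discrete I) Y)
    (fun I X => preservesColimitsOfShape_obj O (Discrete I) X) hK hL

end Groth.Agent.Lib.Helper28.KFlatSite
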