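import Mathlib
import Groth.Prelude.Def_KFlatSite
import Groth.Agent.Lib.Helper28.KFlatSite15
import Groth.Agent.Lib.Helper28.KFlatSite7
import Groth.Agent.Lib.Helper28.KFlatAbs10

/-!
# K-flat complexes on a ringed site XVII: `(- ⊗^L K) ⊗^L L ≅ - ⊗^L Tot(K ⊗ L)` for `L` K-flat
(helper28)
-/

open CategoryTheory Limits HomologicalComplex

attribute [local instance] HasDerivedCategory.standard

namespace Groth.Agent.Lib.Helper28.KFlatSite

open Groth.Agent.Lib.Helper28.KFlatAbs Groth.Agent.Lib.Helper17

universe u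

variable {C : Type u} [SmallCategory C] {J : GrothendieckTopology C} {O : Sheaf J CommRingCat.{u}}

theorem hasGood₁₂ (F K L : CochainComplex (ModSite.Mod O) ℤ) :
    HasGoodTrifunctor₁₂Obj (ModSite.tensorBi O) (ModSite.tensorBi O) F K L (.up ℤ) (.up ℤ) :=
  hasGoodTrifunctor₁₂Obj (ModSite.tensorBi O)
    (fun I Y => preservesColimitsOfShape_flip_obj (Discrete I) Y) F K L

theorem hasGood₂₃ (F K L : CochainComplex (ModSite.Mod O) ℤ) :
    HasGoodTrifunctor₂₃Obj (ModSite.tensorBi O) (ModSite.tensorBi O) F K L (.up ℤ) (.up ℤ)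
      (.up ℤ) :=
  hasGoodTrifunctor₂₃Obj (ModSite.tensorBi O)
    (fun I X => preservesColimitsOfShape_obj O (Discrete I) X) F K L

/-- associativity of the total tensor product of complexes -/
noncomputable def tensorCxAssocIso (F K L : CochainComplex (ModSite.Mod O) ℤ) :
    ((ModSite.tensorCx O).obj (((ModSite.tensorCx O).obj F).obj K)).obj L ≅
      ((ModSite.tensorCx O).obj F).obj (((ModSite.tensorCx O).obj K).obj L) :=
  haveI := hasGood₁₂ F K L
  haveI := hasGood₂₃ F K L
  mapBifunctorAssociator (assocTriIso O) F K L (.up ℤ) (.up ℤ) (.up ℤ)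

/-- associativity of the total tensor product of complexes, natural in the first variable -/
noncomputable def tensorCxAssocNatIso (K L : CochainComplex (ModSite.Mod O) ℤ) :
    (ModSite.tensorCx O).flip.obj K ⋙ (ModSite.tensorCx O).flip.obj L ≅
      (ModSite.tensorCx O).flip.obj (((ModSite.tensorCx O).obj K).obj L) :=
  NatIso.ofComponents (fun F => tensorCxAssocIso F K L) (fun {F F'} f =>
    mapBifunctorAssociator_hom_naturality₁ (assocTriIso O)
      (fun I Y => preservesColimitsOfShape_flip_obj (Discrete I) Y)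
      (fun I X => preservesColimitsOfShape_obj O (Discrete I) X) f K L)

section Comp

variable (K L : CochainComplex (ModSite.Mod O) ℤ) [ModSite.HasLTensorCx K]
  [ModSite.HasLTensorCx L] [ModSite.HasLTensorCx (((ModSite.tensorCx O).obj K).obj L)]

/-- the comparison `((Q F) ⊗^L K) ⊗^L L ⟶ Q (Tot(F ⊗ Tot(K ⊗ L)))` -/
noncomputable def LTensorCxCompPre :
    DerivedCategory.Q ⋙ (ModSite.LTensorCx K ⋙ ModSite.LTensorCx L) ⟶
      ModSite.tensorCxQ (((ModSite.tensorCx O).obj K).obj L) :=
  (Functor.associator _ _ _).inv ≫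
  Functor.whiskerRight ((ModSite.tensorCxQ K).totalLeftDerivedCounit DerivedCategory.Q
    (HomologicalComplex.quasiIso (ModSite.Mod O) (ComplexShape.up ℤ))) (ModSite.LTensorCx L) ≫
  (Functor.associator _ _ _).hom ≫
  Functor.whiskerLeft ((ModSite.tensorCx O).flip.obj K)
    ((ModSite.tensorCxQ L).totalLeftDerivedCounit DerivedCategory.Q
      (HomologicalComplex.quasiIso (ModSite.Mod O) (ComplexShape.up ℤ))) ≫
  (Functor.associator _ _ _).inv ≫
  Functor.whiskerRight (tensorCxAssocNatIso K L).hom DerivedCategory.Q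

lemma LTensorCxCompPre_app (X : CochainComplex (ModSite.Mod O) ℤ) :
    (LTensorCxCompPre K L).app X =
      (ModSite.LTensorCx L).map (((ModSite.tensorCxQ K).totalLeftDerivedCounit DerivedCategory.Q
        (HomologicalComplex.quasiIso (ModSite.Mod O) (ComplexShape.up ℤ))).app X) ≫
      ((ModSite.tensorCxQ L).totalLeftDerivedCounit DerivedCategory.Q
        (HomologicalComplex.quasiIso (ModSite.Mod O) (ComplexShape.up ℤ))).app
          (((ModSite.tensorCx O).obj X).obj K) ≫
      DerivedCategory.Q.map (tensorCxAssocIso X K L).hom := by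
  simp [LTensorCxCompPre, tensorCxAssocNatIso]

/-- the comparison `(- ⊗^L K) ⊗^L L ⟶ - ⊗^L Tot(K ⊗ L)` -/
noncomputable def LTensorCxCompNatTrans :
    ModSite.LTensorCx K ⋙ ModSite.LTensorCx L ⟶
      ModSite.LTensorCx (((ModSite.tensorCx O).obj K).obj L) :=
  (ModSite.LTensorCx (((ModSite.tensorCx O).obj K).obj L)).leftDerivedLift
    ((ModSite.tensorCxQ (((ModSite.tensorCx O).obj K).obj L)).totalLeftDerivedCounit
      DerivedCategory.Q (HomologicalComplex.quasiIso (ModSite.Mod O) (ComplexShape.up ℤ)))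
    (HomologicalComplex.quasiIso (ModSite.Mod O) (ComplexShape.up ℤ)) _ (LTensorCxCompPre K L)

/-- `(- ⊗^L K) ⊗^L L ⟶ - ⊗^L Tot(K ⊗ L)` is an isomorphism when `L` is K-flat -/
theorem isIso_LTensorCxCompNatTrans (hL : ModSite.IsKFlat L) :
    IsIso (LTensorCxCompNatTrans K L) := by
  have key : ∀ (X : CochainComplex (ModSite.Mod O) ℤ), ModSite.IsKFlat X →
      IsIso ((LTensorCxCompNatTrans K L).app (DerivedCategory.Q.obj X)) := by
    intro X hX
    have h := Functor.leftDerived_fac_app
      (ModSite.LTensorCx (((ModSite.tensorCx O).obj K).obj L))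
      ((ModSite.tensorCxQ (((ModSite.tensorCx O).obj K).obj L)).totalLeftDerivedCounit
        DerivedCategory.Q (HomologicalComplex.quasiIso (ModSite.Mod O) (ComplexShape.up ℤ)))
      (HomologicalComplex.quasiIso (ModSite.Mod O) (ComplexShape.up ℤ)) _
      (LTensorCxCompPre K L) X
    have i1 := isIso_counit_app_of_isKFlat_left K X hX
    have i2 := isIso_counit_app_of_isKFlat_left (((ModSite.tensorCx O).obj K).obj L) X hX
    have i3 := isIso_counit_of_isKFlat L hL
    have i4 : IsIso ((LTensorCxCompPre K L).app X) := by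
      rw [LTensorCxCompPre_app]
      infer_instance
    have h' : (LTensorCxCompNatTrans K L).app (DerivedCategory.Q.obj X) =
        (LTensorCxCompPre K L).app X ≫
        inv (((ModSite.tensorCxQ (((ModSite.tensorCx O).obj K).obj L)).totalLeftDerivedCounit
          DerivedCategory.Q
          (HomologicalComplex.quasiIso (ModSite.Mod O) (ComplexShape.up ℤ))).app X) := by
      rw [IsIso.eq_comp_inv]
      exact h
    rw [h']
    infer_instance
  have : ∀ Y : DerivedCategory (ModSite.Mod O), IsIso ((LTensorCxCompNatTrans K L).app Y) := by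
    intro Y
    obtain ⟨X, r, hX, -, hr, -⟩ := exists_kflat_resolution (DerivedCategory.Q.objPreimage Y)
    have hi : IsIso (DerivedCategory.Q.map r) := by
      rw [DerivedCategory.isIso_Q_map_iff_quasiIso]
      exact hr
    let e : DerivedCategory.Q.obj X ≅ Y :=
      @asIso _ _ _ _ (DerivedCategory.Q.map r) hi ≪≫ DerivedCategory.Q.objObjPreimageIso Y
    exact (NatTrans.isIso_app_iff_of_iso (LTensorCxCompNatTrans K L) e).1 (key X hX)
  exact NatIso.isIso_of_isIso_app _

/-- `(- ⊗^L K) ⊗^L L ≅ - ⊗^L Tot(K ⊗ L)` when `L` is K-flat -/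
noncomputable def LTensorCxCompNatIso (hL : ModSite.IsKFlat L) :
    ModSite.LTensorCx K ⋙ ModSite.LTensorCx L ≅
      ModSite.LTensorCx (((ModSite.tensorCx O).obj K).obj L) :=
  @asIso _ _ _ _ _ (isIso_LTensorCxCompNatTrans K L hL)

end Comp

end Groth.Agent.Lib.Helper28.KFlatSite
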