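import Mathlib
import Groth.Prelude.Def_ega3
import Groth.Agent.Lib.Helper28.FlatCx

/-!
# The rank function `dRank` of a complex of flat modules (helper28)

* `extendScalarsEquiv B M : (ModuleCat.extendScalars (algebraMap A B)).obj M ≃ₗ[B] B ⊗[A] M`.
* `opcyclesBcIso`: opcycles of the base-changed complex `bcCx φ P`.
* `finrank_homology_add`: over a field, `dim H_p + dim K_q = dim W_p + dim W_q`.
* `fibreDim W x = dim_{κ(x)} κ(x) ⊗ W` and its upper semicontinuity for finite `W`.
* `dRank_add_eq`: `dRank P p x + fibreDim P_q x = fibreDim W_p x + fibreDim W_q x`.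
-/

set_option autoImplicit false
universe u

namespace Groth.Agent.Lib.Helper28.FlatCx

open CategoryTheory CategoryTheory.Limits MonoidalCategory CohIII TensorProduct

variable {A : Type u} [CommRing A] {ι : Type} {c : ComplexShape ι}

section Bridge

variable (B : Type u) [CommRing B] [Algebra A B]

/-- `B` with the `A`-module structure used by `ModuleCat.extendScalars` is `B`. -/
noncomputable def restrEquiv :
    ((ModuleCat.restrictScalars (algebraMap A B)).obj (ModuleCat.of B B)) ≃ₗ[A] B where
  toFun := fun b => b
  invFun := fun b => b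
  map_add' := fun _ _ => rfl
  map_smul' := fun r b => (Algebra.smul_def r (show B from b)).symm
  left_inv := fun _ => rfl
  right_inv := fun _ => rfl

set_option backward.isDefEq.respectTransparency false in
lemma congr_smul (M : ModuleCat.{u} A) (s : B)
    (z : ((ModuleCat.restrictScalars (algebraMap A B)).obj (ModuleCat.of B B)) ⊗[A] M) :
    (TensorProduct.congr (restrEquiv B) (LinearEquiv.refl A M)) (s • z) =
      s • (TensorProduct.congr (restrEquiv B) (LinearEquiv.refl A M)) z := by
  induction z using TensorProduct.induction_on with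
  | zero => rw [smul_zero, map_zero, smul_zero]
  | tmul s' m => rfl
  | add x y hx hy => rw [smul_add, map_add, map_add, smul_add, hx, hy]

set_option backward.isDefEq.respectTransparency false in
/-- the object of `ModuleCat.extendScalars` is the usual base change. -/
noncomputable def extendScalarsEquiv (M : ModuleCat.{u} A) :
    ((ModuleCat.extendScalars (algebraMap A B)).obj M) ≃ₗ[B] B ⊗[A] M :=
  { (TensorProduct.congr (restrEquiv B) (LinearEquiv.refl A M)).toAddEquiv with
    map_smul' := congr_smul B M }

end Bridge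

section BcOpcycles

variable {B : Type u} [CommRing B] (φ : A →+* B) (P : HomologicalComplex (ModuleCat.{u} A) c)

/-- opcycles of the base-changed complex. -/
noncomputable def opcyclesBcIso (p : ι) :
    (bcCx φ P).opcycles p ≅ (ModuleCat.extendScalars φ).obj (P.opcycles p) :=
  haveI : PreservesColimitsOfSize.{0, 0} (ModuleCat.extendScalars.{u, u, u} φ) :=
    (ModuleCat.extendRestrictScalarsAdj φ).leftAdjoint_preservesColimits
  IsColimit.coconePointUniqueUpToIso
    ((bcCx φ P).opcyclesIsCokernel (c.prev p) p rfl)
    (CokernelCofork.mapIsColimit _ (P.opcyclesIsCokernel (c.prev p) p rfl)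
      (ModuleCat.extendScalars φ))

end BcOpcycles

section FieldDim

variable {κ : Type u} [Field κ] (K : HomologicalComplex (ModuleCat.{u} κ) c)

/-- over a field: `dim H_p + dim K_q = dim W_p + dim W_q` for `c.Rel p q`. -/
theorem finrank_homology_add (p q : ι) (hpq : c.Rel p q) [Module.Finite κ (K.X p)]
    [Module.Finite κ (K.X q)] :
    Module.finrank κ (K.homology p) + Module.finrank κ (K.X q) =
      Module.finrank κ (K.opcycles p) + Module.finrank κ (K.opcycles q) := by
  have hfinW : Module.Finite κ (K.opcycles p) := finite_opcycles K p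
  have h1 := exact_homologyι_fromOpcycles K p q (c.next_eq' hpq)
  have h2 := exact_fromOpcycles_pOpcycles K p q (c.prev_eq' hpq)
  have hι := homologyι_injective K p
  have hπ := pOpcycles_surjective K q
  -- rank-nullity for `φ` and for `π`
  have e1 := LinearMap.finrank_range_add_finrank_ker (K.fromOpcycles p q).hom
  have e2 := LinearMap.finrank_range_add_finrank_ker (K.pOpcycles q).hom
  have e3 : Module.finrank κ (K.homology p) =
      Module.finrank κ (LinearMap.ker (K.fromOpcycles p q).hom) := by
    have : LinearMap.ker (K.fromOpcycles p q).hom = LinearMap.range (K.homologyι p).hom := by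
      rw [h1.linearMap_ker_eq]
    rw [this]
    exact (LinearEquiv.ofInjective (K.homologyι p).hom hι).finrank_eq
  have e4 : LinearMap.ker (K.pOpcycles q).hom = LinearMap.range (K.fromOpcycles p q).hom :=
    h2.linearMap_ker_eq
  have e5 : Module.finrank κ (LinearMap.range (K.pOpcycles q).hom) =
      Module.finrank κ (K.opcycles q) := by
    rw [LinearMap.range_eq_top.mpr hπ, finrank_top]
  rw [e4, e5] at e2
  omega

end FieldDim

section FibreDim

/-- the dimension of the fibre of `W` at `x`. -/
noncomputable def fibreDim (W : Type u) [AddCommGroup W] [Module A W] (x : PrimeSpectrum A) : ℕ :=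
  Module.finrank x.asIdeal.ResidueField (x.asIdeal.ResidueField ⊗[A] W)

lemma span_one_tmul_eq_top (κ : Type u) [Field κ] [Algebra A κ] (W : Type u) [AddCommGroup W]
    [Module A W] :
    Submodule.span κ (Set.range (fun w : W => (1 : κ) ⊗ₜ[A] w)) = ⊤ := by
  rw [eq_top_iff]
  rintro z -
  induction z using TensorProduct.induction_on with
  | zero => exact Submodule.zero_mem _
  | tmul c w =>
    have : c ⊗ₜ[A] w = c • ((1 : κ) ⊗ₜ[A] w) := by
      rw [TensorProduct.smul_tmul', smul_eq_mul, mul_one]
    rw [this]
    exact Submodule.smul_mem _ _ (Submodule.subset_span ⟨w, rfl⟩)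
  | add x y hx hy => exact Submodule.add_mem _ hx hy

/-- if `κ ⊗ coker g = 0` then `dim κ ⊗ W ≤ n` for `g : A^n → W`. -/
lemma finrank_le_of_subsingleton_coker (κ : Type u) [Field κ] [Algebra A κ] (W : Type u)
    [AddCommGroup W] [Module A W] {n : Type} [Fintype n] [DecidableEq n] (g : (n → A) →ₗ[A] W)
    (h : Subsingleton (κ ⊗[A] (W ⧸ LinearMap.range g))) :
    Module.finrank κ (κ ⊗[A] W) ≤ Fintype.card n := by
  have hex := lTensor_exact κ (LinearMap.exact_map_mkQ_range g) (Submodule.mkQ_surjective _)
  have hsurj : Function.Surjective (g.baseChange κ) := by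
    intro z
    have : (LinearMap.lTensor κ (LinearMap.range g).mkQ) z = 0 := Subsingleton.elim _ _
    obtain ⟨y, hy⟩ := (hex z).mp this
    exact ⟨y, hy⟩
  have h1 := LinearMap.finrank_le_finrank_of_surjective hsurj  
  have : Nontrivial A := (algebraMap A κ).domain_nontrivial
  have h2 : Module.finrank κ (κ ⊗[A] (n → A)) = Fintype.card n := by
    rw [Module.finrank_baseChange, Module.finrank_pi]
  omega

lemma subsingleton_coker_of_surjective (κ : Type u) [Field κ] [Algebra A κ] (W : Type u)
    [AddCommGroup W] [Module A W] {n : Type} (g : (n → A) →ₗ[A] W)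
    (h : Function.Surjective (g.baseChange κ)) :
    Subsingleton (κ ⊗[A] (W ⧸ LinearMap.range g)) := by
  refine subsingleton_of_forall_eq 0 fun z => ?_
  obtain ⟨z', rfl⟩ := LinearMap.lTensor_surjective κ
    (Submodule.mkQ_surjective (LinearMap.range g)) z
  obtain ⟨z'', rfl⟩ := h z'
  have h0 : (LinearMap.range g).mkQ ∘ₗ g = 0 := LinearMap.range_mkQ_comp g
  have : (LinearMap.lTensor κ (LinearMap.range g).mkQ) ((LinearMap.lTensor κ g) z'') = 0 := by
    rw [← LinearMap.comp_apply, ← LinearMap.lTensor_comp, h0, LinearMap.lTensor_zero,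
      LinearMap.zero_apply]
  exact this

lemma baseChange_linearCombination_single (κ : Type u) [Field κ] [Algebra A κ] (W : Type u)
    [AddCommGroup W] [Module A W] {n : Type} [Fintype n] [DecidableEq n] (wv : n → W) (v : n) :
    ((Fintype.linearCombination A wv).baseChange κ) ((1 : κ) ⊗ₜ[A] (Pi.single v (1 : A))) =
      (1 : κ) ⊗ₜ[A] wv v := by
  rw [LinearMap.baseChange_tmul, Fintype.linearCombination_apply_single, one_smul]

lemma exists_surjective_baseChange (κ : Type u) [Field κ] [Algebra A κ] (W : Type u)
    [AddCommGroup W] [Module A W] [Module.Finite A W] :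
    ∃ (n : Type) (_ : Fintype n) (_ : DecidableEq n) (g : (n → A) →ₗ[A] W),
      Fintype.card n = Module.finrank κ (κ ⊗[A] W) ∧ Function.Surjective (g.baseChange κ) := by
  classical
  obtain ⟨b, hbt, hbspan, hbli⟩ := exists_linearIndependent κ
    (Set.range (fun w : W => (1 : κ) ⊗ₜ[A] w))
  rw [span_one_tmul_eq_top] at hbspan
  have hbfin : b.Finite := hbli.setFinite
  have : Fintype b := hbfin.fintype
  have hcard : Fintype.card b = Module.finrank κ (κ ⊗[A] W) := by
    have h1 := finrank_span_set_eq_card hbli
    rw [hbspan, finrank_top, Set.toFinset_card] at h1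
    exact h1.symm
  choose wv hwv using fun v : b => hbt v.2
  -- reindex by `Fin`
  let e : b ≃ Fin (Fintype.card b) := Fintype.equivFin b
  refine ⟨Fin (Fintype.card b), inferInstance, inferInstance,
    Fintype.linearCombination A (fun i => wv (e.symm i)), ?_, ?_⟩
  · rw [Fintype.card_fin]; exact hcard
  · rw [← LinearMap.range_eq_top, eq_top_iff, ← hbspan, Submodule.span_le]
    rintro z hz
    refine ⟨(1 : κ) ⊗ₜ[A] (Pi.single (e ⟨z, hz⟩) (1 : A)), ?_⟩
    rw [baseChange_linearCombination_single, Equiv.symm_apply_apply]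
    exact hwv ⟨z, hz⟩

/-- upper semicontinuity of the fibre dimension of a finite module. -/
theorem fibreDim_eventually_le (W : Type u) [AddCommGroup W] [Module A W] [Module.Finite A W]
    (x : PrimeSpectrum A) : ∀ᶠ x' in nhds x, fibreDim W x' ≤ fibreDim W x := by
  obtain ⟨n, _, _, g, hcard, hsurj⟩ := exists_surjective_baseChange (A := A) x.asIdeal.ResidueField W
  have hsub := subsingleton_coker_of_surjective x.asIdeal.ResidueField W g hsurj
  have hx : x ∉ Module.support A (W ⧸ LinearMap.range g) := by
    rw [Module.mem_support_iff_nontrivial_residueField_tensorProduct]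
    exact not_nontrivial_iff_subsingleton.mpr hsub
  have hcl : IsClosed (Module.support A (W ⧸ LinearMap.range g)) := Module.isClosed_support
  filter_upwards [hcl.isOpen_compl.mem_nhds hx] with x' hx'
  have hsub' : Subsingleton (x'.asIdeal.ResidueField ⊗[A] (W ⧸ LinearMap.range g)) := by
    rw [← not_nontrivial_iff_subsingleton,
      ← Module.mem_support_iff_nontrivial_residueField_tensorProduct]
    exact hx'
  have := finrank_le_of_subsingleton_coker x'.asIdeal.ResidueField W g hsub'
  unfold fibreDim
  omega

/-- the fibre dimension of a finite flat module over a Noetherian ring is locally constant. -/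
theorem fibreDim_eventually_eq [IsNoetherianRing A] (W : Type u) [AddCommGroup W] [Module A W]
    [Module.Finite A W] [Module.Flat A W] (x : PrimeSpectrum A) :
    ∀ᶠ x' in nhds x, fibreDim W x' = fibreDim W x := by
  have : Module.FinitePresentation A W := Module.finitePresentation_of_finite A W
  have h : (fibreDim W : PrimeSpectrum A → ℕ) = Module.rankAtStalk (R := A) W := by
    funext y
    exact (Module.rankAtStalk_eq y).symm
  rw [h]
  exact (Module.isLocallyConstant_rankAtStalk (R := A) (M := W)).eventually_eq x

end FibreDim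

section DRank

lemma finite_bcCx_X {κ : Type u} [Field κ] [Algebra A κ]
    (P : HomologicalComplex (ModuleCat.{u} A) c) (i : ι) [Module.Finite A (P.X i)] :
    Module.Finite κ ((bcCx (algebraMap A κ) P).X i) :=
  Module.Finite.equiv (extendScalarsEquiv κ (P.X i)).symm

/-- `dRank P p x + dim P_q(x) = dim W_p(x) + dim W_q(x)` for `c.Rel p q`. -/
theorem dRank_add_eq (P : HomologicalComplex (ModuleCat.{u} A) c) (p q : ι) (hpq : c.Rel p q)
    [Module.Finite A (P.X p)] [Module.Finite A (P.X q)] (x : PrimeSpectrum A) :
    dRank P p x + fibreDim (P.X q) x =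
      fibreDim (P.opcycles p) x + fibreDim (P.opcycles q) x := by
  have hp : Module.Finite x.asIdeal.ResidueField
      ((bcCx (algebraMap A x.asIdeal.ResidueField) P).X p) := finite_bcCx_X P p
  have hq : Module.Finite x.asIdeal.ResidueField
      ((bcCx (algebraMap A x.asIdeal.ResidueField) P).X q) := finite_bcCx_X P q
  have h := finrank_homology_add (bcCx (algebraMap A x.asIdeal.ResidueField) P) p q hpq
  have e1 : Module.finrank x.asIdeal.ResidueField
      ((bcCx (algebraMap A x.asIdeal.ResidueField) P).X q) = fibreDim (P.X q) x :=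
    (extendScalarsEquiv x.asIdeal.ResidueField (P.X q)).finrank_eq
  have e2 : ∀ i, Module.finrank x.asIdeal.ResidueField
      ((bcCx (algebraMap A x.asIdeal.ResidueField) P).opcycles i) = fibreDim (P.opcycles i) x :=
    fun i => ((opcyclesBcIso (algebraMap A x.asIdeal.ResidueField) P i).toLinearEquiv ≪≫ₗ
      extendScalarsEquiv x.asIdeal.ResidueField (P.opcycles i)).finrank_eq
  rw [e1, e2, e2] at h
  exact h

/-- upper semicontinuity of `dRank P p` (pointwise form). -/
theorem dRank_eventually_le [IsNoetherianRing A] (P : HomologicalComplex (ModuleCat.{u} A) c)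
    (p q : ι) (hpq : c.Rel p q) [Module.Finite A (P.X p)] [Module.Finite A (P.X q)]
    [Module.Flat A (P.X q)] (x : PrimeSpectrum A) :
    ∀ᶠ x' in nhds x, dRank P p x' ≤ dRank P p x := by
  have hWp : Module.Finite A (P.opcycles p) := finite_opcycles P p
  have hWq : Module.Finite A (P.opcycles q) := finite_opcycles P q
  filter_upwards [fibreDim_eventually_le (P.opcycles p) x, fibreDim_eventually_le (P.opcycles q) x,
    fibreDim_eventually_eq (P.X q) x] with x' h1 h2 h3
  have e := dRank_add_eq P p q hpq x
  have e' := dRank_add_eq P p q hpq x'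
  omega

/-- `dRank P p` is upper semicontinuous. -/
theorem dRank_upperSemicontinuous [IsNoetherianRing A]
    (P : HomologicalComplex (ModuleCat.{u} A) c)
    (p q : ι) (hpq : c.Rel p q) [Module.Finite A (P.X p)] [Module.Finite A (P.X q)]
    [Module.Flat A (P.X q)] : UpperSemicontinuous (dRank P p) := by
  intro x y hy
  filter_upwards [dRank_eventually_le P p q hpq x] with x' hx'
  exact lt_of_le_of_lt hx' hy

end DRank

section Constr

open Topology

lemma isConstructible_of_isOpen_noetherianSpace {X : Type*} [TopologicalSpace X]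
    [TopologicalSpace.NoetherianSpace X] {U : Set X} (hU : IsOpen U) : IsConstructible U :=
  IsRetrocompact.isConstructible hU
    (fun _ _ _ => TopologicalSpace.NoetherianSpace.isCompact _)

/-- fibres of a composite through a map with finite range and constructible fibres. -/
lemma isConstructible_fibre_comp {X α β : Type*} [TopologicalSpace X] (Φ : X → α) (ψ : α → β)
    (hfin : (Set.range Φ).Finite) (hΦ : ∀ a, IsConstructible (Φ ⁻¹' {a})) (b : β) :
    IsConstructible {x | ψ (Φ x) = b} := by
  have h : {x | ψ (Φ x) = b} = ⋃ a ∈ (Set.range Φ ∩ ψ ⁻¹' {b}), Φ ⁻¹' {a} := by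
    ext x
    simp only [Set.mem_ofPred_eq, Set.mem_iUnion, Set.mem_preimage, Set.mem_singleton_iff,
      Set.mem_inter_iff, Set.mem_range, exists_prop]
    constructor
    · intro hx
      exact ⟨Φ x, ⟨⟨x, rfl⟩, hx⟩, rfl⟩
    · rintro ⟨a, ⟨-, ha⟩, rfl⟩
      exact ha
  rw [h]
  exact IsConstructible.biUnion (hfin.subset Set.inter_subset_left) fun a _ => hΦ a

/-- `{fibreDim W ≤ k}` is open. -/
lemma isOpen_fibreDim_le (W : Type u) [AddCommGroup W] [Module A W] [Module.Finite A W] (k : ℕ) :
    IsOpen {x : PrimeSpectrum A | fibreDim W x ≤ k} := by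
  rw [isOpen_iff_mem_nhds]
  intro x hx
  filter_upwards [fibreDim_eventually_le W x] with x' hx'
  exact le_trans hx' hx

lemma isConstructible_fibreDim_eq [IsNoetherianRing A] (W : Type u) [AddCommGroup W] [Module A W]
    [Module.Finite A W] (k : ℕ) :
    IsConstructible {x : PrimeSpectrum A | fibreDim W x = k} := by
  have h1 := isConstructible_of_isOpen_noetherianSpace (isOpen_fibreDim_le (A := A) W k)
  rcases k with _ | k
  · have : {x : PrimeSpectrum A | fibreDim W x = 0} = {x : PrimeSpectrum A | fibreDim W x ≤ 0} := by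
      ext x; simp
    rw [this]; exact h1
  · have h2 := isConstructible_of_isOpen_noetherianSpace (isOpen_fibreDim_le (A := A) W k)
    have : {x : PrimeSpectrum A | fibreDim W x = k + 1} =
        {x : PrimeSpectrum A | fibreDim W x ≤ k + 1} \ {x : PrimeSpectrum A | fibreDim W x ≤ k} := by
      ext x
      simp only [Set.mem_ofPred_eq, Set.mem_sdiff]
      omega
    rw [this]; exact h1.sdiff h2

/-- the fibre dimension of a finite module is bounded. -/
lemma exists_fibreDim_le (W : Type u) [AddCommGroup W] [Module A W] [Module.Finite A W] :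
    ∃ N : ℕ, ∀ x : PrimeSpectrum A, fibreDim W x ≤ N := by
  classical
  obtain ⟨n, s, hs⟩ := Module.Finite.exists_fin (R := A) (M := W)
  refine ⟨n, fun x => ?_⟩
  have hr : LinearMap.range (Fintype.linearCombination A s) = ⊤ := by
    rw [Fintype.range_linearCombination, hs]
  have hsub : Subsingleton (W ⧸ LinearMap.range (Fintype.linearCombination A s)) := by
    rw [hr]
    exact Submodule.Quotient.subsingleton_iff.mpr rfl
  have h := finrank_le_of_subsingleton_coker x.asIdeal.ResidueField W
    (Fintype.linearCombination A s) inferInstance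
  rw [Fintype.card_fin] at h
  exact h

/-- `dRank P p` is a constructible function (finite terms, Noetherian base). -/
theorem dRank_constructible [IsNoetherianRing A] (P : HomologicalComplex (ModuleCat.{u} A) c)
    (p q : ι) (hpq : c.Rel p q) [Module.Finite A (P.X p)] [Module.Finite A (P.X q)] :
    (Set.range (dRank P p)).Finite ∧
      ∀ n : ℕ, IsConstructible {x : PrimeSpectrum A | dRank P p x = n} := by
  have hWp : Module.Finite A (P.opcycles p) := finite_opcycles P p
  have hWq : Module.Finite A (P.opcycles q) := finite_opcycles P q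
  let Φ : PrimeSpectrum A → ℕ × ℕ × ℕ := fun x =>
    (fibreDim (P.opcycles p) x, fibreDim (P.opcycles q) x, fibreDim (P.X q) x)
  let ψ : ℕ × ℕ × ℕ → ℕ := fun t => t.1 + t.2.1 - t.2.2
  have hd : ∀ x, dRank P p x = ψ (Φ x) := by
    intro x
    have := dRank_add_eq P p q hpq x
    change _ = fibreDim (P.opcycles p) x + fibreDim (P.opcycles q) x - fibreDim (P.X q) x
    omega
  obtain ⟨N1, h1⟩ := exists_fibreDim_le (A := A) (P.opcycles p)
  obtain ⟨N2, h2⟩ := exists_fibreDim_le (A := A) (P.opcycles q)
  obtain ⟨N3, h3⟩ := exists_fibreDim_le (A := A) (P.X q)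
  have hfin : (Set.range Φ).Finite := by
    refine (Set.finite_Iic (N1, N2, N3)).subset ?_
    rintro _ ⟨x, rfl⟩
    exact ⟨h1 x, h2 x, h3 x⟩
  have hΦ : ∀ t, IsConstructible (Φ ⁻¹' {t}) := by
    rintro ⟨a, b, c'⟩
    have : Φ ⁻¹' {(a, b, c')} = {x | fibreDim (P.opcycles p) x = a} ∩
        ({x | fibreDim (P.opcycles q) x = b} ∩ {x | fibreDim (P.X q) x = c'}) := by
      ext x
      simp only [Set.mem_preimage, Set.mem_singleton_iff, Prod.mk.injEq, Set.mem_inter_iff,
        Set.mem_ofPred_eq, Φ]
    rw [this]
    exact (isConstructible_fibreDim_eq _ a).inter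
      ((isConstructible_fibreDim_eq _ b).inter (isConstructible_fibreDim_eq _ c'))
  constructor
  · have : Set.range (dRank P p) ⊆ ψ '' Set.range Φ := by
      rintro _ ⟨x, rfl⟩
      exact ⟨Φ x, ⟨x, rfl⟩, (hd x).symm⟩
    exact (hfin.image ψ).subset this
  · intro n
    have : {x : PrimeSpectrum A | dRank P p x = n} = {x | ψ (Φ x) = n} := by
      ext x
      simp only [Set.mem_ofPred_eq, hd x]
    rw [this]
    exact isConstructible_fibre_comp Φ ψ hfin hΦ n

end Constr

section Euler

lemma fibreDim_eq_zero_of_subsingleton (W : Type u) [AddCommGroup W] [Module A W] [Subsingleton W]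
    (x : PrimeSpectrum A) : fibreDim W x = 0 :=
  Module.finrank_zero_of_subsingleton

lemma dRank_eq_zero_of_isZero (P : HomologicalComplex (ModuleCat.{u} A) c) (i : ι)
    (h : IsZero (P.X i)) (x : PrimeSpectrum A) : dRank P i x = 0 := by
  have h1 : IsZero ((bcCx (algebraMap A x.asIdeal.ResidueField) P).X i) :=
    (ModuleCat.extendScalars (algebraMap A x.asIdeal.ResidueField)).map_isZero h
  have h2 : IsZero ((bcCx (algebraMap A x.asIdeal.ResidueField) P).homology i) :=
    ShortComplex.isZero_homology_of_isZero_X₂ _ h1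
  have : Subsingleton ((bcCx (algebraMap A x.asIdeal.ResidueField) P).homology i) :=
    ModuleCat.subsingleton_of_isZero h2
  exact Module.finrank_zero_of_subsingleton

lemma subsingleton_opcycles_of_isZero (P : HomologicalComplex (ModuleCat.{u} A) c) (i : ι)
    (h : IsZero (P.X i)) : Subsingleton (P.opcycles i) := by
  have : Subsingleton (P.X i) := ModuleCat.subsingleton_of_isZero h
  exact (pOpcycles_surjective P i).subsingleton

/-- Euler characteristic: alternating sum of `dRank` = alternating sum of fibre dimensions of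
the terms. -/
theorem euler_char_dRank (P : ChainComplex (ModuleCat.{u} A) ℤ)
    (hfin : ∀ i, Module.Finite A (P.X i))
    (s : Finset ℤ) (hs : ∀ i, i ∉ s → IsZero (P.X i)) (x : PrimeSpectrum A) :
    (s.sum fun i => ((i.negOnePow : ℤˣ) : ℤ) * (dRank P i x : ℤ)) =
      s.sum fun i => ((i.negOnePow : ℤˣ) : ℤ) * (fibreDim (P.X i) x : ℤ) := by
  classical
  let F : ℤ → ℤ := fun i => ((i.negOnePow : ℤˣ) : ℤ) * (fibreDim (P.opcycles i) x : ℤ)
  let G : ℤ → ℤ := fun i => ((i.negOnePow : ℤˣ) : ℤ) * (fibreDim (P.X i) x : ℤ)
  let E : ℤ → ℤ := fun i => ((i.negOnePow : ℤˣ) : ℤ) * (dRank P i x : ℤ)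
  have hsuppF : Function.support F ⊆ ↑s := by
    intro i hi
    by_contra his
    have := subsingleton_opcycles_of_isZero P i (hs i his)
    exact hi (by simp only [F, fibreDim_eq_zero_of_subsingleton, Nat.cast_zero, mul_zero])
  have hsuppG : Function.support G ⊆ ↑s := by
    intro i hi
    by_contra his
    have : Subsingleton (P.X i) := ModuleCat.subsingleton_of_isZero (hs i his)
    exact hi (by simp only [G, fibreDim_eq_zero_of_subsingleton, Nat.cast_zero, mul_zero])
  have hsuppE : Function.support E ⊆ ↑s := by
    intro i hi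
    by_contra his
    exact hi (by simp only [E, dRank_eq_zero_of_isZero P i (hs i his) x, Nat.cast_zero, mul_zero])
  have hFfin : (Function.support F).Finite := s.finite_toSet.subset hsuppF
  have hGfin : (Function.support G).Finite := s.finite_toSet.subset hsuppG
  have hF'fin : (Function.support fun i => F (i - 1)).Finite :=
    hFfin.preimage (f := fun i : ℤ => i - 1) (sub_left_injective.injOn)
  have hG'fin : (Function.support fun i => G (i - 1)).Finite :=
    hGfin.preimage (f := fun i : ℤ => i - 1) (sub_left_injective.injOn)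
  have key : ∀ i, E i = F i - F (i - 1) + G (i - 1) := by
    intro i
    have := hfin i
    have := hfin (i - 1)
    have e := dRank_add_eq P i (i - 1) (by change i - 1 + 1 = i; ring) x
    have hε : (((i - 1).negOnePow : ℤˣ) : ℤ) = - ((i.negOnePow : ℤˣ) : ℤ) := by
      rw [Int.negOnePow_sub, Int.negOnePow_one]; simp
    simp only [E, F, G, hε]
    have e' : (dRank P i x : ℤ) + (fibreDim (P.X (i - 1)) x : ℤ) =
        (fibreDim (P.opcycles i) x : ℤ) + (fibreDim (P.opcycles (i - 1)) x : ℤ) := by
      exact_mod_cast e
    linear_combination ((i.negOnePow : ℤˣ) : ℤ) * e'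
  have hshiftF : ∑ᶠ i, F (i - 1) = ∑ᶠ i, F i := finsum_comp_equiv (Equiv.subRight (1 : ℤ))
  have hshiftG : ∑ᶠ i, G (i - 1) = ∑ᶠ i, G i := finsum_comp_equiv (Equiv.subRight (1 : ℤ))
  calc (s.sum fun i => E i) = ∑ᶠ i, E i := (finsum_eq_sum_of_support_subset _ hsuppE).symm
    _ = ∑ᶠ i, (F i - F (i - 1) + G (i - 1)) := finsum_congr key
    _ = (∑ᶠ i, F i - ∑ᶠ i, F (i - 1)) + ∑ᶠ i, G (i - 1) := by
        have hFdfin : (Function.support fun i => F i - F (i - 1)).Finite :=
          (hFfin.union hF'fin).subset (Function.support_sub F fun i => F (i - 1))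
        rw [finsum_add_distrib hFdfin hG'fin, finsum_sub_distrib hFfin hF'fin]
    _ = ∑ᶠ i, G i := by rw [hshiftF, hshiftG]; ring
    _ = s.sum fun i => G i := finsum_eq_sum_of_support_subset _ hsuppG

end Euler

end Groth.Agent.Lib.Helper28.FlatCx
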