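import Mathlib
import Groth.Prelude.Def_KFlatSite
import Groth.Agent.Lib.Helper28.KFlatDerived
import Groth.Agent.Lib.Helper28.KFlatSite5

/-!
# K-flat complexes on a ringed site VIII: the derived tensor product with a module is computed
termwise on K-flat complexes (helper28)
-/

open CategoryTheory Limits HomologicalComplex

attribute [local instance] HasDerivedCategory.standard

namespace Groth.Agent.Lib.Helper28.KFlatSite

open Groth.Agent.Lib.Helper28.KFlatAbs Groth.Agent.Lib.Helper17

universe u

variable {C : Type u} [SmallCategory C] {J : GrothendieckTopology C} {O : Sheaf J CommRingCat.{u}}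

/-- For any left derived functor `(LF, α)` of `E ↦ E ⊗ G` (termwise on the homotopy category,
followed by `Qh`), the counit `α` is an isomorphism on K-flat complexes. -/
theorem isIso_counit_site (G : ModSite.Mod O)
    (LF : DerivedCategory (ModSite.Mod O) ⥤ DerivedCategory (ModSite.Mod O))
    (α : DerivedCategory.Qh ⋙ LF ⟶
      ((ModSite.tensorBi O).flip.obj G).mapHomotopyCategory (ComplexShape.up ℤ) ⋙ DerivedCategory.Qh)
    (hLF : LF.IsLeftDerivedFunctor α (HomotopyCategory.quasiIso (ModSite.Mod O) (ComplexShape.up ℤ)))
    (E : CochainComplex (ModSite.Mod O) ℤ) (hE : ModSite.IsKFlat E) :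
    IsIso (α.app ((HomotopyCategory.quotient (ModSite.Mod O) (ComplexShape.up ℤ)).obj E)) := by
  have hE' : KFlatAbs.IsKFlat (ModSite.tensorBi O) E := (isKFlat_iff E).1 hE
  exact KFlatAbs.isIso_counit_app_of_isKFlat (T := ModSite.tensorBi O)
    (Tensor.flipIso O) hres G LF α E hE'

end Groth.Agent.Lib.Helper28.KFlatSite
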