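import Mathlib
import Groth.Prelude.Def_DTor2
import Groth.Prelude.Def_DCoh4
import Groth.Agent.Lib.Helper28.KFlatSite8
import Groth.Agent.Lib.Helper17.FlatBridge

/-!
# The derived tensor product `- ⊗^L G` on a scheme is computed termwise on K-flat complexes (helper28)
-/

open CategoryTheory Limits HomologicalComplex AlgebraicGeometry

attribute [local instance] HasDerivedCategory.standard

namespace Groth.Agent.Lib.Helper28.LTensorModComp

open Groth.Agent.Lib.Helper28.KFlatSite

universe u

variable {X : Scheme.{u}}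

/-- the counit of `- ⊗^L G` is an isomorphism on K-flat complexes -/
theorem isIso_counit (G : X.Modules) [DCoh.HasLTensorMod G] (E : CochainComplex X.Modules ℤ)
    (hE : DCoh.IsKFlat E) :
    IsIso (((DCoh.tensorModKh G).totalLeftDerivedCounit DerivedCategory.Qh
      (HomotopyCategory.quasiIso X.Modules (ComplexShape.up ℤ))).app
        ((HomotopyCategory.quotient X.Modules (ComplexShape.up ℤ)).obj E)) := by
  have inst : (DCoh.LTensorMod G).IsLeftDerivedFunctor
      ((DCoh.tensorModKh G).totalLeftDerivedCounit DerivedCategory.Qh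
        (HomotopyCategory.quasiIso X.Modules (ComplexShape.up ℤ)))
      (HomotopyCategory.quasiIso X.Modules (ComplexShape.up ℤ)) := inferInstance
  exact isIso_counit_site (O := X.sheaf) G (DCoh.LTensorMod G)
    ((DCoh.tensorModKh G).totalLeftDerivedCounit DerivedCategory.Qh
      (HomotopyCategory.quasiIso X.Modules (ComplexShape.up ℤ))) inst E hE

/-- `(E ⊗^L G) ≅ E ⊗ G` (termwise) for `E` K-flat -/
noncomputable def LTensorModIso (G : X.Modules) [DCoh.HasLTensorMod G]
    (E : CochainComplex X.Modules ℤ) (hE : DCoh.IsKFlat E) :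
    (DCoh.LTensorMod G).obj (DCoh.toD X E) ≅
      DCoh.toD X (((DCoh.tensorRightMod G).mapHomologicalComplex (ComplexShape.up ℤ)).obj E) :=
  @asIso _ _ _ _ (((DCoh.tensorModKh G).totalLeftDerivedCounit DerivedCategory.Qh
      (HomotopyCategory.quasiIso X.Modules (ComplexShape.up ℤ))).app
        ((HomotopyCategory.quotient X.Modules (ComplexShape.up ℤ)).obj E)) (isIso_counit G E hE)

end Groth.Agent.Lib.Helper28.LTensorModComp

namespace Groth.Agent.Lib.Helper28.LTensorModComp

open Groth.Agent.Lib.Helper28.KFlatSite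

universe u

variable {X : Scheme.{u}}

/-- a bounded above complex of (stalkwise) flat modules is K-flat -/
theorem isKFlat_of_vanishesOutside (E : CochainComplex X.Modules ℤ) (a b : ℤ)
    (hv : DCoh.VanishesOutside E a b) (hfl : ∀ i : ℤ, FlatMod.IsFlat (E.X i)) : DCoh.IsKFlat E := by
  have hb : E.IsStrictlyLE b := by
    rw [CochainComplex.isStrictlyLE_iff]
    intro i hi
    exact hv i (Or.inr hi)
  exact isKFlat_of_isStrictlyLE (O := X.sheaf) E b hb
    (fun n => (Groth.Agent.Lib.Helper17.FlatBridge.isFlat_iff (E.X n)).1 (hfl n))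

/-- cohomology of `E ⊗^L F` for `E` K-flat -/
noncomputable def HDLTensorModIso (F : X.Modules) [DCoh.HasLTensorMod F]
    (E : CochainComplex X.Modules ℤ) (hE : DCoh.IsKFlat E) (i : ℤ) :
    DCoh.HD ((DCoh.LTensorMod F).obj (DCoh.toD X E)) i ≅
      (((DCoh.tensorRightMod F).mapHomologicalComplex (ComplexShape.up ℤ)).obj E).homology i :=
  (DerivedCategory.homologyFunctor X.Modules i).mapIso (LTensorModIso F E hE) ≪≫
    (DerivedCategory.homologyFunctorFactors X.Modules i).app _

/-- the flat-representative form of tor amplitude implies the derived-tensor form -/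
theorem hasTorAmplitudeIn_of_hasFlatAmplitudeIn (K : DCoh.D X) (a b : ℤ)
    (h : DCoh.HasFlatAmplitudeIn a b K) : DCoh.HasTorAmplitudeIn a b K := by
  obtain ⟨E, hv, hfl, ⟨e⟩⟩ := h
  intro F _ i hi
  have hE := isKFlat_of_vanishesOutside E a b hv hfl
  have e1 : DCoh.HD ((DCoh.LTensorMod F).obj K) i ≅
      DCoh.HD ((DCoh.LTensorMod F).obj (DCoh.toD X E)) i :=
    (DerivedCategory.homologyFunctor X.Modules i).mapIso ((DCoh.LTensorMod F).mapIso e.symm)
  refine IsZero.of_iso ?_ (e1 ≪≫ HDLTensorModIso F E hE i)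
  rw [← HomologicalComplex.exactAt_iff_isZero_homology]
  apply ShortComplex.exact_of_isZero_X₂
  exact (DCoh.tensorRightMod F).map_isZero (hv i hi)

/-- the derived-tensor form of tor amplitude passes to direct summands -/
theorem hasTorAmplitudeIn_of_retract {K M : DCoh.D X} (i : K ⟶ M) (r : M ⟶ K) (hir : i ≫ r = 𝟙 K)
    (a b : ℤ) (h : DCoh.HasTorAmplitudeIn a b M) : DCoh.HasTorAmplitudeIn a b K := by
  intro F _ n hn
  have hz := h F n hn
  rw [IsZero.iff_id_eq_zero]
  have : 𝟙 (DCoh.HD ((DCoh.LTensorMod F).obj K) n) =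
      (DerivedCategory.homologyFunctor X.Modules n).map ((DCoh.LTensorMod F).map i) ≫
        (DerivedCategory.homologyFunctor X.Modules n).map ((DCoh.LTensorMod F).map r) := by
    rw [← Functor.map_comp, ← Functor.map_comp, hir]
    exact ((DerivedCategory.homologyFunctor X.Modules n).congr_map
      ((DCoh.LTensorMod F).map_id K)).symm ▸ ((DerivedCategory.homologyFunctor X.Modules n).map_id _).symm
  rw [this, hz.eq_of_tgt ((DerivedCategory.homologyFunctor X.Modules n).map
    ((DCoh.LTensorMod F).map i)) 0, zero_comp]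

end Groth.Agent.Lib.Helper28.LTensorModComp
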