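import Mathlib

/-!
# Left derived functors from right derived functors of the opposite functor (helper28)
-/

set_option autoImplicit false

open CategoryTheory Functor Opposite Limits

namespace Groth.Agent.Lib.Helper28.DerivedOp

variable {C D H : Type*} [Category C] [Category D] [Category H]
  (L : C ⥤ D) (F : C ⥤ H)

/-- the natural transformation `L ⋙ RF.unop ⟶ F` attached to `F.op ⟶ L.op ⋙ RF` -/
def unopExt (RF : Dᵒᵖ ⥤ Hᵒᵖ) (α : F.op ⟶ L.op ⋙ RF) : L ⋙ RF.unop ⟶ F where
  app X := (α.app (op X)).unop
  naturality X Y f := by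
    have h := α.naturality f.op
    exact Quiver.Hom.op_inj h.symm

/-- the natural transformation `F.op ⟶ L.op ⋙ G.op` attached to `L ⋙ G ⟶ F` -/
def opExt (G : D ⥤ H) (β : L ⋙ G ⟶ F) : F.op ⟶ L.op ⋙ G.op where
  app X := (β.app X.unop).op
  naturality X Y f := by
    have h := β.naturality f.unop
    exact Quiver.Hom.unop_inj h.symm

/-- the natural transformation `G ⟶ RF.unop` attached to `RF ⟶ G.op` -/
def unopNat (RF : Dᵒᵖ ⥤ Hᵒᵖ) (G : D ⥤ H) (d : RF ⟶ G.op) : G ⟶ RF.unop where
  app Y := (d.app (op Y)).unop
  naturality X Y f := by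
    have h := d.naturality f.op
    exact Quiver.Hom.op_inj h.symm

/-- the natural transformation `RF ⟶ G.op` attached to `G ⟶ RF.unop` -/
def opNat (RF : Dᵒᵖ ⥤ Hᵒᵖ) (G : D ⥤ H) (m : G ⟶ RF.unop) : RF ⟶ G.op where
  app Y := (m.app Y.unop).op
  naturality X Y f := by
    have h := m.naturality f.unop
    exact Quiver.Hom.unop_inj h.symm

variable (RF : Dᵒᵖ ⥤ Hᵒᵖ) (α : F.op ⟶ L.op ⋙ RF)

theorem isRightKanExtension_unop [RF.IsLeftKanExtension α] :
    RF.unop.IsRightKanExtension (unopExt L F RF α) := by
  constructor
  refine ⟨IsTerminal.ofUniqueHom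
    (fun E => CostructuredArrow.homMk
      (unopNat RF E.left (RF.descOfIsLeftKanExtension α E.left.op (opExt L F E.left E.hom))) ?_) ?_⟩
  · ext X
    have h := RF.descOfIsLeftKanExtension_fac_app α E.left.op (opExt L F E.left E.hom) (op X)
    exact Quiver.Hom.op_inj h
  · intro E m
    apply CostructuredArrow.hom_ext
    have hm : opNat RF E.left m.left =
        RF.descOfIsLeftKanExtension α E.left.op (opExt L F E.left E.hom) := by
      apply RF.hom_ext_of_isLeftKanExtension α
      rw [RF.descOfIsLeftKanExtension_fac α]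
      ext X
      have h := congrArg (fun t => NatTrans.app t X.unop) (CostructuredArrow.w m)
      exact Quiver.Hom.unop_inj h
    ext Y
    have h := congrArg (fun t => (NatTrans.app t (op Y)).unop) hm
    exact h

theorem hasLeftDerivedFunctor_of_op (W : MorphismProperty C)
    [F.op.HasRightDerivedFunctor W.op] : F.HasLeftDerivedFunctor W := by
  have h1 : HasLeftKanExtension W.Q.op F.op :=
    (F.op.hasRightDerivedFunctor_iff W.Q.op W.op).1 inferInstance
  have h2 := isRightKanExtension_unop W.Q F (W.Q.op.leftKanExtension F.op)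
    (W.Q.op.leftKanExtensionUnit F.op)
  exact (F.hasLeftDerivedFunctor_iff W.Q W).2
    (HasRightKanExtension.mk (W.Q.op.leftKanExtension F.op).unop
      (unopExt W.Q F (W.Q.op.leftKanExtension F.op) (W.Q.op.leftKanExtensionUnit F.op)))

/-- if the unit of the right derived functor of `F.op` is an isomorphism at `op X`, then the
counit of any left derived functor of `F` is an isomorphism at `X` -/
theorem isIso_counit_app_of_op (W : MorphismProperty C) [L.IsLocalization W]
    (LF : D ⥤ H) (β : L ⋙ LF ⟶ F) [LF.IsLeftDerivedFunctor β W]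
    [F.op.HasRightDerivedFunctor W.op] (X : C)
    (hX : IsIso ((F.op.totalRightDerivedUnit L.op W.op).app (op X))) : IsIso (β.app X) := by
  have h1 : (F.op.totalRightDerived L.op W.op).IsLeftKanExtension
      (F.op.totalRightDerivedUnit L.op W.op) :=
    IsRightDerivedFunctor.isLeftKanExtension _ _ W.op
  have h2 := isRightKanExtension_unop L F (F.op.totalRightDerived L.op W.op)
    (F.op.totalRightDerivedUnit L.op W.op)
  have h3 : (F.op.totalRightDerived L.op W.op).unop.IsLeftDerivedFunctor
      (unopExt L F _ (F.op.totalRightDerivedUnit L.op W.op)) W := ⟨h2⟩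
  have h6 : IsIso ((F.op.totalRightDerived L.op W.op).unop.leftDerivedLift
      (unopExt L F _ (F.op.totalRightDerivedUnit L.op W.op)) W LF β) :=
    (isLeftDerivedFunctor_iff_isIso_leftDerivedLift (F.op.totalRightDerived L.op W.op).unop
      (unopExt L F _ (F.op.totalRightDerivedUnit L.op W.op)) W LF β).1 inferInstance
  have h4 := leftDerived_fac_app (F.op.totalRightDerived L.op W.op).unop
      (unopExt L F _ (F.op.totalRightDerivedUnit L.op W.op)) W LF β X
  rw [← h4]
  have h5 : IsIso ((unopExt L F _ (F.op.totalRightDerivedUnit L.op W.op)).app X) := by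
    change IsIso ((F.op.totalRightDerivedUnit L.op W.op).app (op X)).unop
    infer_instance
  infer_instance

end Groth.Agent.Lib.Helper28.DerivedOp
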