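import Mathlib
import Groth.Agent.Lib.Helper28.DerivedOp

/-!
# Left derived functors on a triangulated category via a resolving triangulated subcategory
(helper28)
-/

set_option autoImplicit false

open CategoryTheory Functor Opposite Limits Pretriangulated

namespace Groth.Agent.Lib.Helper28.LeftDerivedTri

variable {C : Type*} [Category C] [HasZeroObject C] [HasShift C ℤ] [Preadditive C]
  [∀ (n : ℤ), (shiftFunctor C n).Additive] [Pretriangulated C] [IsTriangulated C]
  (A B : ObjectProperty C) [A.IsTriangulated] [B.IsTriangulated] [B.IsClosedUnderIsomorphisms]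

/-- every object has a left resolution by an object of `A` -/
def HasRes : Prop := ∀ X : C, ∃ (P : C) (_ : A P) (s : P ⟶ X), B.trW s

variable {A B}

theorem isVerdierLeftLocalizing (hres : HasRes A B) : A.IsVerdierLeftLocalizing B := by
  rw [ObjectProperty.isVerdierLeftLocalizing_iff]
  intro X Y s hY hs
  obtain ⟨P, hP, s₀, hs₀⟩ := hres X
  refine ⟨P, s₀ ≫ s, s₀, hP, ?_, rfl⟩
  have h1 : B.trW (s₀ ≫ s) := B.trW.comp_mem _ _ hs₀ hs
  obtain ⟨Z, hZ, b, c, hT⟩ := A.distinguished_cocone_triangle (s₀ ≫ s) hP hY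
  have h2 : B Z := (B.trW_iff_of_distinguished _ hT).1 h1
  exact ⟨Z, b, c, hT, hZ, h2⟩

theorem hasLeftResolutions (hres : HasRes A B) :
    (A.triangulatedLocalizerMorphism B).HasLeftResolutions := by
  intro X
  obtain ⟨P, hP, s, hs⟩ := hres X
  exact ⟨{ X₁ := ⟨P, hP⟩, w := s, hw := hs }⟩

theorem isLocalizedEquivalence (hres : HasRes A B) :
    (A.triangulatedLocalizerMorphism B).IsLocalizedEquivalence := by
  have := isVerdierLeftLocalizing hres
  let L₁ := (B.inverseImage A.ι).trW.Q
  let L₂ := B.trW.Q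
  let G := (A.triangulatedLocalizerMorphism B).localizedFunctor L₁ L₂
  have hfull : G.Full := inferInstance
  have hfaith : G.Faithful := inferInstance
  have hes : G.EssSurj := by
    have h0 : (A.triangulatedLocalizerMorphism B).HasLeftResolutions := hasLeftResolutions hres
    have h1 := (A.triangulatedLocalizerMorphism B).essSurj_of_hasLeftResolutions L₂
    let e : (A.triangulatedLocalizerMorphism B).functor ⋙ L₂ ≅ L₁ ⋙ G :=
      CatCommSq.iso (A.triangulatedLocalizerMorphism B).functor L₁ L₂ G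
    have h2 : (L₁ ⋙ G).EssSurj := Functor.essSurj_of_iso e
    exact ⟨fun Y => ⟨L₁.obj ((L₁ ⋙ G).objPreimage Y), ⟨(L₁ ⋙ G).objObjPreimageIso Y⟩⟩⟩
  have : G.IsEquivalence := {}
  exact LocalizerMorphism.IsLocalizedEquivalence.mk' (A.triangulatedLocalizerMorphism B) L₁ L₂ G

theorem isConnected_leftResolution (hres : HasRes A B) (X : C) :
    IsConnected ((A.triangulatedLocalizerMorphism B).LeftResolution X) := by
  have : Nonempty ((A.triangulatedLocalizerMorphism B).LeftResolution X) :=
    hasLeftResolutions hres X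
  refine zigzag_isConnected (fun R R' => ?_)
  obtain ⟨ψ, hψ⟩ := (MorphismProperty.LeftFraction.mk R.w R'.w R'.hw).exists_rightFraction
  obtain ⟨P, hP, t, ht⟩ := hres ψ.X'
  let R'' : (A.triangulatedLocalizerMorphism B).LeftResolution X :=
    { X₁ := ⟨P, hP⟩
      w := t ≫ ψ.s ≫ R.w
      hw := B.trW.comp_mem _ _ ht (B.trW.comp_mem _ _ ψ.hs R.hw) }
  let f1 : R'' ⟶ R :=
    { f := A.homMk (t ≫ ψ.s)
      comm := by
        change (t ≫ ψ.s) ≫ R.w = t ≫ ψ.s ≫ R.w
        rw [Category.assoc] }
  let f2 : R'' ⟶ R' :=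
    { f := A.homMk (t ≫ ψ.f)
      comm := by
        change (t ≫ ψ.f) ≫ R'.w = t ≫ ψ.s ≫ R.w
        rw [Category.assoc]
        congr 1
        exact hψ.symm }
  exact (Zigzag.of_inv f1).trans (Zigzag.of_hom f2)

theorem hasLeftResolutions_arrow (hres : HasRes A B) :
    (A.triangulatedLocalizerMorphism B).arrow.HasLeftResolutions := by
  intro g
  obtain ⟨P', hP', s', hs'⟩ := hres g.right
  obtain ⟨P₀, hP₀, s₀, hs₀⟩ := hres g.left
  obtain ⟨ψ, hψ⟩ := (MorphismProperty.LeftFraction.mk (s₀ ≫ g.hom) s' hs').exists_rightFraction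
  obtain ⟨P, hP, t, ht⟩ := hres ψ.X'
  exact ⟨{ X₁ := Arrow.mk (A.homMk (t ≫ ψ.f) : (⟨P, hP⟩ : A.FullSubcategory) ⟶ ⟨P', hP'⟩)
           w := Arrow.homMk (t ≫ ψ.s ≫ s₀) s' (by
             change (t ≫ ψ.s ≫ s₀) ≫ g.hom = (t ≫ ψ.f) ≫ s'
             simp only [Category.assoc]
             exact congrArg (fun k => t ≫ k) hψ)
           hw := ⟨B.trW.comp_mem _ _ ht (B.trW.comp_mem _ _ ψ.hs hs₀), hs'⟩ }⟩

theorem isLeftDerivabilityStructure (hres : HasRes A B) :
    (A.triangulatedLocalizerMorphism B).IsLeftDerivabilityStructure := by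
  have h1 := isLocalizedEquivalence hres
  have h2 := isConnected_leftResolution hres
  have h3 := hasLeftResolutions_arrow hres
  exact LocalizerMorphism.IsLeftDerivabilityStructure.mk' _

variable {H : Type*} [Category H] (F : C ⥤ H)

theorem derives_op (hF : (B.inverseImage A.ι).trW.IsInvertedBy (A.ι ⋙ F)) :
    (A.triangulatedLocalizerMorphism B).op.Derives F.op := by
  intro X Y f hf
  have := hF f.unop hf
  change IsIso ((A.ι ⋙ F).map f.unop).op
  infer_instance

/-- **Existence of the left derived functor.** -/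
theorem hasLeftDerivedFunctor (hres : HasRes A B)
    (hF : (B.inverseImage A.ι).trW.IsInvertedBy (A.ι ⋙ F)) :
    F.HasLeftDerivedFunctor B.trW := by
  have := isLeftDerivabilityStructure hres
  have := (derives_op F hF).hasPointwiseRightDerivedFunctor
  exact DerivedOp.hasLeftDerivedFunctor_of_op F B.trW

variable {D : Type*} [Category D] (L : C ⥤ D) [L.IsLocalization B.trW]
  (LF : D ⥤ H) (β : L ⋙ LF ⟶ F)

/-- **The counit of a left derived functor is an isomorphism on the resolving objects.** -/
theorem isIso_counit_app (hres : HasRes A B)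
    (hF : (B.inverseImage A.ι).trW.IsInvertedBy (A.ι ⋙ F))
    [LF.IsLeftDerivedFunctor β B.trW] (P : C) (hP : A P) : IsIso (β.app P) := by
  have := isLeftDerivabilityStructure hres
  have := (derives_op F hF).hasPointwiseRightDerivedFunctor
  apply DerivedOp.isIso_counit_app_of_op L F B.trW LF β P
  exact (derives_op F hF).isIso_of_isRightDerivedFunctor
    (F.op.totalRightDerivedUnit L.op B.trW.op) (op ⟨P, hP⟩)

/-- **Recognition of left derived functors.** -/
theorem isLeftDerivedFunctor_of_isIso (hres : HasRes A B)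
    (hF : (B.inverseImage A.ι).trW.IsInvertedBy (A.ι ⋙ F))
    (hβ : ∀ P : C, A P → IsIso (β.app P)) : LF.IsLeftDerivedFunctor β B.trW := by
  have := isLeftDerivabilityStructure hres
  have h1 : LF.op.IsRightDerivedFunctor (DerivedOp.opExt L F LF β) B.trW.op :=
    (derives_op F hF).isRightDerivedFunctor_of_isIso (DerivedOp.opExt L F LF β) (fun X₁ => by
      have := hβ X₁.unop.obj X₁.unop.property
      change IsIso (β.app X₁.unop.obj).op
      infer_instance)
  have h2 : LF.op.IsLeftKanExtension (DerivedOp.opExt L F LF β) :=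
    IsRightDerivedFunctor.isLeftKanExtension _ _ B.trW.op
  exact ⟨DerivedOp.isRightKanExtension_unop L F LF.op (DerivedOp.opExt L F LF β)⟩

end Groth.Agent.Lib.Helper28.LeftDerivedTri
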