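import Mathlib
import Groth.Prelude.Def_KFlatSite
import Groth.Agent.Lib.Helper28.KFlatSite17
import Groth.Agent.Lib.Helper28.LeftDerivedTri

/-!
# The triangulated subcategory of K-flat complexes in the homotopy category (helper28)
-/

set_option autoImplicit false

open CategoryTheory Limits HomologicalComplex Pretriangulated ZeroObject

namespace Groth.Agent.Lib.Helper28.KFlatTri

open Groth.Agent.Lib.Helper28.KFlatAbs Groth.Agent.Lib.Helper28.KFlatSite
  Groth.Agent.Lib.Helper28.LeftDerivedTri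

universe u

variable {C : Type u} [SmallCategory C] {J : GrothendieckTopology C} (O : Sheaf J CommRingCat.{u})

/-- the homotopy category of complexes of `O`-modules -/
abbrev KO := HomotopyCategory (ModSite.Mod O) (ComplexShape.up ℤ)

/-- the quotient functor -/
abbrev Qq : CochainComplex (ModSite.Mod O) ℤ ⥤ KO O := HomotopyCategory.quotient _ _

/-- objects of the homotopy category isomorphic to a K-flat complex -/
def kflat : ObjectProperty (KO O) := fun X =>
  ∃ P : CochainComplex (ModSite.Mod O) ℤ, ModSite.IsKFlat P ∧ Nonempty (X ≅ (Qq O).obj P)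

lemma kflat_Qq (P : CochainComplex (ModSite.Mod O) ℤ) (hP : ModSite.IsKFlat P) :
    kflat O ((Qq O).obj P) := ⟨P, hP, ⟨Iso.refl _⟩⟩

instance : (kflat O).IsClosedUnderIsomorphisms where
  of_iso e h := by
    obtain ⟨P, hP, ⟨i⟩⟩ := h
    exact ⟨P, hP, ⟨e.symm ≪≫ i⟩⟩

lemma isKFlat_zero : ModSite.IsKFlat (0 : CochainComplex (ModSite.Mod O) ℤ) :=
  (isKFlat_iff _).2 (isKFlat_of_isZero_X _ _ (fun n =>
    (HomologicalComplex.eval _ _ n).map_isZero (isZero_zero _)))

instance : (kflat O).ContainsZero where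
  exists_zero := ⟨(Qq O).obj 0, (Qq O).map_isZero (isZero_zero _), kflat_Qq O 0 (isKFlat_zero O)⟩

instance : (kflat O).IsStableUnderShift ℤ where
  isStableUnderShiftBy n :=
    { le_shift := by
        rintro X ⟨P, hP, ⟨i⟩⟩
        exact ⟨P⟦n⟧, (isKFlat_iff _).2 ((isKFlat_shift_iff P n).2 ((isKFlat_iff _).1 hP)),
          ⟨(shiftFunctor _ n).mapIso i ≪≫ (((Qq O).commShiftIso n).app P).symm⟩⟩ }

instance : (kflat O).IsTriangulatedClosed₃ :=
  ObjectProperty.IsTriangulatedClosed₃.mk' (by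
    rintro T hT ⟨P₁, hP₁, ⟨i₁⟩⟩ ⟨P₂, hP₂, ⟨i₂⟩⟩
    obtain ⟨g, hg⟩ := (Qq O).map_surjective (i₁.inv ≫ T.mor₁ ≫ i₂.hom)
    have hT' := HomotopyCategory.mappingCone_triangleh_distinguished g
    let e := isoTriangleOfIso₁₂ T (CochainComplex.mappingCone.triangleh g) hT hT' i₁ i₂ (by
      change T.mor₁ ≫ i₂.hom = i₁.hom ≫ (Qq O).map g
      rw [hg, Iso.hom_inv_id_assoc])
    exact ⟨CochainComplex.mappingCone g,
      (isKFlat_iff _).2 ((isKFlat_mappingCone g).1 ((isKFlat_iff _).1 hP₁) ((isKFlat_iff _).1 hP₂)),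
      ⟨Triangle.π₃.mapIso e⟩⟩)

instance : (kflat O).IsTriangulatedClosed₂ :=
  ObjectProperty.IsTriangulatedClosed₂.of_isTriangulatedClosed₃

instance : (kflat O).IsTriangulated where

/-- K-flat resolutions exist in the homotopy category -/
theorem hasRes : HasRes (kflat O) (HomotopyCategory.subcategoryAcyclic (ModSite.Mod O)) := by
  intro X
  obtain ⟨G, rfl⟩ := HomotopyCategory.quotient_obj_surjective X
  obtain ⟨K, q, hK, -, hq, -⟩ := exists_kflat_resolution G
  refine ⟨(Qq O).obj K, kflat_Qq O K hK, (Qq O).map q, ?_⟩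
  rw [← HomotopyCategory.quasiIso_eq_trW_subcategoryAcyclic,
    HomotopyCategory.quotient_map_mem_quasiIso_iff]
  exact (HomologicalComplex.mem_quasiIso_iff q).2 hq

end Groth.Agent.Lib.Helper28.KFlatTri
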