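import Mathlib
import Groth.Prelude.Def_DDual2
import Groth.Agent.Lib.Helper28.StalkAdj3
import Groth.Agent.Lib.Helper28.KFlatTri
import Groth.Agent.Lib.Helper13.KFlat7

/-!
# Existence of the derived pullback `Lf^*` (helper28)
-/

set_option autoImplicit false

universe u

open CategoryTheory Limits AlgebraicGeometry Pretriangulated

attribute [local instance] HasDerivedCategory.standard

namespace Groth.Agent.Lib.Helper28.Lpull

open Groth.Agent.Lib.Helper28.StalkTensor Groth.Agent.Lib.Helper28.KFlatTri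
  Groth.Agent.Lib.Helper28.LeftDerivedTri

noncomputable section

variable {X Y : Scheme.{u}} (f : X ⟶ Y)

/-- **Pullback of an acyclic K-flat complex is acyclic.** -/
theorem acyclic_pullCx (K : CochainComplex Y.Modules ℤ) (hK : DCoh.IsKFlat K)
    (hac : ∀ i : ℤ, IsZero (K.homology i)) (i : ℤ) : IsZero (((pullCx f).obj K).homology i) := by
  apply isZero_homology_of_forall_stalkCx
  intro x
  exact IsZero.of_iso
    (Groth.Agent.Lib.Helper13.HT.acyclic_extCx_of_kflat_of_acyclic (f.stalkMap x).hom _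
      (isKFlat_stalk_of_isKFlat (f.base x) K hK) (isZero_homology_stalkCx (f.base x) K hac) i)
    ((HomologicalComplex.homologyFunctor _ _ i).mapIso (stalkCxPullIso f x K))

/-- an acyclic complex is zero in the derived category -/
theorem isZero_Q_obj_of_acyclic {A : Type*} [Category A] [Abelian A] [HasDerivedCategory A]
    (K : CochainComplex A ℤ) (hK : ∀ i : ℤ, IsZero (K.homology i)) :
    IsZero (DerivedCategory.Q.obj K) := by
  have hq : QuasiIso (0 : K ⟶ K) := by
    rw [quasiIso_iff]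
    intro n
    rw [quasiIsoAt_iff_isIso_homologyMap]
    exact ⟨0, (hK n).eq_of_src _ _, (hK n).eq_of_src _ _⟩
  have h1 : IsIso (DerivedCategory.Q.map (0 : K ⟶ K)) :=
    (DerivedCategory.isIso_Q_map_iff_quasiIso (φ := (0 : K ⟶ K))).2 hq
  rw [Functor.map_zero] at h1
  rw [IsZero.iff_id_eq_zero]
  exact ((isIsoZeroEquiv _ _).1 h1).1

/-- the K-flat objects of `K(Y)` -/
def kfl (Y : Scheme.{u}) : ObjectProperty (HomotopyCategory Y.Modules (ComplexShape.up ℤ)) :=
  kflat Y.sheaf

lemma kfl_iff (Y : Scheme.{u}) (Z : HomotopyCategory Y.Modules (ComplexShape.up ℤ)) :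
    kfl Y Z ↔ ∃ P : CochainComplex Y.Modules ℤ, DCoh.IsKFlat P ∧
      Nonempty (Z ≅ (HomotopyCategory.quotient _ _).obj P) := Iff.rfl

instance (Y : Scheme.{u}) : (kfl Y).IsTriangulated := by
  unfold kfl
  exact (inferInstance : (kflat Y.sheaf).IsTriangulated)

instance (Y : Scheme.{u}) : (kfl Y).IsClosedUnderIsomorphisms := by
  unfold kfl
  exact (inferInstance : (kflat Y.sheaf).IsClosedUnderIsomorphisms)

/-- the acyclic objects of `K(Y)` -/
abbrev acy (Y : Scheme.{u}) : ObjectProperty (HomotopyCategory Y.Modules (ComplexShape.up ℤ)) :=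
  HomotopyCategory.subcategoryAcyclic Y.Modules

theorem hasRes_kfl (Y : Scheme.{u}) : HasRes (kfl Y) (acy Y) := hasRes Y.sheaf

theorem isZero_pullKh_obj (Z : HomotopyCategory Y.Modules (ComplexShape.up ℤ))
    (hZA : kfl Y Z) (hZB : acy Y Z) : IsZero ((DCoh.pullKh f).obj Z) := by
  obtain ⟨P, hP, ⟨i⟩⟩ := (kfl_iff Y Z).1 hZA
  have hPB : acy Y ((HomotopyCategory.quotient _ _).obj P) := ObjectProperty.prop_of_iso _ i hZB
  replace hPB := (HomotopyCategory.quotient_obj_mem_subcategoryAcyclic_iff_exactAt P).1 hPB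
  have hac : ∀ n, IsZero (((pullCx f).obj P).homology n) :=
    acyclic_pullCx f P hP (fun n => (HomologicalComplex.exactAt_iff_isZero_homology _ _).1 (hPB n))
  refine IsZero.of_iso ?_ ((DCoh.pullKh f).mapIso i)
  exact isZero_Q_obj_of_acyclic _ hac

theorem inverts_pullKh :
    ((acy Y).inverseImage (kfl Y).ι).trW.IsInvertedBy ((kfl Y).ι ⋙ DCoh.pullKh f) := by
  intro P₁ P₂ s hs
  rw [ObjectProperty.trW_inverseImage_ι_iff] at hs
  obtain ⟨Z, g, h, hT, hZ⟩ := hs
  have hT' := (DCoh.pullKh f).map_distinguished _ hT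
  have h0 : IsZero ((DCoh.pullKh f).obj Z) := isZero_pullKh_obj f Z hZ.1 hZ.2
  exact (Triangle.isZero₃_iff_isIso₁ _ hT').1 h0

/-- **`Lf^*` exists.** -/
theorem hasLpull : DCoh.HasLpull f := by
  have h := hasLeftDerivedFunctor (A := kfl Y) (B := acy Y) (DCoh.pullKh f) (hasRes_kfl Y)
    (inverts_pullKh f)
  rwa [← HomotopyCategory.quasiIso_eq_trW_subcategoryAcyclic] at h

end

end Groth.Agent.Lib.Helper28.Lpull
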