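import Mathlib
import Groth.Prelude.Def_DDual2
import Groth.Agent.Lib.Helper28.LpullExists

/-!
# `Lf^*` on K-flat complexes and composition of derived pullbacks (helper28)
-/

set_option autoImplicit false

universe u

open CategoryTheory Limits AlgebraicGeometry Pretriangulated Functor

attribute [local instance] HasDerivedCategory.standard

namespace Groth.Agent.Lib.Helper28.Lpull

open Groth.Agent.Lib.Helper28.StalkTensor Groth.Agent.Lib.Helper28.KFlatTri
  Groth.Agent.Lib.Helper28.LeftDerivedTri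

noncomputable section

variable {X Y : Scheme.{u}} (f : X ⟶ Y)

instance isLocalization_Qh_acy (Y : Scheme.{u}) :
    (DerivedCategory.Qh (C := Y.Modules)).IsLocalization (acy Y).trW := by
  have h : (DerivedCategory.Qh (C := Y.Modules)).IsLocalization
      (HomotopyCategory.quasiIso Y.Modules (ComplexShape.up ℤ)) := inferInstance
  rwa [HomotopyCategory.quasiIso_eq_trW_subcategoryAcyclic] at h

/-- the counit of `Lf^*` -/
abbrev LpullCounit [DCoh.HasLpull f] : DerivedCategory.Qh ⋙ DCoh.Lpull f ⟶ DCoh.pullKh f :=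
  (DCoh.pullKh f).totalLeftDerivedCounit DerivedCategory.Qh
    (HomotopyCategory.quasiIso Y.Modules (ComplexShape.up ℤ))

instance isLeftDerivedFunctor_Lpull [DCoh.HasLpull f] :
    (DCoh.Lpull f).IsLeftDerivedFunctor (LpullCounit f) (acy Y).trW :=
  (isLeftDerivedFunctor_iff_isRightKanExtension _ _ _).2
    ((isLeftDerivedFunctor_iff_isRightKanExtension (DCoh.Lpull f) (LpullCounit f)
      (HomotopyCategory.quasiIso Y.Modules (ComplexShape.up ℤ))).1 inferInstance)

lemma kfl_quotient (P : CochainComplex Y.Modules ℤ) (hP : DCoh.IsKFlat P) :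
    kfl Y ((HomotopyCategory.quotient _ _).obj P) :=
  (kfl_iff Y _).2 ⟨P, hP, ⟨Iso.refl _⟩⟩

theorem isIso_LpullCounit_app [DCoh.HasLpull f]
    (P : HomotopyCategory Y.Modules (ComplexShape.up ℤ)) (hP : kfl Y P) :
    IsIso ((LpullCounit f).app P) :=
  isIso_counit_app (A := kfl Y) (B := acy Y) (DCoh.pullKh f) DerivedCategory.Qh (DCoh.Lpull f)
    (LpullCounit f) (hasRes_kfl Y) (inverts_pullKh f) P hP

/-- `Lf^*` of a K-flat complex is its termwise pullback -/
def LpullIso [DCoh.HasLpull f] (P : CochainComplex Y.Modules ℤ) (hP : DCoh.IsKFlat P) :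
    (DCoh.Lpull f).obj (DerivedCategory.Q.obj P) ≅ DerivedCategory.Q.obj ((pullCx f).obj P) :=
  @asIso _ _ _ _ ((LpullCounit f).app ((HomotopyCategory.quotient _ _).obj P))
    (isIso_LpullCounit_app f _ (kfl_quotient P hP))

/-- the pullback functor on homotopy categories -/
abbrev pullK : HomotopyCategory Y.Modules (ComplexShape.up ℤ) ⥤
    HomotopyCategory X.Modules (ComplexShape.up ℤ) :=
  (Scheme.Modules.pullback f).mapHomotopyCategory (ComplexShape.up ℤ)

lemma kfl_pullK (P : HomotopyCategory Y.Modules (ComplexShape.up ℤ)) (hP : kfl Y P) :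
    kfl X ((pullK f).obj P) := by
  obtain ⟨P₀, hP₀, ⟨i⟩⟩ := (kfl_iff Y P).1 hP
  exact (kfl_iff X _).2 ⟨(pullCx f).obj P₀, isKFlat_pullCx f P₀ hP₀,
    ⟨(pullK f).mapIso i ≪≫
      ((Scheme.Modules.pullback f).mapHomotopyCategoryFactors (ComplexShape.up ℤ)).app P₀⟩⟩

variable {Z : Scheme.{u}} (g : Y ⟶ Z)

/-- pullback along a composition, on the homotopy category, followed by localization -/
def pullKhCompIso : pullK g ⋙ DCoh.pullKh f ≅ DCoh.pullKh (f ≫ g) :=
  (Functor.associator _ _ _).symm ≪≫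
    isoWhiskerRight (Functor.mapHomotopyCategoryCompIso (Scheme.Modules.pullbackComp f g)
      (ComplexShape.up ℤ)) DerivedCategory.Qh

variable [DCoh.HasLpull f] [DCoh.HasLpull g]

/-- the counit exhibiting `Lg^* ⋙ Lf^*` as a left derived functor of `(f ≫ g)^*` -/
def compCounit : DerivedCategory.Qh ⋙ (DCoh.Lpull g ⋙ DCoh.Lpull f) ⟶ DCoh.pullKh (f ≫ g) :=
  (Functor.associator _ _ _).inv ≫ whiskerRight (LpullCounit g) (DCoh.Lpull f) ≫
    (Functor.associator _ _ _).hom ≫ whiskerLeft (pullK g) (LpullCounit f) ≫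
    (pullKhCompIso f g).hom

lemma compCounit_app (P : HomotopyCategory Z.Modules (ComplexShape.up ℤ)) :
    (compCounit f g).app P = (DCoh.Lpull f).map ((LpullCounit g).app P) ≫
      (LpullCounit f).app ((pullK g).obj P) ≫ (pullKhCompIso f g).hom.app P := by
  simp [compCounit]

theorem isLeftDerivedFunctor_comp :
    (DCoh.Lpull g ⋙ DCoh.Lpull f).IsLeftDerivedFunctor (compCounit f g) (acy Z).trW :=
  isLeftDerivedFunctor_of_isIso (A := kfl Z) (B := acy Z) (DCoh.pullKh (f ≫ g))
    DerivedCategory.Qh _ (compCounit f g) (hasRes_kfl Z) (inverts_pullKh (f ≫ g)) (fun P hP => by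
      rw [compCounit_app]
      have h1 := isIso_LpullCounit_app g P hP
      have h2 := isIso_LpullCounit_app f _ (kfl_pullK g P hP)
      infer_instance)

/-- **`Lf^* ∘ Lg^* ≅ L(g ∘ f)^*`** -/
def LpullCompIso [DCoh.HasLpull (f ≫ g)] : DCoh.Lpull g ⋙ DCoh.Lpull f ≅ DCoh.Lpull (f ≫ g) :=
  have := isLeftDerivedFunctor_comp f g
  leftDerivedUnique (DCoh.Lpull (f ≫ g)) (DCoh.Lpull g ⋙ DCoh.Lpull f) (compCounit f g)
    (LpullCounit (f ≫ g)) (acy Z).trW

end

end Groth.Agent.Lib.Helper28.Lpull
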