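import Mathlib
import Groth.Prelude.Def_DDual2
import Groth.Prelude.Def_DTor2
import Groth.Agent.Lib.Helper28.LpullComp
import Groth.Agent.Lib.Helper28.LTensorModComp
import Groth.Agent.Lib.Helper28.FlatCxRank

/-!
# Pullback of flat modules, and `Lf^*` of complexes of flat amplitude (helper28)
-/

set_option autoImplicit false

universe u

open CategoryTheory Limits AlgebraicGeometry Functor

attribute [local instance] HasDerivedCategory.standard

namespace Groth.Agent.Lib.Helper28.Lpull

open Groth.Agent.Lib.Helper28.StalkTensor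

noncomputable section

lemma flat_extendScalars {R S : Type u} [CommRing R] [CommRing S] (φ : R →+* S)
    (M : ModuleCat.{u} R) (h : Module.Flat R M) :
    Module.Flat S ((ModuleCat.extendScalars φ).obj M) := by
  letI := φ.toAlgebra
  exact Module.Flat.of_linearEquiv (Groth.Agent.Lib.Helper28.FlatCx.extendScalarsEquiv S M)

variable {X Y : Scheme.{u}} (f : X ⟶ Y)

/-- the pullback of a flat module is flat -/
theorem isFlat_pullback (M : Y.Modules) (hM : FlatMod.IsFlat M) :
    FlatMod.IsFlat ((Scheme.Modules.pullback f).obj M) := by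
  intro x
  have h1 : Module.Flat (X.presheaf.stalk x)
      ((esStalk f x).obj ((DerSch.stalkFunctor Y (f.base x)).obj M)) :=
    flat_extendScalars _ _ (hM (f.base x))
  exact (Module.Flat.equiv_iff ((pullStalkNatIso f x).app M).toLinearEquiv).2 h1

lemma vanishesOutside_pullCx (E : CochainComplex Y.Modules ℤ) (a b : ℤ)
    (hv : DCoh.VanishesOutside E a b) : DCoh.VanishesOutside ((pullCx f).obj E) a b :=
  fun i hi => (Scheme.Modules.pullback f).map_isZero (hv i hi)

/-- `Lf^*` preserves flat amplitude -/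
theorem hasFlatAmplitudeIn_Lpull [DCoh.HasLpull f] (E : DCoh.D Y) (a b : ℤ)
    (hE : DCoh.HasFlatAmplitudeIn a b E) :
    DCoh.HasFlatAmplitudeIn a b ((DCoh.Lpull f).obj E) := by
  obtain ⟨E₀, hv, hfl, ⟨e⟩⟩ := hE
  have hK : DCoh.IsKFlat E₀ :=
    Groth.Agent.Lib.Helper28.LTensorModComp.isKFlat_of_vanishesOutside E₀ a b hv hfl
  exact ⟨(pullCx f).obj E₀, vanishesOutside_pullCx f E₀ a b hv,
    fun i => isFlat_pullback f _ (hfl i),
    ⟨(LpullIso f E₀ hK).symm ≪≫ (DCoh.Lpull f).mapIso e⟩⟩

end

end Groth.Agent.Lib.Helper28.Lpull
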