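import Mathlib
import Groth.Prelude.Def_DDual2
import Groth.Agent.Lib.Helper28.LpullAmp
import Groth.Agent.Lib.Helper28.DCohRes4
import Groth.Agent.Lib.Helper29.QCohLocFree

/-!
# `Lf^*` and restriction to opens; `Lf^*` preserves perfect objects (helper28)
-/

set_option autoImplicit false

universe u

open CategoryTheory Limits AlgebraicGeometry Functor

attribute [local instance] HasDerivedCategory.standard

namespace Groth.Agent.Lib.Helper28.Lpull

open Groth.Agent.Lib.Helper28.StalkTensor Groth.Agent.Lib.Helper28.DCohRes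

noncomputable section

variable {X Y : Scheme.{u}} (f : X ⟶ Y)

/-- pullback commutes with restriction to opens -/
def pullRestrictIso (V : Y.Opens) :
    Scheme.Modules.pullback f ⋙ Scheme.Modules.restrictFunctor (f ⁻¹ᵁ V).ι ≅
      Scheme.Modules.restrictFunctor V.ι ⋙ Scheme.Modules.pullback (f ∣_ V) :=
  isoWhiskerLeft _ (Scheme.Modules.restrictFunctorIsoPullback (f ⁻¹ᵁ V).ι) ≪≫
    Scheme.Modules.pullbackComp (f ⁻¹ᵁ V).ι f ≪≫
    Scheme.Modules.pullbackCongr (morphismRestrict_ι f V).symm ≪≫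
    (Scheme.Modules.pullbackComp (f ∣_ V) V.ι).symm ≪≫
    isoWhiskerRight (Scheme.Modules.restrictFunctorIsoPullback V.ι).symm _

/-- pullback commutes with restriction to opens, for complexes -/
def pullRestrictCxIso (V : Y.Opens) (G : CochainComplex Y.Modules ℤ) :
    (resCx (f ⁻¹ᵁ V).ι).obj ((pullCx f).obj G) ≅ (pullCx (f ∣_ V)).obj ((resCx V.ι).obj G) :=
  HomologicalComplex.Hom.isoOfComponents
    (fun i => (pullRestrictIso f V).app (G.X i))
    (fun i j _ => ((pullRestrictIso f V).hom.naturality (G.d i j)).symm)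

/-- restriction of complexes to an open is a pullback -/
def resCxPullIso {U : Scheme.{u}} (j : U ⟶ X) [IsOpenImmersion j] (G : CochainComplex X.Modules ℤ) :
    (resCx j).obj G ≅ (pullCx j).obj G :=
  HomologicalComplex.Hom.isoOfComponents
    (fun i => (Scheme.Modules.restrictFunctorIsoPullback j).app (G.X i))
    (fun i k _ => ((Scheme.Modules.restrictFunctorIsoPullback j).hom.naturality (G.d i k)).symm)

lemma isKFlat_of_iso {K L : CochainComplex X.Modules ℤ} (e : K ≅ L) (hK : DCoh.IsKFlat K) :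
    DCoh.IsKFlat L :=
  (Groth.Agent.Lib.Helper28.KFlatSite.isKFlat_iff (O := X.sheaf) L).2
    (Groth.Agent.Lib.Helper28.KFlatAbs.IsKFlat.of_iso e
      ((Groth.Agent.Lib.Helper28.KFlatSite.isKFlat_iff (O := X.sheaf) K).1 hK))

/-- the restriction of a K-flat complex to an open is K-flat -/
theorem isKFlat_resCx {U : Scheme.{u}} (j : U ⟶ X) [IsOpenImmersion j]
    (G : CochainComplex X.Modules ℤ) (hG : DCoh.IsKFlat G) : DCoh.IsKFlat ((resCx j).obj G) :=
  isKFlat_of_iso (resCxPullIso j G).symm (isKFlat_pullCx j G hG)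

/-- the pullback of a strictly perfect complex is strictly perfect -/
theorem isStrictlyPerfect_pullCx (E : CochainComplex Y.Modules ℤ) (hE : DCoh.IsStrictlyPerfect E) :
    DCoh.IsStrictlyPerfect ((pullCx f).obj E) := by
  obtain ⟨⟨a, b, hv⟩, hfl⟩ := hE
  exact ⟨⟨a, b, vanishesOutside_pullCx f E a b hv⟩,
    fun i => Groth.Agent.Lib.Helper29.QCoh.isFinLocFree_pullback f (hfl i)⟩

/-- a strictly perfect complex is K-flat -/
theorem isKFlat_of_isStrictlyPerfect (E : CochainComplex X.Modules ℤ)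
    (hE : DCoh.IsStrictlyPerfect E) : DCoh.IsKFlat E := by
  obtain ⟨⟨a, b, hv⟩, hfl⟩ := hE
  exact Groth.Agent.Lib.Helper28.LTensorModComp.isKFlat_of_vanishesOutside E a b hv
    (fun i => ((Groth.Agent.Lib.Helper29.QCoh.isFinLocFree_iff_flat (E.X i)).1 (hfl i)).2)

/-- a K-flat representative of an object of the derived category -/
theorem exists_kflat_rep (E : DCoh.D Y) :
    ∃ G : CochainComplex Y.Modules ℤ, DCoh.IsKFlat G ∧ Nonempty (DCoh.toD Y G ≅ E) := by
  obtain ⟨P0, p0, hPK, -, hp0, -⟩ :=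
    Groth.Agent.Lib.Helper28.KFlatSite.exists_kflat_resolution (O := Y.sheaf)
      (DerivedCategory.Q.objPreimage E)
  let P : CochainComplex Y.Modules ℤ := P0
  let p : P ⟶ DerivedCategory.Q.objPreimage E := p0
  have hp : QuasiIso p := hp0
  have hi : IsIso (DerivedCategory.Q.map p) := by
    rw [DerivedCategory.isIso_Q_map_iff_quasiIso]
    exact hp
  exact ⟨P, hPK, ⟨@asIso _ _ _ _ (DerivedCategory.Q.map p) hi ≪≫
    DerivedCategory.Q.objObjPreimageIso E⟩⟩

/-- **Restriction of `Lf^*` to an open**: for `G` K-flat,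
`(Lf^* (Q G))|_{f⁻¹ V} ≅ L(f|_V)^* (Q (G|_V))`, in the form needed below -/
def resLpullIso [DCoh.HasLpull f] (V : Y.Opens) (G : CochainComplex Y.Modules ℤ)
    (hG : DCoh.IsKFlat G) (F : CochainComplex X.Modules ℤ)
    (e : DCoh.toD X F ≅ (DCoh.Lpull f).obj (DCoh.toD Y G)) :
    DerivedCategory.Q.obj ((resCx (f ⁻¹ᵁ V).ι).obj F) ≅
      DerivedCategory.Q.obj ((pullCx (f ∣_ V)).obj ((resCx V.ι).obj G)) :=
  ((resDQ (f ⁻¹ᵁ V).ι).app F).symm ≪≫ (resD (f ⁻¹ᵁ V).ι).mapIso (e ≪≫ LpullIso f G hG) ≪≫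
    (resDQ (f ⁻¹ᵁ V).ι).app ((pullCx f).obj G) ≪≫
    DerivedCategory.Q.mapIso (pullRestrictCxIso f V G)

/-- **`Lf^*` preserves perfect objects.** -/
theorem isPerfect_Lpull [DCoh.HasLpull f] (E : DCoh.D Y) (hE : DCoh.IsPerfect E) :
    DCoh.IsPerfect ((DCoh.Lpull f).obj E) := by
  intro x
  obtain ⟨V, hxV, hV⟩ := hE (f.base x)
  refine ⟨f ⁻¹ᵁ V, hxV, fun F ⟨e⟩ => ?_⟩
  obtain ⟨G, hG, ⟨eG⟩⟩ := exists_kflat_rep E
  obtain ⟨E₀, hE₀, ⟨e₀⟩⟩ := hV G ⟨eG⟩
  have hh : DCoh.HasLpull (f ∣_ V) := hasLpull _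
  have hGV : DCoh.IsKFlat ((resCx V.ι).obj G) := isKFlat_resCx V.ι G hG
  refine ⟨(pullCx (f ∣_ V)).obj E₀, isStrictlyPerfect_pullCx _ E₀ hE₀, ⟨?_⟩⟩
  exact resLpullIso f V G hG F (e ≪≫ (DCoh.Lpull f).mapIso eG.symm) ≪≫
    (LpullIso (f ∣_ V) _ hGV).symm ≪≫ (DCoh.Lpull (f ∣_ V)).mapIso e₀ ≪≫
    LpullIso (f ∣_ V) E₀ (isKFlat_of_isStrictlyPerfect E₀ hE₀)

end

end Groth.Agent.Lib.Helper28.Lpull
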