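import Mathlib
import Groth.Agent.Lib.Helper28.StalkAdj3

/-!
# The stalk of a pullback on unit sections (helper28)

For `m ∈ M(V)` the germ at `x` of the section `η(m) ∈ (f^*M)(f⁻¹V)` corresponds to
`1 ⊗ germ_{f x} m` under `pullStalkNatIso`.
-/

set_option autoImplicit false

universe u

open CategoryTheory Limits AlgebraicGeometry TopologicalSpace Opposite ChangeOfRings

namespace Groth.Agent.Lib.Helper28.StalkTensor

noncomputable section

open Groth.Agent.Lib.Helper29.QCoh

variable {X Y : Scheme.{u}} (f : X ⟶ Y) (x : X)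

/-- the unit of the pullback-pushforward adjunction on sections -/
def etaSec (M : Y.Modules) (V : Y.Opens) (m : Γ(M, V)) :
    Γ((Scheme.Modules.pullback f).obj M, f ⁻¹ᵁ V) :=
  ((Scheme.Modules.pullbackPushforwardAdjunction f).unit.app M).app V m

lemma pullStalk_homEquiv (M : Y.Modules) :
    (Scheme.Modules.pullbackPushforwardAdjunction f).unit.app M ≫
      (Scheme.Modules.pushforward f).map
        (toSkyF x ((Scheme.Modules.pullback f).obj M) _ ((pullStalkNatIso f x).hom.app M)) ≫
      pushSkyHom f x _ =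
    toSkyF (f.base x) M _
      ((ModuleCat.extendRestrictScalarsAdj (f.stalkMap x).hom).unit.app
        ((DerSch.stalkFunctor Y (f.base x)).obj M)) := by
  have h := Adjunction.homEquiv_leftAdjointUniq_hom_app
    ((pullStalkAdj f x).ofNatIsoRight (pushSkyNatIso f x)) (stalkExtAdj f x) M
  rw [Adjunction.homEquiv_ofNatIsoRight_apply] at h
  have h2 : (stalkExtAdj f x).unit.app M =
      toSkyF (f.base x) M _
        ((ModuleCat.extendRestrictScalarsAdj (f.stalkMap x).hom).unit.app
          ((DerSch.stalkFunctor Y (f.base x)).obj M)) := by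
    unfold stalkExtAdj
    rw [Adjunction.comp_unit_app]
    have := (stalkSkyAdj (f.base x)).homEquiv_unit (X := M)
      (f := (ModuleCat.extendRestrictScalarsAdj (f.stalkMap x).hom).unit.app
          ((DerSch.stalkFunctor Y (f.base x)).obj M))
    exact this.symm
  rw [h2] at h
  rw [← h]
  unfold pullStalkAdj
  rw [Adjunction.comp_homEquiv]
  simp only [Equiv.trans_apply, Adjunction.homEquiv_unit, Functor.comp_obj, Category.assoc]
  have e1 : toSkyF x ((Scheme.Modules.pullback f).obj M) _ ((pullStalkNatIso f x).hom.app M) =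
      (stalkSkyAdj x).unit.app ((Scheme.Modules.pullback f).obj M) ≫
        (skyF x).map ((pullStalkNatIso f x).hom.app M) :=
    (stalkSkyAdj x).homEquiv_unit (X := (Scheme.Modules.pullback f).obj M)
      (f := (pullStalkNatIso f x).hom.app M)
  exact congrArg (fun t => (Scheme.Modules.pullbackPushforwardAdjunction f).unit.app M ≫
    (Scheme.Modules.pushforward f).map t ≫ pushSkyHom f x _) e1

lemma pushSkyHom_app_skySec (Q : ModuleCat.{u} (X.presheaf.stalk x)) (V : Y.Opens)
    (φ : Γ((Scheme.Modules.pushforward f).obj ((skyF x).obj Q), V)) (h : PLift (f.base x ∈ V)) :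
    skySec (f.base x) ((pushSkyHom f x Q).app V φ) h = skySec x (V := f ⁻¹ᵁ V) φ ⟨h.down⟩ := rfl

/-- **Key lemma**: `pullStalkNatIso` sends the germ of `η(m)` to `1 ⊗ germ m`. -/
theorem pullStalk_gm_etaSec (M : Y.Modules) (V : Y.Opens) (hV : f.base x ∈ V) (m : Γ(M, V)) :
    ((pullStalkNatIso f x).hom.app M).hom
        (gm (vP ((Scheme.Modules.pullback f).obj M)) (f ⁻¹ᵁ V) hV (etaSec f M V m)) =
      (1 : X.presheaf.stalk x) ⊗ₜ[Y.presheaf.stalk (f.base x), (f.stalkMap x).hom]
        (gm (vP M) V hV m) := by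
  have h := pullStalk_homEquiv f x M
  have h1 := congrArg (fun φ => skySec (f.base x) (φ.app V m) ⟨hV⟩) h
  have hR := toSkyF_app (f.base x) M _
      ((ModuleCat.extendRestrictScalarsAdj (f.stalkMap x).hom).unit.app
        ((DerSch.stalkFunctor Y (f.base x)).obj M)) V m ⟨hV⟩
  have hL : skySec (f.base x) ((((Scheme.Modules.pullbackPushforwardAdjunction f).unit.app M ≫
      (Scheme.Modules.pushforward f).map
        (toSkyF x ((Scheme.Modules.pullback f).obj M) _ ((pullStalkNatIso f x).hom.app M)) ≫
      pushSkyHom f x _).app V m)) ⟨hV⟩ =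
      ((pullStalkNatIso f x).hom.app M).hom
        (gm (vP ((Scheme.Modules.pullback f).obj M)) (f ⁻¹ᵁ V) hV (etaSec f M V m)) := by
    rw [Scheme.Modules.Hom.comp_app, Scheme.Modules.Hom.comp_app]
    change skySec (f.base x) ((pushSkyHom f x _).app V
      (((Scheme.Modules.pushforward f).map
        (toSkyF x ((Scheme.Modules.pullback f).obj M) _ ((pullStalkNatIso f x).hom.app M))).app V
        (etaSec f M V m))) ⟨hV⟩ = _
    rw [Scheme.Modules.pushforward_map_app]
    rw [pushSkyHom_app_skySec]
    exact toSkyF_app x _ _ _ (f ⁻¹ᵁ V) (etaSec f M V m) ⟨hV⟩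
  exact hL.symm.trans (h1.trans (hR.trans
    (ModuleCat.extendRestrictScalarsAdj_unit_app_apply (f.stalkMap x).hom _ _)))

end

end Groth.Agent.Lib.Helper28.StalkTensor
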