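import Mathlib
import Groth.Agent.Lib.Helper28.StalkTensor8

/-!
# Morphisms out of a (sheaf) tensor product (helper28)
-/

set_option autoImplicit false

universe u

open CategoryTheory Limits AlgebraicGeometry TopologicalSpace Opposite MonoidalCategory
open scoped TensorProduct

namespace Groth.Agent.Lib.Helper28.StalkTensor

noncomputable section

variable {X : Scheme.{u}}

/-- the morphism out of the sheafification attached to a morphism of presheaves of modules -/
def shvDesc {P : PM X} {T : X.Modules} (g : P ⟶ vP T) : shv P ⟶ T :=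
  ((PresheafOfModules.sheafificationAdjunction (𝟙 X.ringCatSheaf.obj)).homEquiv P T).symm g

lemma un_shvDesc {P : PM X} {T : X.Modules} (g : P ⟶ vP T) : un P ≫ vMap (shvDesc g) = g := by
  have h := ((PresheafOfModules.sheafificationAdjunction
    (𝟙 X.ringCatSheaf.obj)).homEquiv P T).apply_symm_apply g
  rw [Adjunction.homEquiv_unit] at h
  exact h

lemma shvDesc_ext {P : PM X} {T : X.Modules} {a b : shv P ⟶ T}
    (h : un P ≫ vMap a = un P ≫ vMap b) : a = b := by
  apply ((PresheafOfModules.sheafificationAdjunction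
    (𝟙 X.ringCatSheaf.obj)).homEquiv P T).injective
  rw [Adjunction.homEquiv_unit, Adjunction.homEquiv_unit]
  exact h

lemma ap_comp {P P' P'' : PM X} (f : P ⟶ P') (g : P' ⟶ P'') (U : X.Opens) (s : P.obj (op U)) :
    ap (f ≫ g) U s = ap g U (ap f U s) := rfl

lemma ap_un_shvDesc {P : PM X} {T : X.Modules} (g : P ⟶ vP T) (U : X.Opens) (s : P.obj (op U)) :
    ap (vMap (shvDesc g)) U (ap (un P) U s) = ap g U s := by
  rw [← ap_comp, un_shvDesc]

/-- a morphism out of a tensor product of presheaves of modules, from a family of bilinear maps -/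
def pqDesc (P Q R : PM X)
    (b : ∀ V : X.Opens, P.obj (op V) →ₗ[X.presheaf.obj (op V)]
      Q.obj (op V) →ₗ[X.presheaf.obj (op V)] R.obj (op V))
    (hb : ∀ {U V : X.Opens} (i : V ⟶ U) (s : P.obj (op U)) (t : Q.obj (op U)),
      b V (rs P i s) (rs Q i t) = rs R i (b U s t)) : PQ P Q ⟶ R where
  app W := ModuleCat.ofHom (X := (PQ P Q).obj W) (Y := R.obj W) (TensorProduct.lift (b W.unop))
  naturality {W W₂} h := by
    apply ModuleCat.MonoidalCategory.tensor_ext
    intro s t
    exact hb h.unop s t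

lemma ap_pqDesc_tmul (P Q R : PM X)
    (b : ∀ V : X.Opens, P.obj (op V) →ₗ[X.presheaf.obj (op V)]
      Q.obj (op V) →ₗ[X.presheaf.obj (op V)] R.obj (op V))
    (hb : ∀ {U V : X.Opens} (i : V ⟶ U) (s : P.obj (op U)) (t : Q.obj (op U)),
      b V (rs P i s) (rs Q i t) = rs R i (b U s t)) (V : X.Opens) (s : P.obj (op V))
    (t : Q.obj (op V)) :
    ap (pqDesc P Q R b hb) V (ofTS P Q (s ⊗ₜ t)) = b V s t := rfl

/-- morphisms out of a tensor product of presheaves of modules agree if they agree on pure
tensors -/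
lemma pq_hom_ext {P Q R : PM X} {a b : PQ P Q ⟶ R}
    (h : ∀ (V : X.Opens) (s : P.obj (op V)) (t : Q.obj (op V)),
      ap a V (ofTS P Q (s ⊗ₜ t)) = ap b V (ofTS P Q (s ⊗ₜ t))) : a = b := by
  ext W : 1
  apply ModuleCat.MonoidalCategory.tensor_ext
  intro s t
  exact h W.unop s t

end

end Groth.Agent.Lib.Helper28.StalkTensor
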