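import Mathlib
import Groth.Prelude.Def_DCoh4
import Groth.Agent.Lib.Helper28.PullTensor1
import Groth.Agent.Lib.Helper28.PullTensor2
import Groth.Agent.Lib.Helper29.QCohPush


/-!
# The comparison `f^*(M ⊗ N) ⟶ f^*M ⊗ f^*N` (helper28)
-/

set_option autoImplicit false

universe u

open CategoryTheory Limits AlgebraicGeometry TopologicalSpace Opposite MonoidalCategory
open scoped TensorProduct

namespace Groth.Agent.Lib.Helper28.StalkTensor

noncomputable section

open Groth.Agent.Lib.Helper29.QCoh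

variable {X Y : Scheme.{u}} (f : X ⟶ Y)

/-- sections of a pushforward -/
def toPush (T : X.Modules) (V : Y.Opens) (t : (vP T).obj (op (f ⁻¹ᵁ V))) :
    (vP ((Scheme.Modules.pushforward f).obj T)).obj (op V) := t

lemma toPush_add (T : X.Modules) (V : Y.Opens) (t t' : (vP T).obj (op (f ⁻¹ᵁ V))) :
    toPush f T V (t + t') = toPush f T V t + toPush f T V t' := rfl

lemma toPush_smul (T : X.Modules) (V : Y.Opens) (r : Y.presheaf.obj (op V))
    (t : (vP T).obj (op (f ⁻¹ᵁ V))) :
    toPush f T V ((f.app V r) • t) = r • toPush f T V t := rfl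

lemma toPush_rs (T : X.Modules) {U V : Y.Opens} (i : V ⟶ U) (t : (vP T).obj (op (f ⁻¹ᵁ U))) :
    toPush f T V (rs (vP T) ((Opens.map f.base).map i) t) =
      rs (vP ((Scheme.Modules.pushforward f).obj T)) i (toPush f T U t) := rfl

/-- the unit of the pullback-pushforward adjunction on sections, with clean types -/
def etaP (M : Y.Modules) (V : Y.Opens) (m : (vP M).obj (op V)) :
    (vP ((Scheme.Modules.pullback f).obj M)).obj (op (f ⁻¹ᵁ V)) := etaSec f M V m

lemma etaP_add (M : Y.Modules) (V : Y.Opens) (m m' : (vP M).obj (op V)) :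
    etaP f M V (m + m') = etaP f M V m + etaP f M V m' :=
  map_add (((Scheme.Modules.pullbackPushforwardAdjunction f).unit.app M).app V).hom m m'

lemma etaP_smul (M : Y.Modules) (V : Y.Opens) (r : Y.presheaf.obj (op V)) (m : (vP M).obj (op V)) :
    etaP f M V (r • m) = (f.app V r) • etaP f M V m :=
  Scheme.Modules.Hom.app_smul ((Scheme.Modules.pullbackPushforwardAdjunction f).unit.app M) r m

lemma etaP_rs (M : Y.Modules) {U V : Y.Opens} (i : V ⟶ U) (m : (vP M).obj (op U)) :
    etaP f M V (rs (vP M) i m) =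
      rs (vP ((Scheme.Modules.pullback f).obj M)) ((Opens.map f.base).map i) (etaP f M U m) :=
  PresheafOfModules.naturality_apply
    ((Scheme.Modules.pullbackPushforwardAdjunction f).unit.app M).val i.op m

variable (M N : Y.Modules)

/-- `f^*M ⊗ f^*N` -/
abbrev TX : X.Modules :=
  shv (PQ (vP ((Scheme.Modules.pullback f).obj M)) (vP ((Scheme.Modules.pullback f).obj N)))

/-- the unit of sheafification of the presheaf tensor product of the pullbacks -/
abbrev unX : PQ (vP ((Scheme.Modules.pullback f).obj M)) (vP ((Scheme.Modules.pullback f).obj N)) ⟶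
    vP (TX f M N) :=
  un _

/-- the value of the comparison on a pure tensor -/
def thetaVal (V : Y.Opens) (m : (vP M).obj (op V)) (n : (vP N).obj (op V)) :
    (vP ((Scheme.Modules.pushforward f).obj (TX f M N))).obj (op V) :=
  toPush f (TX f M N) V (ap (unX f M N) (f ⁻¹ᵁ V)
    (ofTS _ _ (etaP f M V m ⊗ₜ etaP f N V n)))

lemma thetaVal_add_left (V : Y.Opens) (m m' : (vP M).obj (op V)) (n : (vP N).obj (op V)) :
    thetaVal f M N V (m + m') n = thetaVal f M N V m n + thetaVal f M N V m' n := by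
  unfold thetaVal
  rw [etaP_add, TensorProduct.add_tmul, ofTS_add, ap_add, toPush_add]

lemma thetaVal_add_right (V : Y.Opens) (m : (vP M).obj (op V)) (n n' : (vP N).obj (op V)) :
    thetaVal f M N V m (n + n') = thetaVal f M N V m n + thetaVal f M N V m n' := by
  unfold thetaVal
  rw [etaP_add, TensorProduct.tmul_add, ofTS_add, ap_add, toPush_add]

lemma ofTS_smul {Z : Scheme.{u}} (P Q : PM Z) {U : Z.Opens} (r : Z.presheaf.obj (op U))
    (a : TS P Q U) : ofTS P Q (r • a) = r • ofTS P Q a := rfl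

lemma thetaVal_smul_left (V : Y.Opens) (r : Y.presheaf.obj (op V)) (m : (vP M).obj (op V))
    (n : (vP N).obj (op V)) :
    thetaVal f M N V (r • m) n = r • thetaVal f M N V m n := by
  unfold thetaVal
  rw [etaP_smul, ← TensorProduct.smul_tmul', ofTS_smul, ap_smul, toPush_smul]

lemma thetaVal_smul_right (V : Y.Opens) (r : Y.presheaf.obj (op V)) (m : (vP M).obj (op V))
    (n : (vP N).obj (op V)) :
    thetaVal f M N V m (r • n) = r • thetaVal f M N V m n := by
  unfold thetaVal
  rw [etaP_smul, TensorProduct.tmul_smul, ofTS_smul, ap_smul, toPush_smul]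

/-- the bilinear map underlying the comparison -/
def thetaBil (V : Y.Opens) : (vP M).obj (op V) →ₗ[Y.presheaf.obj (op V)]
    (vP N).obj (op V) →ₗ[Y.presheaf.obj (op V)]
      (vP ((Scheme.Modules.pushforward f).obj (TX f M N))).obj (op V) :=
  LinearMap.mk₂ (Y.presheaf.obj (op V)) (fun m n => thetaVal f M N V m n)
    (fun m m' n => thetaVal_add_left f M N V m m' n)
    (fun r m n => thetaVal_smul_left f M N V r m n)
    (fun m n n' => thetaVal_add_right f M N V m n n')
    (fun r m n => thetaVal_smul_right f M N V r m n)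

lemma thetaVal_rs {U V : Y.Opens} (i : V ⟶ U) (m : (vP M).obj (op U)) (n : (vP N).obj (op U)) :
    thetaVal f M N V (rs (vP M) i m) (rs (vP N) i n) =
      rs (vP ((Scheme.Modules.pushforward f).obj (TX f M N))) i (thetaVal f M N U m n) := by
  unfold thetaVal
  rw [etaP_rs, etaP_rs, ← toPush_rs, ← ap_rs]
  congr 2

/-- the comparison on presheaf tensor products -/
def theta₀ : PQ (vP M) (vP N) ⟶ vP ((Scheme.Modules.pushforward f).obj (TX f M N)) :=
  pqDesc (vP M) (vP N) _ (thetaBil f M N) (fun i m n => thetaVal_rs f M N i m n)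

/-- the comparison `M ⊗ N ⟶ f_*(f^*M ⊗ f^*N)` -/
def theta₁ : shv (PQ (vP M) (vP N)) ⟶ (Scheme.Modules.pushforward f).obj (TX f M N) :=
  shvDesc (theta₀ f M N)

/-- **the comparison `f^*(M ⊗ N) ⟶ f^*M ⊗ f^*N`** -/
def theta : (Scheme.Modules.pullback f).obj (shv (PQ (vP M) (vP N))) ⟶ TX f M N :=
  ((Scheme.Modules.pullbackPushforwardAdjunction f).homEquiv _ _).symm (theta₁ f M N)

lemma ap_theta₁ (V : Y.Opens) (m : (vP M).obj (op V)) (n : (vP N).obj (op V)) :
    ap (vMap (theta₁ f M N)) V (ap (un (PQ (vP M) (vP N))) V (ofTS _ _ (m ⊗ₜ n))) =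
      thetaVal f M N V m n := by
  unfold theta₁
  rw [ap_un_shvDesc]
  rfl

lemma unit_comp_pushforward_theta :
    (Scheme.Modules.pullbackPushforwardAdjunction f).unit.app (shv (PQ (vP M) (vP N))) ≫
      (Scheme.Modules.pushforward f).map (theta f M N) = theta₁ f M N := by
  have h := ((Scheme.Modules.pullbackPushforwardAdjunction f).homEquiv _ _).apply_symm_apply
    (theta₁ f M N)
  rw [Adjunction.homEquiv_unit] at h
  exact h

lemma ap_theta_etaP (V : Y.Opens) (s : (vP (shv (PQ (vP M) (vP N)))).obj (op V)) :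
    ap (vMap (theta f M N)) (f ⁻¹ᵁ V) (etaP f _ V s) =
      (show (vP (TX f M N)).obj (op (f ⁻¹ᵁ V)) from ap (vMap (theta₁ f M N)) V s) := by
  have h := unit_comp_pushforward_theta f M N
  have h1 := congrArg (fun φ => φ.app V s) h
  exact h1

/-- the comparison on the germ of a pure tensor of unit sections -/
lemma stMap_theta_gm (x : X) (V : Y.Opens) (hV : f.base x ∈ V) (m : (vP M).obj (op V))
    (n : (vP N).obj (op V)) :
    stMapₗ x (vMap (theta f M N))
        (gm (vP ((Scheme.Modules.pullback f).obj (shv (PQ (vP M) (vP N))))) (f ⁻¹ᵁ V)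
          (show x ∈ f ⁻¹ᵁ V from hV)
          (etaP f _ V (ap (un (PQ (vP M) (vP N))) V (ofTS _ _ (m ⊗ₜ n))))) =
      gm (vP (TX f M N)) (f ⁻¹ᵁ V) (show x ∈ f ⁻¹ᵁ V from hV)
        (ap (unX f M N) (f ⁻¹ᵁ V) (ofTS _ _ (etaP f M V m ⊗ₜ etaP f N V n))) := by
  rw [stMapₗ_gm, ap_theta_etaP, ap_theta₁]
  rfl

end

end Groth.Agent.Lib.Helper28.StalkTensor
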