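import Mathlib
import Groth.Prelude.Def_DCoh4
import Groth.Agent.Lib.Helper28.PullTensor3


/-!
# `f^*(M ⊗ N) ⟶ f^*M ⊗ f^*N` is an isomorphism (stalkwise check) (helper28)
-/

set_option autoImplicit false

universe u

open CategoryTheory Limits AlgebraicGeometry TopologicalSpace Opposite MonoidalCategory ChangeOfRings
open scoped TensorProduct

namespace Groth.Agent.Lib.Helper28.StalkTensor

noncomputable section

open Groth.Agent.Lib.Helper29.QCoh

variable {X Y : Scheme.{u}}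

/-- the stalk-tensor isomorphism on the germ of a pure tensor -/
lemma stalkTensorIso_hom_gm (x : X) (F G : X.Modules) (W : X.Opens) (hW : x ∈ W)
    (a : (vP F).obj (op W)) (b : (vP G).obj (op W)) :
    (stalkTensorIso x F G).hom.hom
        (gm (vP (shv (PQ (vP F) (vP G)))) W hW
          (ap (un (PQ (vP F) (vP G))) W (ofTS _ _ (a ⊗ₜ b)))) =
      gm (vP F) W hW a ⊗ₜ[X.presheaf.stalk x] gm (vP G) W hW b := by
  rw [stalkTensorIso_hom_apply, ← stMapₗ_gm, stalkTensorLinearEquiv_stMap,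
    stalkTensorEquiv_gm_tmul]

/-- `p ↦ 1 ⊗ p` -/
def oneT {A B : Type u} [CommRing A] [CommRing B] (φ : A →+* B) (P : ModuleCat.{u} A) (p : P) :
    ((ModuleCat.extendScalars.{u, u, u} φ).obj P : ModuleCat.{u} B) :=
  ((ModuleCat.extendRestrictScalarsAdj φ).unit.app P).hom p

variable (f : X ⟶ Y) (M N : Y.Modules) (x : X)

lemma pullStalk_gm_etaP (V : Y.Opens) (hV : f.base x ∈ V) (m : (vP M).obj (op V)) :
    ((pullStalkNatIso f x).hom.app M).hom
        (gm (vP ((Scheme.Modules.pullback f).obj M)) (f ⁻¹ᵁ V) (show x ∈ f ⁻¹ᵁ V from hV)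
          (etaP f M V m)) =
      oneT (f.stalkMap x).hom ((DerSch.stalkFunctor Y (f.base x)).obj M) (gm (vP M) V hV m) :=
  (pullStalk_gm_etaSec f x M V hV m).trans rfl

/-- the left-hand composite -/
def lhsMap : (DerSch.stalkFunctor X x).obj
      ((Scheme.Modules.pullback f).obj (shv (PQ (vP M) (vP N)))) ⟶
    (esStalk f x).obj ((DerSch.stalkFunctor Y (f.base x)).obj M) ⊗
      (esStalk f x).obj ((DerSch.stalkFunctor Y (f.base x)).obj N) :=
  (DerSch.stalkFunctor X x).map (theta f M N) ≫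
    (show (DerSch.stalkFunctor X x).obj (TX f M N) ⟶ _ from
      (stalkTensorIso x ((Scheme.Modules.pullback f).obj M)
        ((Scheme.Modules.pullback f).obj N)).hom) ≫
    (((pullStalkNatIso f x).hom.app M) ⊗ₘ ((pullStalkNatIso f x).hom.app N))

/-- the value of the left-hand composite on generators -/
lemma lhsMap_gm (V : Y.Opens) (hV : f.base x ∈ V) (m : (vP M).obj (op V))
    (n : (vP N).obj (op V)) :
    (lhsMap f M N x).hom
        (gm (vP ((Scheme.Modules.pullback f).obj (shv (PQ (vP M) (vP N))))) (f ⁻¹ᵁ V)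
          (show x ∈ f ⁻¹ᵁ V from hV)
          (etaP f _ V (ap (un (PQ (vP M) (vP N))) V (ofTS _ _ (m ⊗ₜ n))))) =
      (oneT (f.stalkMap x).hom ((DerSch.stalkFunctor Y (f.base x)).obj M) (gm (vP M) V hV m))
        ⊗ₜ[X.presheaf.stalk x]
      (oneT (f.stalkMap x).hom ((DerSch.stalkFunctor Y (f.base x)).obj N) (gm (vP N) V hV n)) := by
  have h1 : ((DerSch.stalkFunctor X x).map (theta f M N)).hom
      (gm (vP ((Scheme.Modules.pullback f).obj (shv (PQ (vP M) (vP N))))) (f ⁻¹ᵁ V)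
          (show x ∈ f ⁻¹ᵁ V from hV)
          (etaP f _ V (ap (un (PQ (vP M) (vP N))) V (ofTS _ _ (m ⊗ₜ n))))) =
      gm (vP (TX f M N)) (f ⁻¹ᵁ V) (show x ∈ f ⁻¹ᵁ V from hV)
        (ap (unX f M N) (f ⁻¹ᵁ V) (ofTS _ _ (etaP f M V m ⊗ₜ etaP f N V n))) := by
    rw [stalkFunctor_map_hom]
    exact stMap_theta_gm f M N x V hV m n
  have h2 := stalkTensorIso_hom_gm x ((Scheme.Modules.pullback f).obj M)
    ((Scheme.Modules.pullback f).obj N) (f ⁻¹ᵁ V) (show x ∈ f ⁻¹ᵁ V from hV)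
    (etaP f M V m) (etaP f N V n)
  have h3 := ModuleCat.MonoidalCategory.tensorHom_tmul ((pullStalkNatIso f x).hom.app M)
    ((pullStalkNatIso f x).hom.app N)
    (gm (vP ((Scheme.Modules.pullback f).obj M)) (f ⁻¹ᵁ V) (show x ∈ f ⁻¹ᵁ V from hV)
      (etaP f M V m))
    (gm (vP ((Scheme.Modules.pullback f).obj N)) (f ⁻¹ᵁ V) (show x ∈ f ⁻¹ᵁ V from hV)
      (etaP f N V n))
  rw [pullStalk_gm_etaP f M x V hV m, pullStalk_gm_etaP f N x V hV n] at h3
  refine Eq.trans ?_ h3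
  refine Eq.trans ?_ (congrArg _ h2)
  exact congrArg (fun z => ((((pullStalkNatIso f x).hom.app M) ⊗ₘ
    ((pullStalkNatIso f x).hom.app N))).hom
    ((stalkTensorIso x ((Scheme.Modules.pullback f).obj M)
        ((Scheme.Modules.pullback f).obj N)).hom.hom z)) h1

lemma extendScalars_map_oneT {A B : Type u} [CommRing A] [CommRing B] (φ : A →+* B)
    {P Q : ModuleCat.{u} A} (g : P ⟶ Q) (p : P) :
    ((ModuleCat.extendScalars.{u, u, u} φ).map g).hom (oneT φ P p) = oneT φ Q (g.hom p) := by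
  have h := (ModuleCat.extendRestrictScalarsAdj φ).unit.naturality g
  have h1 := congrArg (fun t => t.hom p) h
  exact h1.symm

lemma delta_oneT {A B : Type u} [CommRing A] [CommRing B] (φ : A →+* B)
    (P Q : ModuleCat.{u} A) (p : P) (q : Q) :
    (Functor.OplaxMonoidal.δ (ModuleCat.extendScalars.{u, u, u} φ) P Q).hom
        (oneT φ (P ⊗ Q) (p ⊗ₜ q)) =
      oneT φ P p ⊗ₜ[B] oneT φ Q q :=
  ModuleCat.extendScalars_δ_tmul φ P Q p q

/-- the right-hand composite -/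
def rhsMap : (DerSch.stalkFunctor X x).obj
      ((Scheme.Modules.pullback f).obj (shv (PQ (vP M) (vP N)))) ⟶
    (esStalk f x).obj ((DerSch.stalkFunctor Y (f.base x)).obj M) ⊗
      (esStalk f x).obj ((DerSch.stalkFunctor Y (f.base x)).obj N) :=
  (pullStalkNatIso f x).hom.app (shv (PQ (vP M) (vP N))) ≫
    (esStalk f x).map (show (DerSch.stalkFunctor Y (f.base x)).obj (shv (PQ (vP M) (vP N))) ⟶
        (DerSch.stalkFunctor Y (f.base x)).obj M ⊗ (DerSch.stalkFunctor Y (f.base x)).obj N from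
      (stalkTensorIso (f.base x) M N).hom) ≫
    Functor.OplaxMonoidal.δ (esStalk f x) _ _

lemma rhsMap_gm (V : Y.Opens) (hV : f.base x ∈ V) (m : (vP M).obj (op V))
    (n : (vP N).obj (op V)) :
    (rhsMap f M N x).hom
        (gm (vP ((Scheme.Modules.pullback f).obj (shv (PQ (vP M) (vP N))))) (f ⁻¹ᵁ V)
          (show x ∈ f ⁻¹ᵁ V from hV)
          (etaP f _ V (ap (un (PQ (vP M) (vP N))) V (ofTS _ _ (m ⊗ₜ n))))) =
      (oneT (f.stalkMap x).hom ((DerSch.stalkFunctor Y (f.base x)).obj M) (gm (vP M) V hV m))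
        ⊗ₜ[X.presheaf.stalk x]
      (oneT (f.stalkMap x).hom ((DerSch.stalkFunctor Y (f.base x)).obj N) (gm (vP N) V hV n)) := by
  have h1 := pullStalk_gm_etaP f (shv (PQ (vP M) (vP N))) x V hV
    (ap (un (PQ (vP M) (vP N))) V (ofTS _ _ (m ⊗ₜ n)))
  have h2 := stalkTensorIso_hom_gm (f.base x) M N V hV m n
  have h3 := extendScalars_map_oneT (f.stalkMap x).hom
    (show (DerSch.stalkFunctor Y (f.base x)).obj (shv (PQ (vP M) (vP N))) ⟶
        (DerSch.stalkFunctor Y (f.base x)).obj M ⊗ (DerSch.stalkFunctor Y (f.base x)).obj N from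
      (stalkTensorIso (f.base x) M N).hom)
    (gm (vP (shv (PQ (vP M) (vP N)))) V hV (ap (un (PQ (vP M) (vP N))) V (ofTS _ _ (m ⊗ₜ n))))
  have h4 := delta_oneT (f.stalkMap x).hom ((DerSch.stalkFunctor Y (f.base x)).obj M)
    ((DerSch.stalkFunctor Y (f.base x)).obj N) (gm (vP M) V hV m) (gm (vP N) V hV n)
  refine Eq.trans ?_ h4
  refine Eq.trans (congrArg (fun z => (Functor.OplaxMonoidal.δ (esStalk f x)
    ((DerSch.stalkFunctor Y (f.base x)).obj M) ((DerSch.stalkFunctor Y (f.base x)).obj N)).hom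
    (((esStalk f x).map (show (DerSch.stalkFunctor Y (f.base x)).obj (shv (PQ (vP M) (vP N))) ⟶
        (DerSch.stalkFunctor Y (f.base x)).obj M ⊗ (DerSch.stalkFunctor Y (f.base x)).obj N from
      (stalkTensorIso (f.base x) M N).hom)).hom z)) h1) ?_
  refine congrArg _ ?_
  refine h3.trans ?_
  exact congrArg _ h2

/-- the comparison isomorphism used to test equality on generators -/
def eIso : (DerSch.stalkFunctor X x).obj
      ((Scheme.Modules.pullback f).obj (shv (PQ (vP M) (vP N)))) ≅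
    (esStalk f x).obj ((DerSch.stalkFunctor Y (f.base x)).obj M ⊗
      (DerSch.stalkFunctor Y (f.base x)).obj N) :=
  (pullStalkNatIso f x).app (shv (PQ (vP M) (vP N))) ≪≫
    (esStalk f x).mapIso (show (DerSch.stalkFunctor Y (f.base x)).obj (shv (PQ (vP M) (vP N))) ≅
        (DerSch.stalkFunctor Y (f.base x)).obj M ⊗ (DerSch.stalkFunctor Y (f.base x)).obj N from
      stalkTensorIso (f.base x) M N)

lemma eIso_hom_gm (V : Y.Opens) (hV : f.base x ∈ V) (m : (vP M).obj (op V))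
    (n : (vP N).obj (op V)) :
    (eIso f M N x).hom.hom
        (gm (vP ((Scheme.Modules.pullback f).obj (shv (PQ (vP M) (vP N))))) (f ⁻¹ᵁ V)
          (show x ∈ f ⁻¹ᵁ V from hV)
          (etaP f _ V (ap (un (PQ (vP M) (vP N))) V (ofTS _ _ (m ⊗ₜ n))))) =
      oneT (f.stalkMap x).hom ((DerSch.stalkFunctor Y (f.base x)).obj M ⊗
        (DerSch.stalkFunctor Y (f.base x)).obj N)
        (gm (vP M) V hV m ⊗ₜ[Y.presheaf.stalk (f.base x)] gm (vP N) V hV n) := by
  have h1 := pullStalk_gm_etaP f (shv (PQ (vP M) (vP N))) x V hV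
    (ap (un (PQ (vP M) (vP N))) V (ofTS _ _ (m ⊗ₜ n)))
  have h2 := stalkTensorIso_hom_gm (f.base x) M N V hV m n
  have h3 := extendScalars_map_oneT (f.stalkMap x).hom
    (show (DerSch.stalkFunctor Y (f.base x)).obj (shv (PQ (vP M) (vP N))) ⟶
        (DerSch.stalkFunctor Y (f.base x)).obj M ⊗ (DerSch.stalkFunctor Y (f.base x)).obj N from
      (stalkTensorIso (f.base x) M N).hom)
    (gm (vP (shv (PQ (vP M) (vP N)))) V hV (ap (un (PQ (vP M) (vP N))) V (ofTS _ _ (m ⊗ₜ n))))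
  refine Eq.trans (congrArg (fun z =>
    (((esStalk f x).map (show (DerSch.stalkFunctor Y (f.base x)).obj (shv (PQ (vP M) (vP N))) ⟶
        (DerSch.stalkFunctor Y (f.base x)).obj M ⊗ (DerSch.stalkFunctor Y (f.base x)).obj N from
      (stalkTensorIso (f.base x) M N).hom)).hom z)) h1) ?_
  refine h3.trans ?_
  exact congrArg _ h2

lemma eIso_inv_oneT (V : Y.Opens) (hV : f.base x ∈ V) (m : (vP M).obj (op V))
    (n : (vP N).obj (op V)) :
    (eIso f M N x).inv.hom
        (oneT (f.stalkMap x).hom ((DerSch.stalkFunctor Y (f.base x)).obj M ⊗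
          (DerSch.stalkFunctor Y (f.base x)).obj N)
          (gm (vP M) V hV m ⊗ₜ[Y.presheaf.stalk (f.base x)] gm (vP N) V hV n)) =
      gm (vP ((Scheme.Modules.pullback f).obj (shv (PQ (vP M) (vP N))))) (f ⁻¹ᵁ V)
          (show x ∈ f ⁻¹ᵁ V from hV)
          (etaP f _ V (ap (un (PQ (vP M) (vP N))) V (ofTS _ _ (m ⊗ₜ n)))) := by
  rw [← eIso_hom_gm f M N x V hV m n]
  exact congrArg (fun t => t.hom
    (gm (vP ((Scheme.Modules.pullback f).obj (shv (PQ (vP M) (vP N))))) (f ⁻¹ᵁ V)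
          (show x ∈ f ⁻¹ᵁ V from hV)
          (etaP f _ V (ap (un (PQ (vP M) (vP N))) V (ofTS _ _ (m ⊗ₜ n)))))) (eIso f M N x).hom_inv_id

theorem lhsMap_eq_rhsMap : lhsMap f M N x = rhsMap f M N x := by
  rw [← cancel_epi (eIso f M N x).inv]
  apply ((ModuleCat.extendRestrictScalarsAdj (f.stalkMap x).hom).homEquiv _ _).injective
  apply ModuleCat.MonoidalCategory.tensor_ext
  intro p q
  obtain ⟨V₁, h₁, m, rfl⟩ := exists_gm_eq (vP M) p
  obtain ⟨V₂, h₂, n, rfl⟩ := exists_gm_eq (vP N) q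
  have hV : f.base x ∈ V₁ ⊓ V₂ := ⟨h₁, h₂⟩
  rw [← gm_res (vP M) (homOfLE inf_le_left : V₁ ⊓ V₂ ⟶ V₁) hV m,
    ← gm_res (vP N) (homOfLE inf_le_right : V₁ ⊓ V₂ ⟶ V₂) hV n]
  rw [ModuleCat.extendRestrictScalarsAdj_homEquiv_apply,
    ModuleCat.extendRestrictScalarsAdj_homEquiv_apply]
  have key := eIso_inv_oneT f M N x (V₁ ⊓ V₂) hV
    (rs (vP M) (homOfLE inf_le_left : V₁ ⊓ V₂ ⟶ V₁) m)
    (rs (vP N) (homOfLE inf_le_right : V₁ ⊓ V₂ ⟶ V₂) n)
  have hl := lhsMap_gm f M N x (V₁ ⊓ V₂) hV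
    (rs (vP M) (homOfLE inf_le_left : V₁ ⊓ V₂ ⟶ V₁) m)
    (rs (vP N) (homOfLE inf_le_right : V₁ ⊓ V₂ ⟶ V₂) n)
  have hr := rhsMap_gm f M N x (V₁ ⊓ V₂) hV
    (rs (vP M) (homOfLE inf_le_left : V₁ ⊓ V₂ ⟶ V₁) m)
    (rs (vP N) (homOfLE inf_le_right : V₁ ⊓ V₂ ⟶ V₂) n)
  refine Eq.trans (congrArg (fun z => (lhsMap f M N x).hom z) key) ?_
  refine Eq.trans ?_ (congrArg (fun z => (rhsMap f M N x).hom z) key).symm
  exact hl.trans hr.symm

lemma rhsMap_eq : rhsMap f M N x = (eIso f M N x).hom ≫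
    Functor.OplaxMonoidal.δ (esStalk f x) ((DerSch.stalkFunctor Y (f.base x)).obj M)
      ((DerSch.stalkFunctor Y (f.base x)).obj N) := by
  unfold rhsMap eIso
  rw [Iso.trans_hom, Category.assoc]
  rfl

instance isIso_rhsMap : IsIso (rhsMap f M N x) := by
  rw [rhsMap_eq]
  infer_instance

/-- the isomorphism `(f^*M ⊗ f^*N)_x ≅ (M_y ⊗ O_x) ⊗ (N_y ⊗ O_x)` -/
def tIso : (DerSch.stalkFunctor X x).obj (TX f M N) ≅
    (esStalk f x).obj ((DerSch.stalkFunctor Y (f.base x)).obj M) ⊗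
      (esStalk f x).obj ((DerSch.stalkFunctor Y (f.base x)).obj N) :=
  (show (DerSch.stalkFunctor X x).obj (TX f M N) ≅ _ from
      stalkTensorIso x ((Scheme.Modules.pullback f).obj M)
        ((Scheme.Modules.pullback f).obj N)) ≪≫
    (((pullStalkNatIso f x).app M) ⊗ᵢ ((pullStalkNatIso f x).app N))

lemma lhsMap_eq : lhsMap f M N x =
    (DerSch.stalkFunctor X x).map (theta f M N) ≫ (tIso f M N x).hom := rfl

theorem isIso_stalk_theta : IsIso ((DerSch.stalkFunctor X x).map (theta f M N)) := by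
  have h : IsIso (lhsMap f M N x) := by
    rw [lhsMap_eq_rhsMap]
    infer_instance
  rw [lhsMap_eq] at h
  exact IsIso.of_isIso_comp_right _ (tIso f M N x).hom

/-- **`f^*(M ⊗ N) ⟶ f^*M ⊗ f^*N` is an isomorphism.** -/
theorem isIso_theta : IsIso (theta f M N) := by
  rw [isIso_iff_stalkMap_bijective]
  intro x
  have h := isIso_stalk_theta f M N x
  exact (ConcreteCategory.isIso_iff_bijective
    ((DerSch.stalkFunctor X x).map (theta f M N))).1 h

end

end Groth.Agent.Lib.Helper28.StalkTensor
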