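import Mathlib
import Groth.Prelude.Def_DCoh4
import Groth.Agent.Lib.Helper28.PullTensor4


/-!
# Naturality of `f^*(M ⊗ N) ≅ f^*M ⊗ f^*N`, and the version for complexes (helper28)
-/

set_option autoImplicit false

universe u

open CategoryTheory Limits AlgebraicGeometry TopologicalSpace Opposite MonoidalCategory
open scoped TensorProduct

namespace Groth.Agent.Lib.Helper28.StalkTensor

noncomputable section

open Groth.Agent.Lib.Helper29.QCoh

variable {X Y : Scheme.{u}} (f : X ⟶ Y)

lemma etaP_naturality {M M' : Y.Modules} (g : M ⟶ M') (V : Y.Opens) (m : (vP M).obj (op V)) :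
    etaP f M' V (ap (vMap g) V m) =
      ap (vMap ((Scheme.Modules.pullback f).map g)) (f ⁻¹ᵁ V) (etaP f M V m) := by
  have h := (Scheme.Modules.pullbackPushforwardAdjunction f).unit.naturality g
  have h1 := congrArg (fun φ => φ.app V m) h
  exact h1

lemma ap_vMap_pushforward {T T' : X.Modules} (b : T ⟶ T') (V : Y.Opens)
    (t : (vP T).obj (op (f ⁻¹ᵁ V))) :
    ap (vMap ((Scheme.Modules.pushforward f).map b)) V (toPush f T V t) =
      toPush f T' V (ap (vMap b) (f ⁻¹ᵁ V) t) := rfl

lemma vMap_comp {A B C : X.Modules} (a : A ⟶ B) (b : B ⟶ C) :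
    vMap (a ≫ b) = vMap a ≫ vMap b := rfl

/-- naturality of `theta₀` -/
lemma theta₀_naturality {M M' N N' : Y.Modules} (g : M ⟶ M') (h : N ⟶ N') :
    (vMap g ⊗ₘ vMap h) ≫ theta₀ f M' N' =
      theta₀ f M N ≫ vMap ((Scheme.Modules.pushforward f).map
        (shvMap (vMap ((Scheme.Modules.pullback f).map g) ⊗ₘ
          vMap ((Scheme.Modules.pullback f).map h)))) := by
  apply pq_hom_ext
  intro V m n
  rw [ap_comp, ap_comp, ap_tensorHom_tmul]
  change thetaVal f M' N' V (ap (vMap g) V m) (ap (vMap h) V n) =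
    ap (vMap ((Scheme.Modules.pushforward f).map _)) V (thetaVal f M N V m n)
  unfold thetaVal
  rw [ap_vMap_pushforward, etaP_naturality, etaP_naturality, ← ap_tensorHom_tmul, ← ap_comp,
    ← ap_comp]
  congr 2
  exact un_naturality _

/-- naturality of `theta₁` -/
lemma theta₁_naturality {M M' N N' : Y.Modules} (g : M ⟶ M') (h : N ⟶ N') :
    shvMap (vMap g ⊗ₘ vMap h) ≫ theta₁ f M' N' =
      theta₁ f M N ≫ (Scheme.Modules.pushforward f).map
        (shvMap (vMap ((Scheme.Modules.pullback f).map g) ⊗ₘ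
          vMap ((Scheme.Modules.pullback f).map h))) := by
  apply shvDesc_ext
  rw [vMap_comp, vMap_comp, ← Category.assoc, ← un_naturality, Category.assoc]
  unfold theta₁
  rw [un_shvDesc, ← Category.assoc, un_shvDesc]
  exact theta₀_naturality f g h

/-- **naturality of `theta`** -/
theorem theta_naturality {M M' N N' : Y.Modules} (g : M ⟶ M') (h : N ⟶ N') :
    (Scheme.Modules.pullback f).map (shvMap (vMap g ⊗ₘ vMap h)) ≫ theta f M' N' =
      theta f M N ≫ shvMap (vMap ((Scheme.Modules.pullback f).map g) ⊗ₘ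
          vMap ((Scheme.Modules.pullback f).map h)) := by
  apply ((Scheme.Modules.pullbackPushforwardAdjunction f).homEquiv _ _).injective
  rw [Adjunction.homEquiv_naturality_left, Adjunction.homEquiv_naturality_right]
  unfold theta
  rw [Equiv.apply_symm_apply, Equiv.apply_symm_apply]
  exact theta₁_naturality f g h

/-- **`f^*(M ⊗ N) ≅ f^*M ⊗ f^*N`** -/
def pullTensorIso (M N : Y.Modules) :
    (Scheme.Modules.pullback f).obj (((DCoh.tensorBi (X := Y)).obj M).obj N) ≅
      ((DCoh.tensorBi (X := X)).obj ((Scheme.Modules.pullback f).obj M)).obj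
        ((Scheme.Modules.pullback f).obj N) :=
  @asIso _ _ _ _ (theta f M N) (isIso_theta f M N)

lemma pullTensorIso_hom (M N : Y.Modules) : (pullTensorIso f M N).hom = theta f M N := rfl

lemma pullTensorIso_nat₁ {M M' : Y.Modules} (g : M ⟶ M') (N : Y.Modules) :
    (Scheme.Modules.pullback f).map (((DCoh.tensorBi (X := Y)).map g).app N) ≫
        (pullTensorIso f M' N).hom =
      (pullTensorIso f M N).hom ≫
        ((DCoh.tensorBi (X := X)).map ((Scheme.Modules.pullback f).map g)).app
          ((Scheme.Modules.pullback f).obj N) := by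
  rw [pullTensorIso_hom, pullTensorIso_hom, tensorBi_map_app, tensorBi_map_app]
  have h := theta_naturality f g (𝟙 N)
  have e1 : vMap g ⊗ₘ vMap (𝟙 N) = vMap g ▷ vP N := by
    change vMap g ⊗ₘ 𝟙 (vP N) = _
    exact MonoidalCategory.tensorHom_id _ _
  have e2 : vMap ((Scheme.Modules.pullback f).map g) ⊗ₘ
      vMap ((Scheme.Modules.pullback f).map (𝟙 N)) =
      vMap ((Scheme.Modules.pullback f).map g) ▷ vP ((Scheme.Modules.pullback f).obj N) := by
    rw [CategoryTheory.Functor.map_id]
    change _ ⊗ₘ 𝟙 (vP _) = _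
    exact MonoidalCategory.tensorHom_id _ _
  rw [e1, e2] at h
  exact h

lemma pullTensorIso_nat₂ (M : Y.Modules) {N N' : Y.Modules} (g : N ⟶ N') :
    (Scheme.Modules.pullback f).map (((DCoh.tensorBi (X := Y)).obj M).map g) ≫
        (pullTensorIso f M N').hom =
      (pullTensorIso f M N).hom ≫
        ((DCoh.tensorBi (X := X)).obj ((Scheme.Modules.pullback f).obj M)).map
          ((Scheme.Modules.pullback f).map g) := by
  rw [pullTensorIso_hom, pullTensorIso_hom, tensorBi_obj_map, tensorBi_obj_map]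
  have h := theta_naturality f (𝟙 M) g
  have e1 : vMap (𝟙 M) ⊗ₘ vMap g = vP M ◁ vMap g := by
    change 𝟙 (vP M) ⊗ₘ vMap g = _
    exact MonoidalCategory.id_tensorHom _ _
  have e2 : vMap ((Scheme.Modules.pullback f).map (𝟙 M)) ⊗ₘ
      vMap ((Scheme.Modules.pullback f).map g) =
      vP ((Scheme.Modules.pullback f).obj M) ◁ vMap ((Scheme.Modules.pullback f).map g) := by
    rw [CategoryTheory.Functor.map_id]
    change 𝟙 (vP _) ⊗ₘ _ = _
    exact MonoidalCategory.id_tensorHom _ _
  rw [e1, e2] at h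
  exact h

/-- **`f^*(L ⊗ E) ≅ f^*L ⊗ f^*E` for complexes** -/
def pullTensorCxIso (L E : CochainComplex Y.Modules ℤ) :
    (pullCx f).obj ((DCoh.tensorCx.obj L).obj E) ≅
      (DCoh.tensorCx.obj ((pullCx f).obj L)).obj ((pullCx f).obj E) :=
  TotMap.mapTotIso (DCoh.tensorBi (X := Y)) (DCoh.tensorBi (X := X))
    (Scheme.Modules.pullback f) (Scheme.Modules.pullback f) (Scheme.Modules.pullback f)
    (fun F G => pullTensorIso f F G) L E
    (fun g G => pullTensorIso_nat₁ f g G) (fun F _ _ g => pullTensorIso_nat₂ f F g)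

end

end Groth.Agent.Lib.Helper28.StalkTensor
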