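import Mathlib
import Groth.Prelude.Def_DCoh4
import Groth.Prelude.Def_DDual2
import Groth.Agent.Lib.Helper28.PullTensor5
import Groth.Agent.Lib.Helper28.KFlatSite17
import Groth.Agent.Lib.Helper28.LpullPerfect


/-!
# `Lf^*(K ⊗^L L) ≅ Lf^*K ⊗^L f^*L` (helper28)
-/

set_option autoImplicit false

universe u

open CategoryTheory Limits AlgebraicGeometry

attribute [local instance] HasDerivedCategory.standard

namespace Groth.Agent.Lib.Helper28.Lpull

open Groth.Agent.Lib.Helper28.StalkTensor Groth.Agent.Lib.Helper28.KFlatSite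

noncomputable section

/-- the tensor product of K-flat complexes is K-flat (sites) -/
theorem isKFlat_tensorCx_site {C : Type u} [SmallCategory C] {J : GrothendieckTopology C}
    {O : Sheaf J CommRingCat.{u}} (K L : CochainComplex (ModSite.Mod O) ℤ)
    (hK : ModSite.IsKFlat K) (hL : ModSite.IsKFlat L) :
    ModSite.IsKFlat (((ModSite.tensorCx O).obj K).obj L) := by
  intro F hF i
  exact IsZero.of_iso (hL _ (hK F hF) i)
    ((HomologicalComplex.homologyFunctor _ _ i).mapIso (tensorCxAssocIso F K L).symm)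

variable {X Y : Scheme.{u}}

/-- the tensor product of K-flat complexes is K-flat (schemes) -/
theorem isKFlat_tensorCx (K L : CochainComplex Y.Modules ℤ)
    (hK : DCoh.IsKFlat K) (hL : DCoh.IsKFlat L) :
    DCoh.IsKFlat ((DCoh.tensorCx.obj K).obj L) :=
  isKFlat_tensorCx_site (O := Y.sheaf) K L hK hL

/-- `(Q P) ⊗^L L ≅ Q (P ⊗ L)` for `P` K-flat (schemes) -/
def LTensorCxIsoLeft' (L : CochainComplex Y.Modules ℤ) [DCoh.HasLTensorCx L]
    (P : CochainComplex Y.Modules ℤ) (hP : DCoh.IsKFlat P) :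
    (DCoh.LTensorCx L).obj (DerivedCategory.Q.obj P) ≅
      DerivedCategory.Q.obj ((DCoh.tensorCx.obj P).obj L) :=
  haveI i1 : ModSite.HasLTensorCx (O := Y.sheaf) L := ‹DCoh.HasLTensorCx L›
  LTensorCxIsoLeft (O := Y.sheaf) L P hP

/-- **`Lf^*(K ⊗^L L) ≅ Lf^*K ⊗^L f^*L`** for `L` K-flat -/
theorem nonempty_Lpull_LTensor_iso (f : X ⟶ Y) [DCoh.HasLpull f] (L : CochainComplex Y.Modules ℤ)
    (hL : DCoh.IsKFlat L) [DCoh.HasLTensorCx L] [DCoh.HasLTensorCx ((pullCx f).obj L)]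
    (K : DCoh.D Y) :
    Nonempty ((DCoh.Lpull f).obj ((DCoh.LTensorCx L).obj K) ≅
      (DCoh.LTensorCx ((pullCx f).obj L)).obj ((DCoh.Lpull f).obj K)) := by
  obtain ⟨P, hP, ⟨eP⟩⟩ := exists_kflat_rep K
  have hPL : DCoh.IsKFlat ((DCoh.tensorCx.obj P).obj L) := isKFlat_tensorCx P L hP hL
  have hfP : DCoh.IsKFlat ((pullCx f).obj P) := isKFlat_pullCx f P hP
  exact ⟨(DCoh.Lpull f).mapIso ((DCoh.LTensorCx L).mapIso eP.symm ≪≫ LTensorCxIsoLeft' L P hP) ≪≫
    LpullIso f _ hPL ≪≫ DerivedCategory.Q.mapIso (pullTensorCxIso f P L) ≪≫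
    (LTensorCxIsoLeft' ((pullCx f).obj L) ((pullCx f).obj P) hfP).symm ≪≫
    (DCoh.LTensorCx ((pullCx f).obj L)).mapIso ((LpullIso f P hP).symm ≪≫
      (DCoh.Lpull f).mapIso eP)⟩

end

end Groth.Agent.Lib.Helper28.Lpull
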