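import Mathlib
import Groth.Prelude.Def_DCoh4
import Groth.Agent.Lib.Helper28.PullTensor6
import Groth.Agent.Lib.Helper29.Res1
import Groth.Agent.Lib.Helper28.DCohRes13

/-!
# The derived tensor product of perfect objects is perfect (helper28)

* `isFinLocFree_tensor`: tensor product of finite locally free modules is finite locally free
* `isStrictlyPerfect_tensorCx`: tensor product of strictly perfect complexes is strictly perfect
* `tensorQCongr`: `Q(A ⊗ B) ≅ Q(A' ⊗ B')` for K-flat complexes, from isos in the derived category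
* `isPerfect_LTensor` (S0962)
-/

set_option autoImplicit false

universe u

open CategoryTheory Limits AlgebraicGeometry

attribute [local instance] HasDerivedCategory.standard

namespace Groth.Agent.Lib.Helper28.PerfTensor

open Groth.Agent.Lib.Helper28.StalkTensor Groth.Agent.Lib.Helper28.KFlatSite
  Groth.Agent.Lib.Helper28.DCohRes Groth.Agent.Lib.Helper17 Groth.Agent.Lib.Helper28.Lpull

noncomputable section


variable {X : Scheme.{u}}

/-- a coproduct of zero objects is zero -/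
lemma isZero_sigma {C : Type*} [Category C] [HasZeroMorphisms C] {ι : Type*} (f : ι → C)
    [HasCoproduct f] (h : ∀ i, IsZero (f i)) : IsZero (∐ f) := by
  rw [IsZero.iff_id_eq_zero]
  exact Sigma.hom_ext _ _ (fun i => (h i).eq_of_src _ _)

/-- a coproduct with finite support is isomorphic to the coproduct over the support -/
def sigmaSupportIso {C : Type*} [Category C] [HasZeroMorphisms C] {ι : Type*} (f : ι → C)
    [HasCoproduct f] (s : Finset ι) [HasCoproduct (fun j : ULift.{u} s => f j.down.1)]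
    (hs : ∀ i, i ∉ s → IsZero (f i)) :
    ∐ f ≅ ∐ (fun j : ULift.{u} s => f j.down.1) := by
  classical
  exact
  { hom := Sigma.desc (fun i => if h : i ∈ s then
        Sigma.ι (fun j : ULift.{u} s => f j.down.1) ⟨⟨i, h⟩⟩ else 0)
    inv := Sigma.desc (fun j => Sigma.ι f j.down.1)
    hom_inv_id := by
      refine Sigma.hom_ext _ _ (fun i => ?_)
      by_cases h : i ∈ s
      · simp [h]
      · exact (hs i h).eq_of_src _ _
    inv_hom_id := by
      refine Sigma.hom_ext _ _ (fun j => ?_)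
      obtain ⟨⟨i, h⟩⟩ := j
      simp [h] }

/-- a coproduct of finite locally free modules with finite support is finite locally free -/
theorem isFinLocFree_sigma_of_support {ι : Type} (f : ι → X.Modules) (s : Finset ι)
    (hs : ∀ i, i ∉ s → IsZero (f i)) (hf : ∀ i, FlatMod.IsFinLocFree (f i)) :
    FlatMod.IsFinLocFree (∐ f) :=
  Groth.Agent.Lib.Helper29.QCoh.isFinLocFree_of_iso (sigmaSupportIso.{u} f s hs).symm
    (Groth.Agent.Lib.Helper29.QCoh.Res.isFinLocFree_sigma _ (fun j => hf j.down.1))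



instance flip_obj_preservesColimits' (N : X.Modules) :
    PreservesColimitsOfSize.{u, u} ((DCoh.tensorBi (X := X)).flip.obj N) :=
  Tensor.flip_obj_preservesColimits (O := X.sheaf) N

/-- `O ⊗ N ≅ N` on a scheme -/
def leftUnitIso' (N : X.Modules) :
    ((DCoh.tensorBi (X := X)).obj (Coh.structureModule X)).obj N ≅ N :=
  (ProjFormula.leftUnitNatIso (O := X.sheaf)).app N

/-- `O^m ⊗ N ≅ ∐_{Fin m} N` -/
def freeTensorIso (m : ℕ) (N : X.Modules) :
    ((DCoh.tensorBi (X := X)).obj (FlatMod.freeMod X m)).obj N ≅ ∐ fun _ : Fin m => N :=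
  PreservesCoproduct.iso ((DCoh.tensorBi (X := X)).flip.obj N)
      (fun _ : Fin m => Coh.structureModule X) ≪≫
    Sigma.mapIso (fun _ => leftUnitIso' N)

/-- restriction to an open commutes with the tensor product -/
def restrictTensorIso' {U : Scheme.{u}} (j : U ⟶ X) [IsOpenImmersion j] (A B : X.Modules) :
    (((DCoh.tensorBi (X := X)).obj A).obj B).restrict j ≅
      ((DCoh.tensorBi (X := U)).obj (A.restrict j)).obj (B.restrict j) :=
  (Scheme.Modules.restrictFunctorIsoPullback j).app _ ≪≫ pullTensorIso j A B ≪≫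
    ((DCoh.tensorBi (X := U)).mapIso ((Scheme.Modules.restrictFunctorIsoPullback j).app A).symm).app _ ≪≫
    ((DCoh.tensorBi (X := U)).obj _).mapIso ((Scheme.Modules.restrictFunctorIsoPullback j).app B).symm

/-- **the tensor product of finite locally free modules is finite locally free** -/
theorem isFinLocFree_tensor {A B : X.Modules} (hA : FlatMod.IsFinLocFree A)
    (hB : FlatMod.IsFinLocFree B) :
    FlatMod.IsFinLocFree (((DCoh.tensorBi (X := X)).obj A).obj B) := by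
  refine isFinLocFree_of_locally fun x => ?_
  obtain ⟨U, m, hxU, ⟨e⟩⟩ := hA x
  refine ⟨U, U.ι, inferInstance, by rw [Scheme.Opens.range_ι]; exact hxU, ?_⟩
  have hB' : FlatMod.IsFinLocFree (B.restrict U.ι) := isFinLocFree_restrict U.ι hB
  have e1 : (((DCoh.tensorBi (X := X)).obj A).obj B).restrict U.ι ≅
      ∐ fun _ : Fin m => B.restrict U.ι :=
    restrictTensorIso' U.ι A B ≪≫ ((DCoh.tensorBi (X := U)).mapIso e).app _ ≪≫
      freeTensorIso m (B.restrict U.ι)
  have e2 : (∐ fun _ : Fin m => B.restrict U.ι) ≅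
      ∐ fun _ : ULift.{u} (Fin m) => B.restrict U.ι :=
    (Sigma.whiskerEquiv (f := fun _ : ULift.{u} (Fin m) => B.restrict U.ι)
      (g := fun _ : Fin m => B.restrict U.ι) Equiv.ulift (fun _ => Iso.refl _)).symm
  exact Groth.Agent.Lib.Helper29.QCoh.isFinLocFree_of_iso (e1 ≪≫ e2).symm
    (Groth.Agent.Lib.Helper29.QCoh.Res.isFinLocFree_sigma _ (fun _ => hB'))

lemma isZero_tensor_left {A : X.Modules} (hA : IsZero A) (B : X.Modules) :
    IsZero (((DCoh.tensorBi (X := X)).obj A).obj B) :=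
  (Functor.isZero_iff _).1 ((DCoh.tensorBi (X := X)).map_isZero hA) B

lemma isZero_tensor_right (A : X.Modules) {B : X.Modules} (hB : IsZero B) :
    IsZero (((DCoh.tensorBi (X := X)).obj A).obj B) :=
  ((DCoh.tensorBi (X := X)).obj A).map_isZero hB

/-- the terms of the tensor product of complexes, as a coproduct -/
lemma tensorCx_X (E₁ E₂ : CochainComplex X.Modules ℤ) (n : ℤ) :
    ((DCoh.tensorCx.obj E₁).obj E₂).X n =
      ∐ fun i : ↥((ComplexShape.π (ComplexShape.up ℤ) (ComplexShape.up ℤ) (ComplexShape.up ℤ)) ⁻¹' {n}) =>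
        ((DCoh.tensorBi (X := X)).obj (E₁.X i.1.1)).obj (E₂.X i.1.2) := rfl

theorem isStrictlyPerfect_tensorCx {E₁ E₂ : CochainComplex X.Modules ℤ}
    (h₁ : DCoh.IsStrictlyPerfect E₁) (h₂ : DCoh.IsStrictlyPerfect E₂) :
    DCoh.IsStrictlyPerfect ((DCoh.tensorCx.obj E₁).obj E₂) := by
  obtain ⟨⟨a, b, hab⟩, hf₁⟩ := h₁
  obtain ⟨⟨c, d, hcd⟩, hf₂⟩ := h₂
  refine ⟨⟨a + c, b + d, ?_⟩, ?_⟩
  · intro n hn
    rw [tensorCx_X]
    refine isZero_sigma _ (fun i => ?_)
    obtain ⟨⟨p, q⟩, hpq⟩ := i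
    have hpq' : p + q = n := hpq
    by_cases hp : p < a ∨ b < p
    · exact isZero_tensor_left (hab p hp) _
    · have hq : q < c ∨ d < q := by omega
      exact isZero_tensor_right _ (hcd q hq)
  · intro n
    rw [tensorCx_X]
    classical
    let s : Finset ↥((ComplexShape.π (ComplexShape.up ℤ) (ComplexShape.up ℤ) (ComplexShape.up ℤ)) ⁻¹' {n}) :=
      (Finset.Icc a b).image (fun p => ⟨(p, n - p), by
        change p + (n - p) = n
        omega⟩)
    refine isFinLocFree_sigma_of_support _ s ?_ (fun i => isFinLocFree_tensor (hf₁ _) (hf₂ _))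
    intro i hi
    obtain ⟨⟨p, q⟩, hpq⟩ := i
    have hpq' : p + q = n := hpq
    refine isZero_tensor_left (hab p ?_) _
    by_contra hp
    apply hi
    refine Finset.mem_image.2 ⟨p, Finset.mem_Icc.2 (by omega), ?_⟩
    apply Subtype.ext
    change (p, n - p) = (p, q)
    congr 1
    omega



theorem hasLTensorCx_of_isKFlat' (B : CochainComplex X.Modules ℤ) (hB : DCoh.IsKFlat B) :
    DCoh.HasLTensorCx B :=
  hasLTensorCx_of_isKFlat (O := X.sheaf) B hB

/-- `Q(A ⊗ B) ≅ Q(A' ⊗ B)` from `Q A ≅ Q A'`, all K-flat -/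
def tensorQCongrLeft (A A' B : CochainComplex X.Modules ℤ) (hA : DCoh.IsKFlat A)
    (hA' : DCoh.IsKFlat A') (hB : DCoh.IsKFlat B)
    (e : DerivedCategory.Q.obj A ≅ DerivedCategory.Q.obj A') :
    DerivedCategory.Q.obj ((DCoh.tensorCx.obj A).obj B) ≅
      DerivedCategory.Q.obj ((DCoh.tensorCx.obj A').obj B) :=
  haveI : DCoh.HasLTensorCx B := hasLTensorCx_of_isKFlat' B hB
  (LTensorCxIsoLeft' B A hA).symm ≪≫ (DCoh.LTensorCx B).mapIso e ≪≫ LTensorCxIsoLeft' B A' hA'

/-- symmetry of the tensor product of complexes -/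
def tensorCxSymmIso (A B : CochainComplex X.Modules ℤ) :
    (DCoh.tensorCx.obj A).obj B ≅ (DCoh.tensorCx.obj B).obj A :=
  Groth.Agent.Lib.Helper28.KFlatAbs.symmIso (DCoh.tensorBi (X := X))
    (show DCoh.tensorBi (X := X) ≅ (DCoh.tensorBi (X := X)).flip from Tensor.flipIso X.sheaf) A B

/-- `Q(A ⊗ B) ≅ Q(A' ⊗ B')` from `Q A ≅ Q A'`, `Q B ≅ Q B'`, all K-flat -/
def tensorQCongr (A A' B B' : CochainComplex X.Modules ℤ) (hA : DCoh.IsKFlat A)
    (hA' : DCoh.IsKFlat A') (hB : DCoh.IsKFlat B) (hB' : DCoh.IsKFlat B')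
    (e : DerivedCategory.Q.obj A ≅ DerivedCategory.Q.obj A')
    (e' : DerivedCategory.Q.obj B ≅ DerivedCategory.Q.obj B') :
    DerivedCategory.Q.obj ((DCoh.tensorCx.obj A).obj B) ≅
      DerivedCategory.Q.obj ((DCoh.tensorCx.obj A').obj B') :=
  tensorQCongrLeft A A' B hA hA' hB e ≪≫
    DerivedCategory.Q.mapIso (tensorCxSymmIso A' B) ≪≫
    tensorQCongrLeft B B' A' hB hB' hA' e' ≪≫
    DerivedCategory.Q.mapIso (tensorCxSymmIso B' A')

/-- **the derived tensor product of perfect objects is perfect** -/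
theorem isPerfect_LTensor (L : CochainComplex X.Modules ℤ) (hL : DCoh.IsKFlat L)
    (hLp : DCoh.IsPerfect (DerivedCategory.Q.obj L)) [DCoh.HasLTensorCx L] (K : DCoh.D X)
    (hK : DCoh.IsPerfect K) : DCoh.IsPerfect ((DCoh.LTensorCx L).obj K) := by
  obtain ⟨P, hP, ⟨eP⟩⟩ := exists_kflat_rep K
  refine isPerfect_of_iso ((LTensorCxIsoLeft' L P hP).symm ≪≫ (DCoh.LTensorCx L).mapIso eP) ?_
  rw [isPerfect_iff] at hK hLp ⊢
  intro x
  obtain ⟨U₁, j₁, _, hx₁, hK₁⟩ := hK x
  obtain ⟨U₂, j₂, _, hx₂, hL₂⟩ := hLp x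
  obtain ⟨V, k₁, k₂, _, _, hxV, h₁, h₂⟩ := exists_common j₁ j₂ hx₁ hx₂
  have hKV : PerfAlong K V.ι := (hK₁.comp k₁).of_eq h₁
  have hLV : PerfAlong (DerivedCategory.Q.obj L) V.ι := (hL₂.comp k₂).of_eq h₂
  refine ⟨V, V.ι, inferInstance, by rw [Scheme.Opens.range_ι]; exact hxV, ?_⟩
  obtain ⟨E₁, hE₁, ⟨e₁⟩⟩ := hKV
  obtain ⟨E₂, hE₂, ⟨e₂⟩⟩ := hLV
  refine ⟨(DCoh.tensorCx.obj E₁).obj E₂, isStrictlyPerfect_tensorCx hE₁ hE₂, ⟨?_⟩⟩
  exact (resDQ V.ι).app _ ≪≫
    DerivedCategory.Q.mapIso (resCxPullIso V.ι _ ≪≫ pullTensorCxIso V.ι P L) ≪≫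
    tensorQCongr ((pullCx V.ι).obj P) E₁ ((pullCx V.ι).obj L) E₂
      (isKFlat_pullCx V.ι P hP) (isKFlat_of_isStrictlyPerfect E₁ hE₁)
      (isKFlat_pullCx V.ι L hL) (isKFlat_of_isStrictlyPerfect E₂ hE₂)
      (DerivedCategory.Q.mapIso (resCxPullIso V.ι P).symm ≪≫ ((resDQ V.ι).app P).symm ≪≫
        (resD V.ι).mapIso eP ≪≫ e₁)
      (DerivedCategory.Q.mapIso (resCxPullIso V.ι L).symm ≪≫ ((resDQ V.ι).app L).symm ≪≫ e₂)

end

end Groth.Agent.Lib.Helper28.PerfTensor
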