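import Mathlib
import Groth.Prelude.Def_ega3
import Groth.Agent.Lib.Helper28.FlatCxRank

/-!
# Base change of complexes `bcCx` (helper28)

* `bcCxCompIso f g P : bcCx (g.comp f) P ≅ bcCx g (bcCx f P)`.
* `homologyBcIso ψ hψ K p : (bcCx ψ K).homology p ≅ (extendScalars ψ).obj (K.homology p)` for flat `ψ`.
* `finrank_homology_bcCx_field`, `finrank_homology_bcCx_comp`: homology dimension and field extensions.
* `dRank_bcCx`: `dRank (bcCx (algebraMap A A') P) p x' = dRank P p (comap x')`.
-/

set_option autoImplicit false
universe u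
open TensorProduct CategoryTheory CategoryTheory.Limits MonoidalCategory CohIII
namespace Groth.Agent.Lib.Helper28.FlatCx

variable {A B C : Type u} [CommRing A] [CommRing B] [CommRing C] {ι : Type} {c : ComplexShape ι}

noncomputable def bcCxCompIso (f : A →+* B) (g : B →+* C)
    (P : HomologicalComplex (ModuleCat.{u} A) c) :
    bcCx (g.comp f) P ≅ bcCx g (bcCx f P) :=
  (NatIso.mapHomologicalComplex (ModuleCat.extendScalarsComp f g) c).app P ≪≫
    HomologicalComplex.Hom.isoOfComponents (fun i => Iso.refl _)
      (by intros; exact (Category.id_comp _).trans (Category.comp_id _).symm)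

noncomputable def homologyBcIso (ψ : B →+* C) (hψ : ψ.Flat)
    (K : HomologicalComplex (ModuleCat.{u} B) c) (p : ι) :
    (bcCx ψ K).homology p ≅ (ModuleCat.extendScalars ψ).obj (K.homology p) :=
  haveI := ModuleCat.preservesFiniteLimits_extendScalars_of_flat hψ
  haveI : PreservesFiniteColimits (ModuleCat.extendScalars.{u, u, u} ψ) :=
    ⟨fun _ _ _ => (ModuleCat.extendRestrictScalarsAdj ψ).leftAdjoint_preservesColimits.1⟩
  (K.sc p).mapHomologyIso (ModuleCat.extendScalars ψ)

theorem finrank_homology_bcCx_field {κ κ' : Type u} [Field κ] [Field κ'] (ψ : κ →+* κ')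
    (K : HomologicalComplex (ModuleCat.{u} κ) c) (p : ι) :
    Module.finrank κ' ((bcCx ψ K).homology p) = Module.finrank κ (K.homology p) := by
  let _ : Algebra κ κ' := ψ.toAlgebra
  have hflat : ψ.Flat := by
    change Module.Flat κ κ'
    infer_instance
  have e1 := (homologyBcIso ψ hflat K p).toLinearEquiv.finrank_eq
  have e2 := (extendScalarsEquiv κ' (K.homology p)).finrank_eq
  have e3 : Module.finrank κ' (κ' ⊗[κ] (K.homology p)) = Module.finrank κ (K.homology p) :=
    Module.finrank_baseChange
  exact e1.trans (e2.trans e3)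

/-- the homology dimension of `P ⊗ L` for a field-valued point `β : A → L` factoring through
`α : A → κ`. -/
theorem finrank_homology_bcCx_comp {κ κ' : Type u} [Field κ] [Field κ'] (α : A →+* κ)
    (ψ : κ →+* κ') (β : A →+* κ') (h : β = ψ.comp α)
    (P : HomologicalComplex (ModuleCat.{u} A) c) (p : ι) :
    Module.finrank κ' ((bcCx β P).homology p) = Module.finrank κ ((bcCx α P).homology p) := by
  subst h
  rw [← finrank_homology_bcCx_field ψ (bcCx α P) p]
  exact ((HomologicalComplex.homologyFunctor _ c p).mapIso
    (bcCxCompIso α ψ P)).toLinearEquiv.finrank_eq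

theorem dRank_bcCx {A' : Type u} [CommRing A'] [Algebra A A']
    (P : HomologicalComplex (ModuleCat.{u} A) c) (p : ι) (x' : PrimeSpectrum A') :
    dRank (bcCx (algebraMap A A') P) p x' =
      dRank P p (PrimeSpectrum.comap (algebraMap A A') x') := by
  unfold dRank
  have h1 := ((HomologicalComplex.homologyFunctor _ c p).mapIso
    (bcCxCompIso (algebraMap A A') (algebraMap A' x'.asIdeal.ResidueField)
      P)).toLinearEquiv.finrank_eq
  refine h1.symm.trans ?_
  refine finrank_homology_bcCx_comp
    (algebraMap A (PrimeSpectrum.comap (algebraMap A A') x').asIdeal.ResidueField)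
    (Ideal.ResidueField.map (PrimeSpectrum.comap (algebraMap A A') x').asIdeal x'.asIdeal
      (algebraMap A A') rfl) _ ?_ P p
  ext a
  exact (Ideal.ResidueField.map_algebraMap _ _ _ _ a).symm

section FaithfullyFlat

variable {A B : Type u} [CommRing A] [CommRing B] [Algebra A B] {ι : Type} {c : ComplexShape ι}

lemma flat_bcCx_X (P : HomologicalComplex (ModuleCat.{u} A) c) (i : ι) [Module.Flat A (P.X i)] :
    Module.Flat B ((bcCx (algebraMap A B) P).X i) :=
  Module.Flat.of_linearEquiv (extendScalarsEquiv B (P.X i))

/-- flatness of the opcycles of the base change. -/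
lemma flat_opcycles_bcCx_iff (P : HomologicalComplex (ModuleCat.{u} A) c) (p : ι) :
    Module.Flat B ((bcCx (algebraMap A B) P).opcycles p) ↔
      Module.Flat B (B ⊗[A] (P.opcycles p)) :=
  Module.Flat.equiv_iff ((opcyclesBcIso (algebraMap A B) P p).toLinearEquiv ≪≫ₗ
      extendScalarsEquiv B (P.opcycles p))

theorem preservesMono_bcCx_iff_of_faithfullyFlat [Module.FaithfullyFlat A B]
    (P : HomologicalComplex (ModuleCat.{u} A) c) (hP : ∀ i, Module.Flat A (P.X i)) (p : ι) :
    (TFun (bcCx (algebraMap A B) P) p).PreservesMonomorphisms ↔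
      (TFun P p).PreservesMonomorphisms := by
  have hPB : ∀ i, Module.Flat B ((bcCx (algebraMap A B) P).X i) := fun i =>
    have := hP i
    flat_bcCx_X P i
  rw [preservesMono_iff_flat_opcycles _ hPB, preservesMono_iff_flat_opcycles _ hP,
    flat_opcycles_bcCx_iff, Module.Flat.iff_flat_tensorProduct]

theorem preservesEpi_bcCx_iff_of_faithfullyFlat [Module.FaithfullyFlat A B]
    (P : HomologicalComplex (ModuleCat.{u} A) c) (hP : ∀ i, Module.Flat A (P.X i)) (p q : ι)
    (hpq : c.Rel p q) :
    (TFun (bcCx (algebraMap A B) P) p).PreservesEpimorphisms ↔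
      (TFun P p).PreservesEpimorphisms := by
  have hPB : ∀ i, Module.Flat B ((bcCx (algebraMap A B) P).X i) := fun i =>
    have := hP i
    flat_bcCx_X P i
  rw [preservesEpi_iff_preservesMono_of_rel _ hPB p q hpq,
    preservesEpi_iff_preservesMono_of_rel _ hP p q hpq,
    preservesMono_bcCx_iff_of_faithfullyFlat P hP q]

end FaithfullyFlat

section LocalizationLocus

variable {A : Type u} [CommRing A] {ι : Type} {c : ComplexShape ι}

theorem preservesEpi_bcCx_localization_iff
    (P : HomologicalComplex (ModuleCat.{u} A) c)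
    (hP : ∀ i, Module.Finite A (P.X i) ∧ Module.Flat A (P.X i)) (p q : ι) (hpq : c.Rel p q)
    (y : PrimeSpectrum A) :
    (TFun (bcCx (algebraMap A (Localization.AtPrime y.asIdeal)) P) p).PreservesEpimorphisms ↔
      y ∈ Module.freeLocus A (P.opcycles q) := by
  have hPB : ∀ i, Module.Flat (Localization.AtPrime y.asIdeal)
      ((bcCx (algebraMap A (Localization.AtPrime y.asIdeal)) P).X i) := fun i =>
    have := (hP i).2
    flat_bcCx_X P i
  have hfin : Module.Finite A (P.opcycles q) :=
    have := (hP q).1
    finite_opcycles P q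
  rw [preservesEpi_iff_preservesMono_of_rel _ hPB p q hpq, preservesMono_iff_flat_opcycles _ hPB,
    flat_opcycles_bcCx_iff, Module.mem_freeLocus_iff_tensor y (Localization.AtPrime y.asIdeal)]
  constructor
  · intro h
    exact Module.free_of_flat_of_isLocalRing
  · intro h
    exact Module.Flat.of_free

theorem isOpen_preservesEpi_locus [IsNoetherianRing A]
    (P : HomologicalComplex (ModuleCat.{u} A) c)
    (hP : ∀ i, Module.Finite A (P.X i) ∧ Module.Flat A (P.X i)) (p q : ι) (hpq : c.Rel p q) :
    IsOpen {y : PrimeSpectrum A |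
      (TFun (bcCx (algebraMap A (Localization.AtPrime y.asIdeal)) P) p).PreservesEpimorphisms} := by
  have hfin : Module.Finite A (P.opcycles q) :=
    have := (hP q).1
    finite_opcycles P q
  have : Module.FinitePresentation A (P.opcycles q) := Module.finitePresentation_of_finite A _
  have h : {y : PrimeSpectrum A |
      (TFun (bcCx (algebraMap A (Localization.AtPrime y.asIdeal)) P) p).PreservesEpimorphisms} =
      Module.freeLocus A (P.opcycles q) :=
    Set.ext fun y => preservesEpi_bcCx_localization_iff P hP p q hpq y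
  rw [h]
  exact Module.isOpen_freeLocus

end LocalizationLocus

section AnyBaseChange

variable {A B : Type u} [CommRing A] [CommRing B] [Algebra A B] {ι : Type} {c : ComplexShape ι}

/-- left exactness of `T_p` is stable under any base change. -/
theorem preservesMono_bcCx_of_preservesMono
    (P : HomologicalComplex (ModuleCat.{u} A) c) (hP : ∀ i, Module.Flat A (P.X i)) (p : ι)
    (h : (TFun P p).PreservesMonomorphisms) :
    (TFun (bcCx (algebraMap A B) P) p).PreservesMonomorphisms := by
  have hPB : ∀ i, Module.Flat B ((bcCx (algebraMap A B) P).X i) := fun i =>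
    have := hP i
    flat_bcCx_X P i
  rw [preservesMono_iff_flat_opcycles _ hPB, flat_opcycles_bcCx_iff]
  have := (preservesMono_iff_flat_opcycles _ hP p).mp h
  infer_instance

/-- right exactness of `T_p` is stable under any base change. -/
theorem preservesEpi_bcCx_of_preservesEpi
    (P : HomologicalComplex (ModuleCat.{u} A) c) (hP : ∀ i, Module.Flat A (P.X i)) (p q : ι)
    (hpq : c.Rel p q) (h : (TFun P p).PreservesEpimorphisms) :
    (TFun (bcCx (algebraMap A B) P) p).PreservesEpimorphisms := by
  have hPB : ∀ i, Module.Flat B ((bcCx (algebraMap A B) P).X i) := fun i =>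
    have := hP i
    flat_bcCx_X P i
  rw [preservesEpi_iff_preservesMono_of_rel _ hPB p q hpq]
  exact preservesMono_bcCx_of_preservesMono P hP q
    ((preservesEpi_iff_preservesMono_of_rel _ hP p q hpq).mp h)

end AnyBaseChange

end Groth.Agent.Lib.Helper28.FlatCx
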