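import Mathlib.LinearAlgebra.Matrix.ToLin
import Mathlib.Data.Real.Basic
import Mathlib.Algebra.Module.Submodule.Ker
import Mathlib.LinearAlgebra.Matrix.Symmetric
import Mathlib.Tactic

set_option autoImplicit false
open Finset

namespace Groth.Agent.Lib.Helper28

variable {ι : Type*} [Fintype ι]

/-- The basic identity: for symmetric `A`, with `x i = m i * y i`,
`xᵀ A x = ∑ i, (A m) i * m i * y i ^ 2 - (1/2) ∑ i j, A i j * m i * m j * (y i - y j) ^ 2`. -/
theorem quad_identity (A : Matrix ι ι ℝ) (hsymm : A.IsSymm) (m y : ι → ℝ) :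
    dotProduct (fun i => m i * y i) (A.mulVec (fun i => m i * y i)) =
      ∑ i, (A.mulVec m) i * m i * y i ^ 2
        - (1 / 2) * ∑ i, ∑ j, A i j * m i * m j * (y i - y j) ^ 2 := by
  have hs : ∀ i j, A j i = A i j := fun i j => hsymm.apply i j
  have h1 : ∑ i, ∑ j, A i j * m i * m j * y j ^ 2 = ∑ i, ∑ j, A i j * m i * m j * y i ^ 2 := by
    rw [Finset.sum_comm]
    refine Finset.sum_congr rfl fun i _ => Finset.sum_congr rfl fun j _ => ?_
    rw [hs i j]; ring
  have h2 : dotProduct (fun i => m i * y i) (A.mulVec (fun i => m i * y i)) =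
      ∑ i, ∑ j, A i j * m i * m j * (y i * y j) := by
    simp only [dotProduct, Matrix.mulVec, Finset.mul_sum]
    refine Finset.sum_congr rfl fun i _ => Finset.sum_congr rfl fun j _ => ?_
    ring
  have h3 : ∑ i, (A.mulVec m) i * m i * y i ^ 2 = ∑ i, ∑ j, A i j * m i * m j * y i ^ 2 := by
    simp only [dotProduct, Matrix.mulVec, Finset.sum_mul]
    refine Finset.sum_congr rfl fun i _ => Finset.sum_congr rfl fun j _ => ?_
    ring
  have h4 : ∑ i, ∑ j, A i j * m i * m j * (y i - y j) ^ 2 =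
      ∑ i, ∑ j, A i j * m i * m j * y i ^ 2 - 2 * ∑ i, ∑ j, A i j * m i * m j * (y i * y j)
        + ∑ i, ∑ j, A i j * m i * m j * y j ^ 2 := by
    simp only [Finset.mul_sum, ← Finset.sum_sub_distrib, ← Finset.sum_add_distrib]
    refine Finset.sum_congr rfl fun i _ => Finset.sum_congr rfl fun j _ => ?_
    ring
  rw [h2, h3, h4, h1]; ring


/-- Rewrite of the "row" hypothesis as `(A m) i ≤ 0`. -/
theorem mulVec_eq_erase [DecidableEq ι] (A : Matrix ι ι ℝ) (m : ι → ℝ) (i : ι) :
    (A.mulVec m) i = ∑ j ∈ univ.erase i, A i j * m j + A i i * m i := by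
  simp only [Matrix.mulVec, dotProduct]
  rw [Finset.sum_erase_add _ _ (Finset.mem_univ i)]

section
variable (A : Matrix ι ι ℝ) (m : ι → ℝ) (hsymm : A.IsSymm)
  (hA : ∀ i j, i ≠ j → 0 ≤ A i j) (hm : ∀ i, 0 < m i) (hle : ∀ i, (A.mulVec m) i ≤ 0)
include hsymm hA hm hle

theorem quad_aux (x : ι → ℝ) :
    dotProduct x (A.mulVec x) ≤ 0 ∧ (dotProduct x (A.mulVec x) = 0 →
      (∀ i, (A.mulVec m) i = 0 ∨ x i = 0) ∧ ∀ i j, A i j = 0 ∨ x i / m i = x j / m j) := by
  classical
  set y : ι → ℝ := fun i => x i / m i with hy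
  have hx : x = fun i => m i * y i := by
    funext i; simp only [hy]; field_simp [(hm i).ne']
  have hid := quad_identity A hsymm m y
  rw [← hx] at hid
  have t1 : ∀ i ∈ (univ : Finset ι), (A.mulVec m) i * m i * y i ^ 2 ≤ 0 := fun i _ =>
    mul_nonpos_of_nonpos_of_nonneg (mul_nonpos_of_nonpos_of_nonneg (hle i) (hm i).le) (sq_nonneg _)
  have t2 : ∀ i ∈ (univ : Finset ι), ∀ j ∈ (univ : Finset ι),
      0 ≤ A i j * m i * m j * (y i - y j) ^ 2 := by
    intro i _ j _
    by_cases hij : i = j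
    · subst hij; simp
    · exact mul_nonneg (mul_nonneg (mul_nonneg (hA i j hij) (hm i).le) (hm j).le) (sq_nonneg _)
  have T1 : ∑ i, (A.mulVec m) i * m i * y i ^ 2 ≤ 0 := Finset.sum_nonpos t1
  have t2' : ∀ i ∈ (univ : Finset ι), 0 ≤ ∑ j, A i j * m i * m j * (y i - y j) ^ 2 :=
    fun i hi => Finset.sum_nonneg (t2 i hi)
  have T2 : 0 ≤ ∑ i, ∑ j, A i j * m i * m j * (y i - y j) ^ 2 := Finset.sum_nonneg t2'
  refine ⟨by rw [hid]; linarith, fun h0 => ?_⟩
  rw [hid] at h0
  have T1' : ∑ i, (A.mulVec m) i * m i * y i ^ 2 = 0 := by linarith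
  have T2' : ∑ i, ∑ j, A i j * m i * m j * (y i - y j) ^ 2 = 0 := by linarith
  rw [Finset.sum_eq_zero_iff_of_nonpos t1] at T1'
  rw [Finset.sum_eq_zero_iff_of_nonneg t2'] at T2'
  refine ⟨fun i => ?_, fun i j => ?_⟩
  · have := T1' i (Finset.mem_univ i)
    rcases mul_eq_zero.mp this with h | h
    · rcases mul_eq_zero.mp h with h | h
      · exact Or.inl h
      · exact absurd h (hm i).ne'
    · right
      have hyi : y i = 0 := by simpa using h
      rw [hx]; simp [hyi]
  · have := T2' i (Finset.mem_univ i)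
    rw [Finset.sum_eq_zero_iff_of_nonneg (t2 i (Finset.mem_univ i))] at this
    have := this j (Finset.mem_univ j)
    rcases mul_eq_zero.mp this with h | h
    · rcases mul_eq_zero.mp h with h | h
      · rcases mul_eq_zero.mp h with h | h
        · exact Or.inl h
        · exact absurd h (hm i).ne'
      · exact absurd h (hm j).ne'
    · right
      have : y i - y j = 0 := by simpa using h
      exact sub_eq_zero.mp this

end

end Groth.Agent.Lib.Helper28
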