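import Mathlib

/-!
# Chevalley's lemma for complete Noetherian local rings
-/

set_option autoImplicit false
universe u

namespace Groth.Agent.Lib.Helper28.Chevalley

open IsLocalRing

variable {R : Type u} [CommRing R] [IsNoetherianRing R] [IsLocalRing R]

lemma isArtinianRing_quotient_pow (t : ℕ) : IsArtinianRing (R ⧸ maximalIdeal R ^ t) := by
  rcases Nat.eq_zero_or_pos t with rfl | ht
  · have : Subsingleton (R ⧸ maximalIdeal R ^ 0) := by
      rw [pow_zero, Ideal.one_eq_top]; exact Ideal.Quotient.subsingleton_iff.2 rfl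
    infer_instance
  · apply IsLocalRing.quotient_artinian_of_mem_minimalPrimes_of_isLocalRing
    refine ⟨⟨inferInstance, Ideal.pow_le_self ht.ne'⟩, fun q hq hqm => ?_⟩
    haveI := hq.1
    exact Ideal.IsPrime.le_of_pow_le hq.2

lemma exists_stable (I : ℕ → Ideal R) (hI : Antitone I) (t : ℕ) :
    ∃ s0, ∀ s, s0 ≤ s → I s0 ⊔ maximalIdeal R ^ t = I s ⊔ maximalIdeal R ^ t := by
  haveI := isArtinianRing_quotient_pow (R := R) t
  let qs : ℕ →o (Ideal (R ⧸ maximalIdeal R ^ t))ᵒᵈ :=
    { toFun s := (I s).map (Ideal.Quotient.mk _)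
      monotone' i j e := Ideal.map_mono (hI e) }
  obtain ⟨s0, hs0⟩ := IsArtinian.monotone_stabilizes qs
  refine ⟨s0, fun s hs => ?_⟩
  have h1 : (I s0).map (Ideal.Quotient.mk (maximalIdeal R ^ t)) =
      (I s).map (Ideal.Quotient.mk (maximalIdeal R ^ t)) := hs0 s hs
  have key : ∀ s, I s ⊔ maximalIdeal R ^ t =
      ((I s).map (Ideal.Quotient.mk (maximalIdeal R ^ t))).comap (Ideal.Quotient.mk _) := by
    intro s
    rw [Ideal.comap_map_of_surjective _ Ideal.Quotient.mk_surjective, ← RingHom.ker_eq_comap_bot,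
      Ideal.mk_ker]
  rw [key, key, h1]

lemma iInf_sup_pow_eq (J : Ideal R) : ⨅ t, (J ⊔ maximalIdeal R ^ t) = J := by
  refine le_antisymm (fun x hx => ?_) (le_iInf fun t => le_sup_left)
  have hH : IsHausdorff (maximalIdeal R) (R ⧸ J) := inferInstance
  have h0 : (Ideal.Quotient.mk J x) = 0 := by
    apply hH.haus'
    intro n
    rw [SModEq.zero]
    have hx' := (Submodule.mem_iInf _).1 hx n
    obtain ⟨j, hj, y, hy, rfl⟩ := Submodule.mem_sup.1 hx'
    rw [map_add, Ideal.Quotient.eq_zero_iff_mem.2 hj, zero_add]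
    have h2 : Ideal.Quotient.mk J y = y • (1 : R ⧸ J) := by
      rw [Algebra.smul_def, mul_one]; rfl
    rw [h2]
    exact Submodule.smul_mem_smul hy Submodule.mem_top
  exact Ideal.Quotient.eq_zero_iff_mem.1 h0

lemma le_iInf_sup_pow [IsAdicComplete (maximalIdeal R) R] (J : ℕ → Ideal R)
    (hanti : Antitone J) (hm : ∀ t, maximalIdeal R ^ t ≤ J t)
    (hstep : ∀ t, J t ≤ J (t + 1) ⊔ maximalIdeal R ^ t) (k : ℕ) :
    J k ≤ (⨅ t, J t) ⊔ maximalIdeal R ^ k := by
  intro x hx
  have hstep' : ∀ (i : ℕ) (z : R), z ∈ J (k + i) →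
      ∃ z', z' ∈ J (k + i + 1) ∧ z' - z ∈ maximalIdeal R ^ (k + i) := by
    intro i z hz
    obtain ⟨a, ha, b, hb, rfl⟩ := Submodule.mem_sup.1 (hstep _ hz)
    refine ⟨a, ha, ?_⟩
    have : a - (a + b) = -b := by ring
    rw [this]
    exact neg_mem hb
  choose! nxt hnxt1 hnxt2 using hstep'
  let y : ℕ → R := fun i => Nat.rec x (fun i z => nxt i z) i
  have hy : ∀ i, y i ∈ J (k + i) := by
    intro i
    induction i with
    | zero => exact hx
    | succ i ih => exact hnxt1 i _ ih
  have hy2 : ∀ i, y (i + 1) - y i ∈ maximalIdeal R ^ (k + i) := fun i => hnxt2 i _ (hy i)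
  let f : ℕ → R := fun t => y (t - k)
  have hf : ∀ t, f (t + 1) - f t ∈ maximalIdeal R ^ t := by
    intro t
    by_cases h : t < k
    · have e : t + 1 - k = t - k := by omega
      simp only [f, e, sub_self]
      exact zero_mem _
    · rw [not_lt] at h
      have e : t + 1 - k = (t - k) + 1 := by omega
      have h3 := hy2 (t - k)
      have e2 : k + (t - k) = t := by omega
      rw [e2] at h3
      simp only [f, e]
      exact h3
  have hc : ∀ {a b : ℕ}, a ≤ b →
      f a ≡ f b [SMOD (maximalIdeal R ^ a • ⊤ : Submodule R R)] := by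
    intro a b hab
    induction b, hab using Nat.le_induction with
    | base => rfl
    | succ b hab ih =>
      refine ih.trans ?_
      rw [SModEq.sub_mem, smul_eq_mul, Ideal.mul_top]
      have h4 := Ideal.pow_le_pow_right hab (hf b)
      have : f b - f (b + 1) = -(f (b + 1) - f b) := by ring
      rw [this]
      exact neg_mem h4
  obtain ⟨L, hL⟩ := IsPrecomplete.prec' (I := maximalIdeal R) f hc
  have hL' : ∀ t, f t - L ∈ maximalIdeal R ^ t := by
    intro t
    have := hL t
    rwa [SModEq.sub_mem, smul_eq_mul, Ideal.mul_top] at this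
  have hLJ : ∀ t, k ≤ t → L ∈ J t := by
    intro t ht
    have h5 : f t ∈ J t := by
      have := hy (t - k)
      have e2 : k + (t - k) = t := by omega
      rwa [e2] at this
    have : L = f t - (f t - L) := by ring
    rw [this]
    exact sub_mem h5 (hm t (hL' t))
  have hLinf : L ∈ ⨅ t, J t := by
    rw [Submodule.mem_iInf]
    intro t
    rcases le_total k t with h | h
    · exact hLJ t h
    · exact hanti h (hLJ k le_rfl)
  have hxL : x - L ∈ maximalIdeal R ^ k := by
    have := hL' k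
    simpa [f, y] using this
  have : x = L + (x - L) := by ring
  rw [this]
  exact Submodule.add_mem_sup hLinf hxL

/-- **Chevalley's lemma.** -/
theorem chevalley [IsAdicComplete (maximalIdeal R) R] (I : ℕ → Ideal R) (hI : Antitone I)
    (hinf : ⨅ s, I s = ⊥) (n : ℕ) : ∃ s : ℕ, I s ≤ maximalIdeal R ^ n := by
  set J : ℕ → Ideal R := fun t => ⨅ s, (I s ⊔ maximalIdeal R ^ t) with hJ
  have hanti : Antitone J := fun a b hab =>
    iInf_mono fun s => sup_le_sup_left (Ideal.pow_le_pow_right hab) _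
  have hm : ∀ t, maximalIdeal R ^ t ≤ J t := fun t => le_iInf fun s => le_sup_right
  have hstab : ∀ t, ∃ s0, J t = I s0 ⊔ maximalIdeal R ^ t := by
    intro t
    obtain ⟨s0, hs0⟩ := exists_stable I hI t
    refine ⟨s0, le_antisymm (iInf_le _ s0) (le_iInf fun s => ?_)⟩
    rcases le_total s0 s with h | h
    · rw [hs0 s h]
    · exact sup_le_sup_right (hI h) _
  have hstep : ∀ t, J t ≤ J (t + 1) ⊔ maximalIdeal R ^ t := by
    intro t
    obtain ⟨s1, h1⟩ := hstab (t + 1)
    calc J t ≤ I s1 ⊔ maximalIdeal R ^ t := iInf_le _ s1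
      _ ≤ (I s1 ⊔ maximalIdeal R ^ (t + 1)) ⊔ maximalIdeal R ^ t :=
          sup_le (le_sup_left.trans le_sup_left) le_sup_right
      _ = J (t + 1) ⊔ maximalIdeal R ^ t := by rw [h1]
  have hJinf : ⨅ t, J t = ⊥ := by
    simp only [hJ]
    rw [iInf_comm]
    simp_rw [iInf_sup_pow_eq]
    exact hinf
  have h6 := le_iInf_sup_pow J hanti hm hstep n
  rw [hJinf, bot_sup_eq] at h6
  obtain ⟨s0, h0⟩ := hstab n
  exact ⟨s0, (le_sup_left.trans h0.ge).trans h6⟩

end Groth.Agent.Lib.Helper28.Chevalley
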