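import Mathlib
import Groth.Agent.Lib.Lead.ModHomology

/-!
# Homology of complexes of modules commutes with filtered colimits
-/

set_option autoImplicit false
universe u
open CategoryTheory CategoryTheory.Limits

namespace Groth.Agent.Lib.Helper28.HomologyFiltered

open Groth.Agent.Lib.Lead.ModHomology

variable {R : Type u} [Ring R]

section Recognition

variable {J : Type u} [SmallCategory J] [IsFiltered J] {G : J ⥤ ModuleCat.{u} R}

theorem exists_rep {D : Cocone G} (hD : IsColimit D) (x : D.pt) :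
    ∃ (j : J) (y : G.obj j), (D.ι.app j).hom y = x :=
  Concrete.isColimit_exists_rep G hD x

theorem exists_map_eq_zero {D : Cocone G} (hD : IsColimit D) (j : J) (y : G.obj j)
    (h : (D.ι.app j).hom y = 0) : ∃ (k : J) (f : j ⟶ k), (G.map f).hom y = 0 := by
  have h2 : (D.ι.app j) y = (D.ι.app j) (0 : G.obj j) := by
    rw [map_zero]; exact h
  obtain ⟨k, f, g, hfg⟩ := (Concrete.isColimit_rep_eq_iff_exists G hD y (0 : G.obj j)).1 h2
  refine ⟨k, f, ?_⟩
  rw [map_zero] at hfg
  exact hfg

theorem nonempty_isColimit (D : Cocone G)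
    (hsurj : ∀ x : D.pt, ∃ (j : J) (y : G.obj j), (D.ι.app j).hom y = x)
    (hinj : ∀ (j : J) (y : G.obj j), (D.ι.app j).hom y = 0 →
      ∃ (k : J) (f : j ⟶ k), (G.map f).hom y = 0) : Nonempty (IsColimit D) := by
  refine ⟨isColimitOfReflects (forget (ModuleCat.{u} R)) ?_⟩
  refine Types.FilteredColimit.isColimitOf' _ _ ?_ ?_
  · intro x
    obtain ⟨j, y, hy⟩ := hsurj x
    exact ⟨j, y, hy.symm⟩
  · intro i x y hxy
    have hxy' : (D.ι.app i).hom x = (D.ι.app i).hom y := hxy
    obtain ⟨k, f, hf⟩ := hinj i (x - y) (by rw [map_sub, hxy', sub_self])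
    refine ⟨k, f, ?_⟩
    rw [map_sub, sub_eq_zero] at hf
    exact hf

end Recognition

section cls

variable (S : ShortComplex (ModuleCat.{u} R))

/-- homology as the explicit quotient -/
noncomputable def hEquiv :
    S.homology ≃ₗ[R] (LinearMap.ker S.g.hom ⧸ LinearMap.range S.moduleCatToCycles) :=
  S.moduleCatLeftHomologyData.homologyIso.toLinearEquiv

/-- the homology class of a cycle -/
noncomputable def cls (z : LinearMap.ker S.g.hom) : S.homology :=
  (hEquiv S).symm (Submodule.Quotient.mk z)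

theorem cls_surjective : Function.Surjective (cls S) := by
  intro x
  obtain ⟨z, hz⟩ := Submodule.Quotient.mk_surjective _ (hEquiv S x)
  refine ⟨z, ?_⟩
  unfold cls
  rw [hz, LinearEquiv.symm_apply_apply]

theorem cls_eq_zero_iff (z : LinearMap.ker S.g.hom) :
    cls S z = 0 ↔ ∃ w : S.X₁, S.f.hom w = (z : S.X₂) := by
  rw [← mk_eq_zero_iff]
  unfold cls
  rw [LinearEquiv.map_eq_zero_iff]

variable {S} in
theorem hEquiv_homologyMap {S' : ShortComplex (ModuleCat.{u} R)} (φ : S ⟶ S')
    (x : S.homology) :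
    hEquiv S' ((ShortComplex.homologyMap φ).hom x) = hmap φ (hEquiv S x) := by
  have h := (data φ).homologyMap_comm
  exact congrArg (fun f => f.hom x) h

variable {S} in
theorem homologyMap_cls {S' : ShortComplex (ModuleCat.{u} R)} (φ : S ⟶ S')
    (z : LinearMap.ker S.g.hom) :
    (ShortComplex.homologyMap φ).hom (cls S z) = cls S' (kmap φ z) := by
  apply (hEquiv S').injective
  rw [hEquiv_homologyMap]
  unfold cls
  rw [LinearEquiv.apply_symm_apply, LinearEquiv.apply_symm_apply, hmap_mk]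

end cls

section Main

variable {J : Type u} [SmallCategory J] [IsFiltered J]

theorem nonempty_isColimit_homology {K : J ⥤ ShortComplex (ModuleCat.{u} R)} (c : Cocone K)
    (hc : IsColimit c) :
    Nonempty (IsColimit ((ShortComplex.homologyFunctor (ModuleCat.{u} R)).mapCocone c)) := by
  have h1 : IsColimit ((ShortComplex.π₁ : ShortComplex (ModuleCat.{u} R) ⥤ _).mapCocone c) :=
    isColimitOfPreserves _ hc
  have h2 : IsColimit ((ShortComplex.π₂ : ShortComplex (ModuleCat.{u} R) ⥤ _).mapCocone c) :=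
    isColimitOfPreserves _ hc
  have h3 : IsColimit ((ShortComplex.π₃ : ShortComplex (ModuleCat.{u} R) ⥤ _).mapCocone c) :=
    isColimitOfPreserves _ hc
  let φ : ∀ j, K.obj j ⟶ c.pt := fun j => c.ι.app j
  have hw2 : ∀ {j k : J} (f : j ⟶ k) (y : (K.obj j).X₂),
      (φ k).τ₂.hom ((K.map f).τ₂.hom y) = (φ j).τ₂.hom y := by
    intro j k f y
    have := c.w f
    change (K.map f ≫ φ k).τ₂.hom y = _
    rw [this]
  have hw1 : ∀ {j k : J} (f : j ⟶ k) (y : (K.obj j).X₁),
      (φ k).τ₁.hom ((K.map f).τ₁.hom y) = (φ j).τ₁.hom y := by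
    intro j k f y
    have := c.w f
    change (K.map f ≫ φ k).τ₁.hom y = _
    rw [this]
  apply nonempty_isColimit
  · intro x
    obtain ⟨z, rfl⟩ := cls_surjective _ x
    obtain ⟨j, y, hy⟩ := exists_rep h2 (z : c.pt.X₂)
    have hy' : (φ j).τ₂.hom y = (z : c.pt.X₂) := hy
    have hg : (φ j).τ₃.hom ((K.obj j).g.hom y) = 0 := by
      rw [← comm₂₃_apply, hy']
      exact z.2
    obtain ⟨k, f, hf⟩ := exists_map_eq_zero h3 j ((K.obj j).g.hom y) hg
    have hf' : (K.map f).τ₃.hom ((K.obj j).g.hom y) = 0 := hf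
    have hmem : (K.map f).τ₂.hom y ∈ LinearMap.ker (K.obj k).g.hom := by
      rw [LinearMap.mem_ker, comm₂₃_apply, hf']
    refine ⟨k, cls _ ⟨_, hmem⟩, ?_⟩
    change (ShortComplex.homologyMap (φ k)).hom _ = _
    rw [homologyMap_cls]
    congr 1
    apply Subtype.ext
    rw [kmap_coe]
    change (φ k).τ₂.hom ((K.map f).τ₂.hom y) = _
    rw [hw2, hy']
  · intro j y hy
    obtain ⟨z, rfl⟩ := cls_surjective _ y
    have hy' : (ShortComplex.homologyMap (φ j)).hom (cls _ z) = 0 := hy
    rw [homologyMap_cls, cls_eq_zero_iff] at hy'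
    obtain ⟨w, hw⟩ : ∃ w : c.pt.X₁, c.pt.f.hom w = (φ j).τ₂.hom (z : (K.obj j).X₂) := hy'
    obtain ⟨j', w', hw'⟩ := exists_rep h1 w
    have hw'' : (φ j').τ₁.hom w' = w := hw'
    let m := IsFiltered.max j j'
    let a : j ⟶ m := IsFiltered.leftToMax j j'
    let b : j' ⟶ m := IsFiltered.rightToMax j j'
    obtain ⟨e, he⟩ : ∃ e : (K.obj m).X₂,
      e = (K.map a).τ₂.hom (z : (K.obj j).X₂) - (K.obj m).f.hom ((K.map b).τ₁.hom w') := ⟨_, rfl⟩
    have hze : (φ m).τ₂.hom e = 0 := by
      rw [he, map_sub, hw2, ← comm₁₂_apply, hw1, hw'', hw, sub_self]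
    obtain ⟨n, g, hg⟩ := exists_map_eq_zero h2 m e hze
    have hg' : (K.map g).τ₂.hom e = 0 := hg
    refine ⟨n, a ≫ g, ?_⟩
    change (ShortComplex.homologyMap (K.map (a ≫ g))).hom _ = 0
    rw [homologyMap_cls, cls_eq_zero_iff]
    refine ⟨(K.map (b ≫ g)).τ₁.hom w', ?_⟩
    rw [kmap_coe, comm₁₂_apply]
    rw [he, map_sub, sub_eq_zero, ← comm₁₂_apply] at hg'
    rw [K.map_comp, K.map_comp]
    change _ = (K.map g).τ₂.hom ((K.map a).τ₂.hom _)
    rw [hg', ← comm₁₂_apply]
    rfl

instance preservesColimitsOfShape_homologyFunctor :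
    PreservesColimitsOfShape J (ShortComplex.homologyFunctor (ModuleCat.{u} R)) where
  preservesColimit := ⟨fun hc => nonempty_isColimit_homology _ hc⟩

end Main

section Complex

variable {J : Type u} [SmallCategory J] [IsFiltered J] {ι : Type*} (c : ComplexShape ι)

instance preservesColimitsOfShape_shortComplexFunctor (i : ι) :
    PreservesColimitsOfShape J
      (HomologicalComplex.shortComplexFunctor (ModuleCat.{u} R) c i) where
  preservesColimit {K} := ⟨fun {cc} hc => ⟨ShortComplex.isColimitOfIsColimitπ _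
    (isColimitOfPreserves (HomologicalComplex.eval _ c (c.prev i)) hc)
    (isColimitOfPreserves (HomologicalComplex.eval _ c i) hc)
    (isColimitOfPreserves (HomologicalComplex.eval _ c (c.next i)) hc)⟩⟩

instance preservesColimitsOfShape_hc_homologyFunctor (i : ι) :
    PreservesColimitsOfShape J
      (HomologicalComplex.homologyFunctor (ModuleCat.{u} R) c i) :=
  preservesColimitsOfShape_of_natIso (HomologicalComplex.homologyFunctorIso _ c i).symm

end Complex

end Groth.Agent.Lib.Helper28.HomologyFiltered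


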