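import Mathlib
import Groth.Prelude.Def_ega3
import Groth.Agent.Lib.Helper28.FlatCx

/-!
# Flatness of homology / opcycles along a complex of flat modules (helper28)

* `flat_of_flat_of_flat`: an extension of a flat module by a flat module is flat.
* `flat_range_fromOpcycles`: the boundaries `B_q = im (W_p → P_q)` are flat if `P_q`, `W_q` are.
* `flat_homology_of_flat_opcycles`, `flat_opcycles_of_flat_homology`.
* `TAIso P q : (TFun P q).obj (ModuleCat.of A A) ≅ P.homology q`.
-/

set_option autoImplicit false
universe u

namespace Groth.Agent.Lib.Helper28.FlatCx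

open CategoryTheory CategoryTheory.Limits MonoidalCategory CohIII TensorProduct Function

variable {A : Type u} [CommRing A] {ι : Type} {c : ComplexShape ι}

/-- an extension of a flat module by a flat module is flat. -/
lemma flat_of_flat_of_flat {H W B : Type u} [AddCommGroup H] [Module A H] [AddCommGroup W]
    [Module A W] [AddCommGroup B] [Module A B] (i : H →ₗ[A] W) (π : W →ₗ[A] B)
    (hi : Injective i) (hπ : Surjective π) (hex : Exact i π) [Module.Flat A H] [Module.Flat A B] :
    Module.Flat A W := by
  rw [Module.Flat.iff_lTensor_preserves_injective_linearMap]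
  intro N N' _ _ _ _ f hf
  have hexN : Exact (i.rTensor N) (π.rTensor N) := rTensor_exact N hex hπ
  have hiN' : Injective (i.rTensor N') := by
    rw [← LinearMap.lTensor_inj_iff_rTensor_inj]
    exact LinearMap.lTensor_injective_of_exact_of_flat π hπ i hi hex N'
  have hH : Injective (f.lTensor H) := Module.Flat.lTensor_preserves_injective_linearMap f hf
  have hB : Injective (f.lTensor B) := Module.Flat.lTensor_preserves_injective_linearMap f hf
  have c1 : (i.rTensor N') ∘ₗ (f.lTensor H) = (f.lTensor W) ∘ₗ (i.rTensor N) := by
    rw [LinearMap.rTensor_comp_lTensor, LinearMap.lTensor_comp_rTensor]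
  have c2 : (π.rTensor N') ∘ₗ (f.lTensor W) = (f.lTensor B) ∘ₗ (π.rTensor N) := by
    rw [LinearMap.rTensor_comp_lTensor, LinearMap.lTensor_comp_rTensor]
  rw [injective_iff_map_eq_zero]
  intro z hz
  have h1 : (π.rTensor N) z = 0 := by
    apply hB
    rw [map_zero, ← LinearMap.comp_apply, ← c2, LinearMap.comp_apply, hz, map_zero]
  obtain ⟨y, rfl⟩ := (hexN z).mp h1
  have h2 : (f.lTensor H) y = 0 := by
    apply hiN'
    rw [map_zero, ← LinearMap.comp_apply, c1, LinearMap.comp_apply, hz]
  have h3 : y = 0 := hH (by rw [h2, map_zero])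
  rw [h3, map_zero]

section Boundaries

variable (P : HomologicalComplex (ModuleCat.{u} A) c) (p q : ι)

/-- the boundaries `im (W_p → P_q)` are flat when `P_q` and `W_q` are. -/
lemma flat_range_fromOpcycles (hpq : c.Rel p q) [Module.Flat A (P.X q)]
    [Module.Flat A (P.opcycles q)] :
    Module.Flat A (LinearMap.range (P.fromOpcycles p q).hom) := by
  refine flat_of_exact_of_flat (LinearMap.range (P.fromOpcycles p q).hom).subtype
    (P.pOpcycles q).hom (Submodule.injective_subtype _) (pOpcycles_surjective P q) ?_
  have h := exact_fromOpcycles_pOpcycles P p q (c.prev_eq' hpq)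
  intro y
  rw [h y]
  constructor
  · rintro ⟨w, rfl⟩; exact ⟨⟨_, w, rfl⟩, rfl⟩
  · rintro ⟨⟨_, w, rfl⟩, rfl⟩; exact ⟨w, rfl⟩

lemma exact_homologyι_rangeRestrict (hpq : c.Rel p q) :
    Exact (P.homologyι p).hom (P.fromOpcycles p q).hom.rangeRestrict := by
  have h := exact_homologyι_fromOpcycles P p q (c.next_eq' hpq)
  intro w
  rw [← h w]
  constructor
  · intro h'; exact congrArg Subtype.val h'
  · intro h'; exact Subtype.ext h'

/-- `H_p` is flat when `P_q`, `W_q`, `W_p` are. -/
lemma flat_homology_of_flat_opcycles (hpq : c.Rel p q) [Module.Flat A (P.X q)]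
    [Module.Flat A (P.opcycles q)] [Module.Flat A (P.opcycles p)] :
    Module.Flat A (P.homology p) := by
  have := flat_range_fromOpcycles P p q hpq
  exact flat_of_exact_of_flat (P.homologyι p).hom (P.fromOpcycles p q).hom.rangeRestrict
    (homologyι_injective P p) (LinearMap.surjective_rangeRestrict _)
    (exact_homologyι_rangeRestrict P p q hpq)

/-- `W_p` is flat when `P_q`, `W_q`, `H_p` are. -/
lemma flat_opcycles_of_flat_homology (hpq : c.Rel p q) [Module.Flat A (P.X q)]
    [Module.Flat A (P.opcycles q)] [Module.Flat A (P.homology p)] :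
    Module.Flat A (P.opcycles p) := by
  have := flat_range_fromOpcycles P p q hpq
  exact flat_of_flat_of_flat (P.homologyι p).hom (P.fromOpcycles p q).hom.rangeRestrict
    (homologyι_injective P p) (LinearMap.surjective_rangeRestrict _)
    (exact_homologyι_rangeRestrict P p q hpq)

/-- `P ⊗ A ≅ P`. -/
noncomputable def tensorObjUnitIso : tensorObj P (ModuleCat.of A A) ≅ P :=
  (NatIso.mapHomologicalComplex (rightUnitorNatIso (ModuleCat.{u} A)) c).app P ≪≫
    HomologicalComplex.Hom.isoOfComponents (fun i => Iso.refl _)
      (by intros; exact (Category.id_comp _).trans (Category.comp_id _).symm)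

/-- `T_p(A) ≅ H_p(P)`. -/
noncomputable def TAIso : (TFun P p).obj (ModuleCat.of A A) ≅ P.homology p :=
  (HomologicalComplex.homologyFunctor _ c p).mapIso (tensorObjUnitIso P)

lemma flat_TA_iff : Module.Flat A ((TFun P p).obj (ModuleCat.of A A)) ↔
    Module.Flat A (P.homology p) :=
  Module.Flat.equiv_iff (TAIso P p).toLinearEquiv

end Boundaries

section Cycles

variable (P : HomologicalComplex (ModuleCat.{u} A) c) (p q : ι)

lemma iCycles_injective : Injective (P.iCycles p) :=
  (ModuleCat.mono_iff_injective _).mp inferInstance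

lemma exact_iCycles_d (hq : c.next p = q) : Exact (P.iCycles p) (P.d p q) := by
  have hex : (ShortComplex.mk (P.iCycles p) (P.d p q) (P.iCycles_d p q)).Exact :=
    ShortComplex.exact_of_f_is_kernel _ (P.cyclesIsKernel p q hq)
  exact (ShortComplex.ShortExact.moduleCat_exact_iff_function_exact _).mp hex

lemma exact_iCycles_toCycles (hq : c.next p = q) : Exact (P.iCycles p) (P.toCycles p q) := by
  have h := exact_iCycles_d P p q hq
  intro x
  rw [← h x]
  constructor
  · intro hx
    have := congrArg (P.iCycles q) hx
    rw [map_zero] at this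
    rw [← this]
    exact (congr($(P.toCycles_i p q) x)).symm
  · intro hx
    apply iCycles_injective P q
    rw [map_zero, ← hx]
    exact congr($(P.toCycles_i p q) x)

lemma exact_toCycles_homologyπ (hp : c.prev q = p) : Exact (P.toCycles p q) (P.homologyπ q) := by
  have hex : (ShortComplex.mk (P.toCycles p q) (P.homologyπ q)
      (P.toCycles_comp_homologyπ p q)).Exact :=
    ShortComplex.exact_of_g_is_cokernel _ (P.homologyIsCokernel p q hp)
  exact (ShortComplex.ShortExact.moduleCat_exact_iff_function_exact _).mp hex

lemma toCycles_surjective_of_isZero (hp : c.prev q = p) (h : IsZero (P.homology q)) :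
    Surjective (P.toCycles p q) := by
  have hex := exact_toCycles_homologyπ P p q hp
  have : Subsingleton (P.homology q) := ModuleCat.subsingleton_of_isZero h
  intro z
  exact (hex z).mp (Subsingleton.elim _ _)

/-- `Z_p` is flat if `P_p`, `Z_q` are flat and `H_q = 0` (`c.Rel p q`). -/
lemma flat_cycles_of_flat_cycles (hpq : c.Rel p q) [Module.Flat A (P.X p)]
    [Module.Flat A (P.cycles q)] (h : IsZero (P.homology q)) : Module.Flat A (P.cycles p) :=
  flat_of_exact_of_flat (P.iCycles p).hom (P.toCycles p q).hom (iCycles_injective P p)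
    (toCycles_surjective_of_isZero P p q (c.prev_eq' hpq) h)
    (exact_iCycles_toCycles P p q (c.next_eq' hpq))

lemma subsingleton_cycles_of_isZero (h : IsZero (P.X p)) : Subsingleton (P.cycles p) := by
  have : Subsingleton (P.X p) := ModuleCat.subsingleton_of_isZero h
  exact (iCycles_injective P p).subsingleton

end Cycles

/-- bounded above flat cochain complex, exact above `d`: cycles in degree `d` are flat. -/
theorem flat_cycles_of_boundedAbove (F : CochainComplex (ModuleCat.{u} A) ℤ)
    (hF : ∀ i, Module.Flat A (F.X i)) (b : ℤ) (hb : ∀ i, b < i → IsZero (F.X i)) (d : ℤ)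
    (hac : ∀ p, d < p → IsZero (F.homology p)) : ∀ n, d ≤ n → Module.Flat A (F.cycles n) := by
  have key : ∀ k : ℕ, ∀ n : ℤ, d ≤ n → b + 1 ≤ n + k → Module.Flat A (F.cycles n) := by
    intro k
    induction k with
    | zero =>
      intro n _ hn
      have := subsingleton_cycles_of_isZero F n (hb n (by omega))
      infer_instance
    | succ k ih =>
      intro n hdn hn
      have := ih (n + 1) (by omega) (by push_cast at hn ⊢; omega)
      have := hF n
      exact flat_cycles_of_flat_cycles F n (n + 1) rfl (hac (n + 1) (by omega))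
  intro n hn
  exact key (b + 1 - n).toNat n hn (by omega)

end Groth.Agent.Lib.Helper28.FlatCx
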