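import Mathlib

/-!
# Relative exactness ("hand-made mapping cone") for modules

For a morphism `e` between two 3-term sequences `M0 → M1 → M2`, `Qm → Q0 → Q1`, the condition
`RE` is exactness of the mapping cone at the middle spot, in a sign-free formulation.
It is stable under tensoring with a flat module and under changing the signs of the differentials.
-/

set_option autoImplicit false
universe u v
open TensorProduct

namespace Groth.Agent.Lib.Helper28.RelExact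

variable {A : Type u} [CommRing A]
variable {M0 M1 M2 Qm Q0 Q1 : Type v}
  [AddCommGroup M0] [Module A M0] [AddCommGroup M1] [Module A M1] [AddCommGroup M2] [Module A M2]
  [AddCommGroup Qm] [Module A Qm] [AddCommGroup Q0] [Module A Q0] [AddCommGroup Q1] [Module A Q1]

/-- boundary map of the hand-made cone: `(u', v') ↦ (d u', e u' + d v')` -/
def bd (dM : M0 →ₗ[A] M1) (e : M0 →ₗ[A] Q0) (dQ : Qm →ₗ[A] Q0) : M0 × Qm →ₗ[A] M1 × Q0 :=
  (dM ∘ₗ LinearMap.fst A M0 Qm).prod (e ∘ₗ LinearMap.fst A M0 Qm + dQ ∘ₗ LinearMap.snd A M0 Qm)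

/-- cycle map of the hand-made cone: `(u, v) ↦ (d u, e u - d v)` -/
def cy (dM : M1 →ₗ[A] M2) (e : M1 →ₗ[A] Q1) (dQ : Q0 →ₗ[A] Q1) : M1 × Q0 →ₗ[A] M2 × Q1 :=
  (dM ∘ₗ LinearMap.fst A M1 Q0).prod (e ∘ₗ LinearMap.fst A M1 Q0 - dQ ∘ₗ LinearMap.snd A M1 Q0)

@[simp] theorem bd_apply (dM : M0 →ₗ[A] M1) (e : M0 →ₗ[A] Q0) (dQ : Qm →ₗ[A] Q0) (w : M0 × Qm) :
    bd dM e dQ w = (dM w.1, e w.1 + dQ w.2) := rfl

@[simp] theorem cy_apply (dM : M1 →ₗ[A] M2) (e : M1 →ₗ[A] Q1) (dQ : Q0 →ₗ[A] Q1) (y : M1 × Q0) :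
    cy dM e dQ y = (dM y.1, e y.1 - dQ y.2) := rfl

/-- relative exactness -/
def RE (dM0 : M0 →ₗ[A] M1) (dM1 : M1 →ₗ[A] M2) (dQm : Qm →ₗ[A] Q0) (dQ0 : Q0 →ₗ[A] Q1)
    (e0 : M0 →ₗ[A] Q0) (e1 : M1 →ₗ[A] Q1) : Prop :=
  ∀ (u : M1) (v : Q0), dM1 u = 0 → dQ0 v = e1 u → ∃ (u' : M0) (v' : Qm), dM0 u' = u ∧ e0 u' + dQm v' = v

variable (dM0 : M0 →ₗ[A] M1) (dM1 : M1 →ₗ[A] M2) (dQm : Qm →ₗ[A] Q0) (dQ0 : Q0 →ₗ[A] Q1)
    (e0 : M0 →ₗ[A] Q0) (e1 : M1 →ₗ[A] Q1)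

theorem re_iff :
    RE dM0 dM1 dQm dQ0 e0 e1 ↔
      ∀ y : M1 × Q0, cy dM1 e1 dQ0 y = 0 → ∃ w : M0 × Qm, bd dM0 e0 dQm w = y := by
  constructor
  · rintro h ⟨u, v⟩ hy
    rw [cy_apply, Prod.mk_eq_zero] at hy
    obtain ⟨u', v', h1, h2⟩ := h u v hy.1 (sub_eq_zero.1 hy.2).symm
    exact ⟨(u', v'), by rw [bd_apply, h1, h2]⟩
  · intro h u v hu hv
    obtain ⟨⟨u', v'⟩, hw⟩ := h (u, v) (by rw [cy_apply, Prod.mk_eq_zero]; exact ⟨hu, by rw [hv, sub_self]⟩)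
    rw [bd_apply, Prod.mk.injEq] at hw
    exact ⟨u', v', hw.1, hw.2⟩

theorem exact_of_re (hMM : ∀ x, dM1 (dM0 x) = 0) (hQQ : ∀ x, dQ0 (dQm x) = 0)
    (hcomm : ∀ x, e1 (dM0 x) = dQ0 (e0 x)) (h : RE dM0 dM1 dQm dQ0 e0 e1) :
    Function.Exact (bd dM0 e0 dQm) (cy dM1 e1 dQ0) := by
  intro y
  constructor
  · exact (re_iff _ _ _ _ _ _).1 h y
  · rintro ⟨w, rfl⟩
    rw [bd_apply, cy_apply, Prod.mk_eq_zero]
    refine ⟨hMM _, ?_⟩
    rw [map_add, hQQ, add_zero, hcomm, sub_self]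

theorem re_of_exact (h : Function.Exact (bd dM0 e0 dQm) (cy dM1 e1 dQ0)) :
    RE dM0 dM1 dQm dQ0 e0 e1 :=
  (re_iff _ _ _ _ _ _).2 (fun y hy => (h y).1 hy)

/-- changing the signs of the differentials -/
theorem re_sign (ε : ℤ) (hε : ε = 1 ∨ ε = -1) (h : RE dM0 dM1 dQm dQ0 e0 e1) :
    RE (ε • dM0) (ε • dM1) (ε • dQm) (ε • dQ0) e0 e1 := by
  rcases hε with rfl | rfl
  · simpa only [one_smul] using h
  · intro u v hu hv
    rw [LinearMap.smul_apply, neg_one_zsmul, neg_eq_zero] at hu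
    rw [LinearMap.smul_apply, neg_one_zsmul] at hv
    obtain ⟨u', v', h1, h2⟩ := h u (-v) hu (by rw [map_neg, hv])
    refine ⟨-u', v', ?_, ?_⟩
    · rw [LinearMap.smul_apply, neg_one_zsmul, map_neg, neg_neg, h1]
    · rw [LinearMap.smul_apply, neg_one_zsmul, map_neg, ← neg_add, h2, neg_neg]

/-- tensoring with a flat module -/
theorem re_lTensor (N : Type v) [AddCommGroup N] [Module A N] [Module.Flat A N]
    (hMM : ∀ x, dM1 (dM0 x) = 0) (hQQ : ∀ x, dQ0 (dQm x) = 0)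
    (hcomm : ∀ x, e1 (dM0 x) = dQ0 (e0 x)) (h : RE dM0 dM1 dQm dQ0 e0 e1) :
    RE (dM0.lTensor N) (dM1.lTensor N) (dQm.lTensor N) (dQ0.lTensor N) (e0.lTensor N)
      (e1.lTensor N) := by
  have hex := Module.Flat.lTensor_exact N (exact_of_re _ _ _ _ _ _ hMM hQQ hcomm h)
  apply re_of_exact
  refine Function.Exact.of_ladder_linearEquiv_of_exact
    (e₁ := TensorProduct.prodRight A A N M0 Qm) (e₂ := TensorProduct.prodRight A A N M1 Q0)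
    (e₃ := TensorProduct.prodRight A A N M2 Q1) ?_ ?_ hex
  · apply TensorProduct.ext'
    rintro n ⟨u, v⟩
    simp [tmul_add]
  · apply TensorProduct.ext'
    rintro n ⟨u, v⟩
    simp [tmul_sub]

end Groth.Agent.Lib.Helper28.RelExact
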