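import Groth.Agent.Lib.Helper28.TensorCxKFlat
import Groth.Agent.Lib.Helper28.RelExact
import Groth.Agent.Lib.Lead.ModHomology

/-!
# Tensoring a quasi-isomorphism with a bounded above complex of flat modules (first slot)
-/

set_option autoImplicit false
universe u
open CategoryTheory CategoryTheory.Limits MonoidalCategory HomologicalComplex

namespace Groth.Agent.Lib.Helper28.TensorCx

variable {A : Type u} [CommRing A]

section RE

open RelExact

variable {M Q : CochainComplex (ModuleCat.{u} A) ℤ} (η : M ⟶ Q)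

/-- relative exactness of a morphism of complexes at a spot -/
def REAt (am a0 a1 a2 : ℤ) : Prop :=
  RE (M.d a0 a1).hom (M.d a1 a2).hom (Q.d am a0).hom (Q.d a0 a1).hom (η.f a0).hom (η.f a1).hom

theorem hom_d_d (K : CochainComplex (ModuleCat.{u} A) ℤ) (i j k : ℤ) (x : K.X i) :
    (K.d j k).hom ((K.d i j).hom x) = 0 := by
  have := K.d_comp_d i j k
  exact congrArg (fun f => f.hom x) this

theorem hom_comm (i j : ℤ) (x : M.X i) :
    (η.f j).hom ((M.d i j).hom x) = (Q.d i j).hom ((η.f i).hom x) := by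
  have := η.comm i j
  exact (congrArg (fun f => f.hom x) this).symm

theorem reAt_of_quasiIso [QuasiIso η] (am a0 a1 a2 : ℤ) (hm : am + 1 = a0) (h0 : a0 + 1 = a1)
    (h1 : a1 + 1 = a2) : REAt η am a0 a1 a2 := by
  intro u v hu hv
  have hmono : Mono (HomologicalComplex.homologyMap η a1) := by
    have : IsIso (HomologicalComplex.homologyMap η a1) := inferInstance
    infer_instance
  have hepi : Epi (HomologicalComplex.homologyMap η a0) := by
    have : IsIso (HomologicalComplex.homologyMap η a0) := inferInstance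
    infer_instance
  rw [Groth.Agent.Lib.Lead.ModHomology.hc_mono_iff η a0 a1 a2 (by simp [← h0]) (by simp [← h1])]
    at hmono
  rw [Groth.Agent.Lib.Lead.ModHomology.hc_epi_iff η am a0 a1 (by simp [← hm]) (by simp [← h0])]
    at hepi
  obtain ⟨z, hz⟩ := hmono u hu ⟨v, hv⟩
  obtain ⟨x, hx, w, hw⟩ := hepi (v - (η.f a0).hom z) (by
    rw [map_sub, hv, ← hom_comm, hz, sub_self])
  refine ⟨z + x, w, by rw [map_add, hz, hx, add_zero], ?_⟩
  rw [hw, map_add]
  abel

theorem quasiIso_of_reAt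
    (h : ∀ am a0 a1 a2 : ℤ, am + 1 = a0 → a0 + 1 = a1 → a1 + 1 = a2 → REAt η am a0 a1 a2) :
    QuasiIso η := by
  rw [quasiIso_iff]
  intro j
  rw [quasiIsoAt_iff_isIso_homologyMap]
  have hmono : Mono (HomologicalComplex.homologyMap η j) := by
    rw [Groth.Agent.Lib.Lead.ModHomology.hc_mono_iff η (j - 1) j (j + 1) (by simp) (by simp)]
    intro x hx ⟨y, hy⟩
    obtain ⟨u', _, h1, _⟩ := h (j - 1 - 1) (j - 1) j (j + 1) (by omega) (by omega) rfl x y hx hy
    exact ⟨u', h1⟩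
  have hepi : Epi (HomologicalComplex.homologyMap η j) := by
    rw [Groth.Agent.Lib.Lead.ModHomology.hc_epi_iff η (j - 1) j (j + 1) (by simp) (by simp)]
    intro y hy
    obtain ⟨u', v', h1, h2⟩ := h (j - 1) j (j + 1) (j + 1 + 1) (by omega) rfl rfl 0 y
      (by rw [map_zero]) (by rw [hy, map_zero])
    refine ⟨u', h1, v', ?_⟩
    rw [← h2]
    abel
  exact isIso_of_mono_of_epi _

end RE

section Fst

variable (K L : CochainComplex (ModuleCat.{u} A) ℤ)

theorem π_d_ι_fst_lt (n n' : ℤ) (hn : n + 1 = n') (a b : ℤ) (hab : a + b = n)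
    (w : (K.X a ⊗ L.X b : ModuleCat.{u} A)) (i₁ i₂ : ℤ) (h : i₁ + i₂ = n') (hlt : i₁ < a) :
    π K L n' i₁ i₂ h (((HomologicalComplex.tensorObj K L).d n n').hom (ι K L n a b hab w)) = 0 := by
  rw [d_ι K L n n' hn a b (a + 1) (b + 1) hab rfl rfl w, map_add,
    Units.smul_def, map_zsmul, π_ι_ne, π_ι_ne, smul_zero, add_zero]
  · intro heq
    have := congrArg Prod.fst heq
    simp only at this
    omega
  · intro heq
    have := congrArg Prod.fst heq
    simp only at this
    omega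

theorem π_d_ι_fst_self (n n' : ℤ) (hn : n + 1 = n') (a b b' : ℤ) (hab : a + b = n)
    (hb : b + 1 = b') (w : (K.X a ⊗ L.X b : ModuleCat.{u} A)) :
    π K L n' a b' (by omega) (((HomologicalComplex.tensorObj K L).d n n').hom (ι K L n a b hab w)) =
      ((a.negOnePow : ℤˣ) : ℤ) • (K.X a ◁ L.d b b').hom w := by
  rw [d_ι K L n n' hn a b (a + 1) b' hab rfl hb w, map_add,
    Units.smul_def, map_zsmul, π_ι_self, π_ι_ne, zero_add]
  intro heq
  have := congrArg Prod.fst heq
  simp only at this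
  omega

theorem π_d_fst_of_lower (n n' : ℤ) (hn : n + 1 = n') (x : (HomologicalComplex.tensorObj K L).X n)
    (m : ℤ) (hx : ∀ (i₁ i₂ : ℤ) (h : i₁ + i₂ = n), i₁ < m → π K L n i₁ i₂ h x = 0)
    (i₂ i₂' : ℤ) (h : m + i₂ = n') (h₂ : i₂' + 1 = i₂) :
    π K L n' m i₂ h (((HomologicalComplex.tensorObj K L).d n n').hom x) =
      ((m.negOnePow : ℤˣ) : ℤ) • (K.X m ◁ L.d i₂' i₂).hom (π K L n m i₂' (by omega) x) := by
  rw [π_d K L n n' hn x m i₂ (m - 1) i₂' h (by omega) h₂, hx (m - 1) i₂ (by omega) (by omega),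
    map_zero, zero_add, Units.smul_def]

end Fst

section Map

variable {K K' L L' : CochainComplex (ModuleCat.{u} A) ℤ} (f : K ⟶ K') (g : L ⟶ L')

theorem map_ι (n a b : ℤ) (h : a + b = n) (y : (K.X a ⊗ L.X b : ModuleCat.{u} A)) :
    ((HomologicalComplex.tensorHom f g).f n).hom (ι K L n a b h y) =
      ι K' L' n a b h ((f.f a ⊗ₘ g.f b).hom y) := by
  have h1 := HomologicalComplex.ι_mapBifunctorMap f g (curriedTensor (ModuleCat.{u} A))
    (ComplexShape.up ℤ) a b n h
  have h2 := congrArg (fun φ => φ.hom y) h1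
  refine h2.trans ?_
  have h3 : (((curriedTensor (ModuleCat.{u} A)).map (f.f a)).app (L.X b) ≫
      ((curriedTensor (ModuleCat.{u} A)).obj (K'.X a)).map (g.f b)) = (f.f a ⊗ₘ g.f b) := by
    rw [MonoidalCategory.tensorHom_def]
    rfl
  change (ιTensorObj K' L' a b n h).hom ((((curriedTensor (ModuleCat.{u} A)).map (f.f a)).app (L.X b) ≫
      ((curriedTensor (ModuleCat.{u} A)).obj (K'.X a)).map (g.f b)).hom y) = _
  rw [h3]
  rfl

theorem π_map (n a b : ℤ) (h : a + b = n) (x : (HomologicalComplex.tensorObj K L).X n) :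
    π K' L' n a b h (((HomologicalComplex.tensorHom f g).f n).hom x) =
      (f.f a ⊗ₘ g.f b).hom (π K L n a b h x) := by
  have key : (π K' L' n a b h) ∘ₗ ((HomologicalComplex.tensorHom f g).f n).hom =
      (f.f a ⊗ₘ g.f b).hom ∘ₗ (π K L n a b h) := by
    apply lhom_ext
    intro a' b' hab y
    rw [LinearMap.comp_apply, LinearMap.comp_apply, map_ι]
    by_cases hc : (a', b') = (a, b)
    · obtain ⟨rfl, rfl⟩ := Prod.mk.inj hc
      rw [π_ι_self, π_ι_self]
    · rw [π_ι_ne _ _ _ _ _ _ _ _ h hc, π_ι_ne _ _ _ _ _ _ _ _ h hc, map_zero]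
  exact LinearMap.congr_fun key x

end Map

section Main

open RelExact

variable (L : CochainComplex (ModuleCat.{u} A) ℤ) {M Q : CochainComplex (ModuleCat.{u} A) ℤ}
  (η : M ⟶ Q)

theorem eq_zero_of_fst {K L : CochainComplex (ModuleCat.{u} A) ℤ} {n : ℤ}
    (x : (HomologicalComplex.tensorObj K L).X n)
    (hx : ∀ j, π K L n j (n - j) (by omega) x = 0) : x = 0 := by
  apply eq_zero_of_π_eq_zero
  intro i₁ i₂ h
  obtain rfl : i₂ = n - i₁ := by omega
  exact hx i₁

theorem π_eq_zero_of_fst {K L : CochainComplex (ModuleCat.{u} A) ℤ} {n : ℤ}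
    (x : (HomologicalComplex.tensorObj K L).X n) (m : ℤ)
    (hx : ∀ j, j < m → π K L n j (n - j) (by omega) x = 0)
    (i₁ i₂ : ℤ) (h : i₁ + i₂ = n) (hlt : i₁ < m) : π K L n i₁ i₂ h x = 0 := by
  obtain rfl : i₂ = n - i₁ := by omega
  exact hx i₁ hlt

theorem negOnePow_cases (j : ℤ) : ((j.negOnePow : ℤˣ) : ℤ) = 1 ∨ ((j.negOnePow : ℤˣ) : ℤ) = -1 := by
  rcases Int.units_eq_one_or j.negOnePow with h | h
  · left; rw [h]; rfl
  · right; rw [h]; rfl

/-- **Relative staircase**: if `η` is relatively exact everywhere and `L` is a bounded above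
complex of flat modules, then `𝟙 L ⊗ η` is relatively exact everywhere. -/
theorem reAt_tensorHom_id_of_flat (b : ℤ) (hb : ∀ i, b < i → IsZero (L.X i))
    (hflat : ∀ i, Module.Flat A (L.X i))
    (hη : ∀ am a0 a1 a2 : ℤ, am + 1 = a0 → a0 + 1 = a1 → a1 + 1 = a2 → REAt η am a0 a1 a2)
    (nm n0 n1 n2 : ℤ) (hm : nm + 1 = n0) (h0 : n0 + 1 = n1) (h1 : n1 + 1 = n2) :
    REAt (HomologicalComplex.tensorHom (𝟙 L) η) nm n0 n1 n2 := by
  unfold REAt
  rw [re_iff]
  intro y hy
  refine Staircase.exact_of_rows_exact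
    (E0 := fun j => (L.X j ⊗ M.X (n0 - j) : ModuleCat.{u} A) × (L.X j ⊗ Q.X (nm - j) : ModuleCat.{u} A))
    (E1 := fun j => (L.X j ⊗ M.X (n1 - j) : ModuleCat.{u} A) × (L.X j ⊗ Q.X (n0 - j) : ModuleCat.{u} A))
    (E2 := fun j => (L.X j ⊗ M.X (n2 - j) : ModuleCat.{u} A) × (L.X j ⊗ Q.X (n1 - j) : ModuleCat.{u} A))
    (bd ((HomologicalComplex.tensorObj L M).d n0 n1).hom
      ((HomologicalComplex.tensorHom (𝟙 L) η).f n0).hom ((HomologicalComplex.tensorObj L Q).d nm n0).hom)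
    (cy ((HomologicalComplex.tensorObj L M).d n1 n2).hom
      ((HomologicalComplex.tensorHom (𝟙 L) η).f n1).hom ((HomologicalComplex.tensorObj L Q).d n0 n1).hom)
    (fun j => LinearMap.prodMap (π L M n1 j (n1 - j) (by omega)) (π L Q n0 j (n0 - j) (by omega)))
    (fun j => LinearMap.prodMap (π L M n2 j (n2 - j) (by omega)) (π L Q n1 j (n1 - j) (by omega)))
    (fun j => LinearMap.prodMap (ι L M n0 j (n0 - j) (by omega)) (ι L Q nm j (nm - j) (by omega)))
    (fun j => bd (((j.negOnePow : ℤˣ) : ℤ) • (L.X j ◁ M.d (n0 - j) (n1 - j)).hom)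
      (L.X j ◁ η.f (n0 - j)).hom (((j.negOnePow : ℤˣ) : ℤ) • (L.X j ◁ Q.d (nm - j) (n0 - j)).hom))
    (fun j => cy (((j.negOnePow : ℤˣ) : ℤ) • (L.X j ◁ M.d (n1 - j) (n2 - j)).hom)
      (L.X j ◁ η.f (n1 - j)).hom (((j.negOnePow : ℤˣ) : ℤ) • (L.X j ◁ Q.d (n0 - j) (n1 - j)).hom))
    ?_ ?_ ?_ ?_ ?_ ?_ b ?_ ?_ y hy
  · -- hD0a
    rintro m ⟨w1, w2⟩ j hj
    simp only [LinearMap.prodMap_apply, bd_apply, Prod.mk_eq_zero, map_add]
    refine ⟨π_d_ι_fst_lt L M n0 n1 h0 m (n0 - m) (by omega) w1 j (n1 - j) (by omega) hj, ?_⟩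
    rw [π_d_ι_fst_lt L Q nm n0 hm m (nm - m) (by omega) w2 j (n0 - j) (by omega) hj, add_zero,
      map_ι, π_ι_ne]
    intro heq
    have := congrArg Prod.fst heq
    simp only at this
    omega
  · -- hD0b
    rintro m ⟨w1, w2⟩
    simp only [LinearMap.prodMap_apply, bd_apply, map_add, LinearMap.smul_apply, Prod.mk.injEq]
    refine ⟨π_d_ι_fst_self L M n0 n1 h0 m (n0 - m) (n1 - m) (by omega) (by omega) w1, ?_⟩
    rw [π_d_ι_fst_self L Q nm n0 hm m (nm - m) (n0 - m) (by omega) (by omega) w2, map_ι, π_ι_self,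
      HomologicalComplex.id_f, id_tensorHom]
  · -- hD1
    rintro m ⟨x1, x2⟩ hx
    have hx1 : ∀ j, j < m → π L M n1 j (n1 - j) (by omega) x1 = 0 := fun j hj => by
      have := hx j hj
      simp only [LinearMap.prodMap_apply, Prod.mk_eq_zero] at this
      exact this.1
    have hx2 : ∀ j, j < m → π L Q n0 j (n0 - j) (by omega) x2 = 0 := fun j hj => by
      have := hx j hj
      simp only [LinearMap.prodMap_apply, Prod.mk_eq_zero] at this
      exact this.2
    simp only [LinearMap.prodMap_apply, cy_apply, map_sub, LinearMap.smul_apply, Prod.mk.injEq]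
    refine ⟨π_d_fst_of_lower L M n1 n2 h1 x1 m (π_eq_zero_of_fst x1 m hx1) (n2 - m) (n1 - m)
      (by omega) (by omega), ?_⟩
    rw [π_d_fst_of_lower L Q n0 n1 h0 x2 m (π_eq_zero_of_fst x2 m hx2) (n1 - m) (n0 - m)
      (by omega) (by omega), π_map, HomologicalComplex.id_f, id_tensorHom]
  · -- hEX
    intro m
    have hre := hη (nm - m) (n0 - m) (n1 - m) (n2 - m) (by omega) (by omega) (by omega)
    have := re_sign _ _ _ _ _ _ ((m.negOnePow : ℤˣ) : ℤ) (negOnePow_cases m)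
      (re_lTensor _ _ _ _ _ _ (L.X m) (fun x => hom_d_d M _ _ _ x) (fun x => hom_d_d Q _ _ _ x)
        (fun x => hom_comm η _ _ x) hre)
    exact (re_iff _ _ _ _ _ _).1 this
  · -- hINJ
    rintro ⟨x1, x2⟩ hx
    rw [Prod.mk_eq_zero]
    constructor
    · apply eq_zero_of_fst
      intro j
      have := hx j
      simp only [LinearMap.prodMap_apply, Prod.mk_eq_zero] at this
      exact this.1
    · apply eq_zero_of_fst
      intro j
      have := hx j
      simp only [LinearMap.prodMap_apply, Prod.mk_eq_zero] at this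
      exact this.2
  · -- hFS
    rintro ⟨x1, x2⟩
    obtain ⟨m1, hm1⟩ := exists_lower_bound_fst L M n1 x1
    obtain ⟨m2, hm2⟩ := exists_lower_bound_fst L Q n0 x2
    refine ⟨min m1 m2, fun j hj => ?_⟩
    simp only [LinearMap.prodMap_apply, Prod.mk_eq_zero]
    exact ⟨hm1 _ _ _ (lt_of_lt_of_le hj (min_le_left _ _)),
      hm2 _ _ _ (lt_of_lt_of_le hj (min_le_right _ _))⟩
  · -- hUB
    rintro ⟨x1, x2⟩ j hj
    simp only [LinearMap.prodMap_apply, Prod.mk_eq_zero]
    exact ⟨(ModuleCat.isZero_iff_subsingleton.1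
        (isZero_tensor_of_isZero_left _ _ (hb j hj))).elim _ _,
      (ModuleCat.isZero_iff_subsingleton.1
        (isZero_tensor_of_isZero_left _ _ (hb j hj))).elim _ _⟩
  · -- hdd
    rintro ⟨w1, w2⟩
    simp only [bd_apply, cy_apply, Prod.mk_eq_zero, map_add]
    refine ⟨hom_d_d _ _ _ _ _, ?_⟩
    rw [hom_d_d, add_zero, hom_comm, sub_self]

/-- If `L` is a bounded above complex of flat modules and `η` is a quasi-isomorphism, then
`𝟙 L ⊗ η` is a quasi-isomorphism. -/
theorem quasiIso_tensorHom_id_of_flat (b : ℤ) (hb : ∀ i, b < i → IsZero (L.X i))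
    (hflat : ∀ i, Module.Flat A (L.X i)) [QuasiIso η] :
    QuasiIso (HomologicalComplex.tensorHom (𝟙 L) η) := by
  apply quasiIso_of_reAt
  intro am a0 a1 a2 hm h0 h1
  exact reAt_tensorHom_id_of_flat L η b hb hflat
    (fun am a0 a1 a2 hm h0 h1 => reAt_of_quasiIso η am a0 a1 a2 hm h0 h1) am a0 a1 a2 hm h0 h1

end Main

end Groth.Agent.Lib.Helper28.TensorCx
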