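import Mathlib
import Groth.Agent.Lib.Helper28.HomologyFiltered

/-!
# `Tor` commutes with filtered colimits in the non-resolved variable
-/

set_option autoImplicit false
universe u
open CategoryTheory CategoryTheory.Limits MonoidalCategory

namespace Groth.Agent.Lib.Helper28.TorFiltered

open Groth.Agent.Lib.Helper28.HomologyFiltered

variable {A : Type u} [CommRing A]

/-- `M ↦ M ⊗ P` for a chain complex `P`. -/
noncomputable def tensorCx (P : ChainComplex (ModuleCat.{u} A) ℕ) :
    ModuleCat.{u} A ⥤ ChainComplex (ModuleCat.{u} A) ℕ where
  obj M := ((tensorLeft M).mapHomologicalComplex _).obj P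
  map f := (NatTrans.mapHomologicalComplex ((tensoringLeft _).map f) _).app P
  map_id M := by
    rw [CategoryTheory.Functor.map_id, NatTrans.mapHomologicalComplex_id]
    rfl
  map_comp f g := by
    rw [CategoryTheory.Functor.map_comp, NatTrans.mapHomologicalComplex_comp]
    rfl

/-- degreewise, `tensorCx P` is `- ⊗ P_i`. -/
noncomputable def tensorCxEvalIso (P : ChainComplex (ModuleCat.{u} A) ℕ) (i : ℕ) :
    tensorCx P ⋙ HomologicalComplex.eval _ _ i ≅ tensorRight (P.X i) :=
  NatIso.ofComponents (fun _ => Iso.refl _) (by
    intro M N f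
    exact (Category.comp_id _).trans (Category.id_comp _).symm)

instance (X : ModuleCat.{u} A) : PreservesColimitsOfSize.{u, u} (tensorRight X) :=
  preservesColimits_of_natIso (BraidedCategory.tensorLeftIsoTensorRight X)

instance (P : ChainComplex (ModuleCat.{u} A) ℕ) (J : Type u) [SmallCategory J] :
    PreservesColimitsOfShape J (tensorCx P) :=
  HomologicalComplex.preservesColimitsOfShape_of_eval _ (fun i =>
    preservesColimitsOfShape_of_natIso (tensorCxEvalIso P i).symm)

/-- `Tor_p(-, N)` as the homology of `- ⊗ P` for a projective resolution `P` of `N`. -/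
noncomputable def torFlipIso (p : ℕ) (N : ModuleCat.{u} A) (P : ProjectiveResolution N) :
    (CategoryTheory.Tor (ModuleCat.{u} A) p).flip.obj N ≅
      tensorCx P.complex ⋙ HomologicalComplex.homologyFunctor _ _ p :=
  NatIso.ofComponents (fun M => P.isoLeftDerivedObj ((tensoringLeft _).obj M) p) (by
    intro M M' f
    change (NatTrans.leftDerived ((tensoringLeft _).map f) p).app N ≫ _ = _
    rw [ProjectiveResolution.leftDerived_app_eq _ P, Category.assoc, Category.assoc]
    erw [Iso.inv_hom_id, Category.comp_id]
    rfl)

theorem preservesColimitsOfShape_tor_flip (p : ℕ) (N : ModuleCat.{u} A)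
    (J : Type u) [SmallCategory J] [IsFiltered J] :
    PreservesColimitsOfShape J ((CategoryTheory.Tor (ModuleCat.{u} A) p).flip.obj N) := by
  have P : ProjectiveResolution N := projectiveResolution N
  exact preservesColimitsOfShape_of_natIso (torFlipIso p N P).symm

end Groth.Agent.Lib.Helper28.TorFiltered
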