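import Mathlib

/-! Finiteness over a base of a local Artinian algebra, from its residue field. -/

namespace Groth.Agent.Lib.Helper28

variable {R S : Type*} [CommRing R] [CommRing S] [Algebra R S]

/-- If `S/m` is a finite `R`-module, `m ≤ jacobson ⊥`, and `S` is Artinian (so also Noetherian),
then every ideal of `S` is a finitely generated `R`-module. -/
theorem ideal_fg_restrictScalars_of_quotient_finite [IsArtinianRing S] (m : Ideal S)
    (hm : m ≤ Ideal.jacobson ⊥) [Module.Finite R (S ⧸ m)] (J : Ideal S) :
    (J.restrictScalars R).FG := by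
  classical
  -- a f.g. `R`-submodule `N` of `S` surjecting onto `S/m`
  obtain ⟨N, hNfg, hN⟩ : ∃ N : Submodule R S, N.FG ∧ ∀ s : S, ∃ n ∈ N, s - n ∈ m := by
    obtain ⟨t, ht⟩ := (Module.Finite.fg_top : (⊤ : Submodule R (S ⧸ m)).FG)
    have hsurj : Function.Surjective (Ideal.Quotient.mk m) := Ideal.Quotient.mk_surjective
    refine ⟨Submodule.span R (t.image (Function.surjInv hsurj) : Finset S), ⟨_, rfl⟩, ?_⟩
    intro s
    have hmap : (Submodule.span R ((t.image (Function.surjInv hsurj) : Finset S) : Set S)).map
        (Ideal.Quotient.mkₐ R m).toLinearMap = ⊤ := by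
      rw [Submodule.map_span, Finset.coe_image, Set.image_image, ← ht]
      congr 1
      ext x
      simp [Function.surjInv_eq hsurj]
    have hs : (Ideal.Quotient.mk m s) ∈ (Submodule.span R
        ((t.image (Function.surjInv hsurj) : Finset S) : Set S)).map
        (Ideal.Quotient.mkₐ R m).toLinearMap := by rw [hmap]; trivial
    obtain ⟨n, hn, hns⟩ := hs
    refine ⟨n, hn, ?_⟩
    rw [← Ideal.Quotient.eq]
    exact hns.symm
  induction J using IsArtinian.induction with
  | hgt J ih =>
  by_cases hJ : J = ⊥
  · subst hJ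
    rw [Submodule.restrictScalars_bot]
    exact Submodule.fg_bot
  have hJfg : J.FG := IsNoetherian.noetherian J
  have hlt : m • J < J := by
    refine lt_of_le_of_ne Ideal.mul_le_right ?_
    intro h
    exact hJ (Submodule.eq_bot_of_le_smul_of_le_jacobson_bot m J hJfg h.ge hm)
  have ih' := ih _ hlt
  obtain ⟨Y, hY⟩ := hJfg
  -- candidate
  have hfg : ((⨆ y ∈ Y, N.map (LinearMap.mulRight R y)) ⊔ (m • J).restrictScalars R).FG := by
    refine Submodule.FG.sup ?_ ih'
    exact Submodule.fg_biSup Y _ fun y _ => hNfg.map _
  have heq : J.restrictScalars R =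
      (⨆ y ∈ Y, N.map (LinearMap.mulRight R y)) ⊔ (m • J).restrictScalars R := by
    apply le_antisymm
    · intro x hx
      rw [Submodule.restrictScalars_mem, ← hY, Submodule.mem_span_finset] at hx
      obtain ⟨f, -, rfl⟩ := hx
      choose n hnN hnm using hN
      have : ∑ a ∈ Y, f a • a = ∑ a ∈ Y, n (f a) * a + ∑ a ∈ Y, (f a - n (f a)) * a := by
        rw [← Finset.sum_add_distrib]
        refine Finset.sum_congr rfl fun a _ => ?_
        rw [smul_eq_mul]; ring
      rw [this]
      refine Submodule.add_mem_sup ?_ ?_
      · refine Submodule.sum_mem _ fun a ha => ?_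
        refine Submodule.mem_iSup_of_mem a (Submodule.mem_iSup_of_mem ha ?_)
        exact ⟨n (f a), hnN _, rfl⟩
      · rw [Submodule.restrictScalars_mem]
        refine Submodule.sum_mem _ fun a ha => ?_
        refine Ideal.mul_mem_mul (hnm _) ?_
        rw [← hY]; exact Submodule.subset_span ha
    · refine sup_le (iSup₂_le fun y hy => ?_) ?_
      · rintro _ ⟨n, -, rfl⟩
        rw [Submodule.restrictScalars_mem]
        show n * y ∈ J
        refine Ideal.mul_mem_left J _ ?_
        rw [← hY]; exact Submodule.subset_span hy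
      · intro x hx
        rw [Submodule.restrictScalars_mem] at hx ⊢
        exact hlt.le hx
  rw [heq]
  exact hfg

theorem finite_of_residue_finite [IsArtinianRing S] [IsLocalRing S]
    [Module.Finite R (S ⧸ IsLocalRing.maximalIdeal S)] : Module.Finite R S := by
  have h := ideal_fg_restrictScalars_of_quotient_finite (R := R) (IsLocalRing.maximalIdeal S)
    (IsLocalRing.maximalIdeal_le_jacobson ⊥) ⊤
  rw [Submodule.restrictScalars_top] at h
  exact ⟨h⟩

end Groth.Agent.Lib.Helper28
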