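import Mathlib

/-!
# An abstract staircase lemma

A three-term complex `X0 → X1 → X2` whose middle term has "components" indexed by `ℤ`
(jointly injective, bounded above, finitely supported below), with exact rows, is exact.
-/

set_option autoImplicit false
universe u v w

namespace Groth.Agent.Lib.Helper28.Staircase

variable {A : Type u} [Ring A]
  {X0 X1 X2 : Type v} [AddCommGroup X0] [Module A X0] [AddCommGroup X1] [Module A X1]
  [AddCommGroup X2] [Module A X2]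
  (d0 : X0 →ₗ[A] X1) (d1 : X1 →ₗ[A] X2)
  {E0 E1 E2 : ℤ → Type w} [∀ j, AddCommGroup (E0 j)] [∀ j, Module A (E0 j)]
  [∀ j, AddCommGroup (E1 j)] [∀ j, Module A (E1 j)]
  [∀ j, AddCommGroup (E2 j)] [∀ j, Module A (E2 j)]
  (π1 : ∀ j, X1 →ₗ[A] E1 j) (π2 : ∀ j, X2 →ₗ[A] E2 j)
  (ι0 : ∀ j, E0 j →ₗ[A] X0)
  (h0 : ∀ j, E0 j →ₗ[A] E1 j) (h1 : ∀ j, E1 j →ₗ[A] E2 j)

include d0 d1 π1 π2 ι0 h0 h1 in
/-- The staircase lemma. -/
theorem exact_of_rows_exact
    (hD0a : ∀ (m : ℤ) (w : E0 m) (j : ℤ), j < m → π1 j (d0 (ι0 m w)) = 0)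
    (hD0b : ∀ (m : ℤ) (w : E0 m), π1 m (d0 (ι0 m w)) = h0 m w)
    (hD1 : ∀ (m : ℤ) (x : X1), (∀ j, j < m → π1 j x = 0) → π2 m (d1 x) = h1 m (π1 m x))
    (hEX : ∀ (m : ℤ) (y : E1 m), h1 m y = 0 → ∃ w : E0 m, h0 m w = y)
    (hINJ : ∀ x : X1, (∀ j, π1 j x = 0) → x = 0)
    (hFS : ∀ x : X1, ∃ m : ℤ, ∀ j, j < m → π1 j x = 0)
    (b : ℤ) (hUB : ∀ (x : X1) (j : ℤ), b < j → π1 j x = 0)
    (hdd : ∀ y : X0, d1 (d0 y) = 0)
    (x : X1) (hx : d1 x = 0) : ∃ y : X0, d0 y = x := by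
  have key : ∀ (k : ℕ) (x : X1), d1 x = 0 → (∀ j, j < b + 1 - k → π1 j x = 0) →
      ∃ y : X0, d0 y = x := by
    intro k
    induction k with
    | zero =>
      intro x _ hsupp
      refine ⟨0, ?_⟩
      rw [map_zero]
      symm
      apply hINJ
      intro j
      by_cases hj : j < b + 1
      · exact hsupp j (by simpa using hj)
      · exact hUB x j (by omega)
    | succ k ih =>
      intro x hx hsupp
      obtain ⟨m, hm⟩ : ∃ m : ℤ, m = b + 1 - (k + 1 : ℕ) := ⟨_, rfl⟩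
      have hsupp' : ∀ j, j < m → π1 j x = 0 := by
        intro j hj
        exact hsupp j (by rw [← hm]; exact hj)
      have hrow : h1 m (π1 m x) = 0 := by
        rw [← hD1 m x hsupp', hx, map_zero]
      obtain ⟨w, hw⟩ := hEX m _ hrow
      obtain ⟨y', hy'⟩ := ih (x - d0 (ι0 m w)) (by rw [map_sub, hx, hdd, sub_zero]) (by
        intro j hj
        have hj' : j < m + 1 := by
          rw [hm]; push_cast at hj ⊢; omega
        rw [map_sub]
        rcases lt_or_eq_of_le (Int.lt_add_one_iff.mp hj') with hlt | heq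
        · rw [hsupp' j hlt, hD0a m w j hlt, sub_zero]
        · subst heq
          rw [hD0b, hw, sub_self])
      refine ⟨y' + ι0 m w, ?_⟩
      rw [map_add, hy', sub_add_cancel]
  obtain ⟨m, hm⟩ := hFS x
  obtain ⟨k, hk⟩ : ∃ k : ℕ, b + 1 - (k : ℤ) ≤ m := ⟨(b + 1 - m).toNat, by omega⟩
  exact key k x hx (fun j hj => hm j (by omega))

end Groth.Agent.Lib.Helper28.Staircase
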