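import Groth.Agent.Lib.Helper28.TensorCxComp
import Groth.Agent.Lib.Helper28.Staircase

/-!
# Bounded above termwise flat complexes are K-flat
-/

set_option autoImplicit false
universe u
open CategoryTheory CategoryTheory.Limits MonoidalCategory HomologicalComplex

namespace Groth.Agent.Lib.Helper28.TensorCx

variable {A : Type u} [CommRing A]

/-- Elementwise criterion for vanishing of the homology of a cochain complex of modules. -/
theorem isZero_homology_iff (K : CochainComplex (ModuleCat.{u} A) ℤ) (n0 n n2 : ℤ)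
    (h0 : n0 + 1 = n) (h2 : n + 1 = n2) :
    IsZero (K.homology n) ↔
      ∀ x : K.X n, (K.d n n2).hom x = 0 → ∃ y : K.X n0, (K.d n0 n).hom y = x := by
  rw [← HomologicalComplex.exactAt_iff_isZero_homology,
    HomologicalComplex.exactAt_iff' K n0 n n2 (by simp [← h0]) (by simp [← h2]),
    ShortComplex.moduleCat_exact_iff]
  rfl

variable (K L : CochainComplex (ModuleCat.{u} A) ℤ)

theorem π_eq_zero_of_snd {n : ℤ} (x : (HomologicalComplex.tensorObj K L).X n) (m : ℤ)
    (hx : ∀ j, j < m → π K L n (n - j) j (by omega) x = 0)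
    (i₁ i₂ : ℤ) (h : i₁ + i₂ = n) (hlt : i₂ < m) : π K L n i₁ i₂ h x = 0 := by
  obtain rfl : i₁ = n - i₂ := by omega
  exact hx i₂ hlt

theorem eq_zero_of_snd {n : ℤ} (x : (HomologicalComplex.tensorObj K L).X n)
    (hx : ∀ j, π K L n (n - j) j (by omega) x = 0) : x = 0 := by
  apply eq_zero_of_π_eq_zero
  intro i₁ i₂ h
  obtain rfl : i₁ = n - i₂ := by omega
  exact hx i₂

theorem isZero_tensor_of_isZero_right (M N : ModuleCat.{u} A) (hN : IsZero N) :
    IsZero (M ⊗ N) := by
  have : IsZero ((tensorLeft M).obj N) := Functor.map_isZero _ hN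
  exact this

theorem isZero_tensor_of_isZero_left (M N : ModuleCat.{u} A) (hM : IsZero M) :
    IsZero (M ⊗ N) := by
  have : IsZero ((tensorRight N).obj M) := Functor.map_isZero _ hM
  exact this

theorem exact_of_acyclic (hL : ∀ i, IsZero (K.homology i)) (a0 a1 a2 : ℤ) (h0 : a0 + 1 = a1)
    (h2 : a1 + 1 = a2) : Function.Exact (K.d a0 a1).hom (K.d a1 a2).hom := by
  intro x
  constructor
  · exact (isZero_homology_iff K a0 a1 a2 h0 h2).1 (hL a1) x
  · rintro ⟨y, rfl⟩
    have := K.d_comp_d a0 a1 a2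
    exact congrArg (fun f => f.hom y) this

/-- **K-flatness of bounded above termwise flat complexes** (second variable). -/
theorem isZero_homology_tensor_of_flat_right (b : ℤ) (hb : ∀ i, b < i → IsZero (L.X i))
    (hflat : ∀ i, Module.Flat A (L.X i)) (hK : ∀ i, IsZero (K.homology i)) (n : ℤ) :
    IsZero ((HomologicalComplex.tensorObj K L).homology n) := by
  obtain ⟨n0, h0⟩ : ∃ n0 : ℤ, n0 + 1 = n := ⟨n - 1, by omega⟩
  obtain ⟨n2, h2⟩ : ∃ n2 : ℤ, n + 1 = n2 := ⟨n + 1, rfl⟩
  rw [isZero_homology_iff _ n0 n n2 h0 h2]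
  intro x hx
  refine Staircase.exact_of_rows_exact
    (E0 := fun j => (K.X (n0 - j) ⊗ L.X j : ModuleCat.{u} A))
    (E1 := fun j => (K.X (n - j) ⊗ L.X j : ModuleCat.{u} A))
    (E2 := fun j => (K.X (n2 - j) ⊗ L.X j : ModuleCat.{u} A))
    ((HomologicalComplex.tensorObj K L).d n0 n).hom ((HomologicalComplex.tensorObj K L).d n n2).hom
    (fun j => π K L n (n - j) j (by omega)) (fun j => π K L n2 (n2 - j) j (by omega))
    (fun j => ι K L n0 (n0 - j) j (by omega))
    (fun j => (K.d (n0 - j) (n - j) ▷ L.X j).hom) (fun j => (K.d (n - j) (n2 - j) ▷ L.X j).hom)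
    ?_ ?_ ?_ ?_ ?_ ?_ b ?_ ?_ x hx
  · -- hD0a
    intro m w j hj
    rw [d_ι K L n0 n h0 (n0 - m) m (n - m) (m + 1) (by omega) (by omega) rfl w, map_add,
      Units.smul_def, map_zsmul, π_ι_ne, π_ι_ne, smul_zero, add_zero]
    · intro heq
      have := congrArg Prod.snd heq
      simp only at this
      omega
    · intro heq
      have := congrArg Prod.snd heq
      simp only at this
      omega
  · -- hD0b
    intro m w
    rw [d_ι K L n0 n h0 (n0 - m) m (n - m) (m + 1) (by omega) (by omega) rfl w, map_add,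
      Units.smul_def, map_zsmul, π_ι_self, π_ι_ne, smul_zero, add_zero]
    intro heq
    have := congrArg Prod.snd heq
    simp only at this
    omega
  · -- hD1
    intro m x hx
    rw [π_d K L n n2 h2 x (n2 - m) m (n - m) (m - 1) (by omega) (by omega) (by omega),
      π_eq_zero_of_snd K L x m hx (n2 - m) (m - 1) (by omega) (by omega), map_zero, smul_zero,
      add_zero]
  · -- hEX
    intro m y hy
    have hex := Module.Flat.rTensor_exact (L.X m)
      (exact_of_acyclic K hK (n0 - m) (n - m) (n2 - m) (by omega) (by omega))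
    exact (hex y).1 hy
  · -- hINJ
    intro x hx
    exact eq_zero_of_snd K L x hx
  · -- hFS
    intro x
    obtain ⟨m, hm⟩ := exists_lower_bound_snd K L n x
    exact ⟨m, fun j hj => hm _ _ _ hj⟩
  · -- hUB
    intro x j hj
    exact (ModuleCat.isZero_iff_subsingleton.1
      (isZero_tensor_of_isZero_right _ _ (hb j hj))).elim _ _
  · -- hdd
    intro y
    have := (HomologicalComplex.tensorObj K L).d_comp_d n0 n n2
    exact congrArg (fun f => f.hom y) this

end Groth.Agent.Lib.Helper28.TensorCx
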