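import Groth.Prelude.Def_DerCA
import Mathlib

/-!
# The extended alternating Čech complex `DerCA.extCech`: basic vanishing results
-/

set_option autoImplicit false
universe u v
open CategoryTheory CategoryTheory.Limits CochainComplex

namespace Groth.Agent.Lib.Helper28.ExtCech

section General

variable {C : Type u} [Category.{v} C] [Abelian C]

/-- A morphism of cochain complexes is a quasi-isomorphism iff its mapping cone is acyclic. -/
theorem quasiIso_iff_exactAt_mappingCone {K L : CochainComplex C ℤ} (φ : K ⟶ L) :
    QuasiIso φ ↔ ∀ n : ℤ, (mappingCone φ).ExactAt n := by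
  rw [← HomotopyCategory.quotient_obj_mem_subcategoryAcyclic_iff_exactAt]
  have h := (HomotopyCategory.subcategoryAcyclic C).trW_iff_of_distinguished _
    (HomotopyCategory.mappingCone_triangleh_distinguished φ)
  rw [← HomotopyCategory.quasiIso_eq_trW_subcategoryAcyclic] at h
  exact (HomotopyCategory.quotient_map_mem_quasiIso_iff φ).symm.trans h

/-- The mapping cocone of a quasi-isomorphism is acyclic. -/
theorem isZero_homology_mappingCocone {K L : CochainComplex C ℤ} (φ : K ⟶ L) [QuasiIso φ] (n : ℤ) :
    IsZero ((mappingCocone φ).homology n) := by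
  have h := (quasiIso_iff_exactAt_mappingCone φ).1 inferInstance (n + (-1))
  rw [HomologicalComplex.exactAt_iff_isZero_homology] at h
  exact h.of_iso ((CochainComplex.ShiftSequence.shiftIso C (-1) n (n + (-1)) (by omega)).app
    (mappingCone φ))

/-- A morphism between acyclic complexes is a quasi-isomorphism. -/
theorem quasiIso_of_acyclic {K L : CochainComplex C ℤ} (φ : K ⟶ L)
    (hK : ∀ n, IsZero (K.homology n)) (hL : ∀ n, IsZero (L.homology n)) : QuasiIso φ := by
  rw [quasiIso_iff]
  intro n
  rw [quasiIsoAt_iff_isIso_homologyMap]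
  exact ⟨0, (hK n).eq_of_src _ _, (hL n).eq_of_src _ _⟩

/-- `K` is zero in the homotopy category iff its identity is null-homotopic. -/
theorem isZero_quotient_iff (K : CochainComplex C ℤ) :
    IsZero ((HomotopyCategory.quotient C (ComplexShape.up ℤ)).obj K) ↔
      Nonempty (Homotopy (𝟙 K) 0) := by
  constructor
  · intro h
    refine ⟨HomotopyCategory.homotopyOfEq _ _ ?_⟩
    exact h.eq_of_src _ _
  · rintro ⟨h⟩
    rw [IsZero.iff_id_eq_zero, ← CategoryTheory.Functor.map_id]
    rw [HomotopyCategory.eq_of_homotopy _ _ h, Functor.map_zero]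

/-- If `φ` becomes an isomorphism in the homotopy category, its mapping cocone is contractible. -/
theorem homotopy_mappingCocone_of_isIso {K L : CochainComplex C ℤ} (φ : K ⟶ L)
    (h : IsIso ((HomotopyCategory.quotient C (ComplexShape.up ℤ)).map φ)) :
    Nonempty (Homotopy (𝟙 (mappingCocone φ)) 0) := by
  rw [← isZero_quotient_iff]
  have h3 : IsZero ((HomotopyCategory.quotient C (ComplexShape.up ℤ)).obj (mappingCone φ)) :=
    Pretriangulated.Triangle.isZero₃_of_isIso₁ _
      (HomotopyCategory.mappingCone_triangleh_distinguished φ) h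
  have h4 : IsZero (((HomotopyCategory.quotient C (ComplexShape.up ℤ)).obj (mappingCone φ))⟦(-1 : ℤ)⟧) :=
    (CategoryTheory.shiftFunctor (HomotopyCategory C (ComplexShape.up ℤ)) (-1 : ℤ)).map_isZero h3
  exact h4.of_iso (((HomotopyCategory.quotient C (ComplexShape.up ℤ)).commShiftIso (-1 : ℤ)).app
    (mappingCone φ))

end General

section Loc

variable {R : Type u} [CommRing R]

open DerCA

/-- `f` acts bijectively on the module `N`. -/
def ActsBij (f : R) (N : ModuleCat.{u} R) : Prop := Function.Bijective (fun m : N => f • m)

lemma ActsBij.of_iso {f : R} {N N' : ModuleCat.{u} R} (e : N ≅ N') (h : ActsBij f N) :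
    ActsBij f N' := by
  have he : ∀ m : N, e.hom (f • m) = f • e.hom m := fun m => map_smul e.hom.hom f m
  constructor
  · intro a b hab
    have ha : e.hom (e.inv a) = a := by rw [← ModuleCat.comp_apply, e.inv_hom_id]; rfl
    have hb : e.hom (e.inv b) = b := by rw [← ModuleCat.comp_apply, e.inv_hom_id]; rfl
    have : f • e.inv a = f • e.inv b := by
      have h1 : e.inv (f • a) = f • e.inv a := map_smul e.inv.hom f a
      have h2 : e.inv (f • b) = f • e.inv b := map_smul e.inv.hom f b
      rw [← h1, ← h2]; exact congrArg e.inv hab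
    rw [← ha, ← hb, h.1 this]
  · intro b
    obtain ⟨a, ha⟩ := h.2 (e.inv b)
    refine ⟨e.hom a, ?_⟩
    change f • e.hom a = b
    rw [← he, show f • a = e.inv b from ha, ← ModuleCat.comp_apply, e.inv_hom_id]; rfl

lemma ActsBij.of_isZero {f : R} {N : ModuleCat.{u} R} (h : IsZero N) : ActsBij f N := by
  have : Subsingleton N := ModuleCat.subsingleton_of_isZero h
  exact ⟨fun a b _ => Subsingleton.elim a b, fun b => ⟨b, Subsingleton.elim _ _⟩⟩

lemma ActsBij.biprod {f : R} {N N' : ModuleCat.{u} R} (h : ActsBij f N) (h' : ActsBij f N') :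
    ActsBij f (N ⊞ N') := by
  refine ActsBij.of_iso (ModuleCat.biprodIsoProd N N').symm ?_
  constructor
  · rintro ⟨a, a'⟩ ⟨b, b'⟩ hab
    have h1 : f • a = f • b := congrArg Prod.fst hab
    have h2 : f • a' = f • b' := congrArg Prod.snd hab
    exact Prod.ext (h.1 h1) (h'.1 h2)
  · rintro ⟨b, b'⟩
    obtain ⟨a, ha⟩ := h.2 b
    obtain ⟨a', ha'⟩ := h'.2 b'
    exact ⟨(a, a'), Prod.ext ha ha'⟩

lemma bijective_smul_localizedModule {f : R} {M : Type u} [AddCommGroup M] [Module R M]
    (h : Function.Bijective (fun m : M => f • m)) (S : Submonoid R) :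
    Function.Bijective (fun m : LocalizedModule S M => f • m) := by
  constructor
  · intro a b hab
    induction a using LocalizedModule.induction_on with
    | h m s =>
    induction b using LocalizedModule.induction_on with
    | h m' s' =>
    change f • LocalizedModule.mk m s = f • LocalizedModule.mk m' s' at hab
    rw [LocalizedModule.smul'_mk, LocalizedModule.smul'_mk, LocalizedModule.mk_eq] at hab
    obtain ⟨c, hc⟩ := hab
    rw [LocalizedModule.mk_eq]
    refine ⟨c, h.1 ?_⟩
    change f • (c • s' • m) = f • (c • s • m')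
    rw [smul_comm f c, smul_comm f s', smul_comm f c, smul_comm f s]
    exact hc
  · intro b
    induction b using LocalizedModule.induction_on with
    | h m s =>
    obtain ⟨m', hm'⟩ := h.2 m
    refine ⟨LocalizedModule.mk m' s, ?_⟩
    change f • LocalizedModule.mk m' s = LocalizedModule.mk m s
    rw [LocalizedModule.smul'_mk]
    congr 1

lemma ActsBij.loc {f : R} {N : ModuleCat.{u} R} (h : ActsBij f N) (S : Submonoid R) :
    ActsBij f ((locFunctor S).obj N) :=
  bijective_smul_localizedModule (M := N) h S

/-- If `f` acts bijectively on `M` then `M → M_f` is bijective. -/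
lemma bijective_mkLinearMap_powers {f : R} {M : Type u} [AddCommGroup M] [Module R M]
    (h : Function.Bijective (fun m : M => f • m)) :
    Function.Bijective (LocalizedModule.mkLinearMap (Submonoid.powers f) M) := by
  have hpow : ∀ k : ℕ, Function.Bijective (fun m : M => f ^ k • m) := by
    intro k
    induction k with
    | zero =>
      have : (fun m : M => f ^ 0 • m) = id := by funext m; simp
      rw [this]; exact Function.bijective_id
    | succ k ih =>
      have : (fun m : M => f ^ (k + 1) • m) = (fun m : M => f ^ k • m) ∘ (fun m : M => f • m) := by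
        funext m; simp [pow_succ, mul_smul]
      rw [this]; exact ih.comp h
  constructor
  · rw [← LinearMap.ker_eq_bot, LinearMap.ker_eq_bot']
    intro m hm
    change LocalizedModule.mk m 1 = 0 at hm
    rw [← LocalizedModule.zero_mk 1, LocalizedModule.mk_eq] at hm
    obtain ⟨⟨c, k, rfl⟩, hc⟩ := hm
    simp only [one_smul, smul_zero] at hc
    exact (hpow k).1 (by simpa [Submonoid.smul_def] using hc)
  · intro b
    induction b using LocalizedModule.induction_on with
    | h m s =>
    obtain ⟨_, k, rfl⟩ := s
    obtain ⟨m', hm'⟩ := (hpow k).2 m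
    refine ⟨m', ?_⟩
    change LocalizedModule.mk m' 1 = LocalizedModule.mk m _
    rw [LocalizedModule.mk_eq]
    refine ⟨1, ?_⟩
    simp only [one_smul, Submonoid.smul_def]
    exact hm'

/-- `f` acts bijectively on every term of the extended Čech complex of `M` if it does on `M`. -/
theorem actsBij_extCech_X {f : R} {M : ModuleCat.{u} R} (h : ActsBij f M) :
    ∀ (fs : List R) (n : ℤ), ActsBij f ((extCech M fs).X n)
  | [], n => by
    by_cases hn : n = 0
    · subst hn
      exact ActsBij.of_iso (HomologicalComplex.singleObjXSelf (ComplexShape.up ℤ) 0 M).symm h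
    · exact ActsBij.of_isZero (HomologicalComplex.isZero_single_obj_X (ComplexShape.up ℤ) 0 M n hn)
  | g :: gs, n => by
    refine ActsBij.of_iso (mappingCoconeXIso
      (locCxUnit (Submonoid.powers g) (extCech M gs)) n).symm ?_
    exact ActsBij.biprod (actsBij_extCech_X h gs n) ((actsBij_extCech_X h gs (n - 1)).loc _)

/-- If `f` acts bijectively on every term of `K`, then `K ⟶ K_f` is an isomorphism. -/
theorem isIso_locCxUnit {f : R} (K : DRing.Cx R) (h : ∀ n, ActsBij f (K.X n)) :
    IsIso (locCxUnit (Submonoid.powers f) K) := by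
  have : ∀ n, IsIso ((locCxUnit (Submonoid.powers f) K).f n) := fun n =>
    (ConcreteCategory.isIso_iff_bijective _).2 (bijective_mkLinearMap_powers (M := K.X n) (h n))
  exact HomologicalComplex.Hom.isIso_of_components _

/-- Termwise localisation preserves acyclicity. -/
theorem isZero_homology_locCx (S : Submonoid R) (K : DRing.Cx R)
    (h : ∀ n, IsZero (K.homology n)) (n : ℤ) : IsZero (((locCx S).obj K).homology n) := by
  rw [← HomologicalComplex.exactAt_iff_isZero_homology, HomologicalComplex.exactAt_iff,
    ShortComplex.ShortExact.moduleCat_exact_iff_function_exact]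
  have hK := h n
  rw [← HomologicalComplex.exactAt_iff_isZero_homology, HomologicalComplex.exactAt_iff,
    ShortComplex.ShortExact.moduleCat_exact_iff_function_exact] at hK
  exact IsLocalizedModule.map_exact S (LocalizedModule.mkLinearMap S _)
    (LocalizedModule.mkLinearMap S _) (LocalizedModule.mkLinearMap S _) _ _ hK

/-- If some `f ∈ fs` acts bijectively on `M`, the extended Čech complex of `M` on `fs` is acyclic. -/
theorem isZero_extCechH_of_actsBij {f : R} {M : ModuleCat.{u} R} (h : ActsBij f M) :
    ∀ (fs : List R), f ∈ fs → ∀ q : ℤ, IsZero (extCechH fs M q)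
  | [], hf, _ => by simp at hf
  | g :: gs, hf, q => by
    change IsZero ((mappingCocone (locCxUnit (Submonoid.powers g) (extCech M gs))).homology q)
    by_cases hg : f = g
    · subst hg
      have := isIso_locCxUnit (extCech M gs) (actsBij_extCech_X h gs)
      exact isZero_homology_mappingCocone _ q
    · have hf' : f ∈ gs := by
        rcases List.mem_cons.1 hf with h1 | h1
        · exact absurd h1 hg
        · exact h1
      have hK := isZero_extCechH_of_actsBij h gs hf'
      have : QuasiIso (locCxUnit (Submonoid.powers g) (extCech M gs)) :=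
        quasiIso_of_acyclic _ hK (isZero_homology_locCx _ _ hK)
      exact isZero_homology_mappingCocone _ q

/-- The terms of the extended Čech complex vanish outside `[0, length]`. -/
theorem isZero_extCech_X (M : ModuleCat.{u} R) :
    ∀ (fs : List R) (n : ℤ), (n < 0 ∨ (fs.length : ℤ) < n) → IsZero ((extCech M fs).X n)
  | [], n, h => by
    refine HomologicalComplex.isZero_single_obj_X (ComplexShape.up ℤ) 0 M n ?_
    rcases h with h | h
    · omega
    · simp at h; omega
  | g :: gs, n, h => by
    refine IsZero.of_iso ?_ (mappingCoconeXIso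
      (locCxUnit (Submonoid.powers g) (extCech M gs)) n)
    have h1 : IsZero ((extCech M gs).X n) := isZero_extCech_X M gs n (by
      rcases h with h | h
      · exact Or.inl h
      · right; simp at h; omega)
    have h2 : IsZero (((locCx (Submonoid.powers g)).obj (extCech M gs)).X (n - 1)) :=
      (locFunctor (Submonoid.powers g)).map_isZero (isZero_extCech_X M gs (n - 1) (by
        rcases h with h | h
        · left; omega
        · right; simp at h; omega))
    rw [IsZero.iff_id_eq_zero]
    apply biprod.hom_ext
    · exact h1.eq_of_tgt _ _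
    · exact h2.eq_of_tgt _ _

/-- The cohomology of the extended Čech complex vanishes outside `[0, length]`. -/
theorem isZero_extCechH_of_lt (M : ModuleCat.{u} R) (fs : List R) (q : ℤ)
    (h : q < 0 ∨ (fs.length : ℤ) < q) : IsZero (extCechH fs M q) := by
  rw [← HomologicalComplex.exactAt_iff_isZero_homology, HomologicalComplex.exactAt_iff]
  exact ShortComplex.exact_of_isZero_X₂ _ (isZero_extCech_X M fs q h)

lemma actsBij_of_isUnit {f : R} (hf : IsUnit f) (N : ModuleCat.{u} R) : ActsBij f N := by
  obtain ⟨u, rfl⟩ := hf
  constructor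
  · intro a b hab
    have := congrArg (fun m : N => (↑u⁻¹ : R) • m) hab
    simpa [smul_smul] using this
  · intro b
    exact ⟨(↑u⁻¹ : R) • b, by simp [smul_smul]⟩

/-- If some element of `fs` is a unit, the extended Čech complex is contractible. -/
theorem homotopy_extCech_of_isUnit (M : ModuleCat.{u} R) :
    ∀ fs : List R, (∃ f ∈ fs, IsUnit f) → Nonempty (Homotopy (𝟙 (extCech M fs)) 0)
  | [], h => by simp at h
  | g :: gs, h => by
    change Nonempty (Homotopy
      (𝟙 (mappingCocone (locCxUnit (Submonoid.powers g) (extCech M gs)))) 0)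
    apply homotopy_mappingCocone_of_isIso
    by_cases hg : IsUnit g
    · have : IsIso (locCxUnit (Submonoid.powers g) (extCech M gs)) :=
        isIso_locCxUnit _ (fun n => actsBij_of_isUnit hg _)
      infer_instance
    · obtain ⟨f, hf, hu⟩ := h
      have hf' : f ∈ gs := by
        rcases List.mem_cons.1 hf with h1 | h1
        · subst h1; exact absurd hu hg
        · exact h1
      obtain ⟨hK⟩ := homotopy_extCech_of_isUnit M gs ⟨f, hf', hu⟩
      have z1 := (isZero_quotient_iff _).2 ⟨hK⟩
      have hK' : Homotopy (𝟙 ((locCx (Submonoid.powers g)).obj (extCech M gs))) 0 :=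
        (Homotopy.ofEq (by simp)).trans
          (((locFunctor (Submonoid.powers g)).mapHomotopy hK).trans (Homotopy.ofEq (by simp)))
      have z2 := (isZero_quotient_iff _).2 ⟨hK'⟩
      exact ⟨⟨0, z1.eq_of_src _ _, z2.eq_of_src _ _⟩⟩

/-! ### Torsion of the cohomology -/

/-- Every element of `N` is killed by a power of `f`. -/
def PowTors (f : R) (N : ModuleCat.{u} R) : Prop := ∀ x : N, ∃ n : ℕ, f ^ n • x = 0

lemma PowTors.of_iso {f : R} {N N' : ModuleCat.{u} R} (e : N ≅ N') (h : PowTors f N) :
    PowTors f N' := by
  intro x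
  obtain ⟨n, hn⟩ := h (e.inv x)
  refine ⟨n, ?_⟩
  have hx : e.hom (e.inv x) = x := by rw [← ModuleCat.comp_apply, e.inv_hom_id]; rfl
  rw [← hx, ← map_smul e.hom.hom, hn, map_zero]

lemma PowTors.of_exact {f : R} {S : ShortComplex (ModuleCat.{u} R)} (hS : S.Exact)
    (h1 : PowTors f S.X₁) (h3 : PowTors f S.X₃) : PowTors f S.X₂ := by
  rw [ShortComplex.ShortExact.moduleCat_exact_iff_function_exact] at hS
  intro x
  obtain ⟨a, ha⟩ := h3 (S.g x)
  have : S.g (f ^ a • x) = 0 := by rw [map_smul S.g.hom, ha]
  obtain ⟨u, hu⟩ := (hS _).1 this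
  obtain ⟨b, hb⟩ := h1 u
  refine ⟨b + a, ?_⟩
  rw [pow_add, mul_smul, ← hu, ← map_smul S.f.hom, hb, map_zero]

lemma powTors_localizedModule {f : R} {M : Type u} [AddCommGroup M] [Module R M]
    (h : ∀ x : M, ∃ n : ℕ, f ^ n • x = 0) (S : Submonoid R) (y : LocalizedModule S M) :
    ∃ n : ℕ, f ^ n • y = 0 := by
  induction y using LocalizedModule.induction_on with
  | h m s =>
  obtain ⟨n, hn⟩ := h m
  exact ⟨n, by rw [LocalizedModule.smul'_mk, hn, LocalizedModule.zero_mk]⟩

lemma PowTors.loc {f : R} {N : ModuleCat.{u} R} (h : PowTors f N) (S : Submonoid R) :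
    PowTors f ((locFunctor S).obj N) :=
  fun y => powTors_localizedModule (M := N) h S y

lemma powTors_of_subsingleton_localizedModule {f : R} {M : Type u} [AddCommGroup M] [Module R M]
    (h : Subsingleton (LocalizedModule (Submonoid.powers f) M)) (x : M) :
    ∃ n : ℕ, f ^ n • x = 0 := by
  have h0 : LocalizedModule.mk x (1 : Submonoid.powers f) = 0 := Subsingleton.elim _ _
  rw [← LocalizedModule.zero_mk 1, LocalizedModule.mk_eq] at h0
  obtain ⟨⟨c, k, rfl⟩, hc⟩ := h0
  refine ⟨k, ?_⟩
  simpa [Submonoid.smul_def] using hc

lemma PowTors.of_isZero_loc {f : R} {N : ModuleCat.{u} R}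
    (h : IsZero ((locFunctor (Submonoid.powers f)).obj N)) : PowTors f N :=
  fun x => powTors_of_subsingleton_localizedModule (M := N)
    (ModuleCat.subsingleton_of_isZero h) x

lemma locFunctor_map_exact (S : Submonoid R) (T : ShortComplex (ModuleCat.{u} R)) (hT : T.Exact) :
    (T.map (locFunctor S)).Exact := by
  rw [ShortComplex.ShortExact.moduleCat_exact_iff_function_exact] at hT ⊢
  exact IsLocalizedModule.map_exact S (LocalizedModule.mkLinearMap S _)
    (LocalizedModule.mkLinearMap S _) (LocalizedModule.mkLinearMap S _) _ _ hT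

instance preservesHomology_locFunctor (S : Submonoid R) : (locFunctor S).PreservesHomology :=
  ((Functor.exact_tfae (locFunctor S)).out 1 2).1 (locFunctor_map_exact S)

/-- Localisation commutes with cohomology. -/
noncomputable def homologyLocCxIso (S : Submonoid R) (K : DRing.Cx R) (n : ℤ) :
    ((locCx S).obj K).homology n ≅ (locFunctor S).obj (K.homology n) :=
  (K.sc n).mapHomologyIso (locFunctor S)

/-- `N_S → (N_S)_S`, the localisation of the localisation map, is bijective. -/
lemma bijective_map_mkLinearMap (S : Submonoid R) (M : Type u) [AddCommGroup M] [Module R M] :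
    Function.Bijective (IsLocalizedModule.map S (LocalizedModule.mkLinearMap S M)
      (LocalizedModule.mkLinearMap S (LocalizedModule S M)) (LocalizedModule.mkLinearMap S M)) := by
  constructor
  · rw [← LinearMap.ker_eq_bot, LinearMap.ker_eq_bot']
    intro y hy
    induction y using LocalizedModule.induction_on with
    | h m s =>
    rw [IsLocalizedModule.map_LocalizedModules, ← LocalizedModule.zero_mk s,
      LocalizedModule.mk_eq] at hy
    obtain ⟨t, ht⟩ := hy
    simp only [smul_zero] at ht
    -- `t • s • (m/1) = 0` in `M_S`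
    have ht1 : (t : R) • (s : R) • LocalizedModule.mk m (1 : S) = 0 := ht
    rw [LocalizedModule.smul'_mk, LocalizedModule.smul'_mk, ← LocalizedModule.zero_mk 1,
      LocalizedModule.mk_eq] at ht1
    obtain ⟨t', ht'⟩ := ht1
    simp only [one_smul, smul_zero] at ht'
    have ht2 : ((t' : R) * ((t : R) * (s : R))) • m = 0 := by
      rw [mul_smul, mul_smul]; exact ht'
    rw [← LocalizedModule.zero_mk s, LocalizedModule.mk_eq]
    refine ⟨t' * (t * s), ?_⟩
    simp only [smul_zero]
    change ((t' : R) * ((t : R) * (s : R))) • (s : R) • m = 0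
    rw [smul_comm, ht2, smul_zero]
  · intro y
    induction y using LocalizedModule.induction_on with
    | h z s' =>
    induction z using LocalizedModule.induction_on with
    | h m s =>
    refine ⟨LocalizedModule.mk m (s * s'), ?_⟩
    rw [IsLocalizedModule.map_LocalizedModules, LocalizedModule.mk_eq]
    refine ⟨1, ?_⟩
    simp only [one_smul]
    change (s' : R) • LocalizedModule.mk m (1 : S) = (((s * s' : S) : R)) • LocalizedModule.mk m s
    rw [LocalizedModule.smul'_mk, LocalizedModule.smul'_mk, LocalizedModule.mk_eq]
    refine ⟨1, ?_⟩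
    simp only [one_smul, Submonoid.smul_def, Submonoid.coe_mul, smul_smul]

/-- Torsion of the cohomology passes to mapping cones (long exact sequence). -/
theorem powTors_homology_mappingCone {f : R} {K L : DRing.Cx R} (φ : K ⟶ L)
    (hK : ∀ n, PowTors f (K.homology n)) (hL : ∀ n, PowTors f (L.homology n)) (n : ℤ) :
    PowTors f ((mappingCone φ).homology n) := by
  have hT := HomotopyCategory.mappingCone_triangleh_distinguished φ
  have hex := (HomotopyCategory.homologyFunctor (ModuleCat.{u} R) (ComplexShape.up ℤ) 0).homologySequence_exact₃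
    _ hT n (n + 1) rfl
  have e1 := (HomotopyCategory.homologyFunctorFactors (ModuleCat.{u} R) (ComplexShape.up ℤ) n).app L
  have e2 := (HomotopyCategory.homologyFunctorFactors (ModuleCat.{u} R) (ComplexShape.up ℤ) n).app
    (mappingCone φ)
  have e3 := (HomotopyCategory.homologyFunctorFactors (ModuleCat.{u} R) (ComplexShape.up ℤ)
    (n + 1)).app K
  exact PowTors.of_iso e2 (PowTors.of_exact hex ((hL n).of_iso e1.symm) ((hK (n + 1)).of_iso e3.symm))

/-- Every cohomology class of the extended Čech complex is killed by a power of each `f ∈ fs`. -/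
theorem powTors_extCechH (M : ModuleCat.{u} R) :
    ∀ (fs : List R) (f : R), f ∈ fs → ∀ q : ℤ, PowTors f (extCechH fs M q)
  | [], f, hf, _ => by simp at hf
  | g :: gs, f, hf, q => by
    change PowTors f ((mappingCocone (locCxUnit (Submonoid.powers g) (extCech M gs))).homology q)
    -- reduce to the cone
    refine PowTors.of_iso ((CochainComplex.ShiftSequence.shiftIso (ModuleCat.{u} R) (-1) q (q + (-1))
      (by omega)).app (mappingCone (locCxUnit (Submonoid.powers g) (extCech M gs)))).symm ?_
    change PowTors f ((mappingCone (locCxUnit (Submonoid.powers g) (extCech M gs))).homology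
      (q + (-1)))
    by_cases hg : f = g
    · subst hg
      apply PowTors.of_isZero_loc
      refine IsZero.of_iso ?_ (homologyLocCxIso (Submonoid.powers f) _ (q + (-1))).symm
      refine IsZero.of_iso ?_ ((HomologicalComplex.homologyFunctor _ _ (q + (-1))).mapIso
        (mappingCone.mapHomologicalComplexIso (locCxUnit (Submonoid.powers f) (extCech M gs))
          (locFunctor (Submonoid.powers f))))
      have hiso : IsIso ((locCx (Submonoid.powers f)).map
          (locCxUnit (Submonoid.powers f) (extCech M gs))) := by
        have : ∀ n, IsIso (((locCx (Submonoid.powers f)).map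
            (locCxUnit (Submonoid.powers f) (extCech M gs))).f n) := fun n =>
          (ConcreteCategory.isIso_iff_bijective _).2
            (bijective_map_mkLinearMap (Submonoid.powers f) ((extCech M gs).X n))
        exact HomologicalComplex.Hom.isIso_of_components _
      have := (quasiIso_iff_exactAt_mappingCone ((locCx (Submonoid.powers f)).map
          (locCxUnit (Submonoid.powers f) (extCech M gs)))).1 inferInstance (q + (-1))
      rwa [HomologicalComplex.exactAt_iff_isZero_homology] at this
    · have hf' : f ∈ gs := by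
        rcases List.mem_cons.1 hf with h1 | h1
        · exact absurd h1 hg
        · exact h1
      have hK := powTors_extCechH M gs f hf'
      refine powTors_homology_mappingCone _ hK (fun n => ?_) _
      exact PowTors.of_iso (homologyLocCxIso (Submonoid.powers g) _ n).symm ((hK n).loc _)

/-- A common exponent for all elements of the list. -/
theorem exists_pow_smul_eq_zero (M : ModuleCat.{u} R) (fs : List R) (q : ℤ)
    (x : extCechH fs M q) : ∃ n : ℕ, 1 ≤ n ∧ ∀ f ∈ fs, f ^ n • x = 0 := by
  suffices h : ∀ l : List R, (∀ f ∈ l, f ∈ fs) → ∃ n : ℕ, 1 ≤ n ∧ ∀ f ∈ l, f ^ n • x = 0 from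
    h fs (fun f hf => hf)
  intro l
  induction l with
  | nil => exact fun _ => ⟨1, le_refl _, fun f hf => absurd hf List.not_mem_nil⟩
  | cons a l ih =>
    intro hl
    obtain ⟨n, hn1, hn⟩ := ih (fun f hf => hl f (List.mem_cons_of_mem _ hf))
    obtain ⟨k, hk⟩ := powTors_extCechH M fs a (hl a List.mem_cons_self) q x
    refine ⟨n + k, by omega, fun f hf => ?_⟩
    rcases List.mem_cons.1 hf with rfl | hf
    · rw [pow_add, mul_smul, hk, smul_zero]
    · rw [add_comm, pow_add, mul_smul, hn f hf, smul_zero]

lemma homologyMap_smul_id (K : DRing.Cx R) (a : R) (q : ℤ) :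
    HomologicalComplex.homologyMap (a • 𝟙 K) q = a • 𝟙 (K.homology q) := by
  rw [← cancel_epi (K.homologyπ q), HomologicalComplex.homologyπ_naturality]
  have : HomologicalComplex.cyclesMap (a • 𝟙 K) q = a • 𝟙 _ := by
    rw [← cancel_mono (K.iCycles q), HomologicalComplex.cyclesMap_i]
    simp [Linear.smul_comp, Linear.comp_smul]
  rw [this]
  simp [Linear.smul_comp, Linear.comp_smul]

/-- If `a` acts bijectively on all terms of `K`, it acts injectively on the cohomology. -/
lemma smul_injective_homology {a : R} (K : DRing.Cx R) (h : ∀ n, ActsBij a (K.X n)) (q : ℤ)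
    (x : K.homology q) (hx : a • x = 0) : x = 0 := by
  have hiso : IsIso (a • 𝟙 K) := by
    have : ∀ n, IsIso ((a • 𝟙 K).f n) := fun n => by
      refine (ConcreteCategory.isIso_iff_bijective _).2 ?_
      have : ⇑(ConcreteCategory.hom ((a • 𝟙 K).f n)) = fun m : K.X n => a • m := by
        funext m; rfl
      rw [this]; exact h n
    exact HomologicalComplex.Hom.isIso_of_components _
  have h2 : IsIso (HomologicalComplex.homologyMap (a • 𝟙 K) q) := inferInstance
  rw [homologyMap_smul_id] at h2
  have h3 := ((ConcreteCategory.isIso_iff_bijective _).1 h2).1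
  exact h3 (by rw [map_zero]; exact hx)

/-- If some `f` in the ideal generated by `fs` acts bijectively on `M`, the extended Čech complex
is acyclic. -/
theorem isZero_extCechH_of_mem_span {f : R} {M : ModuleCat.{u} R} (fs : List R)
    (hf : f ∈ Ideal.span {a : R | a ∈ fs}) (h : ActsBij f M) (q : ℤ) :
    IsZero (extCechH fs M q) := by
  have hsub : Subsingleton (extCechH fs M q) := by
    refine ⟨fun x y => ?_⟩
    suffices h0 : ∀ z : extCechH fs M q, z = 0 by rw [h0 x, h0 y]
    intro z
    obtain ⟨n, -, hn⟩ := exists_pow_smul_eq_zero M fs q z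
    -- the annihilator of `z`
    let J : Ideal R := LinearMap.ker (LinearMap.toSpanSingleton R (extCechH fs M q) z)
    have hJ : ∀ r : R, r ∈ J ↔ r • z = 0 := fun r => by
      simp only [J, LinearMap.mem_ker, LinearMap.toSpanSingleton_apply]
    have hle : Ideal.span {a : R | a ∈ fs} ≤ J.radical := by
      rw [Ideal.span_le]
      intro a ha
      exact ⟨n, (hJ _).2 (hn a ha)⟩
    obtain ⟨N, hN⟩ := hle hf
    rw [hJ] at hN
    -- `f` acts injectively on the cohomology
    have hinj : ∀ (k : ℕ) (w : extCechH fs M q), f ^ k • w = 0 → w = 0 := by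
      intro k
      induction k with
      | zero => intro w hw; simpa using hw
      | succ k ih =>
        intro w hw
        rw [pow_succ, mul_smul] at hw
        exact smul_injective_homology _ (actsBij_extCech_X h fs) q w (ih _ hw)
    exact hinj N z hN
  exact ModuleCat.isZero_of_subsingleton _

end Loc

end Groth.Agent.Lib.Helper28.ExtCech
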