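import Mathlib

/-!
# Element-level API for the tensor product of cochain complexes of modules

Components `π`, inclusions `ι` of `(HomologicalComplex.tensorObj K L).X n` with `π ι = δ`, joint injectivity,
finite support, and the formula for `π (d x)`.
-/

set_option autoImplicit false
universe u
open CategoryTheory CategoryTheory.Limits MonoidalCategory HomologicalComplex

namespace Groth.Agent.Lib.Helper28.TensorCx

variable {A : Type u} [CommRing A] (K L : CochainComplex (ModuleCat.{u} A) ℤ)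

/-- the index type of the summands of `(K ⊗ L)^n` -/
abbrev Idx (n : ℤ) : Type :=
  (ComplexShape.π (ComplexShape.up ℤ) (ComplexShape.up ℤ) (ComplexShape.up ℤ)) ⁻¹' {n}

/-- the summand -/
abbrev summand (n : ℤ) (i : Idx n) : ModuleCat.{u} A := K.X i.1.1 ⊗ L.X i.1.2

/-- constructor of indices -/
def idx (n i₁ i₂ : ℤ) (h : i₁ + i₂ = n) : Idx n := ⟨(i₁, i₂), h⟩

/-- the comparison with the direct sum -/
noncomputable def dsIso (n : ℤ) :
    (HomologicalComplex.tensorObj K L).X n ≅ ModuleCat.of A (DirectSum (Idx n) fun i => summand K L n i) :=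
  ModuleCat.coprodIsoDirectSum (fun i : Idx n => summand K L n i)

/-- inclusion of a summand, as a linear map -/
noncomputable def ι (n i₁ i₂ : ℤ) (h : i₁ + i₂ = n) :
    (K.X i₁ ⊗ L.X i₂ : ModuleCat.{u} A) →ₗ[A] (HomologicalComplex.tensorObj K L).X n :=
  (ιTensorObj K L i₁ i₂ n h).hom

/-- projection to a summand, as a linear map -/
noncomputable def π (n i₁ i₂ : ℤ) (h : i₁ + i₂ = n) :
    (HomologicalComplex.tensorObj K L).X n →ₗ[A] (K.X i₁ ⊗ L.X i₂ : ModuleCat.{u} A) :=
  (DirectSum.component A (Idx n) (fun i => summand K L n i) (idx n i₁ i₂ h)) ∘ₗ (dsIso K L n).hom.hom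

theorem dsIso_ι (n i₁ i₂ : ℤ) (h : i₁ + i₂ = n) (x : (K.X i₁ ⊗ L.X i₂ : ModuleCat.{u} A)) :
    (dsIso K L n).hom.hom (ι K L n i₁ i₂ h x) =
      DirectSum.lof A (Idx n) (fun i => summand K L n i) (idx n i₁ i₂ h) x := by
  have := ModuleCat.ι_coprodIsoDirectSum_hom (fun i : Idx n => summand K L n i) (idx n i₁ i₂ h)
  exact congrArg (fun f => f.hom x) this

theorem π_ι_self (n i₁ i₂ : ℤ) (h : i₁ + i₂ = n) (x : (K.X i₁ ⊗ L.X i₂ : ModuleCat.{u} A)) :
    π K L n i₁ i₂ h (ι K L n i₁ i₂ h x) = x := by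
  unfold π
  rw [LinearMap.comp_apply, dsIso_ι]
  exact DirectSum.component.lof_self A (M := fun i => summand K L n i) (idx n i₁ i₂ h) x

theorem π_ι_ne (n i₁ i₂ : ℤ) (h : i₁ + i₂ = n) (j₁ j₂ : ℤ) (h' : j₁ + j₂ = n)
    (hne : (i₁, i₂) ≠ (j₁, j₂)) (x : (K.X i₁ ⊗ L.X i₂ : ModuleCat.{u} A)) :
    π K L n j₁ j₂ h' (ι K L n i₁ i₂ h x) = 0 := by
  unfold π
  rw [LinearMap.comp_apply, dsIso_ι]
  refine (DirectSum.component.of A (M := fun i => summand K L n i) (idx n j₁ j₂ h')
    (idx n i₁ i₂ h) x).trans ?_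
  exact dif_neg (fun heq => hne (congrArg Subtype.val heq))

theorem eq_zero_of_π_eq_zero (n : ℤ) (x : (HomologicalComplex.tensorObj K L).X n)
    (hx : ∀ (i₁ i₂ : ℤ) (h : i₁ + i₂ = n), π K L n i₁ i₂ h x = 0) : x = 0 := by
  have hinj : Function.Injective (dsIso K L n).hom.hom :=
    (ModuleCat.mono_iff_injective _).1 inferInstance
  apply hinj
  rw [map_zero]
  apply DirectSum.ext_component A
  intro i
  rw [map_zero]
  obtain ⟨⟨i₁, i₂⟩, h⟩ := i
  exact hx i₁ i₂ h

/-- finite support of an element -/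
theorem exists_finset_support (n : ℤ) (x : (HomologicalComplex.tensorObj K L).X n) :
    ∃ s : Finset (ℤ × ℤ), ∀ (i₁ i₂ : ℤ) (h : i₁ + i₂ = n), (i₁, i₂) ∉ s →
      π K L n i₁ i₂ h x = 0 := by
  classical
  refine ⟨(DFinsupp.support ((dsIso K L n).hom.hom x)).image Subtype.val, ?_⟩
  intro i₁ i₂ h hnot
  by_contra hne
  apply hnot
  rw [Finset.mem_image]
  refine ⟨idx n i₁ i₂ h, ?_, rfl⟩
  rw [DFinsupp.mem_support_iff]
  exact hne

theorem exists_lower_bound_snd (n : ℤ) (x : (HomologicalComplex.tensorObj K L).X n) :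
    ∃ m : ℤ, ∀ (i₁ i₂ : ℤ) (h : i₁ + i₂ = n), i₂ < m → π K L n i₁ i₂ h x = 0 := by
  obtain ⟨s, hs⟩ := exists_finset_support K L n x
  by_cases hne : s.Nonempty
  · refine ⟨(s.image Prod.snd).min' (hne.image _), ?_⟩
    intro i₁ i₂ h hlt
    apply hs
    intro hmem
    have := Finset.min'_le (s.image Prod.snd) i₂ (Finset.mem_image_of_mem Prod.snd hmem)
    omega
  · refine ⟨0, fun i₁ i₂ h _ => hs i₁ i₂ h ?_⟩
    rw [Finset.not_nonempty_iff_eq_empty] at hne
    rw [hne]
    exact Finset.notMem_empty _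

theorem exists_lower_bound_fst (n : ℤ) (x : (HomologicalComplex.tensorObj K L).X n) :
    ∃ m : ℤ, ∀ (i₁ i₂ : ℤ) (h : i₁ + i₂ = n), i₁ < m → π K L n i₁ i₂ h x = 0 := by
  obtain ⟨s, hs⟩ := exists_finset_support K L n x
  by_cases hne : s.Nonempty
  · refine ⟨(s.image Prod.fst).min' (hne.image _), ?_⟩
    intro i₁ i₂ h hlt
    apply hs
    intro hmem
    have := Finset.min'_le (s.image Prod.fst) i₁ (Finset.mem_image_of_mem Prod.fst hmem)
    omega
  · refine ⟨0, fun i₁ i₂ h _ => hs i₁ i₂ h ?_⟩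
    rw [Finset.not_nonempty_iff_eq_empty] at hne
    rw [hne]
    exact Finset.notMem_empty _

theorem lhom_ext {n : ℤ} {E : Type u} [AddCommGroup E] [Module A E]
    (f g : (HomologicalComplex.tensorObj K L).X n →ₗ[A] E)
    (h : ∀ (a b : ℤ) (hab : a + b = n) (y : (K.X a ⊗ L.X b : ModuleCat.{u} A)),
      f (ι K L n a b hab y) = g (ι K L n a b hab y)) : f = g := by
  have : ModuleCat.ofHom f = ModuleCat.ofHom g := by
    apply HomologicalComplex.mapBifunctor.hom_ext
    intro a b hab
    apply ModuleCat.hom_ext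
    apply LinearMap.ext
    intro y
    exact h a b hab y
  exact congrArg ModuleCat.Hom.hom this

theorem d_ι (n n' : ℤ) (hn : n + 1 = n') (a b a' b' : ℤ) (hab : a + b = n) (ha : a + 1 = a')
    (hb : b + 1 = b') (y : (K.X a ⊗ L.X b : ModuleCat.{u} A)) :
    ((HomologicalComplex.tensorObj K L).d n n').hom (ι K L n a b hab y) =
      ι K L n' a' b (by omega) ((K.d a a' ▷ L.X b).hom y) +
        (a.negOnePow : ℤˣ) • ι K L n' a b' (by omega) ((K.X a ◁ L.d b b').hom y) := by
  have h1 := HomologicalComplex.mapBifunctor.d₁_eq K L (curriedTensor (ModuleCat.{u} A))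
    (ComplexShape.up ℤ) (i₁ := a) (i₁' := a') ha b n' (by change a' + b = n'; omega)
  have h2 := HomologicalComplex.mapBifunctor.d₂_eq K L (curriedTensor (ModuleCat.{u} A))
    (ComplexShape.up ℤ) a (i₂ := b) (i₂' := b') hb n' (by change a + b' = n'; omega)
  have hd : ιTensorObj K L a b n hab ≫ (HomologicalComplex.tensorObj K L).d n n' =
      HomologicalComplex.mapBifunctor.d₁ K L (curriedTensor (ModuleCat.{u} A)) (ComplexShape.up ℤ) a b n' +
      HomologicalComplex.mapBifunctor.d₂ K L (curriedTensor (ModuleCat.{u} A)) (ComplexShape.up ℤ) a b n' := by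
    rw [HomologicalComplex.mapBifunctor.d_eq, Preadditive.comp_add,
      HomologicalComplex.mapBifunctor.ι_D₁, HomologicalComplex.mapBifunctor.ι_D₂]
  have := congrArg (fun f => f.hom y) hd
  refine this.trans ?_
  rw [h1, h2]
  have e1 : (ComplexShape.up ℤ).ε₁ (ComplexShape.up ℤ) (ComplexShape.up ℤ) (a, b) = 1 := rfl
  have e2 : (ComplexShape.up ℤ).ε₂ (ComplexShape.up ℤ) (ComplexShape.up ℤ) (a, b) =
    a.negOnePow := rfl
  rw [e1, e2, one_smul, ModuleCat.hom_add, LinearMap.add_apply, Units.smul_def,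
    ModuleCat.hom_zsmul, LinearMap.smul_apply, Units.smul_def]
  rfl

/-- the components of `d x` -/
theorem π_d (n n' : ℤ) (hn : n + 1 = n') (x : (HomologicalComplex.tensorObj K L).X n)
    (i₁ i₂ i₁' i₂' : ℤ) (h : i₁ + i₂ = n') (h₁ : i₁' + 1 = i₁) (h₂ : i₂' + 1 = i₂) :
    π K L n' i₁ i₂ h (((HomologicalComplex.tensorObj K L).d n n').hom x) =
      (K.d i₁' i₁ ▷ L.X i₂).hom (π K L n i₁' i₂ (by omega) x) +
      (i₁.negOnePow : ℤˣ) • (K.X i₁ ◁ L.d i₂' i₂).hom (π K L n i₁ i₂' (by omega) x) := by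
  have key : (π K L n' i₁ i₂ h) ∘ₗ ((HomologicalComplex.tensorObj K L).d n n').hom =
      (K.d i₁' i₁ ▷ L.X i₂).hom ∘ₗ (π K L n i₁' i₂ (by omega)) +
      ((i₁.negOnePow : ℤˣ) : ℤ) • ((K.X i₁ ◁ L.d i₂' i₂).hom ∘ₗ (π K L n i₁ i₂' (by omega))) := by
    apply lhom_ext
    intro a b hab y
    rw [LinearMap.comp_apply, d_ι K L n n' hn a b (a + 1) (b + 1) hab rfl rfl y, map_add,
      LinearMap.add_apply, LinearMap.comp_apply, LinearMap.smul_apply, LinearMap.comp_apply,
      Units.smul_def, map_zsmul]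
    by_cases hc1 : a = i₁' ∧ b = i₂
    · obtain ⟨rfl, rfl⟩ := hc1
      subst h₁
      rw [π_ι_self, π_ι_self, π_ι_ne K L n' a (b + 1) (by omega) (a + 1) b h (by
        intro heq; have := congrArg Prod.fst heq; simp at this),
        π_ι_ne K L n a b hab (a + 1) i₂' (by omega) (by
        intro heq; have := congrArg Prod.fst heq; simp at this)]
      simp
    · by_cases hc2 : a = i₁ ∧ b = i₂'
      · obtain ⟨rfl, rfl⟩ := hc2
        subst h₂
        rw [π_ι_self, π_ι_self, π_ι_ne K L n' (a + 1) b (by omega) a (b + 1) h (by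
          intro heq; have := congrArg Prod.fst heq; simp at this),
          π_ι_ne K L n a b hab i₁' (b + 1) (by omega) (by
          intro heq; have := congrArg Prod.snd heq; simp at this)]
        simp
      · rw [π_ι_ne K L n' (a + 1) b (by omega) i₁ i₂ h (by
          intro heq
          have e1 := congrArg Prod.fst heq
          have e2 := congrArg Prod.snd heq
          simp only at e1 e2
          exact hc1 ⟨by omega, e2⟩),
          π_ι_ne K L n' a (b + 1) (by omega) i₁ i₂ h (by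
          intro heq
          have e1 := congrArg Prod.fst heq
          have e2 := congrArg Prod.snd heq
          simp only at e1 e2
          exact hc2 ⟨e1, by omega⟩),
          π_ι_ne K L n a b hab i₁' i₂ (by omega) (by
          intro heq
          have e1 := congrArg Prod.fst heq
          have e2 := congrArg Prod.snd heq
          simp only at e1 e2
          exact hc1 ⟨e1, e2⟩),
          π_ι_ne K L n a b hab i₁ i₂' (by omega) (by
          intro heq
          have e1 := congrArg Prod.fst heq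
          have e2 := congrArg Prod.snd heq
          simp only at e1 e2
          exact hc2 ⟨e1, e2⟩)]
        simp
  have := LinearMap.congr_fun key x
  rw [LinearMap.comp_apply] at this
  rw [this, LinearMap.add_apply, LinearMap.comp_apply, LinearMap.smul_apply,
    LinearMap.comp_apply, Units.smul_def]

end Groth.Agent.Lib.Helper28.TensorCx



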