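import Mathlib
import Groth.Prelude.Def_ega3
import Groth.Agent.Lib.Helper28.FlatCxBc

/-!
# `dRank` and exactness over reduced rings (helper28)

* `free_of_fibreDim_eq_of_isReduced`: a finite module over a reduced local ring whose fibre
  dimension at every minimal prime equals that at the closed point is free.
* `exact_iff_dRank_eq_minimalPrimes` (reduced local ring).
* `isLocallyConstant_dRank_of_exact`, `exact_of_isLocallyConstant_dRank` (reduced Noetherian ring).
-/

set_option autoImplicit false
universe u
open TensorProduct CategoryTheory CategoryTheory.Limits MonoidalCategory CohIII Topology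
namespace Groth.Agent.Lib.Helper28.FlatCx

section Reduced

variable {A : Type u} [CommRing A]

/-- Nakayama: a map `g : A^n → W` which is surjective on the closed fibre is surjective. -/
lemma surjective_of_surjective_baseChange_closedPoint [IsLocalRing A] (W : Type u)
    [AddCommGroup W] [Module A W] [Module.Finite A W] {n : Type} (g : (n → A) →ₗ[A] W)
    (h : Function.Surjective
      (g.baseChange (IsLocalRing.closedPoint A).asIdeal.ResidueField)) :
    Function.Surjective g := by
  have hsub := subsingleton_coker_of_surjective
    (IsLocalRing.closedPoint A).asIdeal.ResidueField W g h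
  have hx : IsLocalRing.closedPoint A ∉ Module.support A (W ⧸ LinearMap.range g) := by
    rw [Module.mem_support_iff_nontrivial_residueField_tensorProduct]
    exact not_nontrivial_iff_subsingleton.mpr hsub
  have hC : Subsingleton (W ⧸ LinearMap.range g) := by
    by_contra hne
    rw [not_subsingleton_iff_nontrivial] at hne
    exact hx (IsLocalRing.closedPoint_mem_support A _)
  rw [← LinearMap.range_eq_top]
  exact Submodule.Quotient.subsingleton_iff.mp hC

/-- if `1 ⊗ v = 0` in `κ(q) ⊗ A^n` then all coordinates of `v` lie in `q`. -/
lemma coord_mem_of_one_tmul_eq_zero (q : PrimeSpectrum A) {n : Type} (v : n → A)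
    (h : (1 : q.asIdeal.ResidueField) ⊗ₜ[A] v = 0) (i : n) : v i ∈ q.asIdeal := by
  have h1 := congrArg (fun z => (TensorProduct.rid A q.asIdeal.ResidueField)
    ((LinearMap.lTensor q.asIdeal.ResidueField (LinearMap.proj (R := A) (φ := fun _ : n => A) i)) z)) h
  simp only [LinearMap.lTensor_tmul, LinearMap.proj_apply, TensorProduct.rid_tmul, map_zero] at h1
  rw [Algebra.smul_def, mul_one] at h1
  exact Ideal.algebraMap_residueField_eq_zero.mp h1

theorem free_of_fibreDim_eq_of_isReduced [IsLocalRing A] [IsReduced A] (W : Type u)
    [AddCommGroup W] [Module A W] [Module.Finite A W]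
    (h : ∀ q : PrimeSpectrum A, q.asIdeal ∈ minimalPrimes A →
      fibreDim W q = fibreDim W (IsLocalRing.closedPoint A)) :
    Module.Free A W := by
  obtain ⟨n, _, _, g, hcard, hsurjκ⟩ := exists_surjective_baseChange (A := A)
    (IsLocalRing.closedPoint A).asIdeal.ResidueField W
  have hg : Function.Surjective g := surjective_of_surjective_baseChange_closedPoint W g hsurjκ
  have hmem : ∀ v : n → A, g v = 0 → ∀ i, ∀ q : PrimeSpectrum A,
      q.asIdeal ∈ minimalPrimes A → v i ∈ q.asIdeal := by
    intro v hv i q hq
    have hsurj : Function.Surjective (g.baseChange q.asIdeal.ResidueField) := by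
      intro z
      obtain ⟨y, hy⟩ := LinearMap.lTensor_surjective q.asIdeal.ResidueField hg z
      exact ⟨y, hy⟩
    have hdim : Module.finrank q.asIdeal.ResidueField (q.asIdeal.ResidueField ⊗[A] (n → A)) =
        Module.finrank q.asIdeal.ResidueField (q.asIdeal.ResidueField ⊗[A] W) := by
      have : Nontrivial A := inferInstance
      rw [Module.finrank_baseChange, Module.finrank_pi]
      have := h q hq
      unfold fibreDim at this
      rw [this, hcard]
    have hinj : Function.Injective (g.baseChange q.asIdeal.ResidueField) :=
      (LinearMap.injective_iff_surjective_of_finrank_eq_finrank hdim).mpr hsurj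
    have h0 : (g.baseChange q.asIdeal.ResidueField) ((1 : q.asIdeal.ResidueField) ⊗ₜ[A] v) = 0 := by
      rw [LinearMap.baseChange_tmul, hv, TensorProduct.tmul_zero]
    exact coord_mem_of_one_tmul_eq_zero q v (hinj (by rw [h0, map_zero])) i
  have hinj : Function.Injective g := by
    rw [injective_iff_map_eq_zero]
    intro v hv
    funext i
    have h1 : v i ∈ sInf (minimalPrimes A) := by
      rw [Ideal.mem_sInf]
      intro I hI
      have hIp : I.IsPrime := hI.1.1
      exact hmem v hv i ⟨I, hIp⟩ hI
    have h2 : sInf (minimalPrimes A) = (⊥ : Ideal A) := by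
      rw [minimalPrimes, Ideal.sInf_minimalPrimes]
      exact nilradical_eq_zero A
    rw [h2] at h1
    exact h1
  exact Module.Free.of_equiv (LinearEquiv.ofBijective g ⟨hinj, hg⟩)

lemma fibreDim_le_closedPoint [IsLocalRing A] (W : Type u) [AddCommGroup W] [Module A W]
    [Module.Finite A W] (x : PrimeSpectrum A) :
    fibreDim W x ≤ fibreDim W (IsLocalRing.closedPoint A) := by
  have h := fibreDim_eventually_le W (IsLocalRing.closedPoint A)
  have hx : x ⤳ IsLocalRing.closedPoint A := IsLocalRing.specializes_closedPoint x
  exact (h.filter_mono hx).self_of_nhds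

lemma fibreDim_eq_finrank_of_free (W : Type u) [AddCommGroup W] [Module A W]
    [Module.Free A W] (x : PrimeSpectrum A) : fibreDim W x = Module.finrank A W := by
  have : Nontrivial A := (algebraMap A x.asIdeal.ResidueField).domain_nontrivial
  exact Module.finrank_baseChange

variable {ι : Type} {c : ComplexShape ι}

/-- over a reduced local ring: `T_p` is exact iff `dRank` at all minimal primes equals `dRank`
at the closed point. -/
theorem exact_iff_dRank_eq_minimalPrimes [IsLocalRing A] [IsReduced A]
    (P : HomologicalComplex (ModuleCat.{u} A) c)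
    (hP : ∀ i, Module.Finite A (P.X i) ∧ Module.Flat A (P.X i)) (p q : ι) (hpq : c.Rel p q) :
    ((TFun P p).PreservesMonomorphisms ∧ (TFun P p).PreservesEpimorphisms) ↔
      ∀ x : PrimeSpectrum A, x.asIdeal ∈ minimalPrimes A →
        dRank P p x = dRank P p (IsLocalRing.closedPoint A) := by
  have hPf : ∀ i, Module.Flat A (P.X i) := fun i => (hP i).2
  have := (hP p).1
  have := (hP q).1
  have := (hP q).2
  have hWp : Module.Finite A (P.opcycles p) := finite_opcycles P p
  have hWq : Module.Finite A (P.opcycles q) := finite_opcycles P q
  have hXfree : Module.Free A (P.X q) := Module.free_of_flat_of_isLocalRing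
  rw [preservesEpi_iff_preservesMono_of_rel P hPf p q hpq, preservesMono_iff_flat_opcycles P hPf,
    preservesMono_iff_flat_opcycles P hPf]
  constructor
  · rintro ⟨h1, h2⟩ x _
    have f1 : Module.Free A (P.opcycles p) := Module.free_of_flat_of_isLocalRing
    have f2 : Module.Free A (P.opcycles q) := Module.free_of_flat_of_isLocalRing
    have e := dRank_add_eq P p q hpq x
    have e' := dRank_add_eq P p q hpq (IsLocalRing.closedPoint A)
    rw [fibreDim_eq_finrank_of_free, fibreDim_eq_finrank_of_free, fibreDim_eq_finrank_of_free] at e e'
    omega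
  · intro h
    have key : ∀ x : PrimeSpectrum A, x.asIdeal ∈ minimalPrimes A →
        fibreDim (P.opcycles p) x = fibreDim (P.opcycles p) (IsLocalRing.closedPoint A) ∧
        fibreDim (P.opcycles q) x = fibreDim (P.opcycles q) (IsLocalRing.closedPoint A) := by
      intro x hx
      have e := dRank_add_eq P p q hpq x
      have e' := dRank_add_eq P p q hpq (IsLocalRing.closedPoint A)
      rw [fibreDim_eq_finrank_of_free (P.X q)] at e e'
      have l1 := fibreDim_le_closedPoint (P.opcycles p) x
      have l2 := fibreDim_le_closedPoint (P.opcycles q) x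
      have := h x hx
      omega
    have f1 : Module.Free A (P.opcycles p) :=
      free_of_fibreDim_eq_of_isReduced _ fun x hx => (key x hx).1
    have f2 : Module.Free A (P.opcycles q) :=
      free_of_fibreDim_eq_of_isReduced _ fun x hx => (key x hx).2
    exact ⟨Module.Flat.of_free, Module.Flat.of_free⟩

end Reduced


section Global

variable {A : Type u} [CommRing A] {ι : Type} {c : ComplexShape ι}

theorem preservesMono_bcCx_localization_iff
    (P : HomologicalComplex (ModuleCat.{u} A) c)
    (hP : ∀ i, Module.Finite A (P.X i) ∧ Module.Flat A (P.X i)) (p : ι)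
    (y : PrimeSpectrum A) :
    (TFun (bcCx (algebraMap A (Localization.AtPrime y.asIdeal)) P) p).PreservesMonomorphisms ↔
      y ∈ Module.freeLocus A (P.opcycles p) := by
  have hPB : ∀ i, Module.Flat (Localization.AtPrime y.asIdeal)
      ((bcCx (algebraMap A (Localization.AtPrime y.asIdeal)) P).X i) := fun i =>
    have := (hP i).2
    flat_bcCx_X P i
  have hfin : Module.Finite A (P.opcycles p) :=
    have := (hP p).1
    finite_opcycles P p
  rw [preservesMono_iff_flat_opcycles _ hPB,
    flat_opcycles_bcCx_iff, Module.mem_freeLocus_iff_tensor y (Localization.AtPrime y.asIdeal)]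
  constructor
  · intro h
    exact Module.free_of_flat_of_isLocalRing
  · intro h
    exact Module.Flat.of_free

lemma finite_bcCx_X' {B : Type u} [CommRing B] [Algebra A B]
    (P : HomologicalComplex (ModuleCat.{u} A) c) (i : ι) [Module.Finite A (P.X i)] :
    Module.Finite B ((bcCx (algebraMap A B) P).X i) :=
  Module.Finite.equiv (extendScalarsEquiv B (P.X i)).symm

/-- exact `T_p` has locally constant `dRank` (Noetherian, finite flat terms). -/
theorem isLocallyConstant_dRank_of_exact [IsNoetherianRing A]
    (P : HomologicalComplex (ModuleCat.{u} A) c)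
    (hP : ∀ i, Module.Finite A (P.X i) ∧ Module.Flat A (P.X i)) (p q : ι) (hpq : c.Rel p q)
    (h : (TFun P p).PreservesMonomorphisms ∧ (TFun P p).PreservesEpimorphisms) :
    IsLocallyConstant (dRank P p) := by
  have hPf : ∀ i, Module.Flat A (P.X i) := fun i => (hP i).2
  have := (hP p).1
  have := (hP q).1
  have := (hP q).2
  have hWp : Module.Finite A (P.opcycles p) := finite_opcycles P p
  have hWq : Module.Finite A (P.opcycles q) := finite_opcycles P q
  have f1 : Module.Flat A (P.opcycles p) := (preservesMono_iff_flat_opcycles P hPf p).mp h.1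
  have f2 : Module.Flat A (P.opcycles q) := (preservesMono_iff_flat_opcycles P hPf q).mp
    ((preservesEpi_iff_preservesMono_of_rel P hPf p q hpq).mp h.2)
  rw [IsLocallyConstant.iff_eventually_eq]
  intro x
  filter_upwards [fibreDim_eventually_eq (P.opcycles p) x, fibreDim_eventually_eq (P.opcycles q) x,
    fibreDim_eventually_eq (P.X q) x] with x' h1 h2 h3
  have e := dRank_add_eq P p q hpq x
  have e' := dRank_add_eq P p q hpq x'
  omega

/-- over a reduced Noetherian ring, locally constant `dRank` implies `T_p` exact. -/
theorem exact_of_isLocallyConstant_dRank [IsNoetherianRing A] [IsReduced A]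
    (P : HomologicalComplex (ModuleCat.{u} A) c)
    (hP : ∀ i, Module.Finite A (P.X i) ∧ Module.Flat A (P.X i)) (p q : ι) (hpq : c.Rel p q)
    (h : IsLocallyConstant (dRank P p)) :
    (TFun P p).PreservesMonomorphisms ∧ (TFun P p).PreservesEpimorphisms := by
  have hPf : ∀ i, Module.Flat A (P.X i) := fun i => (hP i).2
  have := (hP p).1
  have := (hP q).1
  have hWp : Module.Finite A (P.opcycles p) := finite_opcycles P p
  have hWq : Module.Finite A (P.opcycles q) := finite_opcycles P q
  have fpp : Module.FinitePresentation A (P.opcycles p) := Module.finitePresentation_of_finite A _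
  have fpq : Module.FinitePresentation A (P.opcycles q) := Module.finitePresentation_of_finite A _
  -- exactness at every localization
  have hloc : ∀ y : PrimeSpectrum A,
      (TFun (bcCx (algebraMap A (Localization.AtPrime y.asIdeal)) P) p).PreservesMonomorphisms ∧
      (TFun (bcCx (algebraMap A (Localization.AtPrime y.asIdeal)) P) p).PreservesEpimorphisms := by
    intro y
    have hPB : ∀ i, Module.Finite (Localization.AtPrime y.asIdeal)
        ((bcCx (algebraMap A (Localization.AtPrime y.asIdeal)) P).X i) ∧
        Module.Flat (Localization.AtPrime y.asIdeal)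
        ((bcCx (algebraMap A (Localization.AtPrime y.asIdeal)) P).X i) := fun i =>
      have := (hP i).1
      have := (hP i).2
      ⟨finite_bcCx_X' P i, flat_bcCx_X P i⟩
    rw [exact_iff_dRank_eq_minimalPrimes _ hPB p q hpq]
    intro x' _
    rw [dRank_bcCx, dRank_bcCx]
    have hsp : x' ⤳ IsLocalRing.closedPoint (Localization.AtPrime y.asIdeal) :=
      IsLocalRing.specializes_closedPoint x'
    have hsp' := hsp.map (PrimeSpectrum.continuous_comap
      (algebraMap A (Localization.AtPrime y.asIdeal)))
    exact ((h.eventually_eq _).filter_mono hsp').self_of_nhds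
  have f1 : Module.Flat A (P.opcycles p) := by
    have : Module.freeLocus A (P.opcycles p) = Set.univ :=
      Set.eq_univ_of_forall fun y =>
        (preservesMono_bcCx_localization_iff P hP p y).mp (hloc y).1
    have := Module.freeLocus_eq_univ_iff.mp this
    infer_instance
  have f2 : Module.Flat A (P.opcycles q) := by
    have : Module.freeLocus A (P.opcycles q) = Set.univ :=
      Set.eq_univ_of_forall fun y =>
        (preservesEpi_bcCx_localization_iff P hP p q hpq y).mp (hloc y).2
    have := Module.freeLocus_eq_univ_iff.mp this
    infer_instance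
  exact ⟨(preservesMono_iff_flat_opcycles P hPf p).mpr f1,
    (preservesEpi_iff_preservesMono_of_rel P hPf p q hpq).mpr
      ((preservesMono_iff_flat_opcycles P hPf q).mpr f2)⟩

end Global

end Groth.Agent.Lib.Helper28.FlatCx
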