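import Groth.Agent.Lib.Helper28.KoszulRegular
import Groth.Agent.Lib.Helper28.KoszulTop
import Groth.Agent.Lib.Helper28.TensorCxKFlat
import Groth.Agent.Lib.Helper16.Depth

/-!
# Depth sensitivity of Koszul cohomology (helper28)
-/

set_option autoImplicit false
universe u
open CategoryTheory CategoryTheory.Limits CochainComplex

namespace Groth.Agent.Lib.Helper28.Koszul

open CohIII Pointwise

variable {A : Type u} [CommRing A]

section ConeMod''

variable {K L : CochainComplex (ModuleCat.{u} A) ℤ} (φ : K ⟶ L)

lemma coneFst_d'' (n m l : ℤ) (h : n + 1 = m) (h' : m + 1 = l) (x : (mappingCone φ).X n) :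
    coneFst' φ m l h' ((mappingCone φ).d n m x) = - K.d m l (coneFst' φ n m h x) :=
  congr($(mappingCone.d_fst_v φ n m l h h') x)

end ConeMod''

section Basic

/-- the Koszul complex vanishes below degree `-len`. -/
theorem subsingleton_koszulCx_X_of_lt (M : ModuleCat.{u} A) :
    ∀ (fs : List A) (n : ℤ), n < -(fs.length : ℤ) → Subsingleton ((koszulCx M fs).X n) := by
  intro fs
  induction fs with
  | nil =>
    intro n hn
    exact ModuleCat.subsingleton_of_isZero
      (HomologicalComplex.isZero_single_obj_X (ComplexShape.up ℤ) 0 _ n (by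
        simp only [List.length_nil, Nat.cast_zero, neg_zero] at hn; omega))
  | cons f fs ih =>
    intro n hn
    rw [koszulCx_cons]
    simp only [List.length_cons, Nat.cast_add, Nat.cast_one] at hn
    exact subsingleton_cone_X _ n (ih (n + 1) (by omega)) (ih n (by omega))

theorem isZero_homology_koszulCx_of_lt (M : ModuleCat.{u} A) (fs : List A) (n : ℤ)
    (hn : n < -(fs.length : ℤ)) : IsZero ((koszulCx M fs).homology n) := by
  have := subsingleton_koszulCx_X_of_lt M fs n hn
  rw [TensorCx.isZero_homology_iff _ (n - 1) n (n + 1) (by omega) rfl]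
  intro x _
  exact ⟨0, Subsingleton.elim _ _⟩

/-- elements of `(xs)` act by zero on Koszul cohomology. -/
theorem homologyMap_smul_eq_zero (M : ModuleCat.{u} A) (xs : List A) (a : A)
    (ha : a ∈ Ideal.span {x | x ∈ xs}) (n : ℤ) :
    HomologicalComplex.homologyMap (a • 𝟙 (koszulCx M xs)) n = 0 := by
  obtain ⟨h⟩ := koszulCx_smul_homotopic_zero M xs a ha
  rw [h.homologyMap_eq, HomologicalComplex.homologyMap_zero]

end Basic

section LES

variable (M : Type u) [AddCommGroup M] [Module A M] (xs : List A) (y : A)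
  (hy : IsSMulRegular M y) (hya : y ∈ Ideal.span {x | x ∈ xs})

include hy hya in
/-- vanishing for `M/yM` in degree `n` gives vanishing for `M` in degrees `n` and `n+1`. -/
theorem isZero_of_isZero_quot (n m : ℤ) (hnm : n + 1 = m)
    (h : IsZero ((koszulCx (ModuleCat.of A (QuotSMulTop y M)) xs).homology n)) :
    IsZero ((koszulCx (ModuleCat.of A M) xs).homology n) ∧
      IsZero ((koszulCx (ModuleCat.of A M) xs).homology m) := by
  have hS := koszulRegularSC_shortExact M y hy xs
  have hz : ∀ i, HomologicalComplex.homologyMap (koszulRegularSC M y xs).f i = 0 :=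
    fun i => homologyMap_smul_eq_zero (ModuleCat.of A M) xs y hya i
  constructor
  · have hex := hS.homology_exact₂ n
    have hmono : Mono (HomologicalComplex.homologyMap (koszulRegularSC M y xs).g n) :=
      hex.mono_g (hz n)
    exact @IsZero.of_mono _ _ _ _ _ (HomologicalComplex.homologyMap (koszulRegularSC M y xs).g n)
      hmono h
  · have hex := hS.homology_exact₁ n m hnm
    have hepi : Epi (hS.δ n m hnm) := hex.epi_f (hz m)
    exact @IsZero.of_epi _ _ _ _ _ (hS.δ n m hnm) hepi h

include hy hya in
/-- if `H^n(M) = 0` then `H^{n+1}(M) = 0 ↔ H^n(M/yM) = 0`. -/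
theorem isZero_succ_iff_isZero_quot (n m : ℤ) (hnm : n + 1 = m)
    (h : IsZero ((koszulCx (ModuleCat.of A M) xs).homology n)) :
    IsZero ((koszulCx (ModuleCat.of A M) xs).homology m) ↔
      IsZero ((koszulCx (ModuleCat.of A (QuotSMulTop y M)) xs).homology n) := by
  have hS := koszulRegularSC_shortExact M y hy xs
  have hz : ∀ i, HomologicalComplex.homologyMap (koszulRegularSC M y xs).f i = 0 :=
    fun i => homologyMap_smul_eq_zero (ModuleCat.of A M) xs y hya i
  have hepi : Epi (hS.δ n m hnm) := (hS.homology_exact₁ n m hnm).epi_f (hz m)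
  have hmono : Mono (hS.δ n m hnm) := (hS.homology_exact₃ n m hnm).mono_g (h.eq_of_src _ _)
  have hiso : IsIso (hS.δ n m hnm) := @isIso_of_mono_of_epi _ _ _ _ _ (hS.δ n m hnm) hmono hepi
  exact ⟨fun h' => h'.of_iso (@asIso _ _ _ _ (hS.δ n m hnm) hiso),
    fun h' => h'.of_iso (@asIso _ _ _ _ (hS.δ n m hnm) hiso).symm⟩

end LES

section Vanishing

/-- Koszul cohomology of `xs` vanishes below the length of any weakly regular sequence in `(xs)`. -/
theorem isZero_homology_of_isWeaklyRegular (xs : List A) (rs : List A) :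
    ∀ (M : Type u) [AddCommGroup M] [Module A M],
      RingTheory.Sequence.IsWeaklyRegular M rs → (∀ r ∈ rs, r ∈ Ideal.span {x | x ∈ xs}) →
      ∀ n : ℤ, n < (rs.length : ℤ) - xs.length →
        IsZero ((koszulCx (ModuleCat.of A M) xs).homology n) := by
  induction rs with
  | nil =>
    intro M _ _ _ _ n hn
    exact isZero_homology_koszulCx_of_lt _ xs n (by simpa using hn)
  | cons y rs ih =>
    intro M _ _ hreg hmem n hn
    rw [RingTheory.Sequence.isWeaklyRegular_cons_iff] at hreg
    have hn' : n - 1 < (rs.length : ℤ) - xs.length := by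
      simp only [List.length_cons, Nat.cast_add, Nat.cast_one] at hn
      omega
    have h1 := ih (QuotSMulTop y M) hreg.2 (fun r hr => hmem r (List.mem_cons_of_mem _ hr))
      (n - 1) hn'
    exact (isZero_of_isZero_quot M xs y hreg.1 (hmem y List.mem_cons_self) (n - 1) n
      (by omega) h1).2

end Vanishing

section Bottom

/-- the bottom term of the Koszul complex receives `M`, and elements killed by `fs` become
cocycles. -/
theorem exists_bottom (M : Type u) [AddCommGroup M] [Module A M] :
    ∀ (fs : List A) (n m : ℤ), n = -(fs.length : ℤ) → n + 1 = m →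
      ∃ e : M →ₗ[A] (koszulCx (ModuleCat.of A M) fs).X n, Function.Injective e ∧
        ∀ v : M, (∀ x ∈ fs, x • v = 0) →
          ((koszulCx (ModuleCat.of A M) fs).d n m).hom (e v) = 0 := by
  intro fs
  induction fs with
  | nil =>
    intro n m hn hm
    simp only [List.length_nil, Nat.cast_zero, neg_zero] at hn
    subst hn
    subst hm
    refine ⟨(HomologicalComplex.singleObjXSelf (ComplexShape.up ℤ) 0
      (ModuleCat.of A M)).symm.toLinearEquiv.toLinearMap, LinearEquiv.injective _, ?_⟩
    intro v _
    have : (koszulCx (ModuleCat.of A M) []).d 0 (0 + 1) = 0 := rfl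
    rw [this]
    rfl
  | cons f fs ih =>
    intro n m hn hm
    simp only [List.length_cons, Nat.cast_add, Nat.cast_one] at hn
    obtain ⟨l, hl⟩ : ∃ l : ℤ, m + 1 = l := ⟨_, rfl⟩
    obtain ⟨e, he, hd⟩ := ih m l (by omega) hl
    rw [koszulCx_cons]
    refine ⟨(coneInl' (f • 𝟙 (koszulCx (ModuleCat.of A M) fs)) n m hm) ∘ₗ e, ?_, ?_⟩
    · intro a b hab
      apply he
      have := congrArg (coneFst' (f • 𝟙 (koszulCx (ModuleCat.of A M) fs)) n m hm) hab
      rw [LinearMap.comp_apply, LinearMap.comp_apply, coneFst'_coneInl', coneFst'_coneInl'] at this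
      exact this
    · intro v hv
      have hv' : ∀ x ∈ fs, x • v = 0 := fun x hx => hv x (List.mem_cons_of_mem _ hx)
      have hfv : f • v = 0 := hv f List.mem_cons_self
      apply cone_ext' (f • 𝟙 (koszulCx (ModuleCat.of A M) fs)) m l hl
      · rw [map_zero]
        have := coneFst_d'' (f • 𝟙 (koszulCx (ModuleCat.of A M) fs)) n m l hm hl
          (coneInl' (f • 𝟙 (koszulCx (ModuleCat.of A M) fs)) n m hm (e v))
        refine this.trans ?_
        rw [coneFst'_coneInl']
        have h2 := hd v hv'
        change -((koszulCx (ModuleCat.of A M) fs).d m l).hom (e v) = 0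
        rw [h2, neg_zero]
      · rw [map_zero]
        have := coneSnd_d' (f • 𝟙 (koszulCx (ModuleCat.of A M) fs)) n m hm
          (coneInl' (f • 𝟙 (koszulCx (ModuleCat.of A M) fs)) n m hm (e v))
        refine this.trans ?_
        rw [coneFst'_coneInl', coneSnd_coneInl', map_zero, add_zero, smul_id_f_apply,
          ← map_smul, hfv, map_zero]

/-- if a nonzero element of `M` is killed by `xs`, the bottom Koszul cohomology is nonzero. -/
theorem not_isZero_bottom (M : Type u) [AddCommGroup M] [Module A M] (xs : List A)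
    (v : M) (hv0 : v ≠ 0) (hv : ∀ x ∈ xs, x • v = 0) :
    ¬ IsZero ((koszulCx (ModuleCat.of A M) xs).homology (-(xs.length : ℤ))) := by
  intro hz
  obtain ⟨e, he, hd⟩ := exists_bottom M xs (-(xs.length : ℤ)) (-(xs.length : ℤ) + 1) rfl rfl
  rw [TensorCx.isZero_homology_iff _ (-(xs.length : ℤ) - 1) (-(xs.length : ℤ))
    (-(xs.length : ℤ) + 1) (by omega) rfl] at hz
  obtain ⟨y, hy⟩ := hz (e v) (hd v hv)
  have hsub := subsingleton_koszulCx_X_of_lt (ModuleCat.of A M) xs (-(xs.length : ℤ) - 1)
    (by omega)
  have : y = 0 := Subsingleton.elim _ _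
  rw [this, map_zero] at hy
  exact hv0 (he (hy.symm.trans (map_zero e).symm))

end Bottom

section Depth

open Groth.Agent.Lib.Helper16.Depth

variable [IsNoetherianRing A]

/-- if no element of `I` is `M`-regular, some nonzero element of `M` is killed by `I`. -/
theorem exists_ne_zero_smul_eq_zero (M : Type u) [AddCommGroup M] [Module A M] [Module.Finite A M]
    (I : Ideal A) (h : ∀ y ∈ I, ¬ IsSMulRegular M y) :
    ∃ v : M, v ≠ 0 ∧ ∀ y ∈ I, y • v = 0 := by
  classical
  have hfin : (associatedPrimes A M).Finite := associatedPrimes.finite A M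
  have hsub : (I : Set A) ⊆ ⋃ p ∈ (↑hfin.toFinset : Set (Ideal A)), (id p : Ideal A) := by
    intro y hy
    have hy' := h y hy
    unfold IsSMulRegular at hy'
    rw [Function.Injective] at hy'
    push Not at hy'
    obtain ⟨a, b, hab, hne⟩ := hy'
    have hmem : y ∈ {r : A | ∃ x : M, x ≠ 0 ∧ r • x = 0} :=
      ⟨a - b, sub_ne_zero.2 hne, by rw [smul_sub]; exact sub_eq_zero.2 hab⟩
    rw [← biUnion_associatedPrimes_eq_zero_divisors A M] at hmem
    simpa using hmem
  obtain ⟨P, hP, hIP⟩ := (Ideal.subset_union_prime (f := fun p : Ideal A => p) ⊥ ⊥ (by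
    intro p hp _ _
    rw [Set.Finite.mem_toFinset] at hp
    exact hp.isPrime)).1 hsub
  rw [Set.Finite.mem_toFinset, AssociatedPrimes.mem_iff, isAssociatedPrime_iff] at hP
  obtain ⟨hprime, v, rfl⟩ := hP
  refine ⟨v, ?_, ?_⟩
  · rintro rfl
    apply hprime.ne_top
    rw [Ideal.eq_top_iff_one, Submodule.mem_colon_singleton]
    simp
  · intro y hy
    have := hIP hy
    rw [Submodule.mem_colon_singleton] at this
    simpa using this

variable [IsLocalRing A]

omit [IsNoetherianRing A] in
theorem smul_top_ne_top (M : Type u) [AddCommGroup M] [Module A M] [Module.Finite A M]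
    [Nontrivial M] (I : Ideal A) (hI : I ≤ IsLocalRing.maximalIdeal A) :
    I • (⊤ : Submodule A M) ≠ ⊤ := by
  have hann : Module.annihilator A M ≠ ⊤ := by
    intro h
    have h1 : (1 : A) ∈ Module.annihilator A M := by rw [h]; trivial
    obtain ⟨x, hx⟩ := exists_ne (0 : M)
    exact hx (by simpa using (Module.mem_annihilator.1 h1 x))
  have := Submodule.top_ne_ideal_smul_of_le_jacobson_annihilator (R := A) (M := M) (I := I)
    (by rw [IsLocalRing.jacobson_eq_maximalIdeal _ hann]; exact hI)
  exact fun h => this h.symm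

omit [IsNoetherianRing A] in
theorem nontrivial_quotSMulTop (M : Type u) [AddCommGroup M] [Module A M] [Module.Finite A M]
    [Nontrivial M] (y : A) (hy : y ∈ IsLocalRing.maximalIdeal A) :
    Nontrivial (QuotSMulTop y M) := by
  apply Submodule.Quotient.nontrivial_iff.2
  have := smul_top_ne_top M (Ideal.span {y}) (by
    rw [Ideal.span_le]; intro z hz; rw [Set.mem_singleton_iff.1 hz]; exact hy)
  rwa [Submodule.ideal_span_singleton_smul] at this

/-- the key induction: at the depth, Koszul cohomology is nonzero. -/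
theorem not_isZero_homology_of_maximal (xs : List A)
    (hxs : ∀ x ∈ xs, x ∈ IsLocalRing.maximalIdeal A) (r : ℕ) :
    ∀ (M : Type u) [AddCommGroup M] [Module A M] [Module.Finite A M] [Nontrivial M],
      HasRegSeq (Ideal.span {x | x ∈ xs}) M r → ¬ HasRegSeq (Ideal.span {x | x ∈ xs}) M (r + 1) →
      ¬ IsZero ((koszulCx (ModuleCat.of A M) xs).homology ((r : ℤ) - xs.length)) := by
  have hle : Ideal.span {x | x ∈ xs} ≤ IsLocalRing.maximalIdeal A := by
    rw [Ideal.span_le]; exact fun x hx => hxs x hx
  induction r with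
  | zero =>
    intro M _ _ _ _ _ hno
    have h : ∀ y ∈ Ideal.span {x | x ∈ xs}, ¬ IsSMulRegular M y := by
      intro y hy hreg
      apply hno
      refine ⟨[y], rfl, ?_, ?_⟩
      · rw [RingTheory.Sequence.isWeaklyRegular_cons_iff]
        exact ⟨hreg, RingTheory.Sequence.IsWeaklyRegular.nil A _⟩
      · intro z hz
        rw [List.mem_singleton.1 hz]
        exact hy
    obtain ⟨v, hv0, hv⟩ := exists_ne_zero_smul_eq_zero M _ h
    have := not_isZero_bottom M xs v hv0 (fun x hx => hv x (Ideal.subset_span hx))
    simpa using this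
  | succ r ih =>
    intro M _ _ _ _ hreg hno
    obtain ⟨rs, hlen, hwr, hmem⟩ := hreg
    match rs, hlen, hwr, hmem with
    | [], hlen, _, _ => simp at hlen
    | y :: rs', hlen, hwr, hmem =>
      have hwr' := (RingTheory.Sequence.isWeaklyRegular_cons_iff M y rs').1 hwr
      have hya : y ∈ Ideal.span {x | x ∈ xs} := hmem y List.mem_cons_self
      have hlen' : rs'.length = r := by simpa using hlen
      have : Nontrivial (QuotSMulTop y M) := nontrivial_quotSMulTop M y (hle hya)
      have h1 : HasRegSeq (Ideal.span {x | x ∈ xs}) (QuotSMulTop y M) r :=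
        ⟨rs', hlen', hwr'.2, fun z hz => hmem z (List.mem_cons_of_mem _ hz)⟩
      have h2 : ¬ HasRegSeq (Ideal.span {x | x ∈ xs}) (QuotSMulTop y M) (r + 1) := by
        rintro ⟨rs'', hlen'', hwr'', hmem''⟩
        apply hno
        refine ⟨y :: rs'', by simp [hlen''], ?_, ?_⟩
        · rw [RingTheory.Sequence.isWeaklyRegular_cons_iff]
          exact ⟨hwr'.1, hwr''⟩
        · intro z hz
          rcases List.mem_cons.1 hz with rfl | hz
          · exact hya
          · exact hmem'' z hz
      have h3 := ih (QuotSMulTop y M) h1 h2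
      have h4 : IsZero ((koszulCx (ModuleCat.of A M) xs).homology ((r : ℤ) - xs.length)) :=
        isZero_homology_of_isWeaklyRegular xs (y :: rs') M hwr hmem _ (by
          simp only [List.length_cons, hlen', Nat.cast_add, Nat.cast_one]; omega)
      have h5 := isZero_succ_iff_isZero_quot M xs y hwr'.1 hya ((r : ℤ) - xs.length)
        (((r + 1 : ℕ) : ℤ) - xs.length) (by push_cast; ring) h4
      rw [h5]
      exact h3

end Depth

end Groth.Agent.Lib.Helper28.Koszul
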