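import Mathlib

/-!
# Fibre dimensions of a complex of finite free modules (helper28)

Algebraic input for the Betti number rows: for a complex `M` of finite free `R`-modules and ring
maps `ψ : R → K` to fields, the dimensions of `H^p(K ⊗ M)` are upper semicontinuous and their
alternating sum is constant.
-/

set_option autoImplicit false

universe u v w

open TensorProduct CategoryTheory Limits

namespace Groth.Agent.Lib.Helper28.Betti

section Ann

variable {R : Type u} [CommRing R] {N : Type v} [AddCommGroup N] [Module R N] [Module.Finite R N]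
  {K : Type w} [Field K] [Algebra R K]

/-- if `K ⊗ N = 0` for a finite module `N` then some element of the annihilator of `N` does not
vanish in `K` -/
theorem exists_annihilator_not_mem (h : Subsingleton (K ⊗[R] N)) :
    ∃ f ∈ Module.annihilator R N, algebraMap R K f ≠ 0 := by
  by_contra hcon
  push Not at hcon
  let 𝔭 : Ideal R := RingHom.ker (algebraMap R K)
  haveI : 𝔭.IsPrime := RingHom.ker_isPrime _
  let P : PrimeSpectrum R := ⟨𝔭, inferInstance⟩
  have hP : P ∈ Module.support R N := by
    rw [Module.mem_support_iff_of_finite]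
    intro f hf
    exact hcon f hf
  rw [Module.mem_support_iff_nontrivial_residueField_tensorProduct] at hP
  let k := 𝔭.ResidueField
  have hu : 𝔭.primeCompl ≤ (IsUnit.submonoid K).comap (algebraMap R K) := by
    intro x hx
    simp only [Submonoid.mem_comap, IsUnit.mem_submonoid_iff, isUnit_iff_ne_zero]
    exact hx
  let L : k →+* K := Ideal.ResidueField.lift 𝔭 (algebraMap R K) le_rfl hu
  letI : Algebra k K := L.toAlgebra
  haveI : IsScalarTower R k K := IsScalarTower.of_algebraMap_eq' (by
    ext x
    exact (Ideal.ResidueField.lift_algebraMap (I := 𝔭) (algebraMap R K) le_rfl hu x).symm)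
  let e := AlgebraTensorModule.cancelBaseChange R k K K N
  haveI : Nontrivial (k ⊗[R] N) := hP
  haveI : Nontrivial (K ⊗[k] (k ⊗[R] N)) := Module.FaithfullyFlat.lTensor_nontrivial k K _
  exact not_subsingleton _ (e.symm.toEquiv.subsingleton_congr.1 h)

end Ann

section USC

variable {R : Type u} [CommRing R] (C : Type v) [AddCommGroup C] [Module R C]

lemma subsingleton_tensor_quotient_range {n : ℕ} (c : Fin n → C) (K : Type w) [Field K] [Algebra R K]
    (h : Function.Surjective ((Fintype.linearCombination R c).lTensor K)) :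
    Subsingleton (K ⊗[R] (C ⧸ LinearMap.range (Fintype.linearCombination R c))) := by
  set g := Fintype.linearCombination R c
  refine ⟨fun y y' => ?_⟩
  have key : ∀ y : K ⊗[R] (C ⧸ LinearMap.range g), y = 0 := by
    intro y
    obtain ⟨x, rfl⟩ := LinearMap.lTensor_surjective K (Submodule.mkQ_surjective (LinearMap.range g)) y
    obtain ⟨z, rfl⟩ := h x
    rw [← LinearMap.comp_apply, ← LinearMap.lTensor_comp, LinearMap.range_mkQ_comp,
      LinearMap.lTensor_zero, LinearMap.zero_apply]
  rw [key y, key y']

lemma surjective_lTensor_of_subsingleton {n : ℕ} (c : Fin n → C) (K : Type w) [Field K] [Algebra R K]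
    (h : Subsingleton (K ⊗[R] (C ⧸ LinearMap.range (Fintype.linearCombination R c)))) :
    Function.Surjective ((Fintype.linearCombination R c).lTensor K) := by
  set g := Fintype.linearCombination R c
  intro x
  have hex := lTensor_exact K (LinearMap.exact_map_mkQ_range g)
    (Submodule.mkQ_surjective (LinearMap.range g))
  exact (hex x).1 (Subsingleton.elim _ _)

variable [Module.Finite R C]

/-- upper semicontinuity of the fibre dimension of a finite module -/
theorem exists_finrank_tensor_le (K₀ : Type w) [Field K₀] [Algebra R K₀] :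
    ∃ f : R, algebraMap R K₀ f ≠ 0 ∧ ∀ (K : Type w) [Field K] [Algebra R K], algebraMap R K f ≠ 0 →
      Module.finrank K (K ⊗[R] C) ≤ Module.finrank K₀ (K₀ ⊗[R] C) := by
  classical
  haveI : Nontrivial R := (algebraMap R K₀).domain_nontrivial
  let S : Set (K₀ ⊗[R] C) := Set.range (TensorProduct.mk R K₀ C 1)
  have hS : Submodule.span K₀ S = ⊤ := by
    rw [← Submodule.baseChange_top, ← Submodule.span_univ, Submodule.baseChange_span,
      Set.image_univ]
  obtain ⟨v, hvS, hvspan, -⟩ := Submodule.exists_fun_fin_finrank_span_eq K₀ S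
  replace hvspan : Submodule.span K₀ (Set.range v) = ⊤ := hvspan.trans hS
  have hn : Module.finrank K₀ (Submodule.span K₀ S) = Module.finrank K₀ (K₀ ⊗[R] C) := by
    rw [hS, finrank_top]
  choose c hc using hvS
  set g := Fintype.linearCombination R c with hg
  have hsurj₀ : Function.Surjective (g.lTensor K₀) := by
    have : LinearMap.range (g.baseChange K₀) = ⊤ := by
      rw [eq_top_iff, ← hvspan, Submodule.span_le]
      rintro _ ⟨i, rfl⟩
      refine ⟨(1 : K₀) ⊗ₜ Pi.single i 1, ?_⟩
      rw [LinearMap.baseChange_tmul, hg, Fintype.linearCombination_apply_single, one_smul]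
      exact hc i
    intro x
    have hx : x ∈ LinearMap.range (g.baseChange K₀) := this ▸ Submodule.mem_top
    obtain ⟨z, hz⟩ := hx
    exact ⟨z, hz⟩
  have hN := subsingleton_tensor_quotient_range C c K₀ hsurj₀
  obtain ⟨f, hfann, hf⟩ := exists_annihilator_not_mem (K := K₀) hN
  refine ⟨f, hf, fun K _ _ hK => ?_⟩
  have hNK : Subsingleton (K ⊗[R] (C ⧸ LinearMap.range g)) := by
    have key : ∀ y : K ⊗[R] (C ⧸ LinearMap.range g), y = 0 := by
      intro y
      have h1 : f • y = 0 := by
        induction y using TensorProduct.induction_on with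
        | zero => simp
        | tmul a n =>
          rw [TensorProduct.smul_tmul', TensorProduct.smul_tmul,
            Module.mem_annihilator.1 hfann n, TensorProduct.tmul_zero]
        | add a b ha hb => rw [smul_add, ha, hb, add_zero]
      have h2 : algebraMap R K f • y = 0 := by rwa [algebraMap_smul]
      exact (smul_eq_zero.1 h2).resolve_left hK
    exact ⟨fun y y' => by rw [key y, key y']⟩
  have hsurj := surjective_lTensor_of_subsingleton C c K hNK
  have hsurj' : Function.Surjective (g.baseChange K) := hsurj
  calc Module.finrank K (K ⊗[R] C) ≤ Module.finrank K (K ⊗[R] (Fin _ → R)) :=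
        LinearMap.finrank_le_finrank_of_surjective hsurj'
    _ = Module.finrank K₀ (K₀ ⊗[R] C) := by
        rw [Module.finrank_baseChange, Module.finrank_fin_fun, hn]

end USC

section Rank

variable {R : Type u} [CommRing R] {A : Type v} {B : Type v} [AddCommGroup A] [Module R A]
  [AddCommGroup B] [Module R B] (g : A →ₗ[R] B)

/-- rank of the base change of a linear map plus fibre dimension of the cokernel -/
theorem finrank_range_baseChange_add [Module.Finite R B] [Module.Free R B] (K : Type w) [Field K]
    [Algebra R K] :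
    Module.finrank K (LinearMap.range (g.baseChange K)) +
      Module.finrank K (K ⊗[R] (B ⧸ LinearMap.range g)) = Module.finrank R B := by
  haveI : Nontrivial R := (algebraMap R K).domain_nontrivial
  have hex := lTensor_exact K (LinearMap.exact_map_mkQ_range g)
    (Submodule.mkQ_surjective (LinearMap.range g))
  have hsurj : Function.Surjective ((LinearMap.range g).mkQ.baseChange K) :=
    LinearMap.lTensor_surjective K (Submodule.mkQ_surjective (LinearMap.range g))
  have hker : LinearMap.ker ((LinearMap.range g).mkQ.baseChange K) =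
      LinearMap.range (g.baseChange K) := by
    ext x
    exact hex x
  have h1 := LinearMap.finrank_range_add_finrank_ker ((LinearMap.range g).mkQ.baseChange K)
  rw [LinearMap.range_eq_top.2 hsurj, finrank_top, hker] at h1
  have hB : Module.finrank K (K ⊗[R] B) = Module.finrank R B := Module.finrank_baseChange
  omega

theorem exists_finrank_range_baseChange_le [Module.Finite R B] [Module.Free R B] (K₀ : Type w)
    [Field K₀] [Algebra R K₀] :
    ∃ f : R, algebraMap R K₀ f ≠ 0 ∧ ∀ (K : Type w) [Field K] [Algebra R K],
      algebraMap R K f ≠ 0 →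
      Module.finrank K₀ (LinearMap.range (g.baseChange K₀)) ≤
        Module.finrank K (LinearMap.range (g.baseChange K)) := by
  obtain ⟨f, hf, h⟩ := exists_finrank_tensor_le (R := R) (B ⧸ LinearMap.range g) K₀
  refine ⟨f, hf, fun K _ _ hK => ?_⟩
  have h1 := finrank_range_baseChange_add g K₀
  have h2 := finrank_range_baseChange_add g K
  have h3 := h K hK
  omega

end Rank

section SC

variable {K : Type u} [Field K]

/-- dimension of the homology of a short complex of finite dimensional vector spaces -/
lemma finrank_homology_shortComplex (S : ShortComplex (ModuleCat.{v} K)) [Module.Finite K S.X₂] :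
    Module.finrank K S.homology + Module.finrank K (LinearMap.range S.g.hom) +
      Module.finrank K (LinearMap.range S.f.hom) = Module.finrank K S.X₂ := by
  have e1 : Module.finrank K S.homology =
      Module.finrank K (LinearMap.ker S.g.hom ⧸ LinearMap.range S.moduleCatToCycles) :=
    LinearEquiv.finrank_eq S.moduleCatHomologyIso.toLinearEquiv
  have e2 : Module.finrank K (LinearMap.range S.moduleCatToCycles) =
      Module.finrank K (LinearMap.range S.f.hom) := by
    have h : (LinearMap.range S.moduleCatToCycles).map (LinearMap.ker S.g.hom).subtype =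
        LinearMap.range S.f.hom := by
      rw [← LinearMap.range_comp]
      rfl
    rw [← h]
    exact (LinearEquiv.finrank_eq (Submodule.equivMapOfInjective _
      (Submodule.subtype_injective _) _))
  have e3 := Submodule.finrank_quotient_add_finrank (LinearMap.range S.moduleCatToCycles)
  have e4 := LinearMap.finrank_range_add_finrank_ker S.g.hom
  omega

end SC

section Cx

variable {R : Type u} [CommRing R] (M : CochainComplex (ModuleCat.{u} R) ℤ)

/-- the base change of a complex of modules -/
noncomputable abbrev ext {K : Type u} [Field K] (ψ : R →+* K) : CochainComplex (ModuleCat.{u} K) ℤ :=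
  ((ModuleCat.extendScalars ψ).mapHomologicalComplex (ComplexShape.up ℤ)).obj M

/-- the rank of the base change of a differential -/
noncomputable def rk {K : Type u} [Field K] (ψ : R →+* K) (i j : ℤ) : ℕ :=
  Module.finrank K (LinearMap.range ((ext M ψ).d i j).hom)

set_option backward.isDefEq.respectTransparency false in
lemma rk_eq {K : Type u} [Field K] (ψ : R →+* K) (i j : ℤ) :
    letI := ψ.toAlgebra
    rk M ψ i j = Module.finrank K (LinearMap.range ((M.d i j).hom.baseChange K)) := rfl

set_option backward.isDefEq.respectTransparency false in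
lemma finrank_ext_X {K : Type u} [Field K] (ψ : R →+* K) (i : ℤ) [Module.Finite R (M.X i)]
    [Module.Free R (M.X i)] :
    Module.finrank K ((ext M ψ).X i) = Module.finrank R (M.X i) := by
  letI := ψ.toAlgebra
  haveI : Nontrivial R := ψ.domain_nontrivial
  exact Module.finrank_baseChange (R := K) (S := R) (M' := M.X i)

set_option backward.isDefEq.respectTransparency false in
lemma finite_ext_X {K : Type u} [Field K] (ψ : R →+* K) (i : ℤ) [Module.Finite R (M.X i)] :
    Module.Finite K ((ext M ψ).X i) := by
  letI := ψ.toAlgebra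
  exact (inferInstance : Module.Finite K (K ⊗[R] M.X i))

theorem finrank_homology_add {K : Type u} [Field K] (ψ : R →+* K) (p : ℤ)
    [Module.Finite R (M.X p)] [Module.Free R (M.X p)] :
    Module.finrank K ((ext M ψ).homology p) + rk M ψ p (p + 1) + rk M ψ (p - 1) p =
      Module.finrank R (M.X p) := by
  haveI : Module.Finite K ((ext M ψ).sc' (p - 1) p (p + 1)).X₂ := finite_ext_X M ψ p
  have h := finrank_homology_shortComplex ((ext M ψ).sc' (p - 1) p (p + 1))
  rw [← finrank_ext_X M ψ p]
  refine Eq.trans ?_ h
  have e : Module.finrank K ((ext M ψ).homology p) =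
      Module.finrank K ((ext M ψ).sc' (p - 1) p (p + 1)).homology :=
    LinearEquiv.finrank_eq ((ext M ψ).homologyIsoSc' (p - 1) p (p + 1) (by simp) (by simp)).toLinearEquiv
  rw [e]
  rfl

theorem exists_rk_le {K₀ : Type u} [Field K₀] (ψ₀ : R →+* K₀) (i j : ℤ)
    [Module.Finite R (M.X j)] [Module.Free R (M.X j)] :
    ∃ f : R, ψ₀ f ≠ 0 ∧ ∀ (K : Type u) [Field K] (ψ : R →+* K), ψ f ≠ 0 →
      rk M ψ₀ i j ≤ rk M ψ i j := by
  letI := ψ₀.toAlgebra
  obtain ⟨f, hf, h⟩ := exists_finrank_range_baseChange_le (M.d i j).hom K₀
  refine ⟨f, hf, fun K _ ψ hK => ?_⟩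
  letI := ψ.toAlgebra
  have := h K hK
  rw [rk_eq, rk_eq]
  exact this

lemma rk_eq_zero_of_isZero {K : Type u} [Field K] (ψ : R →+* K) (i j : ℤ) (h : IsZero (M.X j)) :
    rk M ψ i j = 0 := by
  have h1 : IsZero ((ext M ψ).X j) := (ModuleCat.extendScalars ψ).map_isZero h
  haveI := ModuleCat.subsingleton_of_isZero h1
  exact Module.finrank_zero_of_subsingleton

/-- **Euler–Poincaré** for the base change of a bounded complex of finite free modules -/
theorem finsum_negOnePow_finrank_homology (a b : ℤ)
    (hM0 : ∀ i : ℤ, (i < a ∨ b < i) → IsZero (M.X i))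
    [∀ i, Module.Finite R (M.X i)] [∀ i, Module.Free R (M.X i)]
    {K : Type u} [Field K] (ψ : R →+* K) :
    ∑ᶠ p : ℤ, ((p.negOnePow : ℤˣ) : ℤ) * (Module.finrank K ((ext M ψ).homology p) : ℤ) =
      ∑ᶠ p : ℤ, ((p.negOnePow : ℤˣ) : ℤ) * (Module.finrank R (M.X p) : ℤ) := by
  haveI : Nontrivial R := ψ.domain_nontrivial
  let F : ℤ → ℤ := fun p => ((p.negOnePow : ℤˣ) : ℤ) * (rk M ψ (p - 1) p : ℤ)
  let N : ℤ → ℤ := fun p => ((p.negOnePow : ℤˣ) : ℤ) * (Module.finrank R (M.X p) : ℤ)
  have hFsupp : (Function.support F).Finite := by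
    refine (Set.finite_Icc a b).subset fun p hp => ?_
    by_contra hcon
    apply hp
    have : IsZero (M.X p) := hM0 p (by
      simp only [Set.mem_Icc, not_and_or, not_le] at hcon
      exact hcon)
    simp [F, rk_eq_zero_of_isZero M ψ _ _ this]
  have hNsupp : (Function.support N).Finite := by
    refine (Set.finite_Icc a b).subset fun p hp => ?_
    by_contra hcon
    apply hp
    have : IsZero (M.X p) := hM0 p (by
      simp only [Set.mem_Icc, not_and_or, not_le] at hcon
      exact hcon)
    haveI := ModuleCat.subsingleton_of_isZero this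
    have hz : Module.finrank R (M.X p) = 0 := Module.finrank_zero_of_subsingleton
    simp [N, hz]
  have hF'supp : (Function.support (fun p : ℤ => F (p + 1))).Finite := by
    have : (fun p : ℤ => F (p + 1)) = F ∘ (Equiv.addRight (1 : ℤ)) := rfl
    rw [this, Function.support_comp_eq_preimage]
    exact hFsupp.preimage ((Equiv.addRight (1 : ℤ)).injective.injOn)
  have key : ∀ p : ℤ, ((p.negOnePow : ℤˣ) : ℤ) * (Module.finrank K ((ext M ψ).homology p) : ℤ) =
      N p + (F (p + 1) - F p) := by
    intro p
    have h := finrank_homology_add M ψ p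
    have h' : (Module.finrank K ((ext M ψ).homology p) : ℤ) =
        (Module.finrank R (M.X p) : ℤ) - rk M ψ p (p + 1) - rk M ψ (p - 1) p := by
      omega
    simp only [N, F, h', add_sub_cancel_right, Int.negOnePow_succ, Units.val_neg]
    ring
  simp_rw [key]
  have h3 : (Function.support (fun p : ℤ => F (p + 1) - F p)).Finite :=
    (hF'supp.union hFsupp).subset (Function.support_sub _ _)
  rw [finsum_add_distrib hNsupp h3, finsum_sub_distrib hF'supp hFsupp]
  have : ∑ᶠ p : ℤ, F (p + 1) = ∑ᶠ p : ℤ, F p :=
    finsum_comp_equiv (Equiv.addRight (1 : ℤ)) (f := F)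
  rw [this, sub_self, add_zero]


/-- upper semicontinuity of the dimension of `H^p(K ⊗ M)` -/
theorem exists_finrank_homology_le [∀ i, Module.Finite R (M.X i)] [∀ i, Module.Free R (M.X i)]
    {K₀ : Type u} [Field K₀] (ψ₀ : R →+* K₀) (p : ℤ) :
    ∃ f : R, ψ₀ f ≠ 0 ∧ ∀ (K : Type u) [Field K] (ψ : R →+* K), ψ f ≠ 0 →
      Module.finrank K ((ext M ψ).homology p) ≤ Module.finrank K₀ ((ext M ψ₀).homology p) := by
  obtain ⟨f₁, hf₁, h₁⟩ := exists_rk_le M ψ₀ p (p + 1)
  obtain ⟨f₂, hf₂, h₂⟩ := exists_rk_le M ψ₀ (p - 1) p
  refine ⟨f₁ * f₂, by rw [map_mul]; exact mul_ne_zero hf₁ hf₂, fun K _ ψ hK => ?_⟩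
  rw [map_mul] at hK
  have a₁ := h₁ K ψ (left_ne_zero_of_mul hK)
  have a₂ := h₂ K ψ (right_ne_zero_of_mul hK)
  have e₁ := finrank_homology_add M ψ p
  have e₂ := finrank_homology_add M ψ₀ p
  omega

end Cx

end Groth.Agent.Lib.Helper28.Betti
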