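import Mathlib
import Groth.Agent.Lib.Helper28.DCohTilde3
import Groth.Agent.Lib.Helper28.DCohRes34
import Groth.Agent.Lib.Helper13.DRingPC
import Groth.Agent.Lib.Helper13.PCSingleHom
import Groth.Agent.Lib.Helper13.PCTriangle

/-!
# `M~` is `m`-pseudo-coherent iff `M` is
-/

set_option autoImplicit false

universe u

open CategoryTheory Limits AlgebraicGeometry TopologicalSpace Opposite ZeroObject Pretriangulated

namespace Groth.Agent.Lib.Helper28.DCohTilde

noncomputable section

attribute [local instance] HasDerivedCategory.standard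

open Groth.Agent.Lib.Helper29.QCoh Groth.Agent.Lib.Helper28.DCohRes
  Groth.Agent.Lib.Helper13.PC Groth.Agent.Lib.Helper13.DR

section Bound

variable {X : Scheme.{u}}

/-- pseudo-coherent objects on a quasi-compact scheme are bounded above -/
theorem exists_isLE_of_isPseudoCoherentD [CompactSpace X] (K : DCoh.D X) (m : ℤ)
    (h : DCoh.IsPseudoCoherentD m K) : ∃ b : ℤ, K.IsLE b := by
  rw [isPseudoCoherentD_iff] at h
  choose U j hj hx P α hP hα using h
  have hbd : ∀ x, ∃ a b : ℤ, DCoh.VanishesOutside (P x) a b := fun x => (hP x).1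
  choose a b hab using hbd
  obtain ⟨s, hs⟩ := isCompact_univ.elim_finite_subcover
    (fun x : X => ((j x).opensRange : Set X))
    (fun x => (j x).opensRange.2) (fun x _ => Set.mem_iUnion.2 ⟨x, hx x⟩)
  obtain ⟨b₀, hb₀⟩ := (s.image b).exists_le
  refine ⟨max b₀ m, ?_⟩
  rw [DerivedCategory.isLE_iff]
  intro i hi
  have h1 := le_max_left b₀ m
  have h2 := le_max_right b₀ m
  refine isZero_of_locally _ fun x => ?_
  obtain ⟨y, hys, hxy⟩ : ∃ y ∈ s, x ∈ ((j y).opensRange : Set X) := by
    have := hs (Set.mem_univ x)
    simpa using this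
  have h3 := hb₀ (b y) (Finset.mem_image_of_mem b hys)
  refine ⟨U y, j y, hj y, hxy, ?_⟩
  haveI := hj y
  refine IsZero.of_iso ?_ (HDresDIso (j y) K i).symm
  haveI := (hα y).1 i (by omega)
  refine IsZero.of_iso ?_
    (asIso ((DerivedCategory.homologyFunctor (U y).Modules i).map (α y))).symm
  exact isZero_homology_Q_of_isZero_X (P y) i (hab y i (Or.inr (by omega)))

end Bound

variable (A : CommRingCat.{u}) [PreservesFiniteLimits (tilde.functor A)]

/-- **(⇐)** -/
theorem isPseudoCoherentD_tildeD_of_isPseudoCoherent (M : DerivedCategory (ModuleCat.{u} A))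
    (m : ℤ) (h : DRing.IsPseudoCoherent A m M) :
    DCoh.IsPseudoCoherentD m ((DCoh.tildeD A).obj M) := by
  obtain ⟨E, a, b, α, hv, hff, hiso, hepi⟩ := h
  refine isPseudoCoherentD_of_glob ((tildeCx A).obj E)
    ((tildeDQ A).inv.app E ≫ (DCoh.tildeD A).map α) ?_ ?_
  · refine ⟨⟨a, b, fun i hi => (tilde.functor A).map_isZero (hv i hi)⟩, fun i => ?_⟩
    have h1 := (hff i).1
    have h2 := (hff i).2
    exact (isFinLocFree_tilde_iff (E.X i)).2 ⟨h1, inferInstance⟩
  · have h0 : IsApprox m ((DCoh.tildeD A).map α) :=
      ⟨fun i hi => isIso_homology_map_mapDerivedCategory _ α i (hiso i hi),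
        epi_homology_map_mapDerivedCategory _ α m hepi⟩
    exact h0.iso_comp ((tildeDQ A).app E).symm

variable {A}

/-- the cohomology of `M~` -/
def HDtildeDIso (N : DerivedCategory (ModuleCat.{u} A)) (i : ℤ) :
    DCoh.HD ((DCoh.tildeD A).obj N) i ≅
      (tilde.functor A).obj ((DerivedCategory.homologyFunctor (ModuleCat.{u} A) i).obj N) :=
  (mapDHomologyIso (tilde.functor A) i).app N

lemma isZero_homology_of_isZero_HD_tildeD (N : DerivedCategory (ModuleCat.{u} A)) (i : ℤ)
    (h : IsZero (DCoh.HD ((DCoh.tildeD A).obj N) i)) :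
    IsZero ((DerivedCategory.homologyFunctor (ModuleCat.{u} A) i).obj N) :=
  isZero_of_isZero_tilde _ (h.of_iso (HDtildeDIso N i).symm)

attribute [local instance] RingHomInvPair.of_ringEquiv RingHomInvPair.of_ringEquiv_symm in
/-- finite type `H~` means finite `H` -/
lemma finite_of_isFiniteType_tilde (H : ModuleCat.{u} A) (h : (tilde H).IsFiniteType) :
    Module.Finite A H := by
  haveI : Module.Finite Γ(Spec A, ⊤) Γ(tilde H, ⊤) :=
    module_finite_of_isFiniteType (tilde H) (isAffineOpen_top (Spec A))
  exact Module.Finite.of_surjective (tildeTopEquiv H).toLinearMap (tildeTopEquiv H).surjective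

/-- vanishing of the cohomology of the cone of a map which is onto on top cohomology -/
lemma isZero_homology_obj₃ {C : Type*} [Category C] [Abelian C] [HasDerivedCategory C]
    (T : Triangle (DerivedCategory C)) (hT : T ∈ distTriang _) (b : ℤ)
    (h₁ : ∀ i : ℤ, i ≠ b → IsZero ((DerivedCategory.homologyFunctor C i).obj T.obj₁))
    (h₂ : ∀ i : ℤ, b < i → IsZero ((DerivedCategory.homologyFunctor C i).obj T.obj₂))
    (hepi : Epi ((DerivedCategory.homologyFunctor C b).map T.mor₁)) (i : ℤ) (hi : b ≤ i) :
    IsZero ((DerivedCategory.homologyFunctor C i).obj T.obj₃) := by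
  have hex := DerivedCategory.HomologySequence.exact₃ T hT i (i + 1) rfl
  refine hex.isZero_of_both_zeros ?_ ((h₁ (i + 1) (by omega)).eq_of_tgt _ _)
  by_cases hib : i = b
  · subst hib
    change (DerivedCategory.homologyFunctor C i).map T.mor₂ = 0
    rw [← cancel_epi ((DerivedCategory.homologyFunctor C i).map T.mor₁), comp_zero,
      ← Functor.map_comp, comp_distTriang_mor_zero₁₂ _ hT, Functor.map_zero]
  · exact (h₂ i (by omega)).eq_of_src _ _

/-- **(⇒)**, by descending induction on the top degree -/
theorem isNPC_of_isPseudoCoherentD_tildeD (m : ℤ) :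
    ∀ (k : ℕ) (N : DerivedCategory (ModuleCat.{u} A)) (b : ℤ), b + 1 ≤ m + k →
      (∀ i : ℤ, b < i → IsZero ((DerivedCategory.homologyFunctor (ModuleCat.{u} A) i).obj N)) →
      DCoh.IsPseudoCoherentD m ((DCoh.tildeD A).obj N) → IsNPC (Pff A) m N
  | 0 => fun N b hk hb _ => isNPC_of_acyclic (fun i hi => hb i (by push_cast at hk; omega))
  | (k + 1) => fun N b hk hb h => by
      by_cases hmb : m ≤ b
      swap
      · exact isNPC_of_acyclic (fun i hi => hb i (by omega))
      -- the top cohomology is a finite module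
      let Hb : ModuleCat.{u} A := (DerivedCategory.homologyFunctor (ModuleCat.{u} A) b).obj N
      have hfin : Module.Finite A Hb := by
        apply finite_of_isFiniteType_tilde
        have h1 : DCoh.IsPseudoCoherentD b ((DCoh.tildeD A).obj N) := isPseudoCoherentD_mono h hmb
        exact isFiniteType_of_isPseudoCoherentD h1 (fun i hi =>
            isZero_homology_mapDerivedCategory (tilde.functor A) N i (hb i hi)) (HDtildeDIso N b)
      obtain ⟨n, f, hf⟩ := Module.Finite.exists_fin' A Hb
      let P : ModuleCat.{u} A := ModuleCat.of A (Fin n → A)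
      have hP : Pff A P := ⟨inferInstanceAs (Module.Finite A (Fin n → A)),
        inferInstanceAs (Module.Free A (Fin n → A))⟩
      haveI : Projective P := projective_of_Pfp (Pff_le_Pfp hP)
      let π : P ⟶ Hb := ModuleCat.ofHom f
      have hπ : Epi π := (ModuleCat.epi_iff_surjective π).2 hf
      obtain ⟨g, hg⟩ := (bijective_fromSingleHomologyMap P b N).2 π
      obtain ⟨C, g₂, g₃, hT⟩ := Pretriangulated.distinguished_cocone_triangle g
      let T := Triangle.mk g g₂ g₃
      -- the cone has cohomology in degrees `< b`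
      have hepi : Epi ((DerivedCategory.homologyFunctor (ModuleCat.{u} A) b).map g) := by
        have : (homologySingleIso b P).inv ≫
            (DerivedCategory.homologyFunctor (ModuleCat.{u} A) b).map g = π := hg
        have h3 : (DerivedCategory.homologyFunctor (ModuleCat.{u} A) b).map g =
            (homologySingleIso b P).hom ≫ π := by rw [← this, Iso.hom_inv_id_assoc]
        rw [h3]
        infer_instance
      have hC : ∀ i : ℤ, b - 1 < i →
          IsZero ((DerivedCategory.homologyFunctor (ModuleCat.{u} A) i).obj C) := fun i hi =>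
        isZero_homology_obj₃ T hT b (fun i hi => isZero_homology_single b i hi P) hb hepi i
          (by omega)
      -- the cone of the tilde is pseudo-coherent
      have hT' := (DCoh.tildeD A).map_distinguished T hT
      have h1 : DCoh.IsPseudoCoherentD (m + 1)
          ((DCoh.tildeD A).obj ((DerivedCategory.singleFunctor (ModuleCat.{u} A) b).obj P)) :=
        isPseudoCoherentD_tildeD_of_isPseudoCoherent A _ (m + 1)
          ((isPseudoCoherent_iff (m + 1) _).2 (isNPC_single b hP (m + 1)))
      have h3 : DCoh.IsPseudoCoherentD m ((DCoh.tildeD A).obj C) :=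
        (isPseudoCoherentD_triangle m _ hT').1 h1 h
      have hC' : IsNPC (Pff A) m C :=
        isNPC_of_isPseudoCoherentD_tildeD m k C (b - 1) (by push_cast at hk; omega) hC h3
      exact isNPC_obj₂ Pff_prod hqs_Pff hql_Pff T hT (isNPC_single b hP m) hC'

variable (A)

/-- **(⇒)** -/
theorem isPseudoCoherent_of_isPseudoCoherentD_tildeD (M : DerivedCategory (ModuleCat.{u} A))
    (m : ℤ) (h : DCoh.IsPseudoCoherentD m ((DCoh.tildeD A).obj M)) :
    DRing.IsPseudoCoherent A m M := by
  rw [isPseudoCoherent_iff]
  obtain ⟨b, hb⟩ := exists_isLE_of_isPseudoCoherentD _ m h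
  rw [DerivedCategory.isLE_iff] at hb
  have hb' : ∀ i : ℤ, b < i →
      IsZero ((DerivedCategory.homologyFunctor (ModuleCat.{u} A) i).obj M) := fun i hi =>
    isZero_homology_of_isZero_HD_tildeD M i (hb i hi)
  by_cases hmb : m ≤ b + 1
  · exact isNPC_of_isPseudoCoherentD_tildeD m (b + 1 - m).toNat M b
      (by rw [Int.toNat_of_nonneg (by omega)]; omega) hb' h
  · exact isNPC_of_acyclic (fun i hi => hb' i (by omega))

end

end Groth.Agent.Lib.Helper28.DCohTilde
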