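import Mathlib
import Groth.Prelude.Def_DDual2
import Groth.Agent.Lib.Helper28.LpullPerfect
import Groth.Agent.Lib.Helper28.DCohRes8

/-!
# `Lf^*` preserves pseudo-coherent objects (helper28)
-/

set_option autoImplicit false

universe u

open CategoryTheory Limits AlgebraicGeometry Functor

attribute [local instance] HasDerivedCategory.standard

namespace Groth.Agent.Lib.Helper28.Lpull

open Groth.Agent.Lib.Helper28.StalkTensor Groth.Agent.Lib.Helper28.DCohRes
  Groth.Agent.Lib.Helper28.KFlatAbs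

noncomputable section

variable {X Y : Scheme.{u}} (f : X ⟶ Y)

lemma isKFlat_mappingCone_site {C : Type u} [SmallCategory C] {J : GrothendieckTopology C}
    {O : Sheaf J CommRingCat.{u}} {P K : CochainComplex (ModSite.Mod O) ℤ} (p : P ⟶ K)
    (hP : ModSite.IsKFlat P) (hK : ModSite.IsKFlat K) :
    ModSite.IsKFlat (CochainComplex.mappingCone p) :=
  (Groth.Agent.Lib.Helper28.KFlatSite.isKFlat_iff _).2
    ((isKFlat_mappingCone p).1
      ((Groth.Agent.Lib.Helper28.KFlatSite.isKFlat_iff P).1 hP)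
      ((Groth.Agent.Lib.Helper28.KFlatSite.isKFlat_iff K).1 hK))

lemma isKFlat_mappingCone' {P K : CochainComplex Y.Modules ℤ} (p : P ⟶ K)
    (hP : DCoh.IsKFlat P) (hK : DCoh.IsKFlat K) : DCoh.IsKFlat (CochainComplex.mappingCone p) :=
  isKFlat_mappingCone_site (O := Y.sheaf) p hP hK

/-- the pullback of the mapping cone -/
def pullCxMappingConeIso {P K : CochainComplex Y.Modules ℤ} (p : P ⟶ K) :
    (pullCx f).obj (CochainComplex.mappingCone p) ≅
      CochainComplex.mappingCone ((pullCx f).map p) :=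
  CochainComplex.mappingCone.mapHomologicalComplexIso p (Scheme.Modules.pullback f)

lemma quasiIso_iff_isZero_homology_mappingCone {A : Type*} [Category A] [Abelian A]
    {K L : CochainComplex A ℤ} (φ : K ⟶ L) :
    QuasiIso φ ↔ ∀ i : ℤ, IsZero ((CochainComplex.mappingCone φ).homology i) := by
  rw [quasiIso_iff_acyclic_mappingCone]
  exact forall_congr' (fun i => HomologicalComplex.exactAt_iff_isZero_homology _ _)

/-- pullback preserves quasi-isomorphisms between K-flat complexes -/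
theorem quasiIso_pullCx_map {P K : CochainComplex Y.Modules ℤ} (p : P ⟶ K)
    (hP : DCoh.IsKFlat P) (hK : DCoh.IsKFlat K) (hp : QuasiIso p) :
    QuasiIso ((pullCx f).map p) := by
  rw [quasiIso_iff_isZero_homology_mappingCone]
  intro i
  have h1 := acyclic_pullCx f _ (isKFlat_mappingCone' p hP hK)
    ((quasiIso_iff_isZero_homology_mappingCone p).1 hp) i
  exact h1.of_iso ((HomologicalComplex.homologyFunctor _ _ i).mapIso (pullCxMappingConeIso f p)).symm

lemma isKFlat_of_isStrictlyLE_of_flat (Q0 : CochainComplex Y.Modules ℤ) (b : ℤ)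
    (hb : Q0.IsStrictlyLE b) (hfl : ∀ n, ModSite.IsFlat (O := Y.sheaf) (Q0.X n)) :
    DCoh.IsKFlat Q0 :=
  Groth.Agent.Lib.Helper28.KFlatSite.isKFlat_of_isStrictlyLE (O := Y.sheaf) Q0 b hb hfl

/-- **`f^*` is right t-exact on K-flat complexes.** -/
theorem isZero_homology_pullCx_of_ge (C : CochainComplex Y.Modules ℤ) (hC : DCoh.IsKFlat C)
    (m : ℤ) (h : ∀ i : ℤ, m ≤ i → IsZero (C.homology i)) (i : ℤ) (hi : m ≤ i) :
    IsZero (((pullCx f).obj C).homology i) := by
  have hle : C.IsLE (m - 1) := by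
    rw [CochainComplex.isLE_iff]
    intro j hj
    rw [HomologicalComplex.exactAt_iff_isZero_homology]
    exact h j (by omega)
  obtain ⟨Q0, β0, hQb, hQfl, hβ0⟩ :=
    Groth.Agent.Lib.Helper28.KFlatSite.exists_flat_resolution_of_isLE (O := Y.sheaf) C (m - 1) hle
  let Q : CochainComplex Y.Modules ℤ := Q0
  let β : Q ⟶ C := β0
  have hβ : QuasiIso β := hβ0
  have hQK : DCoh.IsKFlat Q := isKFlat_of_isStrictlyLE_of_flat Q0 (m - 1) hQb hQfl
  have hq := quasiIso_pullCx_map f β hQK hC hβ
  have hQb' : Q.IsStrictlyLE (m - 1) := hQb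
  have hz : IsZero (((pullCx f).obj Q).X i) :=
    (Scheme.Modules.pullback f).map_isZero (Q.isZero_of_isStrictlyLE (m - 1) i (by omega))
  have hz' : IsZero (((pullCx f).obj Q).homology i) :=
    ShortComplex.isZero_homology_of_isZero_X₂ _ hz
  have : QuasiIsoAt ((pullCx f).map β) i := (quasiIso_iff _).1 hq i
  exact hz'.of_iso (asIso (HomologicalComplex.homologyMap ((pullCx f).map β) i)).symm

open DerivedCategory in
/-- converse of `exactAt_mappingCone_of_isApprox` -/
lemma isApprox_of_isZero_homology_mappingCone {A : Type*} [Category A] [Abelian A]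
    [HasDerivedCategory A] {G F : CochainComplex A ℤ} (φ : G ⟶ F) (a : ℤ)
    (h : ∀ i : ℤ, a ≤ i → IsZero ((CochainComplex.mappingCone φ).homology i)) :
    IsApprox a (DerivedCategory.Q.map φ) := by
  have hT := DerivedCategory.mappingCone_triangle_distinguished φ
  have hz : ∀ i : ℤ, a ≤ i → IsZero ((DerivedCategory.homologyFunctor A i).obj
      (DerivedCategory.Q.obj (CochainComplex.mappingCone φ))) := fun i hi =>
    (h i hi).of_iso ((DerivedCategory.homologyFunctorFactors A i).app _)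
  have hepi : ∀ i : ℤ, a ≤ i →
      Epi ((DerivedCategory.homologyFunctor A i).map (DerivedCategory.Q.map φ)) := fun i hi =>
    (HomologySequence.epi_homologyMap_mor₁_iff _ hT i).2 ((hz i hi).eq_of_tgt _ _)
  refine ⟨fun i hi => ?_, hepi a le_rfl⟩
  have hmono : Mono ((DerivedCategory.homologyFunctor A i).map (DerivedCategory.Q.map φ)) := by
    have := (HomologySequence.mono_homologyMap_mor₁_iff _ hT (i - 1) i (by omega)).2
      ((hz (i - 1) (by omega)).eq_of_src _ _)
    exact this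
  have := hepi i (by omega)
  exact isIso_of_mono_of_epi _

/-- pullback preserves approximations between K-flat complexes -/
theorem isApprox_pullCx_map {P K : CochainComplex Y.Modules ℤ} (p : P ⟶ K)
    (hP : DCoh.IsKFlat P) (hK : DCoh.IsKFlat K) (m : ℤ)
    (h : IsApprox m (DerivedCategory.Q.map p)) :
    IsApprox m (DerivedCategory.Q.map ((pullCx f).map p)) := by
  apply isApprox_of_isZero_homology_mappingCone
  intro i hi
  have h1 : ∀ j : ℤ, m ≤ j → IsZero ((CochainComplex.mappingCone p).homology j) := fun j hj =>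
    (HomologicalComplex.exactAt_iff_isZero_homology _ _).1
      (exactAt_mappingCone_of_isApprox p m h j hj)
  have h2 := isZero_homology_pullCx_of_ge f _ (isKFlat_mappingCone' p hP hK) m h1 i hi
  exact h2.of_iso ((HomologicalComplex.homologyFunctor _ _ i).mapIso (pullCxMappingConeIso f p)).symm

/-- naturality of `LpullIso` -/
@[reassoc]
lemma Lpull_map_Q_map [DCoh.HasLpull f] {P K : CochainComplex Y.Modules ℤ}
    (hP : DCoh.IsKFlat P) (hK : DCoh.IsKFlat K) (p : P ⟶ K) :
    (DCoh.Lpull f).map (DerivedCategory.Q.map p) ≫ (LpullIso f K hK).hom =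
      (LpullIso f P hP).hom ≫ DerivedCategory.Q.map ((pullCx f).map p) :=
  (LpullCounit f).naturality ((HomotopyCategory.quotient _ _).map p)

/-- **`Lf^*` preserves approximations** between objects represented by K-flat complexes -/
theorem isApprox_Lpull_map [DCoh.HasLpull f] {E₀ G : CochainComplex Y.Modules ℤ}
    (hE₀ : DCoh.IsKFlat E₀) (hG : DCoh.IsKFlat G) (m : ℤ)
    (α : DerivedCategory.Q.obj E₀ ⟶ DerivedCategory.Q.obj G) (hα : IsApprox m α) :
    IsApprox m ((DCoh.Lpull f).map α) := by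
  obtain ⟨X', s, hs, g, rfl⟩ := DerivedCategory.right_fac α
  obtain ⟨P0, r0, hPK, -, hr0, -⟩ :=
    Groth.Agent.Lib.Helper28.KFlatSite.exists_kflat_resolution (O := Y.sheaf) X'
  let P : CochainComplex Y.Modules ℤ := P0
  let r : P ⟶ X' := r0
  have hr : QuasiIso r := hr0
  have hP : DCoh.IsKFlat P := hPK
  have hir : IsIso (DerivedCategory.Q.map r) := by
    rw [DerivedCategory.isIso_Q_map_iff_quasiIso]
    exact hr
  have his : IsIso (DerivedCategory.Q.map (r ≫ s)) := by
    rw [Functor.map_comp]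
    infer_instance
  -- `Q (r ≫ g) = Q (r ≫ s) ≫ α`
  have hfac : DerivedCategory.Q.map (r ≫ g) =
      DerivedCategory.Q.map (r ≫ s) ≫ (inv (DerivedCategory.Q.map s) ≫ DerivedCategory.Q.map g) := by
    simp
  have h1 : IsApprox m (DerivedCategory.Q.map (r ≫ g)) := by
    rw [hfac]
    exact hα.iso_comp (asIso (DerivedCategory.Q.map (r ≫ s)))
  have h2 := isApprox_pullCx_map f (r ≫ g) hP hG m h1
  have h3 : (DCoh.Lpull f).map (inv (DerivedCategory.Q.map s) ≫ DerivedCategory.Q.map g) =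
      inv ((DCoh.Lpull f).map (DerivedCategory.Q.map (r ≫ s))) ≫ (LpullIso f P hP).hom ≫
        DerivedCategory.Q.map ((pullCx f).map (r ≫ g)) ≫ (LpullIso f G hG).inv := by
    rw [IsIso.eq_inv_comp, ← Functor.map_comp, ← hfac, ← Lpull_map_Q_map_assoc f hP hG,
      Iso.hom_inv_id, Category.comp_id]
  rw [h3]
  exact ((h2.comp_iso (LpullIso f G hG).symm).iso_comp (LpullIso f P hP)).iso_comp
    (asIso ((DCoh.Lpull f).map (DerivedCategory.Q.map (r ≫ s)))).symm

/-- **`Lf^*` preserves pseudo-coherent objects.** -/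
theorem isPseudoCoherentD_Lpull [DCoh.HasLpull f] (m : ℤ) (E : DCoh.D Y)
    (hE : DCoh.IsPseudoCoherentD m E) : DCoh.IsPseudoCoherentD m ((DCoh.Lpull f).obj E) := by
  intro x
  obtain ⟨V, hxV, hV⟩ := hE (f.base x)
  refine ⟨f ⁻¹ᵁ V, hxV, fun F ⟨e⟩ => ?_⟩
  obtain ⟨G, hG, ⟨eG⟩⟩ := exists_kflat_rep E
  obtain ⟨E₀, α, hE₀, hα1, hα2⟩ := hV G ⟨eG⟩
  have hα : IsApprox m α := ⟨hα1, hα2⟩
  have hh : DCoh.HasLpull (f ∣_ V) := hasLpull _
  have hGV : DCoh.IsKFlat ((resCx V.ι).obj G) := isKFlat_resCx V.ι G hG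
  have hE₀K := isKFlat_of_isStrictlyPerfect E₀ hE₀
  have h1 := isApprox_Lpull_map (f ∣_ V) hE₀K hGV m α hα
  let e' := resLpullIso f V G hG F (e ≪≫ (DCoh.Lpull f).mapIso eG.symm) ≪≫
    (LpullIso (f ∣_ V) _ hGV).symm
  have h2 := (h1.comp_iso e'.symm).iso_comp (LpullIso (f ∣_ V) E₀ hE₀K).symm
  exact ⟨(pullCx (f ∣_ V)).obj E₀, _, isStrictlyPerfect_pullCx _ E₀ hE₀, h2.1, h2.2⟩

end

end Groth.Agent.Lib.Helper28.Lpull
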