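import Mathlib
import Groth.Agent.Lib.Helper28.LeftDerivedTri

/-!
# Left derived functors on the homotopy category via K-projective resolutions (helper28)

If every complex over an abelian category has a K-projective resolution, then *every* functor out
of the homotopy category has a left derived functor with respect to quasi-isomorphisms, its counit
is an isomorphism on K-projective complexes, and this property characterises it.
-/

set_option autoImplicit false

open CategoryTheory Functor Opposite Limits Pretriangulated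

namespace Groth.Agent.Lib.Helper28.LeftDerivedKProj

open Groth.Agent.Lib.Helper28.LeftDerivedTri

universe w v u

variable (𝒜 : Type u) [Category.{v} 𝒜] [Abelian 𝒜]

/-- the acyclic objects -/
abbrev acy : ObjectProperty (HomotopyCategory 𝒜 (ComplexShape.up ℤ)) :=
  HomotopyCategory.subcategoryAcyclic 𝒜

/-- the K-projective objects -/
abbrev kproj : ObjectProperty (HomotopyCategory 𝒜 (ComplexShape.up ℤ)) :=
  (HomotopyCategory.subcategoryAcyclic 𝒜).leftOrthogonal

/-- K-projective resolutions exist -/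
def HasKProjRes : Prop :=
  ∀ K : CochainComplex 𝒜 ℤ, ∃ (P : CochainComplex 𝒜 ℤ) (p : P ⟶ K), P.IsKProjective ∧ QuasiIso p

variable {𝒜}

theorem hasRes (h : HasKProjRes 𝒜) : HasRes (kproj 𝒜) (acy 𝒜) := by
  intro X
  obtain ⟨K, rfl⟩ := HomotopyCategory.quotient_obj_surjective X
  obtain ⟨P, p, hP, hp⟩ := h K
  refine ⟨(HomotopyCategory.quotient _ _).obj P, CochainComplex.IsKProjective.leftOrthogonal P,
    (HomotopyCategory.quotient _ _).map p, ?_⟩
  rw [← HomotopyCategory.quasiIso_eq_trW_subcategoryAcyclic,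
    HomotopyCategory.quotient_map_mem_quasiIso_iff]
  exact (HomologicalComplex.mem_quasiIso_iff p).2 hp

variable {H : Type*} [Category H] (F : HomotopyCategory 𝒜 (ComplexShape.up ℤ) ⥤ H)

theorem inverts : ((acy 𝒜).inverseImage (kproj 𝒜).ι).trW.IsInvertedBy ((kproj 𝒜).ι ⋙ F) := by
  intro P₁ P₂ s hs
  rw [ObjectProperty.trW_inverseImage_ι_iff] at hs
  obtain ⟨Z, g, h, hT, hZ⟩ := hs
  have h0 : IsZero Z := by
    rw [IsZero.iff_id_eq_zero]
    exact hZ.1 (𝟙 Z) hZ.2
  have : IsIso s.hom := (Triangle.isZero₃_iff_isIso₁ _ hT).1 h0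
  change IsIso (F.map s.hom)
  infer_instance

variable [HasDerivedCategory.{w} 𝒜]

instance isLocalization_Qh_acy :
    (DerivedCategory.Qh (C := 𝒜)).IsLocalization (acy 𝒜).trW := by
  have h : (DerivedCategory.Qh (C := 𝒜)).IsLocalization
      (HomotopyCategory.quasiIso 𝒜 (ComplexShape.up ℤ)) := inferInstance
  rwa [HomotopyCategory.quasiIso_eq_trW_subcategoryAcyclic] at h

/-- **Every functor on the homotopy category has a left derived functor.** -/
theorem hasLeftDerivedFunctor (h : HasKProjRes 𝒜) :
    F.HasLeftDerivedFunctor (HomotopyCategory.quasiIso 𝒜 (ComplexShape.up ℤ)) := by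
  have := LeftDerivedTri.hasLeftDerivedFunctor (A := kproj 𝒜) (B := acy 𝒜) F (hasRes h) (inverts F)
  rwa [← HomotopyCategory.quasiIso_eq_trW_subcategoryAcyclic] at this

variable (LF : DerivedCategory 𝒜 ⥤ H) (α : DerivedCategory.Qh ⋙ LF ⟶ F)

lemma isLeftDerivedFunctor_iff :
    LF.IsLeftDerivedFunctor α (HomotopyCategory.quasiIso 𝒜 (ComplexShape.up ℤ)) ↔
      LF.IsLeftDerivedFunctor α (acy 𝒜).trW :=
  (isLeftDerivedFunctor_iff_isRightKanExtension _ _ _).trans
    (isLeftDerivedFunctor_iff_isRightKanExtension _ _ _).symm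

/-- the counit is an isomorphism on K-projective complexes -/
theorem isIso_counit_app (h : HasKProjRes 𝒜)
    [hLF : LF.IsLeftDerivedFunctor α (HomotopyCategory.quasiIso 𝒜 (ComplexShape.up ℤ))]
    (P : CochainComplex 𝒜 ℤ) [P.IsKProjective] :
    IsIso (α.app ((HomotopyCategory.quotient _ _).obj P)) := by
  have := (isLeftDerivedFunctor_iff F LF α).1 hLF
  exact LeftDerivedTri.isIso_counit_app (A := kproj 𝒜) (B := acy 𝒜) F DerivedCategory.Qh LF α
    (hasRes h) (inverts F) _ (CochainComplex.IsKProjective.leftOrthogonal P)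

/-- recognition of left derived functors -/
theorem isLeftDerivedFunctor_of_isIso (h : HasKProjRes 𝒜)
    (hα : ∀ (P : CochainComplex 𝒜 ℤ), P.IsKProjective →
      IsIso (α.app ((HomotopyCategory.quotient _ _).obj P))) :
    LF.IsLeftDerivedFunctor α (HomotopyCategory.quasiIso 𝒜 (ComplexShape.up ℤ)) := by
  rw [isLeftDerivedFunctor_iff F LF α]
  refine LeftDerivedTri.isLeftDerivedFunctor_of_isIso (A := kproj 𝒜) (B := acy 𝒜) F
    DerivedCategory.Qh LF α (hasRes h) (inverts F) (fun P hP => ?_)
  obtain ⟨P₀, rfl⟩ := HomotopyCategory.quotient_obj_surjective P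
  exact hα P₀ ((CochainComplex.isKProjective_iff_leftOrthogonal P₀).2 hP)

end Groth.Agent.Lib.Helper28.LeftDerivedKProj
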