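import Mathlib
import Groth.Prelude.Def_DDual2
import Groth.Prelude.Def_HTor
import Groth.Agent.Lib.Helper28.LpullPerfect
import Groth.Agent.Lib.Helper28.LeftDerivedKProj
import Groth.Agent.Lib.Helper13.SemiFree4
import Groth.Agent.Lib.Helper13.KFlat2
import Groth.Agent.Lib.Helper29.QCohPullback

/-!
# `Lf^*` on affine schemes is derived base change (helper28)
-/

set_option autoImplicit false

universe u

open CategoryTheory Limits AlgebraicGeometry Functor

attribute [local instance] HasDerivedCategory.standard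

namespace Groth.Agent.Lib.Helper28.Lpull

open Groth.Agent.Lib.Helper28.StalkTensor Groth.Agent.Lib.Helper28.LeftDerivedKProj

noncomputable section

/-- K-projective resolutions of complexes of modules exist -/
theorem hasKProjRes (A : Type u) [CommRing A] : HasKProjRes (ModuleCat.{u} A) :=
  fun K => ⟨Groth.Agent.Lib.Helper13.SF.res K, Groth.Agent.Lib.Helper13.SF.resMap K,
    inferInstance, inferInstance⟩

instance preservesFiniteColimits_tildeFunctor (A : Type u) [CommRing A] :
    PreservesFiniteColimits (tilde.functor (CommRingCat.of A)) :=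
  (inferInstance : ∀ R : CommRingCat.{u}, PreservesFiniteColimits (tilde.functor R))
    (CommRingCat.of A)

variable {A B : Type u} [CommRing A] [CommRing B] (φ : A →+* B)
  [PreservesFiniteLimits (tilde.functor (CommRingCat.of A))]
  [PreservesFiniteLimits (tilde.functor (CommRingCat.of B))]

/-- the morphism of affine schemes -/
abbrev fS : Spec (CommRingCat.of B) ⟶ Spec (CommRingCat.of A) := Spec.map (CommRingCat.ofHom φ)

/-- `M ↦ M~` on homotopy categories -/
abbrev tildeK (A : Type u) [CommRing A] [PreservesFiniteLimits (tilde.functor (CommRingCat.of A))] :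
    HomotopyCategory (ModuleCat.{u} A) (ComplexShape.up ℤ) ⥤
      HomotopyCategory (Spec (CommRingCat.of A)).Modules (ComplexShape.up ℤ) :=
  (tilde.functor (CommRingCat.of A)).mapHomotopyCategory (ComplexShape.up ℤ)

/-- the underived comparison -/
def baseChangeTildeIso :
    DRing.baseChangeKh φ ⋙ DCoh.tildeD (CommRingCat.of B) ≅ tildeK A ⋙ DCoh.pullKh (fS φ) :=
  Functor.associator _ _ _ ≪≫
    isoWhiskerLeft _ (tilde.functor (CommRingCat.of B)).mapDerivedCategoryFactorsh ≪≫
    (Functor.associator _ _ _).symm ≪≫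
    isoWhiskerRight
      (Functor.mapHomotopyCategoryCompIso
        (Iso.refl (ModuleCat.extendScalars.{u, u, u} φ ⋙ tilde.functor (CommRingCat.of B)))
        (ComplexShape.up ℤ) ≪≫
      (Functor.mapHomotopyCategoryCompIso
        (Groth.Agent.Lib.Helper29.QCoh.tildePullbackIso (CommRingCat.ofHom φ))
        (ComplexShape.up ℤ)).symm) DerivedCategory.Qh ≪≫
    Functor.associator _ _ _

/-- the counit of derived base change -/
abbrev LBaseChangeCounit [DRing.HasLBaseChange φ] :
    DerivedCategory.Qh ⋙ DRing.LBaseChange φ ⟶ DRing.baseChangeKh φ :=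
  (DRing.baseChangeKh φ).totalLeftDerivedCounit DerivedCategory.Qh
    (HomotopyCategory.quasiIso (ModuleCat.{u} A) (ComplexShape.up ℤ))

/-- the first counit -/
def counit₁ [DRing.HasLBaseChange φ] :
    DerivedCategory.Qh ⋙ (DRing.LBaseChange φ ⋙ DCoh.tildeD (CommRingCat.of B)) ⟶
      DRing.baseChangeKh φ ⋙ DCoh.tildeD (CommRingCat.of B) :=
  (Functor.associator _ _ _).inv ≫ whiskerRight (LBaseChangeCounit φ) _

theorem isLeftDerivedFunctor₁ [DRing.HasLBaseChange φ] :
    (DRing.LBaseChange φ ⋙ DCoh.tildeD (CommRingCat.of B)).IsLeftDerivedFunctor (counit₁ φ)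
      (HomotopyCategory.quasiIso (ModuleCat.{u} A) (ComplexShape.up ℤ)) := by
  apply isLeftDerivedFunctor_of_isIso _ _ _ (hasKProjRes A)
  intro P hP
  have h1 : IsIso ((LBaseChangeCounit φ).app ((HomotopyCategory.quotient _ _).obj P)) :=
    isIso_counit_app (DRing.baseChangeKh φ) (DRing.LBaseChange φ) (LBaseChangeCounit φ)
      (hasKProjRes A) P
  have h2 : (counit₁ φ).app ((HomotopyCategory.quotient _ _).obj P) =
      (DCoh.tildeD (CommRingCat.of B)).map
        ((LBaseChangeCounit φ).app ((HomotopyCategory.quotient _ _).obj P)) := by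
    simp [counit₁]
  rw [h2]
  infer_instance

/-- the second counit -/
def counit₂ [DCoh.HasLpull (fS φ)] :
    DerivedCategory.Qh ⋙ (DCoh.tildeD (CommRingCat.of A) ⋙ DCoh.Lpull (fS φ)) ⟶
      DRing.baseChangeKh φ ⋙ DCoh.tildeD (CommRingCat.of B) :=
  (Functor.associator _ _ _).inv ≫
    whiskerRight (tilde.functor (CommRingCat.of A)).mapDerivedCategoryFactorsh.hom _ ≫
    (Functor.associator _ _ _).hom ≫ whiskerLeft (tildeK A) (LpullCounit (fS φ)) ≫
    (baseChangeTildeIso φ).inv

lemma counit₂_app [DCoh.HasLpull (fS φ)]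
    (P : HomotopyCategory (ModuleCat.{u} A) (ComplexShape.up ℤ)) :
    (counit₂ φ).app P = (DCoh.Lpull (fS φ)).map
        ((tilde.functor (CommRingCat.of A)).mapDerivedCategoryFactorsh.hom.app P) ≫
      (LpullCounit (fS φ)).app ((tildeK A).obj P) ≫ (baseChangeTildeIso φ).inv.app P := by
  simp [counit₂]

/-- the tilde of a K-projective complex is K-flat -/
lemma kfl_tildeK (P : CochainComplex (ModuleCat.{u} A) ℤ) [P.IsKProjective] :
    kfl (Spec (CommRingCat.of A)) ((tildeK A).obj ((HomotopyCategory.quotient _ _).obj P)) :=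
  (kfl_iff _ _).2 ⟨((tilde.functor (CommRingCat.of A)).mapHomologicalComplex
      (ComplexShape.up ℤ)).obj P,
    isKFlat_tildeCx (CommRingCat.of A) P
      (Groth.Agent.Lib.Helper13.HT.isKFlat_of_isKProjective P),
    ⟨((tilde.functor (CommRingCat.of A)).mapHomotopyCategoryFactors (ComplexShape.up ℤ)).app P⟩⟩

theorem isLeftDerivedFunctor₂ [DCoh.HasLpull (fS φ)] :
    (DCoh.tildeD (CommRingCat.of A) ⋙ DCoh.Lpull (fS φ)).IsLeftDerivedFunctor (counit₂ φ)
      (HomotopyCategory.quasiIso (ModuleCat.{u} A) (ComplexShape.up ℤ)) := by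
  apply isLeftDerivedFunctor_of_isIso _ _ _ (hasKProjRes A)
  intro P hP
  rw [counit₂_app]
  have h1 := isIso_LpullCounit_app (fS φ) _ (kfl_tildeK P)
  infer_instance

/-- **`(K ⊗^L_A B)~ ≅ Lf^*(K~)`** -/
def LBaseChangeTildeIso [DRing.HasLBaseChange φ] [DCoh.HasLpull (fS φ)] :
    DRing.LBaseChange φ ⋙ DCoh.tildeD (CommRingCat.of B) ≅
      DCoh.tildeD (CommRingCat.of A) ⋙ DCoh.Lpull (fS φ) :=
  have := isLeftDerivedFunctor₁ φ
  have := isLeftDerivedFunctor₂ φ
  leftDerivedUnique (DCoh.tildeD (CommRingCat.of A) ⋙ DCoh.Lpull (fS φ))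
    (DRing.LBaseChange φ ⋙ DCoh.tildeD (CommRingCat.of B)) (counit₁ φ) (counit₂ φ)
    (HomotopyCategory.quasiIso (ModuleCat.{u} A) (ComplexShape.up ℤ))

end

end Groth.Agent.Lib.Helper28.Lpull
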