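import Mathlib
import Groth.Prelude.Def_PerfD
import Groth.Agent.Lib.Helper28.LpullTilde
import Groth.Agent.Lib.Helper28.LpullPC
import Groth.Agent.Lib.Helper28.DCohTilde7
import Groth.Agent.Lib.Helper28.DCohRes7
import Groth.Agent.Lib.Helper28.Betti1
import Groth.Agent.Lib.Helper17.KProjAff

/-!
# Betti numbers and Euler characteristic of pseudo-coherent / perfect objects (helper28)

* `betti_eq_of_local_model`: on an affine open `V` over which `E` is approximated by the tilde of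
  a complex `M` of `Γ(X, V)`-modules, `β_p(x) = dim_{κ(x)} H^p(κ(x) ⊗ M)`.
* `isOpen_betti_lt`: upper semicontinuity of `β_p` for `(p-1)`-pseudo-coherent objects.
* `isLocallyConstant_eulerChar`: the Euler characteristic of a perfect object is locally constant.
-/

set_option autoImplicit false

universe u

open CategoryTheory Limits AlgebraicGeometry Functor Opposite

attribute [local instance] HasDerivedCategory.standard

namespace Groth.Agent.Lib.Helper28.Betti

open Groth.Agent.Lib.Helper28.StalkTensor Groth.Agent.Lib.Helper28.DCohRes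
  Groth.Agent.Lib.Helper28.Lpull Groth.Agent.Lib.Helper28.DCohTilde Groth.Agent.Lib.Helper29.QCoh

noncomputable section

/-- the dimension of the global sections of a module -/
def secRank {T : Scheme.{u}} (N : T.Modules) : ℕ :=
  Module.finrank (Coh.Γtop T) (N.val.obj (op ⊤))

lemma secRank_eq_of_iso {T : Scheme.{u}} {N N' : T.Modules} (e : N ≅ N') :
    secRank N = secRank N' := by
  let e' : N.val.obj (op ⊤) ≅ N'.val.obj (op ⊤) :=
    ((SheafOfModules.forget _ ⋙ PresheafOfModules.evaluation _ (op ⊤)).mapIso e)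
  exact LinearEquiv.finrank_eq e'.toLinearEquiv

attribute [local instance] RingHomInvPair.of_ringEquiv RingHomInvPair.of_ringEquiv_symm in
lemma secRank_tilde (A : CommRingCat.{u}) (N : ModuleCat.{u} A) :
    secRank (tilde N) = Module.finrank A N := by
  unfold secRank
  have h := rank_eq_of_equiv_equiv (R := Coh.Γtop (Spec A)) (R' := A)
    (M := (tilde N).val.obj (op ⊤)) (M₁ := N)
    (ΓSpecRingEquiv A) (tildeTopEquiv N).toAddEquiv (ΓSpecRingEquiv A).bijective
    (fun r m => (tildeTopEquiv N).map_smulₛₗ r m)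
  unfold Module.finrank
  rw [h]

section Cat

variable {A B : Type*} [Category A] [Category B] [Preadditive A] [Preadditive B]
  (F : A ⥤ B) [F.Additive] [F.Full] [F.Faithful]

/-- a complex whose terms lie in the essential image of a fully faithful additive functor comes
from a complex -/
lemma exists_mapHomologicalComplex_iso (P : CochainComplex B ℤ) (N : ℤ → A)
    (e : ∀ i, P.X i ≅ F.obj (N i)) :
    ∃ M : CochainComplex A ℤ, (∀ i, M.X i = N i) ∧
      Nonempty (P ≅ (F.mapHomologicalComplex (ComplexShape.up ℤ)).obj M) := by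
  let M : CochainComplex A ℤ :=
    { X := N
      d := fun i j => F.preimage ((e i).inv ≫ P.d i j ≫ (e j).hom)
      shape := fun i j hij => by
        apply F.map_injective
        rw [F.map_preimage, P.shape i j hij, Functor.map_zero, zero_comp, comp_zero]
      d_comp_d' := fun i j k _ _ => by
        apply F.map_injective
        rw [F.map_comp, F.map_preimage, F.map_preimage, Functor.map_zero]
        simp }
  refine ⟨M, fun _ => rfl, ⟨HomologicalComplex.Hom.isoOfComponents e (fun i j _ => ?_)⟩⟩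
  change (e i).hom ≫ F.map (F.preimage _) = _
  rw [F.map_preimage, Iso.hom_inv_id_assoc]
  rfl

end Cat

lemma isApprox_of_isIso {C : Type*} [Category C] [Abelian C] [HasDerivedCategory C]
    {K L : DerivedCategory C} (α : K ⟶ L) [IsIso α] (m : ℤ) : IsApprox m α :=
  ⟨fun _ _ => inferInstance, inferInstance⟩

variable {X : Scheme.{u}}

/-- derived pullbacks exist -/
local instance hasLpull' {Y Z : Scheme.{u}} (f : Y ⟶ Z) : DCoh.HasLpull f := hasLpull f

/-- pullback of the tilde of a complex along a morphism of affine schemes -/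
def pullCxTildeIso {R S : CommRingCat.{u}} (φ : R ⟶ S) (M : CochainComplex (ModuleCat.{u} R) ℤ) :
    (pullCx (Spec.map φ)).obj
        (((tilde.functor R).mapHomologicalComplex (ComplexShape.up ℤ)).obj M) ≅
      ((tilde.functor S).mapHomologicalComplex (ComplexShape.up ℤ)).obj
        (((ModuleCat.extendScalars φ.hom).mapHomologicalComplex (ComplexShape.up ℤ)).obj M) :=
  HomologicalComplex.Hom.isoOfComponents
    (fun i => (tildePullbackIso φ).app (M.X i))
    (fun i j _ => ((tildePullbackIso φ).hom.naturality (M.d i j)).symm)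

/-- the cohomology sheaves of the tilde of a complex -/
def HDQtildeIso (S : CommRingCat.{u}) (N : CochainComplex (ModuleCat.{u} S) ℤ) (p : ℤ) :
    DCoh.HD (DerivedCategory.Q.obj
      (((tilde.functor S).mapHomologicalComplex (ComplexShape.up ℤ)).obj N)) p ≅
      (tilde.functor S).obj (N.homology p) :=
  haveI : PreservesFiniteLimits (tilde.functor S) :=
    Groth.Agent.Lib.Helper17.KProjAff.preservesFiniteLimits_tilde S
  (DerivedCategory.homologyFunctor _ p).mapIso ((tildeDQ S).app N).symm ≪≫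
    HDtildeDIso (DerivedCategory.Q.obj N) p ≪≫
    (tilde.functor S).mapIso ((DerivedCategory.homologyFunctorFactors _ p).app N)

theorem secRank_HD_Lpull (E : DCoh.D X) {K : Type u} [Field K] (i : Spec (CommRingCat.of K) ⟶ X)
    [DCoh.HasLpull i] (R : CommRingCat.{u}) (g : Spec R ⟶ X) (φ : R ⟶ CommRingCat.of K)
    (hφ : Spec.map φ ≫ g = i) (M : CochainComplex (ModuleCat.{u} R) ℤ)
    (hMK : DCoh.IsKFlat (((tilde.functor R).mapHomologicalComplex (ComplexShape.up ℤ)).obj M))
    [DCoh.HasLpull g] (m : ℤ)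
    (α : DerivedCategory.Q.obj (((tilde.functor R).mapHomologicalComplex (ComplexShape.up ℤ)).obj M) ⟶
      (DCoh.Lpull g).obj E)
    (hα : IsApprox m α) (p : ℤ) (hp : m < p) :
    secRank (DCoh.HD ((DCoh.Lpull i).obj E) p) =
      Module.finrank K ((ext M φ.hom).homology p) := by
  subst hφ
  haveI : DCoh.HasLpull (Spec.map φ) := hasLpull _
  obtain ⟨G, hG, ⟨eG⟩⟩ := exists_kflat_rep ((DCoh.Lpull g).obj E)
  have hα' : IsApprox m (α ≫ eG.inv) := hα.comp_iso eG.symm
  have h2 := isApprox_Lpull_map (Spec.map φ) hMK hG m (α ≫ eG.inv) hα'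
  have h3 : IsApprox m ((DCoh.Lpull (Spec.map φ)).map α) := by
    have := h2.comp_iso ((DCoh.Lpull (Spec.map φ)).mapIso eG)
    simpa [← Functor.map_comp] using this
  haveI := h3.1 p hp
  let e₂ := asIso ((DerivedCategory.homologyFunctor _ p).map ((DCoh.Lpull (Spec.map φ)).map α))
  let e₁ := (DerivedCategory.homologyFunctor _ p).mapIso ((LpullCompIso (Spec.map φ) g).app E)
  let e₃ := (DerivedCategory.homologyFunctor _ p).mapIso
    (LpullIso (Spec.map φ) _ hMK ≪≫ DerivedCategory.Q.mapIso (pullCxTildeIso φ M))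
  let e₄ := HDQtildeIso (CommRingCat.of K) (ext M φ.hom) p
  rw [secRank_eq_of_iso (e₁.symm ≪≫ e₂.symm ≪≫ e₃ ≪≫ e₄)]
  exact secRank_tilde (CommRingCat.of K) _

/-- the derived pullback along an open immersion is the restriction -/
def LpullResDIso {U : Scheme.{u}} (g : U ⟶ X) [IsOpenImmersion g] [DCoh.HasLpull g]
    (G : CochainComplex X.Modules ℤ) (hG : DCoh.IsKFlat G) :
    (resD g).obj (DerivedCategory.Q.obj G) ≅ (DCoh.Lpull g).obj (DerivedCategory.Q.obj G) :=
  (resDQ g).app G ≪≫ DerivedCategory.Q.mapIso (resCxPullIso g G) ≪≫ (LpullIso g G hG).symm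

/-- transport of an approximation to a smaller open -/
lemma exists_approx_comp (K : DCoh.D X) (V₀ : X.Opens)
    (G : CochainComplex X.Modules ℤ) (hG : DCoh.IsKFlat G) (eG : DCoh.toD X G ≅ K)
    (E₀ : CochainComplex (V₀ : Scheme.{u}).Modules ℤ)
    (α : DerivedCategory.Q.obj E₀ ⟶ DerivedCategory.Q.obj ((DCoh.restrictCx V₀).obj G))
    {U : Scheme.{u}} (g : U ⟶ X) [IsOpenImmersion g] (k : U ⟶ V₀) [IsOpenImmersion k]
    (hk : k ≫ V₀.ι = g) :
    ∃ α' : DerivedCategory.Q.obj ((resCx k).obj E₀) ⟶ (DCoh.Lpull g).obj K,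
      ∀ m : ℤ, IsApprox m α → IsApprox m α' := by
  subst hk
  let eL : DerivedCategory.Q.obj ((resCx k).obj E₀) ≅ (resD k).obj (DerivedCategory.Q.obj E₀) :=
    ((resDQ k).app E₀).symm
  let eR : (resD k).obj (DerivedCategory.Q.obj ((DCoh.restrictCx V₀).obj G)) ≅
      (DCoh.Lpull (k ≫ V₀.ι)).obj K :=
    (resD k).mapIso ((resDQ V₀.ι).app G).symm ≪≫ ((resDComp k V₀.ι).app _).symm ≪≫
      LpullResDIso (k ≫ V₀.ι) G hG ≪≫ (DCoh.Lpull (k ≫ V₀.ι)).mapIso eG
  refine ⟨eL.hom ≫ (resD k).map α ≫ eR.hom, fun m hα => ?_⟩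
  exact ((hα.resD k).comp_iso eR).iso_comp eL

/-- a local model by a bounded complex of finite free modules over an affine open -/
theorem exists_local_model (K : DCoh.D X) (x₀ : X) (V₀ : X.Opens) (hx₀ : x₀ ∈ V₀)
    (G : CochainComplex X.Modules ℤ) (hG : DCoh.IsKFlat G) (eG : DCoh.toD X G ≅ K)
    (E₀ : CochainComplex (V₀ : Scheme.{u}).Modules ℤ) (hE₀ : DCoh.IsStrictlyPerfect E₀)
    (α : DerivedCategory.Q.obj E₀ ⟶ DerivedCategory.Q.obj ((DCoh.restrictCx V₀).obj G)) :
    ∃ (V : X.Opens) (hV : IsAffineOpen V) (_ : x₀ ∈ V)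
      (M : CochainComplex (ModuleCat.{u} Γ(X, V)) ℤ)
      (_ : ∀ i, Module.Finite Γ(X, V) (M.X i)) (_ : ∀ i, Module.Free Γ(X, V) (M.X i))
      (a b : ℤ) (_ : ∀ i : ℤ, (i < a ∨ b < i) → IsZero (M.X i))
      (_ : DCoh.IsKFlat
        (((tilde.functor Γ(X, V)).mapHomologicalComplex (ComplexShape.up ℤ)).obj M))
      (α' : DerivedCategory.Q.obj
        (((tilde.functor Γ(X, V)).mapHomologicalComplex (ComplexShape.up ℤ)).obj M) ⟶
        (DCoh.Lpull hV.fromSpec).obj K),
      ∀ m : ℤ, IsApprox m α → IsApprox m α' := by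
  obtain ⟨W, hxW, hW⟩ := exists_free_nbhd hE₀ ⟨x₀, hx₀⟩
  have hx' : x₀ ∈ V₀.ι ''ᵁ W := ⟨⟨x₀, hx₀⟩, hxW, rfl⟩
  obtain ⟨V, hV, hxV, hVW⟩ := exists_isAffineOpen_mem_and_subset (x := x₀) (U := V₀.ι ''ᵁ W) hx'
  have hr : Set.range hV.fromSpec.base ⊆ Set.range V₀.ι.base := by
    rw [hV.range_fromSpec, Scheme.Opens.range_ι]
    intro y hy
    obtain ⟨z, -, rfl⟩ := hVW hy
    exact z.2
  let k : Spec Γ(X, V) ⟶ V₀ := IsOpenImmersion.lift V₀.ι hV.fromSpec hr
  have hk : k ≫ V₀.ι = hV.fromSpec := IsOpenImmersion.lift_fac _ _ _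
  haveI : IsOpenImmersion (k ≫ V₀.ι) := by rw [hk]; infer_instance
  haveI : IsOpenImmersion k := IsOpenImmersion.of_comp k V₀.ι
  have hkW : Set.range k.base ⊆ Set.range W.ι.base := by
    rintro _ ⟨z, rfl⟩
    rw [Scheme.Opens.range_ι]
    have h1 : hV.fromSpec.base z ∈ (V : Set X) := by
      rw [← hV.range_fromSpec]
      exact ⟨z, rfl⟩
    obtain ⟨w, hw, hw'⟩ := hVW h1
    have h2 : V₀.ι.base (k.base z) = hV.fromSpec.base z := by
      rw [← hk]
      rfl
    have h3 : w = k.base z := V₀.ι.isOpenEmbedding.injective (hw'.trans h2.symm)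
    exact h3 ▸ hw
  have hE₀' := hE₀
  obtain ⟨⟨a, b, hab⟩, -⟩ := hE₀
  -- the terms of the restricted complex are free
  have hfree : ∀ i : ℤ, ∃ n : ℕ, Nonempty (((resCx k).obj E₀).X i ≅
      (tilde.functor Γ(X, V)).obj (ModuleCat.of Γ(X, V) (ULift.{u} (Fin n) →₀ Γ(X, V)))) := by
    intro i
    obtain ⟨n, hn⟩ := hW i
    have h1 := (isFreeAlong_iff_restrict _ _ _).1 (hn.of_range_subset k hkW)
    obtain ⟨e⟩ := h1
    exact ⟨n, ⟨e ≪≫ freeModIso _ n ≪≫ (tildeFinsupp _).symm⟩⟩
  choose n hn using hfree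
  obtain ⟨M, hMX, ⟨eM⟩⟩ := exists_mapHomologicalComplex_iso (tilde.functor Γ(X, V))
    ((resCx k).obj E₀) (fun i => ModuleCat.of Γ(X, V) (ULift.{u} (Fin (n i)) →₀ Γ(X, V)))
    (fun i => (hn i).some)
  obtain ⟨α₁, hα₁⟩ := exists_approx_comp K V₀ G hG eG E₀ α hV.fromSpec k hk
  refine ⟨V, hV, hxV, M, fun i => ?_, fun i => ?_, a, b, fun i hi => ?_, ?_,
    DerivedCategory.Q.map eM.inv ≫ α₁, fun m hm => ?_⟩
  · rw [hMX i]
    infer_instance
  · rw [hMX i]
    infer_instance
  · haveI : PreservesFiniteLimits (tilde.functor Γ(X, V)) :=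
      Groth.Agent.Lib.Helper17.KProjAff.preservesFiniteLimits_tilde _
    have h1 : IsZero (((resCx k).obj E₀).X i) :=
      (Scheme.Modules.restrictFunctor k).map_isZero (hab i hi)
    exact isZero_of_isZero_tilde _
      (h1.of_iso ((HomologicalComplex.eval _ _ i).mapIso eM).symm)
  · exact isKFlat_of_iso eM (isKFlat_of_isStrictlyPerfect _ (isStrictlyPerfect_resCx k hE₀'))
  · exact (hα₁ m hm).iso_comp (DerivedCategory.Q.mapIso eM.symm)

lemma fromSpecResidueField_eq {V : X.Opens} (hV : IsAffineOpen V) (x : X) (hx : x ∈ V) :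
    Spec.map (X.evaluation V x hx) ≫ hV.fromSpec = X.fromSpecResidueField x := by
  rw [Scheme.fromSpecResidueField, ← hV.fromSpecStalk_eq_fromSpecStalk hx,
    IsAffineOpen.fromSpecStalk, ← Spec.map_comp_assoc]
  rfl

theorem betti_eq_of_local_model (E : DCoh.D X)
    [∀ x : X, DCoh.HasLpull (X.fromSpecResidueField x)] {V : X.Opens} (hV : IsAffineOpen V)
    (M : CochainComplex (ModuleCat.{u} Γ(X, V)) ℤ)
    (hMK : DCoh.IsKFlat
      (((tilde.functor Γ(X, V)).mapHomologicalComplex (ComplexShape.up ℤ)).obj M))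
    (m : ℤ)
    (α : DerivedCategory.Q.obj
        (((tilde.functor Γ(X, V)).mapHomologicalComplex (ComplexShape.up ℤ)).obj M) ⟶
        (DCoh.Lpull hV.fromSpec).obj E)
    (hα : IsApprox m α) (x : X) (hx : x ∈ V) (p : ℤ) (hp : m < p) :
    PerfD.betti E x p =
      Module.finrank (X.residueField x) ((ext M (X.evaluation V x hx).hom).homology p) :=
  secRank_HD_Lpull E (K := X.residueField x) (X.fromSpecResidueField x) Γ(X, V) hV.fromSpec
    (X.evaluation V x hx) (fromSpecResidueField_eq hV x hx) M hMK m α hα p hp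

/-- **upper semicontinuity of the Betti numbers** of a `(p-1)`-pseudo-coherent object -/
theorem isOpen_betti_lt (E : DCoh.D X) [∀ x : X, DCoh.HasLpull (X.fromSpecResidueField x)]
    (p : ℤ) (hE : DCoh.IsPseudoCoherentD (p - 1) E) (n : ℕ) :
    IsOpen {x : X | PerfD.betti E x p < n} := by
  rw [isOpen_iff_forall_mem_open]
  intro x₀ hx₀
  obtain ⟨G, hG, ⟨eG⟩⟩ := exists_kflat_rep E
  obtain ⟨V₀, hxV₀, hV₀⟩ := hE x₀
  obtain ⟨E₀, α, hE₀, hα1, hα2⟩ := hV₀ G ⟨eG⟩
  obtain ⟨V, hV, hxV, M, hfin, hfree, a, b, hab, hMK, α', hα'⟩ :=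
    exists_local_model E x₀ V₀ hxV₀ G hG eG E₀ hE₀ α
  have hα'' := hα' (p - 1) ⟨hα1, hα2⟩
  haveI := hfin
  haveI := hfree
  obtain ⟨f, hf, hfle⟩ := exists_finrank_homology_le M (X.evaluation V x₀ hxV).hom p
  refine ⟨X.basicOpen f, ?_, (X.basicOpen f).2, ?_⟩
  · intro x hx
    have hxV' : x ∈ V := X.basicOpen_le f hx
    have h1 := hfle (X.residueField x) (X.evaluation V x hxV').hom
      ((X.evaluation_ne_zero_iff_mem_basicOpen x hxV' f).2 hx)
    have h2 : PerfD.betti E x₀ p < n := hx₀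
    rw [betti_eq_of_local_model E hV M hMK (p - 1) α' hα'' x₀ hxV p (by omega)] at h2
    rw [Set.mem_setOf_eq, betti_eq_of_local_model E hV M hMK (p - 1) α' hα'' x hxV' p (by omega)]
    omega
  · exact (X.evaluation_ne_zero_iff_mem_basicOpen x₀ hxV f).1 hf

/-- **the Euler characteristic of a perfect object is locally constant** -/
theorem isLocallyConstant_eulerChar (E : DCoh.D X)
    [∀ x : X, DCoh.HasLpull (X.fromSpecResidueField x)] (hE : DCoh.IsPerfect E) :
    IsLocallyConstant (fun x : X => PerfD.eulerChar E x) := by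
  rw [IsLocallyConstant.iff_exists_open]
  intro x₀
  obtain ⟨G, hG, ⟨eG⟩⟩ := exists_kflat_rep E
  obtain ⟨V₀, hxV₀, hV₀⟩ := hE x₀
  obtain ⟨E₀, hE₀, ⟨e₀⟩⟩ := hV₀ G ⟨eG⟩
  obtain ⟨V, hV, hxV, M, hfin, hfree, a, b, hab, hMK, α', hα'⟩ :=
    exists_local_model E x₀ V₀ hxV₀ G hG eG E₀ hE₀ e₀.inv
  haveI := hfin
  haveI := hfree
  refine ⟨V, V.2, hxV, fun x hx => ?_⟩
  have key : ∀ (y : X) (hy : y ∈ V), PerfD.eulerChar E y =
      ∑ᶠ p : ℤ, ((p.negOnePow : ℤˣ) : ℤ) * (Module.finrank Γ(X, V) (M.X p) : ℤ) := by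
    intro y hy
    unfold PerfD.eulerChar
    rw [← finsum_negOnePow_finrank_homology M a b hab (X.evaluation V y hy).hom]
    congr 1
    funext p
    rw [betti_eq_of_local_model E hV M hMK (p - 1) α'
      (hα' (p - 1) (isApprox_of_isIso _ _)) y hy p (by omega)]
  change PerfD.eulerChar E x = PerfD.eulerChar E x₀
  rw [key x hx, key x₀ hxV]

end

end Groth.Agent.Lib.Helper28.Betti
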