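import Mathlib
import Groth.Prelude.Def_MoreMor
set_option autoImplicit false

universe u

open CategoryTheory Limits AlgebraicGeometry TopologicalSpace

namespace Groth.Agent.Lib.Helper28.Thick

variable {X X' : Scheme.{u}}

/-- the stalkwise form of a finite order thickening -/
structure T (i : X ⟶ X') : Prop where
  surj : Function.Surjective i.base
  inj : Function.Injective i.base
  isOpenMap : IsOpenMap i.base
  stalk_surj : ∀ y : X, Function.Surjective (i.stalkMap y).hom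
  nilp : ∀ y : X, IsNilpotent (RingHom.ker (i.stalkMap y).hom)

/-- germs at `x'` of sections of an ideal sheaf over affine opens -/
def InStalk (I : X'.IdealSheafData) (x' : X') (t : X'.presheaf.stalk x') : Prop :=
  ∃ (W : X'.affineOpens) (hx : x' ∈ W.1) (a : Γ(X', W.1)), a ∈ I.ideal W ∧
    X'.presheaf.germ W.1 x' hx a = t

lemma InStalk.shrink {I : X'.IdealSheafData} {x' : X'} {t : X'.presheaf.stalk x'}
    (h : InStalk I x' t) (V : X'.Opens) (hV : x' ∈ V) :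
    ∃ (W : X'.affineOpens) (hx : x' ∈ W.1) (_ : W.1 ≤ V) (a : Γ(X', W.1)), a ∈ I.ideal W ∧
      X'.presheaf.germ W.1 x' hx a = t := by
  obtain ⟨W, hx, a, ha, hat⟩ := h
  obtain ⟨W₂, hW₂, hxW₂, hle⟩ := exists_isAffineOpen_mem_and_subset (x := x') (U := W.1 ⊓ V)
    ⟨hx, hV⟩
  have h1 : W₂ ≤ W.1 := hle.trans inf_le_left
  refine ⟨⟨W₂, hW₂⟩, hxW₂, hle.trans inf_le_right, X'.presheaf.map (homOfLE h1).op a, ?_, ?_⟩
  · exact I.ideal_le_comap_ideal (U := ⟨W₂, hW₂⟩) (V := W) h1 ha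
  · rw [← hat]
    exact TopCat.Presheaf.germ_res_apply X'.presheaf (homOfLE h1) x' hxW₂ a

lemma inStalk_top (x' : X') (t : X'.presheaf.stalk x') : InStalk ⊤ x' t := by
  obtain ⟨V, hV, s, rfl⟩ := TopCat.Presheaf.exists_germ_eq X'.presheaf t
  obtain ⟨W₂, hW₂, hxW₂, hle⟩ := exists_isAffineOpen_mem_and_subset (x := x') (U := V) hV
  refine ⟨⟨W₂, hW₂⟩, hxW₂, X'.presheaf.map (homOfLE hle).op s, ?_, ?_⟩
  · simp
  · exact TopCat.Presheaf.germ_res_apply X'.presheaf (homOfLE hle) x' hxW₂ s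

lemma inStalk_bot {x' : X'} {t : X'.presheaf.stalk x'} (h : InStalk ⊥ x' t) : t = 0 := by
  obtain ⟨W, hx, a, ha, rfl⟩ := h
  have : a = 0 := by simpa using ha
  rw [this, map_zero]

lemma InStalk.add {I : X'.IdealSheafData} {x' : X'} {t₁ t₂ : X'.presheaf.stalk x'}
    (h₁ : InStalk I x' t₁) (h₂ : InStalk I x' t₂) : InStalk I x' (t₁ + t₂) := by
  obtain ⟨W₁, hx₁, a₁, ha₁, rfl⟩ := h₁
  obtain ⟨W₂, hx₂, hle, a₂, ha₂, rfl⟩ := h₂.shrink W₁.1 hx₁
  refine ⟨W₂, hx₂, X'.presheaf.map (homOfLE hle).op a₁ + a₂, ?_, ?_⟩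
  · exact Ideal.add_mem _ (I.ideal_le_comap_ideal (U := W₂) (V := W₁) hle ha₁) ha₂
  · rw [map_add]
    congr 1
    exact TopCat.Presheaf.germ_res_apply X'.presheaf (homOfLE hle) x' hx₂ a₁

lemma InStalk.mul {I J : X'.IdealSheafData} {x' : X'} {t₁ t₂ : X'.presheaf.stalk x'}
    (h₁ : InStalk I x' t₁) (h₂ : InStalk J x' t₂) : InStalk (I * J) x' (t₁ * t₂) := by
  obtain ⟨W₁, hx₁, a₁, ha₁, rfl⟩ := h₁
  obtain ⟨W₂, hx₂, hle, a₂, ha₂, rfl⟩ := h₂.shrink W₁.1 hx₁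
  refine ⟨W₂, hx₂, X'.presheaf.map (homOfLE hle).op a₁ * a₂, ?_, ?_⟩
  · rw [Scheme.IdealSheafData.ideal_mul]
    exact Ideal.mul_mem_mul (I.ideal_le_comap_ideal (U := W₂) (V := W₁) hle ha₁) ha₂
  · rw [map_mul]
    congr 1
    exact TopCat.Presheaf.germ_res_apply X'.presheaf (homOfLE hle) x' hx₂ a₁

/-- elements of the kernel of the stalk map are germs of sections of the kernel ideal -/
lemma inStalk_ker (i : X ⟶ X') [IsClosedImmersion i] (hopen : IsOpenMap i.base) (y : X)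
    (t : X'.presheaf.stalk (i y)) (ht : t ∈ RingHom.ker (i.stalkMap y).hom) :
    InStalk i.ker (i y) t := by
  obtain ⟨V, hV, s, rfl⟩ := TopCat.Presheaf.exists_germ_eq X'.presheaf t
  have h1 : X.presheaf.germ (i ⁻¹ᵁ V) y hV (i.app V s) = 0 := by
    rw [← Scheme.Hom.germ_stalkMap_apply]
    exact ht
  obtain ⟨W₁, hyW₁, iU, iV, hres⟩ := TopCat.Presheaf.germ_eq X.presheaf (U := i ⁻¹ᵁ V) (V := i ⁻¹ᵁ V) y hV hV (i.app V s) 0
    (by rw [h1, map_zero])
  rw [map_zero] at hres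
  let W₁' : X'.Opens := ⟨i.base '' W₁.1, hopen _ W₁.2⟩
  have hW₁' : i y ∈ W₁' := ⟨y, hyW₁, rfl⟩
  obtain ⟨W₂, hW₂, hxW₂, hle⟩ := exists_isAffineOpen_mem_and_subset (x := i y) (U := W₁' ⊓ V)
    ⟨hW₁', hV⟩
  have hle₂ : W₂ ≤ V := hle.trans inf_le_right
  have hinj : Function.Injective i.base := i.isClosedEmbedding.injective
  have hpre : i ⁻¹ᵁ W₂ ≤ W₁ := by
    intro z hz
    obtain ⟨w, hw, hwz⟩ := (hle hz).1
    rw [← hinj hwz]
    exact hw
  refine ⟨⟨W₂, hW₂⟩, hxW₂, X'.presheaf.map (homOfLE hle₂).op s, ?_, ?_⟩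
  · rw [Scheme.Hom.ker_apply, RingHom.mem_ker]
    have hnat : i.app W₂ (X'.presheaf.map (homOfLE hle₂).op s) =
        X.presheaf.map (homOfLE (show i ⁻¹ᵁ W₂ ≤ i ⁻¹ᵁ V from fun z hz => hle₂ hz)).op
          (i.app V s) := by
      have := i.naturality (homOfLE hle₂).op
      exact DFunLike.congr_fun (CommRingCat.hom_ext_iff.mp this) s
    change i.app W₂ (X'.presheaf.map (homOfLE hle₂).op s) = 0
    rw [hnat]
    have h2 : (homOfLE (show i ⁻¹ᵁ W₂ ≤ i ⁻¹ᵁ V from fun z hz => hle₂ hz)).op =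
        iU.op ≫ (homOfLE hpre).op := rfl
    rw [h2, Functor.map_comp, CommRingCat.comp_apply, hres, map_zero]
  · exact TopCat.Presheaf.germ_res_apply X'.presheaf (homOfLE hle₂) (i y) hxW₂ s

lemma inStalk_ker_pow (i : X ⟶ X') [IsClosedImmersion i] (hopen : IsOpenMap i.base) (y : X) :
    ∀ (k : ℕ) (t : X'.presheaf.stalk (i y)), t ∈ (RingHom.ker (i.stalkMap y).hom) ^ k →
      InStalk (i.ker ^ k) (i y) t := by
  intro k
  induction k with
  | zero =>
    intro t _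
    rw [pow_zero]
    exact inStalk_top _ t
  | succ k ih =>
    intro t ht
    rw [pow_succ] at ht ⊢
    refine Submodule.mul_induction_on ht (fun m hm n hn => ?_) (fun a b ha hb => ha.add hb)
    exact (ih m hm).mul (inStalk_ker i hopen y n hn)

theorem T_of_isFiniteOrderThickening (i : X ⟶ X') (hi : MoreMor.IsFiniteOrderThickening i) :
    T i := by
  obtain ⟨⟨hci, hsurj⟩, n, hn⟩ := hi
  have hopen : IsOpenMap i.base :=
    (i.isClosedEmbedding.isEmbedding.isOpenEmbedding_of_surjective hsurj.surj).isOpenMap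
  refine ⟨hsurj.surj, i.isClosedEmbedding.injective, hopen,
    fun y => i.stalkMap_surjective y, fun y => ⟨n, ?_⟩⟩
  rw [Ideal.zero_eq_bot, eq_bot_iff]
  intro t ht
  have := inStalk_ker_pow i hopen y n t ht
  rw [hn] at this
  exact inStalk_bot this

end Groth.Agent.Lib.Helper28.Thick
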