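import Mathlib
import Groth.Agent.Lib.Helper28.Th1
import Groth.Agent.Lib.Helper13.DRingNilpPC
import Groth.Agent.Lib.Helper13.KFlat7
import Groth.Agent.Lib.Helper26.ThickeningFT
set_option autoImplicit false

universe u

open CategoryTheory Limits AlgebraicGeometry TopologicalSpace TensorProduct ChangeOfRings

namespace Groth.Agent.Lib.Helper28.Thick

section Arrow

lemma surjective_of_arrowIso {A B A' B' : CommRingCat.{u}} (φ : A ⟶ B) (ψ : A' ⟶ B')
    (e : Arrow.mk φ ≅ Arrow.mk ψ) (h : Function.Surjective ψ.hom) :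
    Function.Surjective φ.hom := by
  have hw : φ ≫ e.hom.right = e.hom.left ≫ ψ := (Arrow.w e.hom).symm
  have h1 : φ = e.hom.left ≫ ψ ≫ e.inv.right := by
    have h2 : e.hom.right ≫ e.inv.right = 𝟙 B := by
      rw [← Arrow.comp_right, e.hom_inv_id]; rfl
    calc φ = φ ≫ e.hom.right ≫ e.inv.right := by rw [h2, Category.comp_id]
      _ = e.hom.left ≫ ψ ≫ e.inv.right := by rw [← Category.assoc, hw, Category.assoc]
  rw [h1]
  have hL : Function.Surjective e.hom.left.hom :=
    (ConcreteCategory.bijective_of_isIso e.hom.left).2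
  have hR : Function.Surjective e.inv.right.hom :=
    (ConcreteCategory.bijective_of_isIso e.inv.right).2
  exact hR.comp (h.comp hL)

lemma isNilpotent_ker_of_arrowIso {A B A' B' : CommRingCat.{u}} (φ : A ⟶ B) (ψ : A' ⟶ B')
    (e : Arrow.mk φ ≅ Arrow.mk ψ) (h : IsNilpotent (RingHom.ker ψ.hom)) :
    IsNilpotent (RingHom.ker φ.hom) := by
  obtain ⟨n, hn⟩ := h
  refine ⟨n, ?_⟩
  have hw : φ ≫ e.hom.right = e.hom.left ≫ ψ := (Arrow.w e.hom).symm
  have hle : RingHom.ker φ.hom ≤ (RingHom.ker ψ.hom).comap e.hom.left.hom := by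
    intro a ha
    rw [Ideal.mem_comap, RingHom.mem_ker]
    have : (e.hom.left ≫ ψ) a = (φ ≫ e.hom.right) a := by rw [hw]
    change ψ (e.hom.left a) = 0
    have h3 : ψ (e.hom.left a) = e.hom.right (φ a) := this
    rw [h3, (RingHom.mem_ker).1 ha, map_zero]
  rw [Ideal.zero_eq_bot, eq_bot_iff]
  calc RingHom.ker φ.hom ^ n ≤ ((RingHom.ker ψ.hom).comap e.hom.left.hom) ^ n :=
        Ideal.pow_right_mono hle n
    _ ≤ ((RingHom.ker ψ.hom) ^ n).comap e.hom.left.hom := Ideal.le_comap_pow _ n
    _ = (⊥ : Ideal A').comap e.hom.left.hom := by rw [hn, Ideal.zero_eq_bot]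
    _ ≤ ⊥ := by
      intro a ha
      rw [Ideal.mem_comap, Ideal.mem_bot] at ha
      rw [Ideal.mem_bot]
      exact (ConcreteCategory.bijective_of_isIso e.hom.left).1 (by rw [ha, map_zero])

end Arrow

variable {X X' : Scheme.{u}}

theorem T.restrict {i : X ⟶ X'} (hT : T i) (V' : X'.Opens) : T (i ∣_ V') := by
  refine ⟨?_, ?_, ?_, fun y => ?_, fun y => ?_⟩
  · intro x'
    obtain ⟨y, hy⟩ := hT.surj x'.1
    refine ⟨⟨y, ?_⟩, ?_⟩
    · change i y ∈ V'
      rw [hy]; exact x'.2
    · exact Subtype.ext ((morphismRestrict_base_coe i V' _).trans hy)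
  · intro a b hab
    have h1 := morphismRestrict_base_coe i V' a
    have h2 := morphismRestrict_base_coe i V' b
    rw [hab] at h1
    exact Subtype.ext (hT.inj (h1.symm.trans h2))
  · rw [morphismRestrict_base]
    exact hT.isOpenMap.restrictPreimage _
  · exact surjective_of_arrowIso _ _ (morphismRestrictStalkMap i V' y) (hT.stalk_surj y.1)
  · exact isNilpotent_ker_of_arrowIso _ _ (morphismRestrictStalkMap i V' y) (hT.nilp y.1)

section Ring

open Groth.Agent.Lib.Helper13.HT Groth.Agent.Lib.Helper13.DR Groth.Agent.Lib.Helper13.SF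
  Groth.Agent.Lib.Helper13.PC Groth.Agent.Lib.Helper13.DT Groth.Agent.Lib.Helper13.RE

variable {A B : Type u} [CommRing A] [CommRing B] (φ : A →+* B)

/-- **Nilpotent descent of acyclicity above a degree**, for a K-flat complex. -/
theorem isZero_homology_of_extCx_nilpotent_kflat (hφ : Function.Surjective φ)
    (hnil : IsNilpotent (RingHom.ker φ)) (P : DRing.Cx A) (hP : KFlat P) (b : ℤ)
    (h : ∀ i : ℤ, b < i → IsZero (((DTen.extCx φ).obj P).homology i)) (i : ℤ) (hi : b < i) :
    IsZero (P.homology i) := by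
  obtain ⟨S, r, hS, hproj, hr⟩ := exists_kprojective_resolution P
  have hSK : KFlat S := isKFlat_of_isKProjective S
  have hq : QuasiIso ((DTen.extCx φ).map r) := quasiIso_extCx_map_of_kflat φ r hSK hP
  have h' : ∀ i : ℤ, b < i → IsZero (((DTen.extCx φ).obj S).homology i) := fun i hi =>
    (h i hi).of_iso (asIso (HomologicalComplex.homologyMap ((DTen.extCx φ).map r) i))
  letI := φ.toAlgebra
  have hfl : ∀ i : ℤ, Module.Flat A (S.X i) := fun i => by
    have := (projective_iff _).1 (hproj i)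
    infer_instance
  have h2 := isZero_homology_of_extendCx_nilpotent (R' := A) (R := B) hφ hnil S hfl b h' i hi
  exact h2.of_iso (asIso (HomologicalComplex.homologyMap r i)).symm

/-- **Nakayama for a nilpotent thickening**: `B ⊗_A N = 0 ⇒ N = 0`. -/
theorem subsingleton_of_extendScalars (hφ : Function.Surjective φ)
    (hnil : IsNilpotent (RingHom.ker φ)) (N : ModuleCat.{u} A)
    (h : IsZero ((ModuleCat.extendScalars.{u, u, u} φ).obj N)) : Subsingleton N := by
  letI := φ.toAlgebra
  let J : Ideal A := RingHom.ker φ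
  let Nbar := N ⧸ (J • (⊤ : Submodule A N))
  have hN : ∀ a ∈ RingHom.ker (algebraMap A B), ∀ x : Nbar, a • x = 0 := by
    intro a ha x
    obtain ⟨n, rfl⟩ := Submodule.Quotient.mk_surjective _ x
    rw [← Submodule.Quotient.mk_smul, Submodule.Quotient.mk_eq_zero]
    exact Submodule.smul_mem_smul ha trivial
  obtain ⟨m, hst⟩ := exists_module_of_ker_smul_eq_zero A B hφ Nbar hN
  let M : ModuleCat.{u} B := ModuleCat.of B Nbar
  let q : N ⟶ (ModuleCat.restrictScalars φ).obj M :=
    ModuleCat.ofHom (Y := (ModuleCat.restrictScalars φ).obj M)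
      { toFun := fun n => (Submodule.Quotient.mk n : Nbar)
        map_add' := fun a b => rfl
        map_smul' := fun a n => by
          change (Submodule.Quotient.mk (a • n) : Nbar) = (φ a) • (Submodule.Quotient.mk n : Nbar)
          rw [Submodule.Quotient.mk_smul]
          exact (algebraMap_smul B a (Submodule.Quotient.mk n : Nbar)).symm }
  have hq0 : q = 0 := by
    apply ((ModuleCat.extendRestrictScalarsAdj φ).homEquiv N M).symm.injective
    exact h.eq_of_src _ _
  have htop : J • (⊤ : Submodule A N) = ⊤ := by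
    rw [eq_top_iff]
    intro n _
    have : q.hom n = 0 := by rw [hq0]; rfl
    exact (Submodule.Quotient.mk_eq_zero _).1 this
  obtain ⟨k, hk⟩ := hnil
  have hb := Groth.Agent.Lib.Helper26.ThickeningFT.nakayama_nilpotent J (⊥ : Submodule A N)
    ⟨k, by
      have : J ^ k = ⊥ := hk
      rw [this, Submodule.bot_smul]⟩
    (by rw [htop, bot_sup_eq])
  refine ⟨fun a b => ?_⟩
  have ha : a ∈ (⊤ : Submodule A N) := trivial
  have hb' : b ∈ (⊤ : Submodule A N) := trivial
  rw [← hb, Submodule.mem_bot] at ha hb'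
  rw [ha, hb']

/-- every element of `B ⊗_A N` is of the form `1 ⊗ n` when `A → B` is surjective -/
lemma exists_one_tmul (hφ : Function.Surjective φ) (N : ModuleCat.{u} A)
    (e : (ModuleCat.extendScalars.{u, u, u} φ).obj N) :
    ∃ n : N, e = (1 : B) ⊗ₜ[A,φ] n := by
  induction e using TensorProduct.induction_on with
  | zero => exact ⟨0, (@TensorProduct.tmul_zero A _ B N _ _ (Module.compHom B φ) _ (1 : B)).symm⟩
  | tmul b n =>
    obtain ⟨a, rfl⟩ := hφ b
    refine ⟨a • n, ?_⟩
    letI : Module A B := Module.compHom B φ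
    have h1 : (φ a : B) = a • (1 : B) := by
      change φ a = φ a * 1
      rw [mul_one]
    change (φ a) ⊗ₜ[A] n = (1 : B) ⊗ₜ[A] (a • n)
    rw [h1, TensorProduct.smul_tmul]
  | add x y hx hy =>
    obtain ⟨n₁, rfl⟩ := hx
    obtain ⟨n₂, rfl⟩ := hy
    exact ⟨n₁ + n₂, (@TensorProduct.tmul_add A _ B N _ _ (Module.compHom B φ) _ (1 : B) n₁ n₂).symm⟩

/-- **Finite generation descends along a nilpotent thickening.** -/
theorem finite_of_extendScalars (hφ : Function.Surjective φ)
    (hnil : IsNilpotent (RingHom.ker φ)) (N : ModuleCat.{u} A)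
    (h : Module.Finite B ((ModuleCat.extendScalars.{u, u, u} φ).obj N)) : Module.Finite A N := by
  obtain ⟨S, hS⟩ := h.fg_top
  choose nn hnn using fun e : (ModuleCat.extendScalars.{u, u, u} φ).obj N =>
    exists_one_tmul φ hφ N e
  let N₀ : Submodule A N := Submodule.span A (nn '' (S : Set _))
  let g : N ⟶ ModuleCat.of A (N ⧸ N₀) := ModuleCat.ofHom N₀.mkQ
  have hg : Epi g := (ModuleCat.epi_iff_surjective g).2 (Submodule.mkQ_surjective N₀)
  let f := (ModuleCat.extendScalars.{u, u, u} φ).map g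
  have hf : Epi f := (ModuleCat.extendScalars.{u, u, u} φ).map_epi g
  have hf0 : f = 0 := by
    apply ModuleCat.hom_ext
    apply LinearMap.ext_on hS
    intro e he
    have h2 := ModuleCat.ExtendScalars.map_tmul φ g (1 : B) (nn e)
    have h3 : g.hom (nn e) = 0 :=
      (Submodule.Quotient.mk_eq_zero N₀).2 (Submodule.subset_span ⟨e, he, rfl⟩)
    have h4 : f.hom e = f.hom ((1 : B) ⊗ₜ[A,φ] nn e) := congrArg f.hom (hnn e)
    refine h4.trans (h2.trans ?_)
    have h5 : (g : N → _) (nn e) = 0 := h3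
    rw [h5]
    exact @TensorProduct.tmul_zero A _ B _ _ _ (Module.compHom B φ) _ (1 : B)
  have hz : IsZero ((ModuleCat.extendScalars.{u, u, u} φ).obj (ModuleCat.of A (N ⧸ N₀))) :=
    IsZero.of_epi_eq_zero f hf0
  have hsub := subsingleton_of_extendScalars φ hφ hnil _ hz
  have htop : N₀ = ⊤ := Submodule.Quotient.subsingleton_iff.1 hsub
  rw [Module.finite_def, ← htop]
  exact Submodule.fg_span ((Finset.finite_toSet S).image nn)

end Ring

end Groth.Agent.Lib.Helper28.Thick
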