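import Mathlib
import Groth.Agent.Lib.Helper28.Th2
import Groth.Agent.Lib.Helper13.DRingDescent2
set_option autoImplicit false

universe u

open CategoryTheory Limits AlgebraicGeometry TopologicalSpace TensorProduct ChangeOfRings

namespace Groth.Agent.Lib.Helper28.Thick

section Ring

open Groth.Agent.Lib.Helper13.HT Groth.Agent.Lib.Helper13.DR Groth.Agent.Lib.Helper13.SF
  Groth.Agent.Lib.Helper13.PC Groth.Agent.Lib.Helper13.DT Groth.Agent.Lib.Helper13.RE

variable {A B : Type u} [CommRing A] [CommRing B] (φ : A →+* B)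

/-- ring maps along which vanishing, finite generation and acyclicity above a degree descend:
nilpotent surjections and faithfully flat maps -/
def Good : Prop :=
  (Function.Surjective φ ∧ IsNilpotent (RingHom.ker φ)) ∨ φ.FaithfullyFlat

variable {φ}

theorem Good.sub (h : Good φ) (N : ModuleCat.{u} A)
    (hz : IsZero ((ModuleCat.extendScalars.{u, u, u} φ).obj N)) : Subsingleton N := by
  rcases h with ⟨h1, h2⟩ | h
  · exact subsingleton_of_extendScalars φ h1 h2 N hz
  · letI : Algebra A B := φ.toAlgebra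
    haveI : Module.FaithfullyFlat A B := h
    have := jointlyFaithful_of_faithfullyFlat A B N (fun _ => hz)
    exact ModuleCat.subsingleton_of_isZero this

theorem Good.fin (h : Good φ) (N : ModuleCat.{u} A)
    (hf : Module.Finite B ((ModuleCat.extendScalars.{u, u, u} φ).obj N)) : Module.Finite A N := by
  rcases h with ⟨h1, h2⟩ | h
  · exact finite_of_extendScalars φ h1 h2 N hf
  · letI : Algebra A B := φ.toAlgebra
    haveI : Module.FaithfullyFlat A B := h
    exact jointlyDetectsFinite_of_faithfullyFlat A B N (fun _ => hf)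

theorem Good.acyc (h : Good φ) (P : DRing.Cx A) (hP : KFlat P) (b : ℤ)
    (hz : ∀ i : ℤ, b < i → IsZero (((DTen.extCx φ).obj P).homology i)) (i : ℤ) (hi : b < i) :
    IsZero (P.homology i) := by
  rcases h with ⟨h1, h2⟩ | h'
  · exact isZero_homology_of_extCx_nilpotent_kflat φ h1 h2 P hP b hz i hi
  · letI : Algebra A B := φ.toAlgebra
    haveI : Module.FaithfullyFlat A B := h'
    have h3 : IsZero ((ModuleCat.extendScalars.{u, u, u} φ).obj (P.homology i)) :=
      (hz i hi).of_iso (extendCxHomologyIso A B P i).symm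
    have := Good.sub (φ := φ) (Or.inr h') _ h3
    exact ModuleCat.isZero_of_subsingleton _

end Ring

section Arrow

lemma good_of_arrowIso {A B A' B' : CommRingCat.{u}} (φ : A ⟶ B) (ψ : A' ⟶ B')
    (e : Arrow.mk φ ≅ Arrow.mk ψ) (h : Good ψ.hom) : Good φ.hom := by
  rcases h with ⟨h1, h2⟩ | h
  · exact Or.inl ⟨surjective_of_arrowIso φ ψ e h1, isNilpotent_ker_of_arrowIso φ ψ e h2⟩
  · right
    have hw : φ ≫ e.hom.right = e.hom.left ≫ ψ := (Arrow.w e.hom).symm
    have h1 : φ = e.hom.left ≫ ψ ≫ e.inv.right := by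
      have h2 : e.hom.right ≫ e.inv.right = 𝟙 B := by
        rw [← Arrow.comp_right, e.hom_inv_id]; rfl
      calc φ = φ ≫ e.hom.right ≫ e.inv.right := by rw [h2, Category.comp_id]
        _ = e.hom.left ≫ ψ ≫ e.inv.right := by rw [← Category.assoc, hw, Category.assoc]
    rw [h1]
    have hL : e.hom.left.hom.FaithfullyFlat :=
      RingHom.FaithfullyFlat.of_bijective (ConcreteCategory.bijective_of_isIso e.hom.left)
    have hR : e.inv.right.hom.FaithfullyFlat :=
      RingHom.FaithfullyFlat.of_bijective (ConcreteCategory.bijective_of_isIso e.inv.right)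
    rw [CommRingCat.hom_comp, CommRingCat.hom_comp]
    exact RingHom.FaithfullyFlat.stableUnderComposition _ _ hL
      (RingHom.FaithfullyFlat.stableUnderComposition _ _ h hR)

end Arrow

variable {X X' : Scheme.{u}}

/-- morphisms along which pseudo-coherence descends: surjective, submersive (a subset of the target
is open as soon as its preimage is), with good stalk maps -/
structure DS (i : X ⟶ X') : Prop where
  surj : Function.Surjective i.base
  quot : ∀ Z : Set X', IsOpen (i.base ⁻¹' Z) → IsOpen Z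
  good : ∀ y : X, Good (i.stalkMap y).hom

theorem DS.of_isOpenMap {i : X ⟶ X'} (hs : Function.Surjective i.base) (ho : IsOpenMap i.base)
    (hg : ∀ y : X, Good (i.stalkMap y).hom) : DS i := by
  refine ⟨hs, fun Z hZ => ?_, hg⟩
  have : Z = i.base '' (i.base ⁻¹' Z) := (Set.image_preimage_eq Z hs).symm
  rw [this]
  exact ho _ hZ

theorem DS.restrict {i : X ⟶ X'} (hT : DS i) (V' : X'.Opens) : DS (i ∣_ V') := by
  refine ⟨?_, ?_, fun y => ?_⟩
  · intro x'
    obtain ⟨y, hy⟩ := hT.surj x'.1
    refine ⟨⟨y, ?_⟩, ?_⟩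
    · change i y ∈ V'
      rw [hy]; exact x'.2
    · exact Subtype.ext ((morphismRestrict_base_coe i V' _).trans hy)
  · intro Z hZ
    have hZ' : IsOpen ((Subtype.val : V' → X') '' Z) := by
      apply hT.quot
      have h1 : i.base ⁻¹' ((Subtype.val : V' → X') '' Z) =
          (Subtype.val : (i ⁻¹ᵁ V' : X.Opens) → X) '' ((i ∣_ V').base ⁻¹' Z) := by
        ext w
        constructor
        · rintro ⟨z, hz, hzw⟩
          have hw : w ∈ i ⁻¹ᵁ V' := by
            change i.base w ∈ V'
            rw [← hzw]; exact z.2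
          refine ⟨⟨w, hw⟩, ?_, rfl⟩
          have : (i ∣_ V').base ⟨w, hw⟩ = z :=
            Subtype.ext ((morphismRestrict_base_coe i V' ⟨w, hw⟩).trans hzw.symm)
          change (i ∣_ V').base ⟨w, hw⟩ ∈ Z
          rw [this]; exact hz
        · rintro ⟨w', hw', rfl⟩
          exact ⟨(i ∣_ V').base w', hw', (morphismRestrict_base_coe i V' w')⟩
      rw [h1]
      exact (i ⁻¹ᵁ V').isOpen.isOpenEmbedding_subtypeVal.isOpenMap _ hZ
    have h2 : Z = (Subtype.val : V' → X') ⁻¹' ((Subtype.val : V' → X') '' Z) :=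
      (Set.preimage_image_eq Z Subtype.val_injective).symm
    rw [h2]
    exact hZ'.preimage continuous_subtype_val
  · exact good_of_arrowIso _ _ (morphismRestrictStalkMap i V' y) (hT.good y.1)

theorem DS_of_T {i : X ⟶ X'} (hT : T i) : DS i :=
  DS.of_isOpenMap hT.surj hT.isOpenMap (fun y => Or.inl ⟨hT.stalk_surj y, hT.nilp y⟩)

theorem good_stalkMap_of_flat (f : X ⟶ X') [Flat f] (y : X) : Good (f.stalkMap y).hom := by
  refine Or.inr ?_
  have hfl : (f.stalkMap y).hom.Flat := Flat.stalkMap f y
  letI : Algebra (X'.presheaf.stalk (f.base y)) (X.presheaf.stalk y) :=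
    (f.stalkMap y).hom.toAlgebra
  haveI : Module.Flat (X'.presheaf.stalk (f.base y)) (X.presheaf.stalk y) := hfl
  haveI : IsLocalHom (algebraMap (X'.presheaf.stalk (f.base y)) (X.presheaf.stalk y)) :=
    inferInstanceAs (IsLocalHom (f.stalkMap y).hom)
  exact (Module.FaithfullyFlat.of_flat_of_isLocalHom :
    Module.FaithfullyFlat (X'.presheaf.stalk (f.base y)) (X.presheaf.stalk y))

theorem DS_of_flat (f : X ⟶ X') [Flat f] [Surjective f] [LocallyOfFinitePresentation f] :
    DS f :=
  DS.of_isOpenMap Surjective.surj f.isOpenMap (good_stalkMap_of_flat f)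

theorem DS_of_fpqc (f : X ⟶ X') [Flat f] [Surjective f] [QuasiCompact f] : DS f := by
  refine ⟨Surjective.surj, fun Z hZ => ?_, good_stalkMap_of_flat f⟩
  exact (Flat.isQuotientMap_of_surjective f).isOpen_preimage.1 hZ

end Groth.Agent.Lib.Helper28.Thick
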