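import Mathlib
import Groth.Agent.Lib.Helper28.DCohRes27

/-!
# Complexes of finite locally free modules on locally Noetherian schemes have coherent cohomology
-/

set_option autoImplicit false

universe u

open CategoryTheory Limits AlgebraicGeometry TopologicalSpace

namespace Groth.Agent.Lib.Helper28.DCohRes

noncomputable section

attribute [local instance] HasDerivedCategory.standard

open Groth.Agent.Lib.Helper29.QCoh

variable {X : Scheme.{u}}

/-- the cohomology sheaves of a complex of finite locally free modules on a locally Noetherian
scheme are coherent -/
lemma isCoh_homology_of_finLocFree [IsLocallyNoetherian X]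
    {P : CochainComplex X.Modules ℤ} (hP : ∀ k, FlatMod.IsFinLocFree (P.X k)) (i : ℤ) :
    (P.homology i).IsQuasicoherent ∧ (P.homology i).IsFiniteType := by
  have hq : ∀ k, (P.X k).IsQuasicoherent := fun k => isQuasicoherent_of_isFinLocFree (hP k)
  have hft : ∀ k, (P.X k).IsFiniteType := fun k => by
    have := isFinitePresentation_of_isFinLocFree (hP k)
    infer_instance
  have hZq : (P.cycles i).IsQuasicoherent :=
    isQuasicoherent_of_iso (cyclesIsoKernel P i).symm
  have hZft : (P.cycles i).IsFiniteType := isFiniteType_of_mono (P.iCycles i)
  have hHq : (P.homology i).IsQuasicoherent := by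
    have e : cokernel (P.toCycles (i - 1) i) ≅ P.homology i := by
      let e := IsColimit.coconePointUniqueUpToIso (cokernelIsCokernel (P.toCycles (i - 1) i))
        (P.homologyIsCokernel (i - 1) i (by simp))
      exact e
    exact isQuasicoherent_of_iso e
  exact ⟨hHq, isFiniteType_of_epi (P.homologyπ i)⟩

end

end Groth.Agent.Lib.Helper28.DCohRes
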