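import Mathlib
import Groth.Agent.Lib.Helper28.DCohTilde7
import Groth.Agent.Lib.Helper13.DRingDescent3

/-!
# `M~` is perfect iff `M` is
-/

set_option autoImplicit false

universe u

open CategoryTheory Limits AlgebraicGeometry TopologicalSpace Opposite ZeroObject Pretriangulated

namespace Groth.Agent.Lib.Helper28.DCohTilde

noncomputable section

attribute [local instance] HasDerivedCategory.standard

open Groth.Agent.Lib.Helper29.QCoh Groth.Agent.Lib.Helper28.DCohRes
  Groth.Agent.Lib.Helper13.PC Groth.Agent.Lib.Helper13.DR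

section Bound

variable {X : Scheme.{u}}

/-- perfect objects on a quasi-compact scheme have a global perfect amplitude -/
theorem exists_hasPerfectAmplitudeIn_of_isPerfect [CompactSpace X] (K : DCoh.D X)
    (hK : DCoh.IsPerfect K) : ∃ a b : ℤ, a ≤ b ∧ KSix.HasPerfectAmplitudeIn a b K := by
  rw [isPerfect_iff] at hK
  choose U j hj hx P hP e using hK
  have hbd : ∀ x, ∃ a b : ℤ, DCoh.VanishesOutside (P x) a b := fun x => (hP x).1
  choose a b hab using hbd
  obtain ⟨s, hs⟩ := isCompact_univ.elim_finite_subcover (fun x : X => ((j x).opensRange : Set X))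
    (fun x => (j x).opensRange.2) (fun x _ => Set.mem_iUnion.2 ⟨x, hx x⟩)
  obtain ⟨a₁, ha₁⟩ := (s.image (fun x => -a x)).exists_le
  obtain ⟨b₀, hb₀⟩ := (s.image b).exists_le
  obtain ⟨a₀, rfl⟩ : ∃ a₀ : ℤ, a₁ = -a₀ := ⟨-a₁, by simp⟩
  refine ⟨min a₀ b₀, max a₀ b₀, le_trans (min_le_left _ _) (le_max_left _ _), ?_⟩
  rw [hasPerfectAmplitudeIn_iff]
  intro x
  obtain ⟨y, hys, hxy⟩ : ∃ y ∈ s, x ∈ ((j y).opensRange : Set X) := by
    have := hs (Set.mem_univ x)
    simpa using this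
  have h1 := ha₁ (-a y) (Finset.mem_image_of_mem (fun x => -a x) hys)
  have h2 := hb₀ (b y) (Finset.mem_image_of_mem b hys)
  have h3 := min_le_left a₀ b₀
  have h4 := le_max_right a₀ b₀
  haveI := hj y
  refine ⟨U y, j y, hj y, hxy, P y, fun i hi => hab y i (by omega), (hP y).2, e y⟩

end Bound

variable (A : CommRingCat.{u}) [PreservesFiniteLimits (tilde.functor A)]

/-- **(⇐)** -/
theorem isPerfect_tildeD_of_isPerfect (M : DerivedCategory (ModuleCat.{u} A))
    (h : DRing.IsPerfect A M) : DCoh.IsPerfect ((DCoh.tildeD A).obj M) := by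
  obtain ⟨E, a, b, hv, hE, ⟨e⟩⟩ := h
  rw [isPerfect_iff]
  intro x
  have hsp : DCoh.IsStrictlyPerfect ((tildeCx A).obj E) :=
    ⟨⟨a, b, fun i hi => (tilde.functor A).map_isZero (hv i hi)⟩, fun i =>
      (isFinLocFree_tilde_iff (E.X i)).2 (hE i)⟩
  refine ⟨Spec A, 𝟙 _, inferInstance, ⟨x, rfl⟩, (resCx (𝟙 _)).obj ((tildeCx A).obj E),
    isStrictlyPerfect_resCx _ hsp, ⟨?_⟩⟩
  exact (resD (𝟙 _)).mapIso ((DCoh.tildeD A).mapIso e.symm ≪≫ (tildeDQ A).app E) ≪≫
    (resDQ (𝟙 _)).app _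

/-- **(⇒)** -/
theorem isPerfect_of_isPerfect_tildeD (M : DerivedCategory (ModuleCat.{u} A))
    (h : DCoh.IsPerfect ((DCoh.tildeD A).obj M)) : DRing.IsPerfect A M := by
  obtain ⟨a, b, hab, hperf⟩ := exists_hasPerfectAmplitudeIn_of_isPerfect _ h
  have hflat := hasFlatAmplitudeIn_of_hasPerfectAmplitudeIn hab hperf
  have htor : DRing.HasTorAmplitudeIn A a b M :=
    hasTorAmplitudeIn_of_hasFlatAmplitudeIn_tildeD (A := A) M a b hflat
  have hpc : IsNPC (Pff A) (a - 1) M :=
    (isPseudoCoherent_iff (a - 1) M).1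
      (isPseudoCoherent_of_isPseudoCoherentD_tildeD A M (a - 1)
        (isPseudoCoherentD_of_isPerfect h (a - 1)))
  exact isPerfect_of_isNPC_of_hasTorAmplitudeIn hpc htor

end

end Groth.Agent.Lib.Helper28.DCohTilde
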