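import Mathlib
import Groth.Prelude.Def_DDual2
import Groth.Prelude.Def_HTor
import Groth.Agent.Lib.Helper28.LpullTilde
import Groth.Agent.Lib.Helper28.DCohRes27
import Groth.Agent.Lib.Helper17.TD4
import Groth.Agent.Lib.Helper17.KProjAff

/-!
# `Lf^*` preserves quasi-coherent cohomology (helper28)
-/

set_option autoImplicit false

universe u

open CategoryTheory Limits AlgebraicGeometry Functor

attribute [local instance] HasDerivedCategory.standard

namespace Groth.Agent.Lib.Helper28.Lpull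

open Groth.Agent.Lib.Helper28.StalkTensor Groth.Agent.Lib.Helper28.LeftDerivedKProj
  Groth.Agent.Lib.Helper28.DCohRes Groth.Agent.Lib.Helper29.QCoh

noncomputable section

/-- derived base change exists -/
theorem hasLBaseChange {A B : Type u} [CommRing A] [CommRing B] (φ : A →+* B) :
    DRing.HasLBaseChange φ :=
  hasLeftDerivedFunctor (DRing.baseChangeKh φ) (hasKProjRes A)

variable {X Y Z : Scheme.{u}}

/-- termwise pullback of complexes is compatible with composition -/
def pullCxCompIso (g : Z ⟶ Y) (f : Y ⟶ X) (G : CochainComplex X.Modules ℤ) :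
    (pullCx g).obj ((pullCx f).obj G) ≅ (pullCx (g ≫ f)).obj G :=
  HomologicalComplex.Hom.isoOfComponents
    (fun i => (Scheme.Modules.pullbackComp g f).app (G.X i))
    (fun i j _ => ((Scheme.Modules.pullbackComp g f).hom.naturality (G.d i j)).symm)

/-- termwise pullback of complexes along equal morphisms -/
def pullCxCongr {f g : Y ⟶ X} (h : f = g) (G : CochainComplex X.Modules ℤ) :
    (pullCx f).obj G ≅ (pullCx g).obj G :=
  eqToIso (by rw [h])

lemma isQCohD_of_iso {K L : DCoh.D X} (e : K ≅ L) (hK : DCoh.IsQCohD K) : DCoh.IsQCohD L :=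
  fun i => isQuasicoherent_of_iso (hM := hK i)
    ((DerivedCategory.homologyFunctor X.Modules i).mapIso e)

lemma isQCohD_resD {U : Scheme.{u}} (j : U ⟶ X) [IsOpenImmersion j] (K : DCoh.D X)
    (hK : DCoh.IsQCohD K) : DCoh.IsQCohD ((resD j).obj K) := by
  intro i
  have h1 : (DCoh.HD K i).IsQuasicoherent := hK i
  have h2 : ((DCoh.HD K i).restrict j).IsQuasicoherent := inferInstance
  exact isQuasicoherent_of_iso (hM := h2) (HDresDIso j K i).symm

/-- the local statement: on an affine chart `Spec B ⟶ Y` lying over an affine chart `Spec A ⟶ X`,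
the cohomology sheaves of `f^* G` (`G` K-flat with quasi-coherent cohomology) are quasi-coherent -/
theorem isQuasicoherent_restrict_HD_pullCx
    (f : Y ⟶ X) (G : CochainComplex X.Modules ℤ) (hG : DCoh.IsKFlat G)
    (hq : DCoh.IsQCohD (DerivedCategory.Q.obj G))
    {A B : Type u} [CommRing A] [CommRing B] (φ : A →+* B)
    (j : Spec (CommRingCat.of B) ⟶ Y) [IsOpenImmersion j]
    (k : Spec (CommRingCat.of A) ⟶ X) [IsOpenImmersion k]
    (hsq : j ≫ f = Spec.map (CommRingCat.ofHom φ) ≫ k) (i : ℤ) :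
    ((DCoh.HD (DerivedCategory.Q.obj ((pullCx f).obj G)) i).restrict j).IsQuasicoherent := by
  have hA : PreservesFiniteLimits (tilde.functor (CommRingCat.of A)) :=
    Groth.Agent.Lib.Helper17.KProjAff.preservesFiniteLimits_tilde _
  have hB : PreservesFiniteLimits (tilde.functor (CommRingCat.of B)) :=
    Groth.Agent.Lib.Helper17.KProjAff.preservesFiniteLimits_tilde _
  have hL := hasLBaseChange φ
  have hP : DCoh.HasLpull (fS φ) := hasLpull _
  let G' := (resCx k).obj G
  have hG' : DCoh.IsKFlat G' := isKFlat_resCx k G hG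
  have hq' : DCoh.IsQCohD (DerivedCategory.Q.obj G') :=
    isQCohD_of_iso ((resDQ k).app G) (isQCohD_resD k _ hq)
  obtain ⟨M, ⟨eM⟩⟩ := ((Groth.Agent.Lib.Helper17.TD4.main (CommRingCat.of A)).2.2 _).1 hq'
  let e1 : DerivedCategory.Q.obj ((pullCx (fS φ)).obj G') ≅
      (DCoh.tildeD (CommRingCat.of B)).obj ((DRing.LBaseChange φ).obj M) :=
    (LpullIso (fS φ) G' hG').symm ≪≫ (DCoh.Lpull (fS φ)).mapIso eM.symm ≪≫
      ((LBaseChangeTildeIso φ).app M).symm
  have h1 : DCoh.IsQCohD (DerivedCategory.Q.obj ((pullCx (fS φ)).obj G')) :=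
    isQCohD_of_iso e1.symm
      (((Groth.Agent.Lib.Helper17.TD4.main (CommRingCat.of B)).2.2 _).2 ⟨_, ⟨Iso.refl _⟩⟩)
  let e2 : (resCx j).obj ((pullCx f).obj G) ≅ (pullCx (fS φ)).obj G' :=
    resCxPullIso j _ ≪≫ pullCxCompIso j f G ≪≫ pullCxCongr hsq G ≪≫
      (pullCxCompIso (fS φ) k G).symm ≪≫ (pullCx (fS φ)).mapIso (resCxPullIso k G).symm
  exact isQuasicoherent_of_iso (hM := h1 i)
    ((DerivedCategory.homologyFunctor _ i).mapIso
      (DerivedCategory.Q.mapIso e2.symm ≪≫ ((resDQ j).app _).symm) ≪≫ HDresDIso j _ i)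

/-- **`Lf^*` preserves quasi-coherent cohomology.** -/
theorem isQCohD_Lpull (f : Y ⟶ X) [DCoh.HasLpull f] (K : DCoh.D X) (hK : DCoh.IsQCohD K) :
    DCoh.IsQCohD ((DCoh.Lpull f).obj K) := by
  obtain ⟨G, hG, ⟨eG⟩⟩ := exists_kflat_rep K
  have hq : DCoh.IsQCohD (DerivedCategory.Q.obj G) := isQCohD_of_iso eG.symm hK
  have e : (DCoh.Lpull f).obj K ≅ DerivedCategory.Q.obj ((pullCx f).obj G) :=
    (DCoh.Lpull f).mapIso eG.symm ≪≫ LpullIso f G hG
  refine isQCohD_of_iso e.symm fun i => ?_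
  refine isQuasicoherent_of_locally _ fun y => ?_
  obtain ⟨V, hV, hyV, -⟩ := TopologicalSpace.Opens.isBasis_iff_nbhd.mp X.isBasis_affineOpens
    (show f.base y ∈ (⊤ : X.Opens) from trivial)
  obtain ⟨U, hU, hyU, hUV⟩ := TopologicalSpace.Opens.isBasis_iff_nbhd.mp Y.isBasis_affineOpens
    (show y ∈ f ⁻¹ᵁ V from hyV)
  refine ⟨_, IsAffineOpen.fromSpec hU, inferInstance, ?_, ?_⟩
  · rw [IsAffineOpen.range_fromSpec hU]
    exact hyU
  · exact isQuasicoherent_restrict_HD_pullCx f G hG hq (f.appLE V U hUV).hom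
      (IsAffineOpen.fromSpec hU) (IsAffineOpen.fromSpec hV)
      (IsAffineOpen.SpecMap_appLE_fromSpec f hV hU hUV).symm i

end

end Groth.Agent.Lib.Helper28.Lpull
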