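import Mathlib
import Groth.Prelude.Def_DCoh4
import Groth.Agent.Lib.Helper28.PerfTensor1
import Groth.Agent.Lib.Helper28.LpullQCoh
import Groth.Agent.Lib.Helper29.QCohTensor
import Groth.Agent.Lib.Helper17.QcSec

/-!
# The derived tensor product preserves quasi-coherent cohomology (helper28)

* `exists_qcoh_kflat_rep`: on `Spec R`, objects of `D_QCoh` are represented by K-flat complexes with
  quasi-coherent terms
* `isQCohD_LTensorCx` (S1062)
-/

set_option autoImplicit false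

universe u

open CategoryTheory Limits AlgebraicGeometry

attribute [local instance] HasDerivedCategory.standard

namespace Groth.Agent.Lib.Helper28.PerfTensor

open Groth.Agent.Lib.Helper28.StalkTensor Groth.Agent.Lib.Helper28.KFlatSite
  Groth.Agent.Lib.Helper28.DCohRes Groth.Agent.Lib.Helper17 Groth.Agent.Lib.Helper28.Lpull
  Groth.Agent.Lib.Helper29.QCoh

noncomputable section


variable {X : Scheme.{u}}

/-- on an affine scheme, an object with quasi-coherent cohomology is represented by a K-flat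
complex with quasi-coherent terms -/
theorem exists_qcoh_kflat_rep (R : CommRingCat.{u})
    (G : CochainComplex (Spec R).Modules ℤ) (hq : DCoh.IsQCohD (DerivedCategory.Q.obj G)) :
    ∃ T : CochainComplex (Spec R).Modules ℤ, DCoh.IsKFlat T ∧
      (∀ n, (T.X n).IsQuasicoherent) ∧
      Nonempty (DerivedCategory.Q.obj G ≅ DerivedCategory.Q.obj T) := by
  have hA : PreservesFiniteLimits (tilde.functor R) :=
    Groth.Agent.Lib.Helper17.KProjAff.preservesFiniteLimits_tilde _
  obtain ⟨M, ⟨eM⟩⟩ := ((Groth.Agent.Lib.Helper17.TD4.main R).2.2 _).1 hq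
  let M₀ := DerivedCategory.Q.objPreimage M
  let P₁ := Groth.Agent.Lib.Helper13.SF.res M₀
  let π : P₁ ⟶ M₀ := Groth.Agent.Lib.Helper13.SF.resMap M₀
  have hπ : QuasiIso π := inferInstance
  have hπ' : IsIso (DerivedCategory.Q.map π) := by
    rw [DerivedCategory.isIso_Q_map_iff_quasiIso]
    exact hπ
  refine ⟨((tilde.functor R).mapHomologicalComplex (ComplexShape.up ℤ)).obj P₁,
    isKFlat_tildeCx R P₁ (Groth.Agent.Lib.Helper13.HT.isKFlat_of_isKProjective P₁),
    fun n => ?_, ⟨?_⟩⟩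
  · change ((tilde.functor R).obj (P₁.X n)).IsQuasicoherent
    infer_instance
  · exact eM.symm ≪≫ ((tilde.functor R).mapDerivedCategory).mapIso
      ((DerivedCategory.Q.objObjPreimageIso M).symm ≪≫ (asIso (DerivedCategory.Q.map π)).symm) ≪≫
      (tilde.functor R).mapDerivedCategoryFactors.app P₁

instance isQuasicoherent_tensorBi (M N : X.Modules) [M.IsQuasicoherent] [N.IsQuasicoherent] :
    (((DCoh.tensorBi (X := X)).obj M).obj N).IsQuasicoherent :=
  Groth.Agent.Lib.Helper29.QCoh.isQuasicoherent_tensorMod M N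

/-- the tensor product of complexes with quasi-coherent terms has quasi-coherent terms -/
theorem isQuasicoherent_tensorCx_X (T₁ T₂ : CochainComplex X.Modules ℤ)
    (h₁ : ∀ n, (T₁.X n).IsQuasicoherent) (h₂ : ∀ n, (T₂.X n).IsQuasicoherent) (n : ℤ) :
    (((DCoh.tensorCx.obj T₁).obj T₂).X n).IsQuasicoherent := by
  rw [tensorCx_X]
  apply Groth.Agent.Lib.Helper29.QCoh.isQuasicoherent_colimit_aux
  intro j
  have := h₁ j.as.1.1
  have := h₂ j.as.1.2
  exact isQuasicoherent_tensorBi _ _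

/-- `- ⊗^L F' ≅ - ⊗^L F` for a quasi-isomorphism `F' ⟶ F` (schemes) -/
def LTensorCxNatIsoOfQuasiIso' {F' F : CochainComplex X.Modules ℤ} (q : F' ⟶ F)
    (hq : QuasiIso q) [DCoh.HasLTensorCx F'] [DCoh.HasLTensorCx F] :
    DCoh.LTensorCx F' ≅ DCoh.LTensorCx F :=
  haveI i1 : ModSite.HasLTensorCx (O := X.sheaf) F' := ‹DCoh.HasLTensorCx F'›
  haveI i2 : ModSite.HasLTensorCx (O := X.sheaf) F := ‹DCoh.HasLTensorCx F›
  LTensorCxNatIsoOfQuasiIso (O := X.sheaf) q hq

/-- K-flat resolutions on schemes -/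
theorem exists_kflat_resolution' (F : CochainComplex X.Modules ℤ) :
    ∃ (F' : CochainComplex X.Modules ℤ) (q : F' ⟶ F), DCoh.IsKFlat F' ∧ QuasiIso q := by
  obtain ⟨F', q, hF', -, hq, -⟩ := exists_kflat_resolution (O := X.sheaf) F
  exact ⟨F', q, hF', hq⟩

/-- the local statement on an affine scheme -/
theorem isQCohD_tensorCx_affine (R : CommRingCat.{u}) (G₁ G₂ : CochainComplex (Spec R).Modules ℤ)
    (h₁ : DCoh.IsKFlat G₁) (h₂ : DCoh.IsKFlat G₂)
    (hq₁ : DCoh.IsQCohD (DerivedCategory.Q.obj G₁)) (hq₂ : DCoh.IsQCohD (DerivedCategory.Q.obj G₂)) :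
    DCoh.IsQCohD (DerivedCategory.Q.obj ((DCoh.tensorCx.obj G₁).obj G₂)) := by
  obtain ⟨T₁, hT₁, hT₁q, ⟨e₁⟩⟩ := exists_qcoh_kflat_rep R G₁ hq₁
  obtain ⟨T₂, hT₂, hT₂q, ⟨e₂⟩⟩ := exists_qcoh_kflat_rep R G₂ hq₂
  refine isQCohD_of_iso (tensorQCongr G₁ T₁ G₂ T₂ h₁ hT₁ h₂ hT₂ e₁ e₂).symm fun i => ?_
  have h := Groth.Agent.Lib.Helper17.QcSec.isQuasicoherent_homology _
    (isQuasicoherent_tensorCx_X T₁ T₂ hT₁q hT₂q) i
  exact isQuasicoherent_of_iso (hM := h)
    ((DerivedCategory.homologyFunctorFactors _ i).app _).symm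

/-- the local statement along an affine chart -/
theorem isQuasicoherent_restrict_HD_tensorCx (P F' : CochainComplex X.Modules ℤ)
    (hP : DCoh.IsKFlat P) (hF' : DCoh.IsKFlat F')
    (hqP : DCoh.IsQCohD (DerivedCategory.Q.obj P)) (hqF : DCoh.IsQCohD (DerivedCategory.Q.obj F'))
    (R : CommRingCat.{u}) (j : Spec R ⟶ X) [IsOpenImmersion j] (i : ℤ) :
    ((DCoh.HD (DerivedCategory.Q.obj ((DCoh.tensorCx.obj P).obj F')) i).restrict j).IsQuasicoherent := by
  have hq1 : DCoh.IsQCohD (DerivedCategory.Q.obj ((pullCx j).obj P)) :=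
    isQCohD_of_iso (((resDQ j).app P) ≪≫ DerivedCategory.Q.mapIso (resCxPullIso j P))
      (isQCohD_resD j _ hqP)
  have hq2 : DCoh.IsQCohD (DerivedCategory.Q.obj ((pullCx j).obj F')) :=
    isQCohD_of_iso (((resDQ j).app F') ≪≫ DerivedCategory.Q.mapIso (resCxPullIso j F'))
      (isQCohD_resD j _ hqF)
  have h3 := isQCohD_tensorCx_affine _ _ _ (isKFlat_pullCx j P hP)
    (isKFlat_pullCx j F' hF') hq1 hq2 i
  exact isQuasicoherent_of_iso (hM := h3)
    ((DerivedCategory.homologyFunctor _ i).mapIso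
      (DerivedCategory.Q.mapIso (resCxPullIso j _ ≪≫ pullTensorCxIso j P F').symm ≪≫
        ((resDQ j).app _).symm) ≪≫ HDresDIso j _ i)

/-- **the derived tensor product preserves quasi-coherent cohomology** -/
theorem isQCohD_LTensorCx (F : CochainComplex X.Modules ℤ) (hF : DCoh.IsQCohD (DCoh.toD X F))
    [DCoh.HasLTensorCx F] (E : DCoh.D X) (hE : DCoh.IsQCohD E) :
    DCoh.IsQCohD ((DCoh.LTensorCx F).obj E) := by
  obtain ⟨P, hP, ⟨eP⟩⟩ := exists_kflat_rep E
  obtain ⟨F', q, hF', hq⟩ := exists_kflat_resolution' F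
  have : DCoh.HasLTensorCx F' := hasLTensorCx_of_isKFlat' F' hF'
  have hq' : IsIso (DerivedCategory.Q.map q) := by
    rw [DerivedCategory.isIso_Q_map_iff_quasiIso]
    exact hq
  have e0 : (DCoh.LTensorCx F).obj E ≅ DerivedCategory.Q.obj ((DCoh.tensorCx.obj P).obj F') :=
    ((LTensorCxNatIsoOfQuasiIso' q hq).app E).symm ≪≫ (DCoh.LTensorCx F').mapIso eP.symm ≪≫
      LTensorCxIsoLeft' F' P hP
  refine isQCohD_of_iso e0.symm fun i => ?_
  refine isQuasicoherent_of_locally _ fun y => ?_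
  obtain ⟨U, hU⟩ := exists_mem_range_fromSpec X y
  have hU' : IsAffineOpen U.1 := U.2
  exact ⟨_, hU'.fromSpec, inferInstance, hU,
    isQuasicoherent_restrict_HD_tensorCx P F' hP hF' (isQCohD_of_iso eP.symm hE)
      (isQCohD_of_iso (asIso (DerivedCategory.Q.map q)).symm hF) _ hU'.fromSpec i⟩

end

end Groth.Agent.Lib.Helper28.PerfTensor
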