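import Mathlib
import Groth.Prelude.Def_DCoh4
import Groth.Agent.Lib.Helper28.PerfTensor2
import Groth.Agent.Lib.Helper28.DCohTilde8
import Groth.Agent.Lib.Helper13.DualBC2
import Groth.Agent.Lib.Helper28.DCohRes35
import Groth.Agent.Lib.Helper29.QCohDescent

/-!
# `D^-_Coh` is stable under the derived tensor product (helper28)

* `exists_finfree_kflat_rep`: on a Noetherian affine scheme, objects of `D^-_Coh` are represented by
  tildes of bounded above complexes of finite free modules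
* `exists_kflat_resolution_isStrictlyLE`, `exists_kflat_rep_isStrictlyLE`
* `isCohD_LTensorCx` (S6498)
-/

set_option autoImplicit false

universe u

open CategoryTheory Limits AlgebraicGeometry

attribute [local instance] HasDerivedCategory.standard

namespace Groth.Agent.Lib.Helper28.PerfTensor

open Groth.Agent.Lib.Helper28.StalkTensor Groth.Agent.Lib.Helper28.KFlatSite
  Groth.Agent.Lib.Helper28.DCohRes Groth.Agent.Lib.Helper17 Groth.Agent.Lib.Helper28.Lpull
  Groth.Agent.Lib.Helper29.QCoh Groth.Agent.Lib.Helper28.DCohTilde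

noncomputable section

variable {X : Scheme.{u}}

/-- on a Noetherian affine scheme, a bounded above object with coherent cohomology is represented
by the tilde of a bounded above complex of finite free modules -/
theorem exists_finfree_kflat_rep (R : CommRingCat.{u}) [IsNoetherianRing R]
    (G : CochainComplex (Spec R).Modules ℤ) (hc : DCoh.IsCohD (DerivedCategory.Q.obj G))
    (hb : ∃ b : ℤ, ∀ i, b < i → IsZero (DCoh.HD (DerivedCategory.Q.obj G) i)) :
    ∃ (T : CochainComplex (Spec R).Modules ℤ) (c : ℤ), DCoh.IsKFlat T ∧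
      (∀ n, FlatMod.IsFinLocFree (T.X n)) ∧ (∀ n, c < n → IsZero (T.X n)) ∧
      Nonempty (DerivedCategory.Q.obj G ≅ DerivedCategory.Q.obj T) := by
  have hA : PreservesFiniteLimits (tilde.functor R) :=
    Groth.Agent.Lib.Helper17.KProjAff.preservesFiniteLimits_tilde _
  have hq : DCoh.IsQCohD (DerivedCategory.Q.obj G) := fun i => (hc i).1
  obtain ⟨M, ⟨eM⟩⟩ := ((Groth.Agent.Lib.Helper17.TD4.main R).2.2 _).1 hq
  obtain ⟨b, hb⟩ := hb
  have hM : DRing.IsPseudoCoherent' R M := by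
    refine Groth.Agent.Lib.Helper13.DualBC.isPseudoCoherent'_of_bdd_finite M b (fun i hi => ?_)
      (fun i => ?_)
    · have h1 : IsZero (DCoh.HD ((DCoh.tildeD R).obj M) i) :=
        (hb i hi).of_iso ((DerivedCategory.homologyFunctor _ i).mapIso eM)
      exact ModuleCat.subsingleton_of_isZero (isZero_homology_of_isZero_HD_tildeD M i h1)
    · have q0 : (DCoh.HD (DerivedCategory.Q.obj G) i).IsQuasicoherent := (hc i).1
      have f0 : (DCoh.HD (DerivedCategory.Q.obj G) i).IsFiniteType := (hc i).2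
      have q1 : (tilde ((DerivedCategory.homologyFunctor (ModuleCat.{u} R) i).obj M)).IsQuasicoherent :=
        inferInstance
      have h3 : (tilde ((DerivedCategory.homologyFunctor (ModuleCat.{u} R) i).obj M)).IsFiniteType :=
        @isFiniteType_of_epi _ _ _ (((DerivedCategory.homologyFunctor _ i).mapIso eM.symm ≪≫
          HDtildeDIso M i).hom) (Iso.isIso_hom _).epi_of_iso q0 f0 q1
      exact finite_of_isFiniteType_tilde _ h3
  obtain ⟨E₀, c, hc', hff, ⟨e₀⟩⟩ := hM
  have hproj : ∀ i : ℤ, Projective (E₀.X i) := fun i =>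
    Groth.Agent.Lib.Helper13.DR.projective_of_Pfp (Groth.Agent.Lib.Helper13.DR.Pff_le_Pfp (hff i))
  have hKP : E₀.IsKProjective :=
    Groth.Agent.Lib.Helper13.PC.isKProjective_of_forall_projective E₀ c hc' hproj
  refine ⟨(tildeCx R).obj E₀, c, isKFlat_tildeCx R E₀
    (Groth.Agent.Lib.Helper13.HT.isKFlat_of_isKProjective E₀), fun n => ?_, fun n hn => ?_, ⟨?_⟩⟩
  · exact (isFinLocFree_tilde_iff (E₀.X n)).2 (Groth.Agent.Lib.Helper13.DR.Pff_le_Pfp (hff n))
  · exact (tilde.functor R).map_isZero (hc' n hn)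
  · exact eM.symm ≪≫ (DCoh.tildeD R).mapIso e₀.symm ≪≫ (tildeDQ R).app E₀


/-- bounded above K-flat resolutions on schemes -/
theorem exists_kflat_resolution_isStrictlyLE (E : CochainComplex X.Modules ℤ) (b : ℤ)
    (h : ∀ i, b < i → IsZero (DCoh.HD (DerivedCategory.Q.obj E) i)) :
    ∃ (F' : CochainComplex X.Modules ℤ) (q : F' ⟶ E), DCoh.IsKFlat F' ∧ F'.IsStrictlyLE b ∧
      QuasiIso q := by
  have hE : E.IsLE b := by
    rw [CochainComplex.isLE_iff]
    intro i hi
    rw [HomologicalComplex.exactAt_iff_isZero_homology]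
    exact (h i hi).of_iso ((DerivedCategory.homologyFunctorFactors _ i).app E).symm
  obtain ⟨F', q, hF', hfl, hq⟩ := exists_flat_resolution_of_isLE (O := X.sheaf) E b hE
  exact ⟨F', q, isKFlat_of_isStrictlyLE (O := X.sheaf) F' b hF' hfl, hF', hq⟩

/-- bounded above K-flat representatives on schemes -/
theorem exists_kflat_rep_isStrictlyLE (L : DCoh.D X) (a : ℤ)
    (h : ∀ i, a < i → IsZero (DCoh.HD L i)) :
    ∃ P : CochainComplex X.Modules ℤ, DCoh.IsKFlat P ∧ P.IsStrictlyLE a ∧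
      Nonempty (DerivedCategory.Q.obj P ≅ L) := by
  obtain ⟨P, q, hP, hP', hq⟩ := exists_kflat_resolution_isStrictlyLE
    (DerivedCategory.Q.objPreimage L) a (fun i hi => (h i hi).of_iso
      ((DerivedCategory.homologyFunctor _ i).mapIso (DerivedCategory.Q.objObjPreimageIso L)))
  have hq' : IsIso (DerivedCategory.Q.map q) := by
    rw [DerivedCategory.isIso_Q_map_iff_quasiIso]
    exact hq
  exact ⟨P, hP, hP', ⟨asIso (DerivedCategory.Q.map q) ≪≫ DerivedCategory.Q.objObjPreimageIso L⟩⟩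

/-- the tensor product of bounded above complexes is bounded above -/
theorem isZero_tensorCx_X_of_isStrictlyLE (P F : CochainComplex X.Modules ℤ) (a b : ℤ)
    [P.IsStrictlyLE a] [F.IsStrictlyLE b] (n : ℤ) (hn : a + b < n) :
    IsZero (((DCoh.tensorCx.obj P).obj F).X n) := by
  rw [tensorCx_X]
  refine isZero_sigma _ (fun i => ?_)
  obtain ⟨⟨p, q⟩, hpq⟩ := i
  have hpq' : p + q = n := hpq
  by_cases hp : a < p
  · exact isZero_tensor_left (P.isZero_of_isStrictlyLE a p hp) _
  · exact isZero_tensor_right _ (F.isZero_of_isStrictlyLE b q (by omega))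

/-- the tensor product of bounded above complexes of finite locally free modules has finite
locally free terms -/
theorem isFinLocFree_tensorCx_X (T₁ T₂ : CochainComplex X.Modules ℤ) (c₁ c₂ : ℤ)
    (h₁ : ∀ n, FlatMod.IsFinLocFree (T₁.X n)) (h₂ : ∀ n, FlatMod.IsFinLocFree (T₂.X n))
    (z₁ : ∀ n, c₁ < n → IsZero (T₁.X n)) (z₂ : ∀ n, c₂ < n → IsZero (T₂.X n)) (n : ℤ) :
    FlatMod.IsFinLocFree (((DCoh.tensorCx.obj T₁).obj T₂).X n) := by
  rw [tensorCx_X]
  classical
  let s : Finset ↥((ComplexShape.π (ComplexShape.up ℤ) (ComplexShape.up ℤ) (ComplexShape.up ℤ)) ⁻¹' {n}) :=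
    (Finset.Icc (n - c₂) c₁).image (fun p => ⟨(p, n - p), by
      change p + (n - p) = n
      omega⟩)
  refine isFinLocFree_sigma_of_support _ s ?_ (fun i => isFinLocFree_tensor (h₁ _) (h₂ _))
  intro i hi
  obtain ⟨⟨p, q⟩, hpq⟩ := i
  have hpq' : p + q = n := hpq
  by_cases hp : c₁ < p
  · exact isZero_tensor_left (z₁ p hp) _
  · refine isZero_tensor_right _ (z₂ q ?_)
    by_contra hq
    apply hi
    refine Finset.mem_image.2 ⟨p, Finset.mem_Icc.2 (by omega), ?_⟩
    apply Subtype.ext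
    change (p, n - p) = (p, q)
    congr 1
    omega

lemma isCohD_of_iso {K L : DCoh.D X} (e : K ≅ L) (hK : DCoh.IsCohD K) : DCoh.IsCohD L := by
  intro i
  have q0 : (DCoh.HD K i).IsQuasicoherent := (hK i).1
  have f0 : (DCoh.HD K i).IsFiniteType := (hK i).2
  have e' : DCoh.HD K i ≅ DCoh.HD L i := (DerivedCategory.homologyFunctor _ i).mapIso e
  exact ⟨isQuasicoherent_of_iso e', isFiniteType_of_iso e'⟩

lemma isCohD_resD {U : Scheme.{u}} (j : U ⟶ X) [IsOpenImmersion j] (K : DCoh.D X)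
    (hK : DCoh.IsCohD K) : DCoh.IsCohD ((resD j).obj K) := by
  intro i
  have q0 : (DCoh.HD K i).IsQuasicoherent := (hK i).1
  have f0 : (DCoh.HD K i).IsFiniteType := (hK i).2
  have q1 : ((DCoh.HD K i).restrict j).IsQuasicoherent := inferInstance
  have f1 : ((DCoh.HD K i).restrict j).IsFiniteType := by
    have : ((Scheme.Modules.pullback j).obj (DCoh.HD K i)).IsFiniteType := inferInstance
    have : ((Scheme.Modules.pullback j).obj (DCoh.HD K i)).IsQuasicoherent := inferInstance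
    exact isFiniteType_of_iso ((Scheme.Modules.restrictFunctorIsoPullback j).app _).symm
  exact ⟨isQuasicoherent_of_iso (HDresDIso j K i).symm, isFiniteType_of_iso (HDresDIso j K i).symm⟩

/-- the local statement on a Noetherian affine scheme -/
theorem isCohD_tensorCx_affine (R : CommRingCat.{u}) [IsNoetherianRing R]
    (G₁ G₂ : CochainComplex (Spec R).Modules ℤ)
    (h₁ : DCoh.IsKFlat G₁) (h₂ : DCoh.IsKFlat G₂)
    (hc₁ : DCoh.IsCohD (DerivedCategory.Q.obj G₁)) (hc₂ : DCoh.IsCohD (DerivedCategory.Q.obj G₂))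
    (hb₁ : ∃ b : ℤ, ∀ i, b < i → IsZero (DCoh.HD (DerivedCategory.Q.obj G₁) i))
    (hb₂ : ∃ b : ℤ, ∀ i, b < i → IsZero (DCoh.HD (DerivedCategory.Q.obj G₂) i)) :
    DCoh.IsCohD (DerivedCategory.Q.obj ((DCoh.tensorCx.obj G₁).obj G₂)) := by
  obtain ⟨T₁, c₁, hT₁, hT₁f, hT₁z, ⟨e₁⟩⟩ := exists_finfree_kflat_rep R G₁ hc₁ hb₁
  obtain ⟨T₂, c₂, hT₂, hT₂f, hT₂z, ⟨e₂⟩⟩ := exists_finfree_kflat_rep R G₂ hc₂ hb₂
  refine isCohD_of_iso (tensorQCongr G₁ T₁ G₂ T₂ h₁ hT₁ h₂ hT₂ e₁ e₂).symm fun i => ?_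
  have : IsLocallyNoetherian (Spec R) := inferInstance
  have h := isCoh_homology_of_finLocFree
    (isFinLocFree_tensorCx_X T₁ T₂ c₁ c₂ hT₁f hT₂f hT₁z hT₂z) i
  have q0 := h.1
  have f0 := h.2
  have e : ((DCoh.tensorCx.obj T₁).obj T₂).homology i ≅
      DCoh.HD (DerivedCategory.Q.obj ((DCoh.tensorCx.obj T₁).obj T₂)) i :=
    ((DerivedCategory.homologyFunctorFactors _ i).app _).symm
  exact ⟨isQuasicoherent_of_iso e, isFiniteType_of_iso e⟩

lemma exists_bound_of_iso {K L : DCoh.D X} (e : K ≅ L)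
    (h : ∃ b : ℤ, ∀ i, b < i → IsZero (DCoh.HD K i)) :
    ∃ b : ℤ, ∀ i, b < i → IsZero (DCoh.HD L i) := by
  obtain ⟨b, hb⟩ := h
  exact ⟨b, fun i hi => (hb i hi).of_iso ((DerivedCategory.homologyFunctor _ i).mapIso e.symm)⟩

lemma exists_bound_resD {U : Scheme.{u}} (j : U ⟶ X) [IsOpenImmersion j] (K : DCoh.D X)
    (h : ∃ b : ℤ, ∀ i, b < i → IsZero (DCoh.HD K i)) :
    ∃ b : ℤ, ∀ i, b < i → IsZero (DCoh.HD ((resD j).obj K) i) := by
  obtain ⟨b, hb⟩ := h
  exact ⟨b, fun i hi => ((Scheme.Modules.restrictFunctor j).map_isZero (hb i hi)).of_iso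
    (HDresDIso j K i)⟩

/-- the local statement along a Noetherian affine chart -/
theorem isCoh_restrict_HD_tensorCx (P F' : CochainComplex X.Modules ℤ)
    (hP : DCoh.IsKFlat P) (hF' : DCoh.IsKFlat F')
    (hcP : DCoh.IsCohD (DerivedCategory.Q.obj P)) (hcF : DCoh.IsCohD (DerivedCategory.Q.obj F'))
    (hbP : ∃ b : ℤ, ∀ i, b < i → IsZero (DCoh.HD (DerivedCategory.Q.obj P) i))
    (hbF : ∃ b : ℤ, ∀ i, b < i → IsZero (DCoh.HD (DerivedCategory.Q.obj F') i))
    (R : CommRingCat.{u}) [IsNoetherianRing R] (j : Spec R ⟶ X) [IsOpenImmersion j] (i : ℤ) :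
    ((DCoh.HD (DerivedCategory.Q.obj ((DCoh.tensorCx.obj P).obj F')) i).restrict j).IsQuasicoherent ∧
    ((DCoh.HD (DerivedCategory.Q.obj ((DCoh.tensorCx.obj P).obj F')) i).restrict j).IsFiniteType := by
  have e1 : (resD j).obj (DerivedCategory.Q.obj P) ≅ DerivedCategory.Q.obj ((pullCx j).obj P) :=
    ((resDQ j).app P) ≪≫ DerivedCategory.Q.mapIso (resCxPullIso j P)
  have e2 : (resD j).obj (DerivedCategory.Q.obj F') ≅ DerivedCategory.Q.obj ((pullCx j).obj F') :=
    ((resDQ j).app F') ≪≫ DerivedCategory.Q.mapIso (resCxPullIso j F')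
  have h3 := isCohD_tensorCx_affine R _ _ (isKFlat_pullCx j P hP) (isKFlat_pullCx j F' hF')
    (isCohD_of_iso e1 (isCohD_resD j _ hcP)) (isCohD_of_iso e2 (isCohD_resD j _ hcF))
    (exists_bound_of_iso e1 (exists_bound_resD j _ hbP))
    (exists_bound_of_iso e2 (exists_bound_resD j _ hbF)) i
  have q0 := h3.1
  have f0 := h3.2
  have e : DCoh.HD (DerivedCategory.Q.obj ((DCoh.tensorCx.obj ((pullCx j).obj P)).obj
      ((pullCx j).obj F'))) i ≅
      (DCoh.HD (DerivedCategory.Q.obj ((DCoh.tensorCx.obj P).obj F')) i).restrict j :=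
    (DerivedCategory.homologyFunctor _ i).mapIso
      (DerivedCategory.Q.mapIso (resCxPullIso j _ ≪≫ pullTensorCxIso j P F').symm ≪≫
        ((resDQ j).app _).symm) ≪≫ HDresDIso j _ i
  exact ⟨isQuasicoherent_of_iso e, isFiniteType_of_iso e⟩

/-- **`D^-_Coh` is stable under the derived tensor product** (locally Noetherian schemes) -/
theorem isCohD_LTensorCx [IsLocallyNoetherian X] (E : CochainComplex X.Modules ℤ)
    [DCoh.HasLTensorCx E] (L : DCoh.D X) (hL : DCoh.IsCohD L)
    (hLb : ∃ a : ℤ, ∀ i, a < i → IsZero (DCoh.HD L i)) (hE : DCoh.IsCohD (DCoh.toD X E))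
    (hEb : ∃ b : ℤ, ∀ i, b < i → IsZero (DCoh.HD (DCoh.toD X E) i)) :
    DCoh.IsCohD ((DCoh.LTensorCx E).obj L) ∧
      ∃ n : ℤ, ∀ i, n < i → IsZero (DCoh.HD ((DCoh.LTensorCx E).obj L) i) := by
  obtain ⟨a, ha⟩ := hLb
  obtain ⟨b, hb⟩ := hEb
  obtain ⟨P, hP, hPa, ⟨eP⟩⟩ := exists_kflat_rep_isStrictlyLE L a ha
  obtain ⟨F', q, hF', hF'b, hq⟩ := exists_kflat_resolution_isStrictlyLE E b hb
  have : DCoh.HasLTensorCx F' := hasLTensorCx_of_isKFlat' F' hF'
  have hq' : IsIso (DerivedCategory.Q.map q) := by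
    rw [DerivedCategory.isIso_Q_map_iff_quasiIso]
    exact hq
  have e0 : (DCoh.LTensorCx E).obj L ≅ DerivedCategory.Q.obj ((DCoh.tensorCx.obj P).obj F') :=
    ((LTensorCxNatIsoOfQuasiIso' q hq).app L).symm ≪≫ (DCoh.LTensorCx F').mapIso eP.symm ≪≫
      LTensorCxIsoLeft' F' P hP
  have eF : DerivedCategory.Q.obj F' ≅ DerivedCategory.Q.obj E := asIso (DerivedCategory.Q.map q)
  constructor
  · refine isCohD_of_iso e0.symm fun i => ?_
    constructor
    · refine isQuasicoherent_of_locally _ fun y => ?_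
      obtain ⟨U, hU⟩ := exists_mem_range_fromSpec X y
      have hU' : IsAffineOpen U.1 := U.2
      have : IsNoetherianRing Γ(X, U.1) := IsLocallyNoetherian.component_noetherian U
      exact ⟨_, hU'.fromSpec, inferInstance, hU,
        (isCoh_restrict_HD_tensorCx P F' hP hF' (isCohD_of_iso eP.symm hL)
          (isCohD_of_iso eF.symm hE) ⟨a, fun i hi => (ha i hi).of_iso
            ((DerivedCategory.homologyFunctor _ i).mapIso eP)⟩
          ⟨b, fun i hi => (hb i hi).of_iso ((DerivedCategory.homologyFunctor _ i).mapIso eF)⟩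
          _ hU'.fromSpec i).1⟩
    · refine isFiniteType_of_locally _ fun y => ?_
      obtain ⟨U, hU⟩ := exists_mem_range_fromSpec X y
      have hU' : IsAffineOpen U.1 := U.2
      have : IsNoetherianRing Γ(X, U.1) := IsLocallyNoetherian.component_noetherian U
      exact ⟨_, hU'.fromSpec, inferInstance, hU,
        (isCoh_restrict_HD_tensorCx P F' hP hF' (isCohD_of_iso eP.symm hL)
          (isCohD_of_iso eF.symm hE) ⟨a, fun i hi => (ha i hi).of_iso
            ((DerivedCategory.homologyFunctor _ i).mapIso eP)⟩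
          ⟨b, fun i hi => (hb i hi).of_iso ((DerivedCategory.homologyFunctor _ i).mapIso eF)⟩
          _ hU'.fromSpec i).2⟩
  · refine ⟨a + b, fun i hi => ?_⟩
    have h1 : IsZero (((DCoh.tensorCx.obj P).obj F').X i) :=
      isZero_tensorCx_X_of_isStrictlyLE P F' a b i hi
    have h2 : IsZero (((DCoh.tensorCx.obj P).obj F').homology i) :=
      ShortComplex.isZero_homology_of_isZero_X₂ _ h1
    exact h2.of_iso ((DerivedCategory.homologyFunctor _ i).mapIso e0 ≪≫
      (DerivedCategory.homologyFunctorFactors _ i).app _)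

end

end Groth.Agent.Lib.Helper28.PerfTensor
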