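import Mathlib
import Groth.Prelude.Def_DTen4
import Groth.Prelude.Def_DRing2
set_option autoImplicit false

universe u

open CategoryTheory Limits Opposite
open scoped TensorProduct

namespace Groth.Agent.Lib.Helper28.MatCx

noncomputable section

/-- the complex of finite free modules with differentials given by matrices -/
def matCx (A : Type u) [CommRing A] (n : ℤ → ℕ)
    (D : ∀ i, Matrix (Fin (n (i + 1))) (Fin (n i)) A) (hD : ∀ i, D (i + 1) * D i = 0) :
    DRing.Cx A :=
  CochainComplex.of (fun i => ModuleCat.of A (Fin (n i) → A))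
    (fun i => ModuleCat.ofHom (Matrix.mulVecLin (D i)))
    (fun i => by
      apply ModuleCat.hom_ext
      apply LinearMap.ext
      intro v
      change (D (i + 1)).mulVec ((D i).mulVec v) = 0
      rw [Matrix.mulVec_mulVec, hD, Matrix.zero_mulVec])

variable {A B : Type u} [CommRing A] [CommRing B]

lemma map_rel (f : A →+* B) {n : ℤ → ℕ} {D : ∀ i, Matrix (Fin (n (i + 1))) (Fin (n i)) A}
    (hD : ∀ i, D (i + 1) * D i = 0) (i : ℤ) :
    (D (i + 1)).map f * (D i).map f = 0 := by
  rw [← Matrix.map_mul, hD]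
  simp

lemma matCx_d (n : ℤ → ℕ) (D : ∀ i, Matrix (Fin (n (i + 1))) (Fin (n i)) A)
    (hD : ∀ i, D (i + 1) * D i = 0) (i : ℤ) :
    (matCx A n D hD).d i (i + 1) = ModuleCat.ofHom (Matrix.mulVecLin (D i)) := by
  unfold matCx
  exact CochainComplex.of_d (V := ModuleCat.{u} A) (α := ℤ)
    (fun i => ModuleCat.of A (Fin (n i) → A)) (fun i => ModuleCat.ofHom (Matrix.mulVecLin (D i))) i

/-- isomorphism to a matrix complex from termwise linear equivalences -/
def isoMatCx (E : DRing.Cx A) (n : ℤ → ℕ) (D : ∀ i, Matrix (Fin (n (i + 1))) (Fin (n i)) A)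
    (hD : ∀ i, D (i + 1) * D i = 0) (e : ∀ i, E.X i ≃ₗ[A] (Fin (n i) → A))
    (he : ∀ i (v : E.X i), e (i + 1) ((E.d i (i + 1)).hom v) = (D i).mulVec (e i v)) :
    E ≅ matCx A n D hD :=
  HomologicalComplex.Hom.isoOfComponents (fun i => (e i).toModuleIso) (by
    rintro i j (rfl : i + 1 = j)
    rw [matCx_d]
    apply ModuleCat.hom_ext
    apply LinearMap.ext
    intro v
    exact (he i v).symm)

lemma piScalarRight_extendScalars_map (f : A →+* B) {m n : ℕ} (D : Matrix (Fin m) (Fin n) A)
    (v : (ModuleCat.extendScalars f).obj (ModuleCat.of A (Fin n → A))) :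
    letI := f.toAlgebra
    TensorProduct.piScalarRight A B B (Fin m)
        (((ModuleCat.extendScalars f).map (ModuleCat.ofHom (Matrix.mulVecLin D))).hom v) =
      (D.map f).mulVec (TensorProduct.piScalarRight A B B (Fin n) v) := by
  letI := f.toAlgebra
  let f1 : ((ModuleCat.extendScalars f).obj (ModuleCat.of A (Fin n → A))) →+ (Fin m → B) :=
    ((TensorProduct.piScalarRight A B B (Fin m)).toLinearMap ∘ₗ
      ((ModuleCat.extendScalars f).map (ModuleCat.ofHom (Matrix.mulVecLin D))).hom).toAddMonoidHom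
  let f2 : ((ModuleCat.extendScalars f).obj (ModuleCat.of A (Fin n → A))) →+ (Fin m → B) :=
    ((Matrix.mulVecLin (D.map f)) ∘ₗ
      (TensorProduct.piScalarRight A B B (Fin n)).toLinearMap).toAddMonoidHom
  change f1 v = f2 v
  induction v using TensorProduct.induction_on with
  | zero => exact (map_zero f1).trans (map_zero f2).symm
  | tmul b w =>
    change TensorProduct.piScalarRight A B B (Fin m) (b ⊗ₜ[A] (D.mulVec w)) =
      (D.map f).mulVec (TensorProduct.piScalarRight A B B (Fin n) (b ⊗ₜ[A] w))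
    rw [TensorProduct.piScalarRight_apply, TensorProduct.piScalarRight_apply]
    ext p
    simp [Matrix.mulVec, dotProduct, Finset.sum_mul, Algebra.smul_def, map_sum, map_mul]
    refine Finset.sum_congr rfl fun q _ => ?_
    rw [mul_assoc]
    rfl
  | add x y hx hy =>
    exact ((map_add f1 x y).trans (congrArg₂ (· + ·) hx hy)).trans (map_add f2 x y).symm

/-- base change of a matrix complex -/
def extMatIso (f : A →+* B) (n : ℤ → ℕ) (D : ∀ i, Matrix (Fin (n (i + 1))) (Fin (n i)) A)
    (hD : ∀ i, D (i + 1) * D i = 0) :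
    (DTen.extCx f).obj (matCx A n D hD) ≅ matCx B n (fun i => (D i).map f) (map_rel f hD) :=
  letI := f.toAlgebra
  isoMatCx _ n _ _ (fun i => TensorProduct.piScalarRight A B B (Fin (n i))) (by
    intro i v
    change (TensorProduct.piScalarRight A B B (Fin (n (i + 1))))
      (((ModuleCat.extendScalars f).map ((matCx A n D hD).d i (i + 1))).hom v) = _
    rw [matCx_d]
    exact piScalarRight_extendScalars_map f (D i) v)

/-- componentwise application of a ring hom, as a linear map to the restriction of scalars -/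
def compLin (φ : A →+* B) (n : ℕ) :
    (Fin n → A) →ₗ[A] ((ModuleCat.restrictScalars φ).obj (ModuleCat.of B (Fin n → B))) where
  toFun v := (fun j => φ (v j) : Fin n → B)
  map_add' v w := by
    funext j
    exact map_add φ _ _
  map_smul' r v := by
    funext j
    exact map_mul φ _ _

lemma compLin_bijective (φ : A →+* B) (hφ : Function.Bijective φ) (n : ℕ) :
    Function.Bijective (compLin φ n) := by
  constructor
  · intro v w h
    funext j
    exact hφ.1 (congrFun h j)
  · intro v
    refine ⟨fun j => (hφ.2 ((show Fin n → B from v) j)).choose, ?_⟩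
    funext j
    exact (hφ.2 ((show Fin n → B from v) j)).choose_spec

/-- the inverse of `compLin` -/
def resEquiv (φ : A →+* B) (hφ : Function.Bijective φ) (n : ℕ) :
    ((ModuleCat.restrictScalars φ).obj (ModuleCat.of B (Fin n → B))) ≃ₗ[A] (Fin n → A) :=
  (LinearEquiv.ofBijective (compLin φ n) (compLin_bijective φ hφ n)).symm

lemma resEquiv_compLin (φ : A →+* B) (hφ : Function.Bijective φ) (n : ℕ) (w : Fin n → A) :
    resEquiv φ hφ n (compLin φ n w) = w :=
  (LinearEquiv.ofBijective (compLin φ n) (compLin_bijective φ hφ n)).symm_apply_apply w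

/-- restriction of scalars of a matrix complex along a ring isomorphism -/
def resMatIso (φ : A →+* B) (hφ : Function.Bijective φ) (n : ℤ → ℕ)
    (D : ∀ i, Matrix (Fin (n (i + 1))) (Fin (n i)) A) (hD : ∀ i, D (i + 1) * D i = 0) :
    (DRing.restrictCx φ).obj (matCx B n (fun i => (D i).map φ) (map_rel φ hD)) ≅ matCx A n D hD :=
  isoMatCx _ n _ _ (fun i => resEquiv φ hφ (n i)) (by
    intro i v
    obtain ⟨w, rfl⟩ := (compLin_bijective φ hφ (n i)).2 v
    have h2 : (((DRing.restrictCx φ).obj
        (matCx B n (fun i => (D i).map φ) (map_rel φ hD))).d i (i + 1)).hom (compLin φ (n i) w) =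
        compLin φ (n (i + 1)) ((D i).mulVec w) := by
      change ((matCx B n (fun i => (D i).map φ) (map_rel φ hD)).d i (i + 1)).hom
        (fun j => φ (w j) : Fin (n i) → B) = (fun j => φ ((D i).mulVec w j) : Fin (n (i + 1)) → B)
      rw [matCx_d]
      funext p
      exact (RingHom.map_mulVec φ (D i) w p).symm
    exact ((congrArg (resEquiv φ hφ (n (i + 1))) h2).trans
      (resEquiv_compLin φ hφ (n (i + 1)) _)).trans
      (congrArg (D i).mulVec (resEquiv_compLin φ hφ (n i) w).symm))

/-- over a local ring, a bounded complex of finite projective modules is a matrix complex -/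
theorem exists_iso_matCx [IsLocalRing A] (E : DRing.Cx A) (a b : ℤ)
    (hv : DRing.VanishesOutside E a b) (hE : DRing.TermwiseFiniteProjective E) :
    ∃ (n : ℤ → ℕ) (D : ∀ i, Matrix (Fin (n (i + 1))) (Fin (n i)) A)
      (hD : ∀ i, D (i + 1) * D i = 0),
      (∀ i, i < a ∨ b < i → n i = 0) ∧ Nonempty (E ≅ matCx A n D hD) := by
  have hfin : ∀ i, Module.Finite A (E.X i) := fun i => (hE i).1
  have hfree : ∀ i, Module.Free A (E.X i) := fun i => by
    have := (hE i).1
    have := (hE i).2
    exact Module.free_of_flat_of_isLocalRing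
  let n : ℤ → ℕ := fun i => Module.finrank A (E.X i)
  let bas : ∀ i, Module.Basis (Fin (n i)) A (E.X i) := fun i => Module.finBasis A (E.X i)
  let D : ∀ i, Matrix (Fin (n (i + 1))) (Fin (n i)) A := fun i =>
    LinearMap.toMatrix (bas i) (bas (i + 1)) (E.d i (i + 1)).hom
  have hD : ∀ i, D (i + 1) * D i = 0 := by
    intro i
    rw [← LinearMap.toMatrix_comp (bas i) (bas (i + 1)) (bas (i + 1 + 1))]
    have : (E.d (i + 1) (i + 1 + 1)).hom ∘ₗ (E.d i (i + 1)).hom = 0 := by
      rw [← ModuleCat.hom_comp, E.d_comp_d]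
      rfl
    rw [this]
    simp
  refine ⟨n, D, hD, ?_, ⟨isoMatCx E n D hD (fun i => (bas i).equivFun) ?_⟩⟩
  · intro i hi
    have := ModuleCat.subsingleton_of_isZero (hv i hi)
    exact Module.finrank_zero_of_subsingleton
  · intro i v
    exact (LinearMap.toMatrix_mulVec_repr (bas i) (bas (i + 1)) (E.d i (i + 1)).hom v).symm

lemma vanishesOutside_matCx (n : ℤ → ℕ) (D : ∀ i, Matrix (Fin (n (i + 1))) (Fin (n i)) A)
    (hD : ∀ i, D (i + 1) * D i = 0) (a b : ℤ) (h : ∀ i, i < a ∨ b < i → n i = 0) :
    DRing.VanishesOutside (matCx A n D hD) a b := by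
  intro i hi
  have h0 := h i hi
  change IsZero (ModuleCat.of A (Fin (n i) → A))
  rw [h0]
  exact ModuleCat.isZero_of_subsingleton _

lemma termwiseFiniteProjective_matCx (n : ℤ → ℕ)
    (D : ∀ i, Matrix (Fin (n (i + 1))) (Fin (n i)) A) (hD : ∀ i, D (i + 1) * D i = 0) :
    DRing.TermwiseFiniteProjective (matCx A n D hD) := by
  intro i
  change Module.Finite A (Fin (n i) → A) ∧ Module.Projective A (Fin (n i) → A)
  exact ⟨inferInstance, inferInstance⟩

lemma matCx_congr (n : ℤ → ℕ) {D D' : ∀ i, Matrix (Fin (n (i + 1))) (Fin (n i)) A}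
    (hD : ∀ i, D (i + 1) * D i = 0) (h : ∀ i, D' i = D i) :
    ∃ hD' : ∀ i, D' (i + 1) * D' i = 0, matCx A n D' hD' = matCx A n D hD := by
  obtain rfl : D' = D := funext h
  exact ⟨hD, rfl⟩

end

end Groth.Agent.Lib.Helper28.MatCx
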