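import Mathlib
import Groth.Agent.Lib.Helper28.MatCx1
set_option autoImplicit false

universe u

open CategoryTheory Limits Opposite AlgebraicGeometry TopologicalSpace

namespace Groth.Agent.Lib.Helper28.MatCx

noncomputable section

variable {X : Scheme.{u}} (x : X)

lemma mem_finset_inf_opens {J : Type} (s : Finset J) (V : J → X.Opens) (h : ∀ j, x ∈ V j) :
    x ∈ s.inf V :=
  Finset.inf_induction (p := fun V : X.Opens => x ∈ V) trivial
    (fun _ h1 _ h2 => ⟨h1, h2⟩) (fun j _ => h j)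

/-- finitely many germs come from sections over a common open neighbourhood -/
lemma exists_sections_of_germs {J : Type} [Finite J] (f : J → X.presheaf.stalk x) :
    ∃ (U : X.Opens) (hx : x ∈ U) (s : J → Γ(X, U)), ∀ j, X.presheaf.germ U x hx (s j) = f j := by
  classical
  have := Fintype.ofFinite J
  choose V hV s hs using fun j => X.presheaf.exists_germ_eq (x := x) (f j)
  refine ⟨Finset.univ.inf V, mem_finset_inf_opens x _ V hV,
    fun j => X.presheaf.map (homOfLE (Finset.inf_le (Finset.mem_univ j))).op (s j), fun j => ?_⟩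
  rw [TopCat.Presheaf.germ_res_apply]
  exact hs j

/-- finitely many sections with vanishing germs vanish on a common affine open neighbourhood -/
lemma exists_affine_res_eq_zero {J : Type} [Finite J] (U : X.Opens) (hx : x ∈ U)
    (t : J → Γ(X, U)) (ht : ∀ j, X.presheaf.germ U x hx (t j) = 0) :
    ∃ (W : X.Opens) (_ : IsAffineOpen W) (hWU : W ≤ U), x ∈ W ∧
      ∀ j, X.presheaf.map (homOfLE hWU).op (t j) = 0 := by
  classical
  have := Fintype.ofFinite J
  have h0 : ∀ j, X.presheaf.germ U x hx (t j) = X.presheaf.germ U x hx (0 : Γ(X, U)) := by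
    intro j
    rw [ht j, map_zero]
  choose W hW iU iV hWeq using fun j => X.presheaf.germ_eq x hx hx (t j) 0 (h0 j)
  obtain ⟨W', hW'aff, hxW', hW'sub⟩ := exists_isAffineOpen_mem_and_subset
    (x := x) (U := U ⊓ Finset.univ.inf W) ⟨hx, mem_finset_inf_opens x _ W hW⟩
  have hW'U : W' ≤ U := fun y hy => (hW'sub hy).1
  refine ⟨W', hW'aff, hW'U, hxW', fun j => ?_⟩
  have hW'j : W' ≤ W j := fun y hy =>
    (Finset.inf_le (f := W) (Finset.mem_univ j)) (hW'sub hy).2
  have h1 : X.presheaf.map (homOfLE hW'U).op (t j) =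
      X.presheaf.map (homOfLE hW'j).op (X.presheaf.map (iU j).op (t j)) := by
    rw [← ConcreteCategory.comp_apply, ← Functor.map_comp]
    rfl
  rw [h1, hWeq j, map_zero, map_zero]

lemma finite_sigma_of_bounded (n m : ℤ → ℕ) (a b : ℤ) (hn : ∀ i, i < a ∨ b < i → n i = 0) :
    Finite (Σ i : ℤ, Fin (m i) × Fin (n i)) := by
  let g : (Σ i : ↥(Finset.Icc a b), Fin (m i.1) × Fin (n i.1)) → (Σ i : ℤ, Fin (m i) × Fin (n i)) :=
    fun z => ⟨z.1.1, z.2⟩
  refine Finite.of_surjective g ?_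
  rintro ⟨i, p, q⟩
  by_cases hi : i ∈ Finset.Icc a b
  · exact ⟨⟨⟨i, hi⟩, p, q⟩, rfl⟩
  · have h0 : n i = 0 := by
      apply hn
      rw [Finset.mem_Icc] at hi
      omega
    exact absurd q.2 (by omega)

/-- a bounded matrix complex over the local ring at `x` descends to an affine open
neighbourhood of `x` -/
theorem exists_descent (n : ℤ → ℕ) (a b : ℤ) (hn : ∀ i, i < a ∨ b < i → n i = 0)
    (D : ∀ i, Matrix (Fin (n (i + 1))) (Fin (n i)) (X.presheaf.stalk x))
    (hD : ∀ i, D (i + 1) * D i = 0) :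
    ∃ (W : X.Opens) (_ : IsAffineOpen W) (hx : x ∈ W)
      (D' : ∀ i, Matrix (Fin (n (i + 1))) (Fin (n i)) Γ(X, W)),
      (∀ i, D' (i + 1) * D' i = 0) ∧ ∀ i, (D' i).map (X.presheaf.germ W x hx).hom = D i := by
  have hJ : Finite (Σ i : ℤ, Fin (n (i + 1)) × Fin (n i)) :=
    finite_sigma_of_bounded n (fun i => n (i + 1)) a b hn
  have hK : Finite (Σ i : ℤ, Fin (n (i + 1 + 1)) × Fin (n i)) :=
    finite_sigma_of_bounded n (fun i => n (i + 1 + 1)) a b hn
  obtain ⟨U, hxU, s, hs⟩ := exists_sections_of_germs x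
    (fun z : (Σ i : ℤ, Fin (n (i + 1)) × Fin (n i)) => D z.1 z.2.1 z.2.2)
  let t : (Σ i : ℤ, Fin (n (i + 1 + 1)) × Fin (n i)) → Γ(X, U) := fun z =>
    ∑ k : Fin (n (z.1 + 1)), s ⟨z.1 + 1, z.2.1, k⟩ * s ⟨z.1, k, z.2.2⟩
  have ht : ∀ z, X.presheaf.germ U x hxU (t z) = 0 := by
    rintro ⟨i, p, q⟩
    have h := congrFun (congrFun (hD i) p) q
    rw [Matrix.mul_apply] at h
    change X.presheaf.germ U x hxU (∑ k : Fin (n (i + 1)), s ⟨i + 1, p, k⟩ * s ⟨i, k, q⟩) = 0
    rw [map_sum]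
    simp only [map_mul, hs]
    exact h
  obtain ⟨W, hW, hWU, hxW, hres⟩ := exists_affine_res_eq_zero x U hxU t ht
  refine ⟨W, hW, hxW, fun i p q => X.presheaf.map (homOfLE hWU).op (s ⟨i, p, q⟩), ?_, ?_⟩
  · intro i
    ext p q
    rw [Matrix.mul_apply]
    have h := hres ⟨i, p, q⟩
    change X.presheaf.map (homOfLE hWU).op
      (∑ k : Fin (n (i + 1)), s ⟨i + 1, p, k⟩ * s ⟨i, k, q⟩) = 0 at h
    rw [map_sum] at h
    simp only [map_mul] at h
    exact h
  · intro i
    ext p q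
    change X.presheaf.germ W x hxW (X.presheaf.map (homOfLE hWU).op (s ⟨i, p, q⟩)) = D i p q
    rw [TopCat.Presheaf.germ_res_apply]
    exact hs ⟨i, p, q⟩

end

end Groth.Agent.Lib.Helper28.MatCx
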