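import Mathlib
import Groth.Agent.Lib.Helper28.Th2
import Groth.Agent.Lib.Helper28.StalkSky3
import Groth.Agent.Lib.Helper28.StalkAdj3
import Groth.Agent.Lib.Helper28.DCohStalk6
import Groth.Agent.Lib.Helper28.DCohRes27
import Groth.Agent.Lib.Helper29.QCohGen
import Groth.Agent.Lib.Helper29.QCohLocFree
import Groth.Agent.Lib.Helper29.QCohPullback
import Groth.Agent.Lib.Helper28.DCohRes15
set_option autoImplicit false

universe u

open CategoryTheory Limits AlgebraicGeometry TopologicalSpace

namespace Groth.Agent.Lib.Helper28.Thick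

open Groth.Agent.Lib.Helper29.QCoh Groth.Agent.Lib.Helper28.StalkTensor
  Groth.Agent.Lib.Helper28.DCohRes

noncomputable section

variable {X X' : Scheme.{u}} {i : X ⟶ X'}

/-- the stalk of a pullback, objectwise -/
def pullStalkIso (i : X ⟶ X') (N : X'.Modules) (y : X) :
    (DerSch.stalkFunctor X y).obj ((Scheme.Modules.pullback i).obj N) ≅
      (ModuleCat.extendScalars.{u, u, u} (i.stalkMap y).hom).obj
        ((DerSch.stalkFunctor X' (i.base y)).obj N) :=
  (pullStalkNatIso i y).app N

theorem stalk_subsingleton_of_pullback (hT : T i) (N : X'.Modules) (y : X)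
    (h : Subsingleton (((Scheme.Modules.pullback i).obj N).presheaf.stalk y)) :
    Subsingleton (N.presheaf.stalk (i.base y)) := by
  have h1 : IsZero ((DerSch.stalkFunctor X y).obj ((Scheme.Modules.pullback i).obj N)) :=
    @ModuleCat.isZero_of_subsingleton _ _ _ h
  have h2 := h1.of_iso (pullStalkIso i N y).symm
  exact subsingleton_of_extendScalars _ (hT.stalk_surj y) (hT.nilp y)
    ((DerSch.stalkFunctor X' (i.base y)).obj N) h2

theorem stalk_subsingleton_pullback (i : X ⟶ X') (N : X'.Modules) (y : X)
    (h : Subsingleton (N.presheaf.stalk (i.base y))) :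
    Subsingleton (((Scheme.Modules.pullback i).obj N).presheaf.stalk y) := by
  have h1 : IsZero ((DerSch.stalkFunctor X' (i.base y)).obj N) :=
    @ModuleCat.isZero_of_subsingleton _ _ _ h
  have h2 := ((ModuleCat.extendScalars.{u, u, u} (i.stalkMap y).hom).map_isZero h1).of_iso
    (pullStalkIso i N y)
  exact ModuleCat.subsingleton_of_isZero h2

theorem stalk_finite_of_pullback (hT : T i) (N : X'.Modules) (y : X)
    (h : Module.Finite (X.presheaf.stalk y)
      (((Scheme.Modules.pullback i).obj N).presheaf.stalk y)) :
    Module.Finite (X'.presheaf.stalk (i.base y)) (N.presheaf.stalk (i.base y)) := by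
  have h1 : Module.Finite (X.presheaf.stalk y)
      ((DerSch.stalkFunctor X y).obj ((Scheme.Modules.pullback i).obj N)) := h
  have h2 : Module.Finite (X.presheaf.stalk y)
      ((ModuleCat.extendScalars.{u, u, u} (i.stalkMap y).hom).obj
        ((DerSch.stalkFunctor X' (i.base y)).obj N)) :=
    Module.Finite.equiv (pullStalkIso i N y).toLinearEquiv
  exact finite_of_extendScalars _ (hT.stalk_surj y) (hT.nilp y)
    ((DerSch.stalkFunctor X' (i.base y)).obj N) h2

theorem finite_stalk_of_isFiniteType (M : X.Modules) [M.IsFiniteType] (x : X) :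
    Module.Finite (X.presheaf.stalk x) (M.presheaf.stalk x) := by
  obtain ⟨U, -, hxU, n, s, hs⟩ := exists_affine_sections_span_eq_top M x
  rw [Module.finite_def, ← hs x hxU]
  exact Submodule.fg_span (Set.finite_range _)

/-- **Acyclicity above a degree descends along a thickening**, for K-flat complexes. -/
theorem isZero_homology_of_pullCx (hT : T i) (L' : CochainComplex X'.Modules ℤ)
    (hK : DCoh.IsKFlat L') (b : ℤ)
    (h : ∀ n : ℤ, b < n → IsZero (((pullCx i).obj L').homology n)) (n : ℤ) (hn : b < n) :
    IsZero (L'.homology n) := by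
  rw [isZero_iff_stalk_subsingleton]
  intro x'
  obtain ⟨y, rfl⟩ := hT.surj x'
  have h1 : ∀ k : ℤ, b < k → IsZero (((stalkCx y).obj ((pullCx i).obj L')).homology k) :=
    fun k hk => ((DerSch.stalkFunctor X y).map_isZero (h k hk)).of_iso
      ((mapHCHomologyIso (DerSch.stalkFunctor X y) k).app _)
  have h2 : ∀ k : ℤ, b < k → IsZero (((DTen.extCx (i.stalkMap y).hom).obj
      ((stalkCx (i.base y)).obj L')).homology k) := fun k hk =>
    (h1 k hk).of_iso ((HomologicalComplex.homologyFunctor _ _ k).mapIso
      (stalkCxPullIso i y L').symm)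
  have hKx := isKFlat_stalk_of_isKFlat (i.base y) L' hK
  have h3 := isZero_homology_of_extCx_nilpotent_kflat _ (hT.stalk_surj y) (hT.nilp y) _ hKx b h2
    n hn
  have h4 : IsZero ((DerSch.stalkFunctor X' (i.base y)).obj (L'.homology n)) :=
    h3.of_iso ((mapHCHomologyIso (DerSch.stalkFunctor X' (i.base y)) n).app L').symm
  exact ModuleCat.subsingleton_of_isZero h4


/-- the stalk map of `homOfSections` is surjective when the germs generate the stalk -/
theorem stalkMap_homOfSections_surjective (N : X.Modules) {I : Type u} (s : I → Γ(N, ⊤)) (x : X)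
    (hs : Submodule.span (X.presheaf.stalk x)
      (Set.range fun k => N.presheaf.germ ⊤ x trivial (s k)) = ⊤) :
    Function.Surjective (stalkMap (homOfSections N s) x) := by
  intro t
  have ht : t ∈ Submodule.span (X.presheaf.stalk x)
      (Set.range fun k => N.presheaf.germ ⊤ x trivial (s k)) := by rw [hs]; trivial
  have hle : Submodule.span (X.presheaf.stalk x)
      (Set.range fun k => N.presheaf.germ ⊤ x trivial (s k)) ≤
        stalkMapRange (homOfSections N s) x := by
    rw [Submodule.span_le]
    rintro _ ⟨k, rfl⟩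
    refine ⟨(freeM X I).presheaf.germ ⊤ x trivial ((ιFreeM X k).app ⊤ (toUnit 1)), ?_⟩
    refine (stalkMap_germ (homOfSections N s) x ⊤ trivial _).trans ?_
    have := ι_homOfSections_app_one N s k
    change N.presheaf.germ ⊤ x trivial
      ((ιFreeM X k ≫ homOfSections N s).app ⊤ (toUnit 1)) = _
    rw [this]
  exact hle ht

/-- **Generators spread along a thickening.** If `π : P ⟶ N` is surjective on the stalk at
`i y`, with `P` quasi-coherent and `i^* N` quasi-coherent of finite type, then `π` is an
epimorphism on a neighbourhood of `i y`. -/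
theorem exists_epi_restrict_of_stalk_surjective (hT : T i) (N : X'.Modules)
    [((Scheme.Modules.pullback i).obj N).IsQuasicoherent]
    [((Scheme.Modules.pullback i).obj N).IsFiniteType]
    {P : X'.Modules} [P.IsQuasicoherent] (π : P ⟶ N) (y : X)
    (hsurj : Function.Surjective (stalkMap π (i.base y))) :
    ∃ V' : X'.Opens, i.base y ∈ V' ∧ Epi ((Scheme.Modules.restrictFunctor V'.ι).map π) := by
  let Q := cokernel π
  have hQ : Subsingleton (Q.presheaf.stalk (i.base y)) := by
    let F := DerSch.stalkFunctor X' (i.base y)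
    have hepi : Epi (F.map π) := (ModuleCat.epi_iff_surjective _).2 hsurj
    have hz : IsZero (cokernel (F.map π)) := isZero_cokernel_of_epi (F.map π)
    exact ModuleCat.subsingleton_of_isZero (hz.of_iso (PreservesCokernel.iso F π))
  let G := Scheme.Modules.pullback i
  haveI : PreservesColimits G :=
    (Scheme.Modules.pullbackPushforwardAdjunction i).leftAdjoint_preservesColimits
  have e1 : G.obj Q ≅ cokernel (G.map π) := PreservesCokernel.iso G π
  haveI : (G.obj P).IsQuasicoherent := inferInstance
  haveI : (cokernel (G.map π)).IsQuasicoherent := inferInstance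
  haveI : (cokernel (G.map π)).IsFiniteType := isFiniteType_cokernel (G.map π)
  haveI : (G.obj Q).IsQuasicoherent := isQuasicoherent_of_iso e1.symm
  haveI : (G.obj Q).IsFiniteType := isFiniteType_of_epi e1.inv
  have hopen := isOpen_setOf_subsingleton_stalk (G.obj Q)
  have hy : y ∈ {w : X | Subsingleton ((G.obj Q).presheaf.stalk w)} :=
    stalk_subsingleton_pullback i Q y hQ
  let V' : X'.Opens := ⟨i.base '' {w : X | Subsingleton ((G.obj Q).presheaf.stalk w)},
    hT.isOpenMap _ hopen⟩
  refine ⟨V', ⟨y, hy, rfl⟩, ?_⟩
  let R := Scheme.Modules.restrictFunctor V'.ι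
  have hz : IsZero (R.obj Q) := by
    rw [isZero_iff_stalk_subsingleton]
    intro v
    obtain ⟨w, hw, hwv⟩ := v.2
    have h1 : Subsingleton (Q.presheaf.stalk (i.base w)) :=
      stalk_subsingleton_of_pullback hT Q w hw
    have h2 : IsZero (Q.presheaf.stalk (V'.ι v)) := by
      have : V'.ι v = i.base w := hwv.symm
      rw [this]
      exact AddCommGrpCat.isZero_of_subsingleton _
    exact AddCommGrpCat.subsingleton_of_isZero (h2.of_iso (restrictStalkIso V'.ι Q v))
  have hz2 : IsZero (cokernel (R.map π)) := hz.of_iso (PreservesCokernel.iso R π).symm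
  exact Preadditive.epi_of_isZero_cokernel _ hz2

end

end Groth.Agent.Lib.Helper28.Thick
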