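import Mathlib
import Groth.Agent.Lib.Helper28.KFlatAbs5

/-!
# Abstract K-flat calculus: `Tot(L ⊗ -)` and approximations (helper28)
-/

open CategoryTheory Limits HomologicalComplex

namespace Groth.Agent.Lib.Helper28.KFlatAbs

universe v u

variable {A : Type u} [Category.{v} A] [Abelian A]

/-- In a morphism of short exact sequences of complexes with `τ₃` an isomorphism, the first middle
term acyclic and the second middle term acyclic in degrees `≥ m`, the map `τ₁` induces
isomorphisms on `H^n` for `n > m` and an epimorphism on `H^m`. -/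
theorem approx_τ₁_of_acyclic {S₁ S₂ : ShortComplex (CochainComplex A ℤ)} (φ : S₁ ⟶ S₂)
    (hS₁ : S₁.ShortExact) (hS₂ : S₂.ShortExact) (h₁ : S₁.X₂.Acyclic) (m : ℤ)
    (h₂ : ∀ n, m ≤ n → IsZero (S₂.X₂.homology n)) [IsIso φ.τ₃] :
    (∀ n, m < n → IsIso (HomologicalComplex.homologyMap φ.τ₁ n)) ∧
      Epi (HomologicalComplex.homologyMap φ.τ₁ m) := by
  have hz₁ : ∀ i, IsZero (S₁.X₂.homology i) := fun i => by
    have := h₁ i; rwa [exactAt_iff_isZero_homology] at this
  have hrel : ∀ n : ℤ, (ComplexShape.up ℤ).Rel (n - 1) n := fun n => by simp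
  have nat : ∀ n, hS₁.δ (n - 1) n (hrel n) ≫ HomologicalComplex.homologyMap φ.τ₁ n =
      HomologicalComplex.homologyMap φ.τ₃ (n - 1) ≫ hS₂.δ (n - 1) n (hrel n) := fun n =>
    HomologicalComplex.HomologySequence.δ_naturality φ hS₁ hS₂ (n - 1) n (hrel n)
  have hi1 : ∀ n, IsIso (hS₁.δ (n - 1) n (hrel n)) := fun n =>
    hS₁.isIso_δ (n - 1) n (hrel n) (hz₁ _) (hz₁ _)
  have hi3 : ∀ n, IsIso (HomologicalComplex.homologyMap φ.τ₃ n) := fun n => inferInstance
  refine ⟨fun n hn => ?_, ?_⟩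
  · have i2 := hS₂.isIso_δ (n - 1) n (hrel n) (h₂ _ (by omega)) (h₂ _ (by omega))
    have := hi1 n
    have := hi3 (n - 1)
    have h3 : IsIso (hS₁.δ (n - 1) n (hrel n) ≫ HomologicalComplex.homologyMap φ.τ₁ n) := by
      rw [nat n]
      infer_instance
    exact IsIso.of_isIso_comp_left (hS₁.δ (n - 1) n (hrel n)) _
  · have e2 : Epi (hS₂.δ (m - 1) m (hrel m)) :=
      (hS₂.homology_exact₁ (m - 1) m (hrel m)).epi_f ((h₂ m le_rfl).eq_of_tgt _ _)
    have := hi3 (m - 1)
    have h3 : Epi (hS₁.δ (m - 1) m (hrel m) ≫ HomologicalComplex.homologyMap φ.τ₁ m) := by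
      rw [nat m]
      infer_instance
    exact epi_of_epi (hS₁.δ (m - 1) m (hrel m)) _

section KFlat

variable [HasCoproducts.{0} A] [AB4OfSize.{0} A]
  {T : A ⥤ A ⥤ A} [T.Additive] [∀ X, (T.obj X).Additive]
  [∀ K L : CochainComplex A ℤ, HasMapBifunctor K L T (.up ℤ)]

/-- If `L` is left K-flat and `Tot(L ⊗ cone φ)` is acyclic in degrees `≥ m`, then `Tot(L ⊗ φ)`
induces isomorphisms on `H^n` for `n > m` and an epimorphism on `H^m`. -/
theorem approx_mapBifunctorMap₂_of_isKFlatL {L : CochainComplex A ℤ} (hL : IsKFlatL T L)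
    {F F' : CochainComplex A ℤ} (φ : F ⟶ F') (m : ℤ)
    (h : ∀ n, m ≤ n →
      IsZero ((mapBifunctor L (CochainComplex.mappingCone φ) T (.up ℤ)).homology n)) :
    (∀ n, m < n → IsIso (HomologicalComplex.homologyMap (mapBifunctorMap (𝟙 L) φ T (.up ℤ)) n)) ∧
      Epi (HomologicalComplex.homologyMap (mapBifunctorMap (𝟙 L) φ T (.up ℤ)) m) := by
  let Φ := (T.map₂CochainComplex).obj L
  let S₁ := CochainComplex.mappingCone.triangleRotateShortComplex (𝟙 F)
  let S₂ := CochainComplex.mappingCone.triangleRotateShortComplex φ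
  let α : S₁ ⟶ S₂ :=
    { τ₁ := φ
      τ₂ := CochainComplex.mappingCone.map (𝟙 F) φ (𝟙 F) φ (by simp)
      τ₃ := 𝟙 _
      comm₁₂ := by
        dsimp [S₁, S₂, CochainComplex.mappingCone.triangleRotateShortComplex]
        exact ((CochainComplex.mappingCone.triangleMap (𝟙 F) φ (𝟙 F) φ (by simp)).comm₂).symm
      comm₂₃ := by
        dsimp [S₁, S₂, CochainComplex.mappingCone.triangleRotateShortComplex]
        have := (CochainComplex.mappingCone.triangleMap (𝟙 F) φ (𝟙 F) φ (by simp)).comm₃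
        refine this.symm.trans ?_
        congr 1 }
  have hS₁ : (S₁.map Φ).ShortExact := shortExact_tot₂ T L S₁ (fun p q =>
    ((CochainComplex.mappingCone.triangleRotateShortComplexSplitting (𝟙 F) q).map
      (T.obj (L.X p))).shortExact)
  have hS₂ : (S₂.map Φ).ShortExact := shortExact_tot₂ T L S₂ (fun p q =>
    ((CochainComplex.mappingCone.triangleRotateShortComplexSplitting φ q).map
      (T.obj (L.X p))).shortExact)
  have a₁ : (S₁.map Φ).X₂.Acyclic :=
    hL _ ((quasiIso_iff_acyclic_mappingCone (𝟙 F)).1 inferInstance)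
  have : IsIso (Φ.mapShortComplex.map α).τ₃ := by
    change IsIso (Φ.map (𝟙 _))
    infer_instance
  exact approx_τ₁_of_acyclic (Φ.mapShortComplex.map α) hS₁ hS₂ a₁ m h

end KFlat

end Groth.Agent.Lib.Helper28.KFlatAbs
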