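import Mathlib
import Groth.Agent.Lib.Helper28.KFlatAbs11
import Groth.Agent.Lib.Helper28.PerfTensor3
import Groth.Agent.Lib.Helper28.LpullPC
set_option autoImplicit false

universe u

open CategoryTheory Limits AlgebraicGeometry

attribute [local instance] HasDerivedCategory.standard

namespace Groth.Agent.Lib.Helper28.TensorApprox

open Groth.Agent.Lib.Helper28.StalkTensor Groth.Agent.Lib.Helper28.DCohRes
  Groth.Agent.Lib.Helper28.KFlatAbs Groth.Agent.Lib.Helper28.KFlatSite Groth.Agent.Lib.Helper17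
  Groth.Agent.Lib.Helper28.PerfTensor Groth.Agent.Lib.Helper28.Lpull

noncomputable section

section Site

variable {C : Type u} [SmallCategory C] {J : GrothendieckTopology C} {O : Sheaf J CommRingCat.{u}}

lemma isKFlatL_site {E : CochainComplex (ModSite.Mod O) ℤ} (hE : ModSite.IsKFlat E) :
    IsKFlatL (ModSite.tensorBi O) E :=
  isKFlatL_of_isKFlat (Tensor.flipIso O) ((isKFlat_iff E).1 hE)

/-- `E ⊗ -` preserves quasi-isomorphisms for `E` K-flat -/
theorem quasiIso_tensorCx_map_site {E : CochainComplex (ModSite.Mod O) ℤ} (hE : ModSite.IsKFlat E)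
    {F F' : CochainComplex (ModSite.Mod O) ℤ} (φ : F ⟶ F') (hφ : QuasiIso φ) :
    QuasiIso (((ModSite.tensorCx O).obj E).map φ) :=
  quasiIso_mapBifunctorMap₂_of_isKFlatL (isKFlatL_site hE) φ

/-- `E ⊗ -` and approximations, in terms of the cone -/
theorem approx_tensorCx_map_site {E : CochainComplex (ModSite.Mod O) ℤ} (hE : ModSite.IsKFlat E)
    {F F' : CochainComplex (ModSite.Mod O) ℤ} (φ : F ⟶ F') (m : ℤ)
    (h : ∀ n, m ≤ n → IsZero ((((ModSite.tensorCx O).obj E).obj
      (CochainComplex.mappingCone φ)).homology n)) :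
    (∀ n, m < n → IsIso (HomologicalComplex.homologyMap (((ModSite.tensorCx O).obj E).map φ) n)) ∧
      Epi (HomologicalComplex.homologyMap (((ModSite.tensorCx O).obj E).map φ) m) :=
  approx_mapBifunctorMap₂_of_isKFlatL (isKFlatL_site hE) φ m h

end Site

variable {X : Scheme.{u}}

theorem quasiIso_tensorCx_map {E : CochainComplex X.Modules ℤ} (hE : DCoh.IsKFlat E)
    {F F' : CochainComplex X.Modules ℤ} (φ : F ⟶ F') (hφ : QuasiIso φ) :
    QuasiIso ((DCoh.tensorCx.obj E).map φ) :=
  quasiIso_tensorCx_map_site (O := X.sheaf) hE φ hφ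

/-- **`E ⊗ -` is right t-exact up to the shift by the upper bound of `E`** -/
theorem isZero_homology_tensorCx_of_ge (E C : CochainComplex X.Modules ℤ) (hE : DCoh.IsKFlat E)
    (b : ℤ) [E.IsStrictlyLE b] (m : ℤ) (h : ∀ i : ℤ, m ≤ i → IsZero (C.homology i)) (n : ℤ)
    (hn : b + m ≤ n) : IsZero (((DCoh.tensorCx.obj E).obj C).homology n) := by
  have hle : C.IsLE (m - 1) := by
    rw [CochainComplex.isLE_iff]
    intro j hj
    rw [HomologicalComplex.exactAt_iff_isZero_homology]
    exact h j (by omega)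
  obtain ⟨Q0, β0, hQb, hQfl, hβ0⟩ :=
    Groth.Agent.Lib.Helper28.KFlatSite.exists_flat_resolution_of_isLE (O := X.sheaf) C (m - 1) hle
  let Q : CochainComplex X.Modules ℤ := Q0
  let β : Q ⟶ C := β0
  have hβ : QuasiIso β := hβ0
  haveI hQb' : Q.IsStrictlyLE (m - 1) := hQb
  have hq := quasiIso_tensorCx_map hE β hβ
  have hz : IsZero (((DCoh.tensorCx.obj E).obj Q).X n) :=
    isZero_tensorCx_X_of_isStrictlyLE E Q b (m - 1) n (by omega)
  have hz' : IsZero (((DCoh.tensorCx.obj E).obj Q).homology n) :=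
    ShortComplex.isZero_homology_of_isZero_X₂ _ hz
  have : QuasiIsoAt ((DCoh.tensorCx.obj E).map β) n := (quasiIso_iff _).1 hq n
  exact hz'.of_iso (asIso (HomologicalComplex.homologyMap ((DCoh.tensorCx.obj E).map β) n)).symm

/-- **`E ⊗ -` preserves approximations**, shifted by the upper bound of `E` -/
theorem isApprox_tensorCx_map (E : CochainComplex X.Modules ℤ) (hE : DCoh.IsKFlat E)
    (b : ℤ) [E.IsStrictlyLE b] {P K : CochainComplex X.Modules ℤ} (p : P ⟶ K) (m : ℤ)
    (h : IsApprox m (DerivedCategory.Q.map p)) :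
    IsApprox (b + m) (DerivedCategory.Q.map ((DCoh.tensorCx.obj E).map p)) := by
  have h1 : ∀ j : ℤ, m ≤ j → IsZero ((CochainComplex.mappingCone p).homology j) := fun j hj =>
    (HomologicalComplex.exactAt_iff_isZero_homology _ _).1
      (exactAt_mappingCone_of_isApprox p m h j hj)
  have h2 := approx_tensorCx_map_site (O := X.sheaf) hE p (b + m)
    (fun n hn => isZero_homology_tensorCx_of_ge E _ hE b m h1 n hn)
  refine ⟨fun i hi => ?_, ?_⟩
  · have := h2.1 i hi
    exact (NatIso.isIso_map_iff (DerivedCategory.homologyFunctorFactors X.Modules i)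
      ((DCoh.tensorCx.obj E).map p)).2 this
  · let e := DerivedCategory.homologyFunctorFactors X.Modules (b + m)
    haveI : Epi ((HomologicalComplex.homologyFunctor X.Modules (ComplexShape.up ℤ) (b + m)).map
        ((DCoh.tensorCx.obj E).map p)) := h2.2
    have hg := (NatIso.naturality_2 e ((DCoh.tensorCx.obj E).map p)).symm
    show Epi ((DerivedCategory.Q ⋙ DerivedCategory.homologyFunctor X.Modules (b + m)).map
        ((DCoh.tensorCx.obj E).map p))
    rw [hg]
    infer_instance

/-- **tensoring an approximation with a bounded above K-flat complex** -/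
theorem exists_approx_tensor (E₁ L₁ E₂ : CochainComplex X.Modules ℤ) (hE₁ : DCoh.IsKFlat E₁)
    (b₁ : ℤ) [E₁.IsStrictlyLE b₁] (m' : ℤ)
    (α : DerivedCategory.Q.obj E₂ ⟶ DerivedCategory.Q.obj L₁) (hα : IsApprox m' α) :
    ∃ β : DerivedCategory.Q.obj ((DCoh.tensorCx.obj E₁).obj E₂) ⟶
        DerivedCategory.Q.obj ((DCoh.tensorCx.obj E₁).obj L₁), IsApprox (b₁ + m') β := by
  obtain ⟨X', s, hs, g, rfl⟩ := DerivedCategory.right_fac α
  have hqs : QuasiIso s := (DerivedCategory.isIso_Q_map_iff_quasiIso (φ := s)).1 hs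
  have hqs' := quasiIso_tensorCx_map hE₁ s hqs
  have his' : IsIso (DerivedCategory.Q.map ((DCoh.tensorCx.obj E₁).map s)) := by
    rw [DerivedCategory.isIso_Q_map_iff_quasiIso]
    exact hqs'
  have h1 : IsApprox m' (DerivedCategory.Q.map g) := by
    have := hα.iso_comp (asIso (DerivedCategory.Q.map s))
    simpa using this
  have h2 := isApprox_tensorCx_map E₁ hE₁ b₁ g m' h1
  exact ⟨inv (DerivedCategory.Q.map ((DCoh.tensorCx.obj E₁).map s)) ≫
      DerivedCategory.Q.map ((DCoh.tensorCx.obj E₁).map g),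
    h2.iso_comp (asIso (DerivedCategory.Q.map ((DCoh.tensorCx.obj E₁).map s))).symm⟩

end

end Groth.Agent.Lib.Helper28.TensorApprox
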