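import Mathlib
import Groth.Agent.Lib.Helper28.TensorDelta
import Groth.Agent.Lib.Helper28.LpullPC
set_option autoImplicit false

open CategoryTheory Limits HomologicalComplex

namespace Groth.Agent.Lib.Helper28.TensorDelta

universe v u

variable {A : Type u} [Category.{v} A] [Abelian A]
  (T : A ⥤ A ⥤ A) [T.Additive] [∀ X, (T.obj X).Additive]

/-- functoriality of `Θ T E` in the complex `E` -/
noncomputable def Θmap {E₁ E₂ : CochainComplex A ℤ} (φ : E₁ ⟶ E₂) : Θ T E₁ ⟶ Θ T E₂ where
  app M := ((T.obj M).mapHomologicalComplex (ComplexShape.up ℤ)).map φ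
  naturality M N f := by
    ext n
    exact ((T.map f).naturality (φ.f n)).symm

/-- functoriality of `Φ T E p` in the complex `E` -/
noncomputable def Φmap {E₁ E₂ : CochainComplex A ℤ} (φ : E₁ ⟶ E₂) (p : ℤ) :
    Φ T E₁ p ⟶ Φ T E₂ p :=
  Functor.whiskerRight (Θmap T φ) _

attribute [local instance] HasDerivedCategory.standard

omit [T.Additive] in
open Groth.Agent.Lib.Helper28.Lpull Groth.Agent.Lib.Helper28.DCohRes in
/-- `Φmap` is an isomorphism in degrees above the vanishing range of the cone -/
theorem isIso_Φmap_app {E₁ E₂ : CochainComplex A ℤ} (φ : E₁ ⟶ E₂) (a : ℤ) (M : A)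
    (h : ∀ i : ℤ, a ≤ i →
      IsZero (((Θ T (CochainComplex.mappingCone φ)).obj M).homology i)) (j : ℤ) (hj : a < j) :
    IsIso ((Φmap T φ j).app M) := by
  let ψ := ((T.obj M).mapHomologicalComplex (ComplexShape.up ℤ)).map φ
  have h' : ∀ i : ℤ, a ≤ i → IsZero ((CochainComplex.mappingCone ψ).homology i) := fun i hi =>
    (h i hi).of_iso ((HomologicalComplex.homologyFunctor _ _ i).mapIso
      (CochainComplex.mappingCone.mapHomologicalComplexIso φ (T.obj M))).symm
  have happ := isApprox_of_isZero_homology_mappingCone ψ a h'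
  have := happ.1 j hj
  exact (NatIso.isIso_map_iff (DerivedCategory.homologyFunctorFactors A j) ψ).1 this

end Groth.Agent.Lib.Helper28.TensorDelta
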