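import Mathlib
import Groth.Agent.Lib.Helper28.Tp1
import Groth.Agent.Lib.Helper28.TensorDelta2
import Groth.Agent.Lib.Helper28.TensorApprox1
import Groth.Agent.Lib.Helper28.KFlatSite15
set_option autoImplicit false

universe u

open CategoryTheory Limits HomologicalComplex AlgebraicGeometry

attribute [local instance] HasDerivedCategory.standard

namespace Groth.Agent.Lib.Helper28.Tp

open Groth.Agent.Lib.Helper28.TensorDelta Groth.Agent.Lib.Helper28.KFlatSite
  Groth.Agent.Lib.Helper28.KFlatAbs Groth.Agent.Lib.Helper28.Lpull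
  Groth.Agent.Lib.Helper28.TensorApprox

noncomputable section

section Site

variable {C : Type u} [SmallCategory C] {J : GrothendieckTopology C} {O : Sheaf J CommRingCat.{u}}

/-- `- ⊗ K` preserves quasi-isomorphisms for `K` K-flat -/
theorem quasiIso_tensorCx_map_app_site {K : CochainComplex (ModSite.Mod O) ℤ}
    (hK : ModSite.IsKFlat K) {F F' : CochainComplex (ModSite.Mod O) ℤ} (f : F ⟶ F')
    (hf : QuasiIso f) : QuasiIso (((ModSite.tensorCx O).map f).app K) := by
  have h1 : QuasiIso (mapBifunctorMap f (𝟙 K) (ModSite.tensorBi O) (.up ℤ)) :=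
    quasiIso_mapBifunctorMap_of_isKFlat ((isKFlat_iff K).1 hK) f
  exact h1

end Site

variable {Y : Scheme.{u}}

theorem quasiIso_tensorCx_map_app {K : CochainComplex Y.Modules ℤ}
    (hK : DCoh.IsKFlat K) {F F' : CochainComplex Y.Modules ℤ} (f : F ⟶ F')
    (hf : QuasiIso f) : QuasiIso ((DCoh.tensorCx.map f).app K) :=
  quasiIso_tensorCx_map_app_site (O := Y.sheaf) hK f hf

/-- right t-exactness of `N ⊗ -` on K-flat complexes -/
theorem isZero_homology_Θ_of_ge (C : CochainComplex Y.Modules ℤ) (hC : DCoh.IsKFlat C) (a : ℤ)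
    (h : ∀ i : ℤ, a ≤ i → IsZero (C.homology i)) (N : Y.Modules) (i : ℤ) (hi : a ≤ i) :
    IsZero (((Θ (DCoh.tensorBi (X := Y)) C).obj N).homology i) := by
  let N0 : CochainComplex Y.Modules ℤ :=
    (HomologicalComplex.single Y.Modules (ComplexShape.up ℤ) 0).obj N
  have hN0 : N0.IsLE 0 := by
    rw [CochainComplex.isLE_iff]
    intro j hj
    exact HomologicalComplex.ExactAt.of_isZero
      (HomologicalComplex.isZero_single_obj_X (ComplexShape.up ℤ) 0 N j (by omega))
  obtain ⟨R0, β0, hRb, hRfl, hβ0⟩ := exists_flat_resolution_of_isLE (O := Y.sheaf) N0 0 hN0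
  let R : CochainComplex Y.Modules ℤ := R0
  let β : R ⟶ N0 := β0
  have hβ : QuasiIso β := hβ0
  haveI : R.IsStrictlyLE 0 := hRb
  have hR : DCoh.IsKFlat R := isKFlat_of_isStrictlyLE (O := Y.sheaf) R0 0 hRb hRfl
  have h1 : QuasiIso ((DCoh.tensorCx.map β).app C) := quasiIso_tensorCx_map_app hC β hβ
  have h2 : IsZero (((DCoh.tensorCx.obj R).obj C).homology i) :=
    isZero_homology_tensorCx_of_ge R C hR 0 a h i (by omega)
  have : QuasiIsoAt ((DCoh.tensorCx.map β).app C) i := (quasiIso_iff _).1 h1 i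
  have h3 : IsZero (((DCoh.tensorCx.obj N0).obj C).homology i) :=
    h2.of_iso (asIso (HomologicalComplex.homologyMap ((DCoh.tensorCx.map β).app C) i)).symm
  exact h3.of_iso ((HomologicalComplex.homologyFunctor _ _ i).mapIso
    ((ΘIso (DCoh.tensorBi (X := Y)) C).app N))

/-- `Φmap` of a chain map between K-flat complexes whose cone is acyclic in degrees `≥ a` is an
isomorphism in degrees `> a` -/
theorem isIso_Φmap_of_ge {G₁ G₂ : CochainComplex Y.Modules ℤ} (hG₁ : DCoh.IsKFlat G₁)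
    (hG₂ : DCoh.IsKFlat G₂) (φ : G₁ ⟶ G₂) (a : ℤ)
    (h : ∀ i : ℤ, a ≤ i → IsZero ((CochainComplex.mappingCone φ).homology i)) (j : ℤ)
    (hj : a < j) : IsIso (Φmap (DCoh.tensorBi (X := Y)) φ j) := by
  have hC : DCoh.IsKFlat (CochainComplex.mappingCone φ) := isKFlat_mappingCone' φ hG₁ hG₂
  have : ∀ M : Y.Modules, IsIso ((Φmap (DCoh.tensorBi (X := Y)) φ j).app M) := fun M =>
    isIso_Φmap_app (DCoh.tensorBi (X := Y)) φ a M
      (fun i hi => isZero_homology_Θ_of_ge _ hC a h M i hi) j hj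
  exact NatIso.isIso_of_isIso_app _

/-- **transfer**: an approximation in degree `a` between K-flat complexes identifies the functors
`M ↦ H^j(M ⊗ -)` for `j > a` -/
theorem nonempty_Φ_iso_of_isApprox (G₁ G₂ : CochainComplex Y.Modules ℤ) (hG₁ : DCoh.IsKFlat G₁)
    (hG₂ : DCoh.IsKFlat G₂) (α : DerivedCategory.Q.obj G₁ ⟶ DerivedCategory.Q.obj G₂) (a : ℤ)
    (hα : Groth.Agent.Lib.Helper28.DCohRes.IsApprox a α) (j : ℤ) (hj : a < j) :
    Nonempty (Φ (DCoh.tensorBi (X := Y)) G₁ j ≅ Φ (DCoh.tensorBi (X := Y)) G₂ j) := by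
  obtain ⟨X', s, hs, g, hfac⟩ := DerivedCategory.right_fac α
  obtain ⟨X0, r0, hX0, -, hr0, -⟩ := exists_kflat_resolution (O := Y.sheaf) X'
  let X'' : CochainComplex Y.Modules ℤ := X0
  let r : X'' ⟶ X' := r0
  have hr : QuasiIso r := hr0
  have hX'' : DCoh.IsKFlat X'' := hX0
  have hir : IsIso (DerivedCategory.Q.map r) := by
    rw [DerivedCategory.isIso_Q_map_iff_quasiIso]
    exact hr
  have hi1 : IsIso (DerivedCategory.Q.map (r ≫ s)) := by
    rw [Functor.map_comp]
    infer_instance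
  have hq1 : QuasiIso (r ≫ s) := by
    rw [← DerivedCategory.isIso_Q_map_iff_quasiIso]
    exact hi1
  have hz1 : ∀ i : ℤ, IsZero ((CochainComplex.mappingCone (r ≫ s)).homology i) :=
    (quasiIso_iff_isZero_homology_mappingCone (r ≫ s)).1 hq1
  have hfac2 : DerivedCategory.Q.map (r ≫ g) =
      (@asIso _ _ _ _ (DerivedCategory.Q.map (r ≫ s)) hi1).hom ≫ α := by
    rw [hfac, asIso_hom, Functor.map_comp, Functor.map_comp, Category.assoc,
      IsIso.hom_inv_id_assoc]
  have happ : Groth.Agent.Lib.Helper28.DCohRes.IsApprox a (DerivedCategory.Q.map (r ≫ g)) := by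
    rw [hfac2]
    exact hα.iso_comp _
  have hz2 : ∀ i : ℤ, a ≤ i → IsZero ((CochainComplex.mappingCone (r ≫ g)).homology i) :=
    fun i hi => (HomologicalComplex.exactAt_iff_isZero_homology _ _).1
      (Groth.Agent.Lib.Helper28.DCohRes.exactAt_mappingCone_of_isApprox (r ≫ g) a happ i hi)
  have i1 := isIso_Φmap_of_ge hX'' hG₁ (r ≫ s) (j - 1) (fun i _ => hz1 i) j (by omega)
  have i2 := isIso_Φmap_of_ge hX'' hG₂ (r ≫ g) a hz2 j hj
  exact ⟨(asIso (Φmap (DCoh.tensorBi (X := Y)) (r ≫ s) j)).symm ≪≫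
    asIso (Φmap (DCoh.tensorBi (X := Y)) (r ≫ g) j)⟩

end

end Groth.Agent.Lib.Helper28.Tp
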