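import Mathlib
import Groth.Agent.Lib.Helper28.Tp2
import Groth.Agent.Lib.Helper28.KFlatSite14
import Groth.Agent.Lib.Helper28.DCohRes22
import Groth.Agent.Lib.Helper28.DCohTilde3
import Groth.Agent.Lib.Helper17.FlatBridge
set_option autoImplicit false

universe u

open CategoryTheory Limits HomologicalComplex AlgebraicGeometry

attribute [local instance] HasDerivedCategory.standard

namespace Groth.Agent.Lib.Helper28.Tp

open Groth.Agent.Lib.Helper28.TensorDelta Groth.Agent.Lib.Helper28.KFlatSite
  Groth.Agent.Lib.Helper28.KFlatAbs Groth.Agent.Lib.Helper28.Lpull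
  Groth.Agent.Lib.Helper28.TensorApprox Groth.Agent.Lib.Helper28.DCohRes
  Groth.Agent.Lib.Helper28.DCohTilde

noncomputable section

/-- an additive right exact functor commutes with `opcycles` -/
def mapOpcyclesIso {A B : Type*} [Category A] [Abelian A] [Category B] [Abelian B]
    (F : A ⥤ B) [F.Additive] [PreservesFiniteColimits F] (K : CochainComplex A ℤ) (q : ℤ) :
    ((F.mapHomologicalComplex (ComplexShape.up ℤ)).obj K).opcycles q ≅ F.obj (K.opcycles q) :=
  IsColimit.coconePointUniqueUpToIso
    (((F.mapHomologicalComplex (ComplexShape.up ℤ)).obj K).opcyclesIsCokernel (q - 1) q (by simp))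
    (CokernelCofork.mapIsColimit _ (K.opcyclesIsCokernel (q - 1) q (by simp)) F)

section Site

variable {C : Type u} [SmallCategory C] {J : GrothendieckTopology C} {O : Sheaf J CommRingCat.{u}}

theorem preservesMono_Φ_iff_isFlat_opcycles_site (E : CochainComplex (ModSite.Mod O) ℤ)
    (hEf : ∀ i : ℤ, ModSite.IsFlat (E.X i)) (q : ℤ) :
    (Φ (ModSite.tensorBi O) E q).PreservesMonomorphisms ↔ ModSite.IsFlat (E.opcycles q) := by
  rw [preservesMono_iff_opcycles q
      (fun n => (isFlat_iff_flip_preservesMono (E.X n)).1 (hEf n)),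
    ← isFlat_iff_flip_preservesMono]

end Site

variable {Y : Scheme.{u}}

/-- `M ↦ H^q(M ⊗ E)` preserves monomorphisms iff `opcycles^q(E)` is flat, for a complex `E` of
flat modules -/
theorem preservesMono_Φ_iff_isFlat_opcycles (E : CochainComplex Y.Modules ℤ)
    (hEf : ∀ i : ℤ, FlatMod.IsFlat (E.X i)) (q : ℤ) :
    (Φ (DCoh.tensorBi (X := Y)) E q).PreservesMonomorphisms ↔ FlatMod.IsFlat (E.opcycles q) := by
  rw [Groth.Agent.Lib.Helper17.FlatBridge.isFlat_iff]
  exact preservesMono_Φ_iff_isFlat_opcycles_site (O := Y.sheaf) E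
    (fun i => (Groth.Agent.Lib.Helper17.FlatBridge.isFlat_iff _).1 (hEf i)) q

/-- flatness of `opcycles` restricts to open subschemes -/
theorem isFlat_opcycles_resCx {U : Scheme.{u}} (g : U ⟶ Y) [IsOpenImmersion g]
    (E : CochainComplex Y.Modules ℤ) (q : ℤ) (h : FlatMod.IsFlat (E.opcycles q)) :
    FlatMod.IsFlat (((resCx g).obj E).opcycles q) :=
  isFlat_of_iso (mapOpcyclesIso (Scheme.Modules.restrictFunctor g) E q).symm
    (isFlat_restrict g h)

/-- flatness of the `opcycles` of `M~` -/
theorem flat_opcycles_of_isFlat_tildeCx {A : CommRingCat.{u}}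
    (M : CochainComplex (ModuleCat.{u} A) ℤ) (q : ℤ)
    (h : FlatMod.IsFlat ((((tilde.functor A).mapHomologicalComplex
      (ComplexShape.up ℤ)).obj M).opcycles q)) :
    Module.Flat A (M.opcycles q) :=
  (isFlat_tilde_iff (M.opcycles q)).1
    (isFlat_of_iso (mapOpcyclesIso (tilde.functor A) M q) h)

end

end Groth.Agent.Lib.Helper28.Tp
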