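import Mathlib
import Groth.Agent.Lib.Helper28.Th3
import Groth.Agent.Lib.Helper28.Tp3
import Groth.Agent.Lib.Helper28.LpullPerfect
import Groth.Agent.Lib.Helper28.DCohRes34
import Groth.Agent.Lib.Helper28.DCohRes30
import Groth.Agent.Lib.Helper28.MatCx2
set_option autoImplicit false

universe u

open CategoryTheory Limits AlgebraicGeometry TopologicalSpace

attribute [local instance] HasDerivedCategory.standard

namespace Groth.Agent.Lib.Helper28.Thick

open Groth.Agent.Lib.Helper29.QCoh Groth.Agent.Lib.Helper28.StalkTensor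
  Groth.Agent.Lib.Helper28.DCohRes Groth.Agent.Lib.Helper28.Lpull Groth.Agent.Lib.Helper28.Tp

noncomputable section

variable {X X' : Scheme.{u}}

/-- data for the induction: a K-flat complex on a thickening, acyclic above `b`, whose pullback
is pseudo-coherent -/
structure Dat (i : X ⟶ X') (b : ℤ) (L : CochainComplex X'.Modules ℤ) : Prop where
  hT : T i
  kflat : DCoh.IsKFlat L
  acyc : ∀ n : ℤ, b < n → IsZero (L.homology n)
  pc : ∀ m' : ℤ, DCoh.IsPseudoCoherentD m' (DerivedCategory.Q.obj ((pullCx i).obj L))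

variable {i : X ⟶ X'} {b : ℤ} {L : CochainComplex X'.Modules ℤ}

theorem Dat.restrict (h : Dat i b L) (V' : X'.Opens) :
    Dat (i ∣_ V') b ((resCx V'.ι).obj L) := by
  refine ⟨h.hT.restrict V', isKFlat_resCx V'.ι L h.kflat, fun n hn => ?_, fun m' => ?_⟩
  · exact ((Scheme.Modules.restrictFunctor V'.ι).map_isZero (h.acyc n hn)).of_iso
      ((mapHCHomologyIso (Scheme.Modules.restrictFunctor V'.ι) n).app L)
  · have h1 := isPseudoCoherentD_resD (h.pc m') (i ⁻¹ᵁ V').ι
    exact isPseudoCoherentD_of_iso
      ((resDQ (i ⁻¹ᵁ V').ι).app _ ≪≫ DerivedCategory.Q.mapIso (pullRestrictCxIso i V' L)) h1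

theorem Dat.mono (h : Dat i b L) {b' : ℤ} (hb : b ≤ b') : Dat i b' L :=
  ⟨h.hT, h.kflat, fun n hn => h.acyc n (by omega), h.pc⟩

/-- strictness -/
def Strict (b : ℤ) (L : CochainComplex X'.Modules ℤ) : Prop := ∀ n : ℤ, b < n → IsZero (L.X n)

theorem Strict.restrict (h : Strict b L) (V' : X'.Opens) : Strict b ((resCx V'.ι).obj L) :=
  fun n hn => (Scheme.Modules.restrictFunctor V'.ι).map_isZero (h n hn)

/-- the top cohomology commutes with pullback, for a complex strictly bounded above -/
def topHomologyPullIso (i : X ⟶ X') (hs : Strict b L) :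
    ((pullCx i).obj L).homology b ≅ (Scheme.Modules.pullback i).obj (L.homology b) := by
  haveI : PreservesColimits (Scheme.Modules.pullback i) :=
    (Scheme.Modules.pullbackPushforwardAdjunction i).leftAdjoint_preservesColimits
  have h1 : IsIso (((pullCx i).obj L).homologyι b) :=
    ((pullCx i).obj L).isIso_homologyι b (b + 1) (by simp)
      (((Scheme.Modules.pullback i).map_isZero (hs (b + 1) (by omega))).eq_of_tgt _ _)
  have h2 : IsIso (L.homologyι b) :=
    L.isIso_homologyι b (b + 1) (by simp) ((hs (b + 1) (by omega)).eq_of_tgt _ _)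
  exact asIso (((pullCx i).obj L).homologyι b) ≪≫
    mapOpcyclesIso (Scheme.Modules.pullback i) L b ≪≫
    (Scheme.Modules.pullback i).mapIso (asIso (L.homologyι b)).symm

theorem Dat.isQuasicoherent_isFiniteType (h : Dat i b L) (hs : Strict b L) :
    ((Scheme.Modules.pullback i).obj (L.homology b)).IsQuasicoherent ∧
      ((Scheme.Modules.pullback i).obj (L.homology b)).IsFiniteType := by
  let E := DerivedCategory.Q.obj ((pullCx i).obj L)
  let e : DCoh.HD E b ≅ (Scheme.Modules.pullback i).obj (L.homology b) :=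
    (DerivedCategory.homologyFunctorFactors X.Modules b).app _ ≪≫ topHomologyPullIso i hs
  have hz : ∀ n : ℤ, b < n → IsZero (DCoh.HD E n) := fun n hn => by
    refine IsZero.of_iso ?_ ((DerivedCategory.homologyFunctorFactors X.Modules n).app _)
    exact (HomologicalComplex.ExactAt.of_isZero
      ((Scheme.Modules.pullback i).map_isZero (hs n hn))).isZero_homology
  have hq : (DCoh.HD E b).IsQuasicoherent :=
    isQuasicoherent_HD_of_isPseudoCoherentD (h.pc (b - 1)) b (by omega)
  exact ⟨isQuasicoherent_of_iso e, isFiniteType_of_isPseudoCoherentD (h.pc b) hz e⟩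

/-- finitely many germs of a module come from sections over a common open neighbourhood -/
lemma exists_sections_of_germs_module (M : X.Modules) (x : X) {J : Type} [Finite J]
    (f : J → M.presheaf.stalk x) :
    ∃ (U : X.Opens) (hx : x ∈ U) (s : J → Γ(M, U)), ∀ j, M.presheaf.germ U x hx (s j) = f j := by
  classical
  have := Fintype.ofFinite J
  choose V hV s hs using fun j => M.presheaf.exists_germ_eq (x := x) (f j)
  refine ⟨Finset.univ.inf V, Groth.Agent.Lib.Helper28.MatCx.mem_finset_inf_opens x _ V hV,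
    fun j => res M (Finset.inf_le (Finset.mem_univ j)) (s j), fun j => ?_⟩
  rw [germ_res]
  exact hs j

/-- a module with finitely generated stalk at `x` receives, near `x`, a map from a finite free
module which is surjective on the stalk at `x` -/
theorem exists_hom_stalk_surjective (M : X.Modules) (x : X)
    (hfin : Module.Finite (X.presheaf.stalk x) (M.presheaf.stalk x)) :
    ∃ (V : X.Opens) (hx : x ∈ V) (n : ℕ)
      (π : freeM (V : Scheme.{u}) (ULift.{u} (Fin n)) ⟶ M.restrict V.ι),
      Function.Surjective (stalkMap π ⟨x, hx⟩) := by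
  obtain ⟨n, h, hh⟩ := Module.Finite.exists_fin (R := X.presheaf.stalk x)
    (M := M.presheaf.stalk x)
  obtain ⟨V, hx, t, ht⟩ := exists_sections_of_germs_module M x h
  let s : ULift.{u} (Fin n) → Γ(M.restrict V.ι, ⊤) := fun k =>
    (res M (Scheme.Opens.ι_image_top V).le (t k.down) : Γ(M, V.ι ''ᵁ ⊤))
  refine ⟨V, hx, n, homOfSections (M.restrict V.ι) s, ?_⟩
  apply stalkMap_homOfSections_surjective
  rw [span_germ_restrict_eq_top_iff V.ι M ⟨x, hx⟩ ⊤ trivial]
  have h2 : (fun k : ULift.{u} (Fin n) => M.presheaf.germ (V.ι ''ᵁ ⊤) (V.ι ⟨x, hx⟩)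
      ⟨⟨x, hx⟩, trivial, rfl⟩ (res M (Scheme.Opens.ι_image_top V).le (t k.down))) =
      fun k : ULift.{u} (Fin n) => h k.down := by
    funext k
    rw [← ht k.down]
    exact germ_res M (Scheme.Opens.ι_image_top V).le (V.ι ⟨x, hx⟩) _ _
  rw [h2]
  have h3 : Submodule.span (X.presheaf.stalk x)
      (Set.range fun k : ULift.{u} (Fin n) => h k.down) = ⊤ := by
    rw [eq_top_iff, ← hh]
    apply Submodule.span_mono
    rintro _ ⟨k, rfl⟩
    exact ⟨⟨k⟩, rfl⟩
  exact h3

end

end Groth.Agent.Lib.Helper28.Thick
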