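import Mathlib
import Groth.Agent.Lib.Helper28.Th4
import Groth.Agent.Lib.Helper28.LpullPC
import Groth.Agent.Lib.Helper28.PerfTensor3
set_option autoImplicit false

universe u

open CategoryTheory Limits AlgebraicGeometry TopologicalSpace

attribute [local instance] HasDerivedCategory.standard

namespace Groth.Agent.Lib.Helper28.Thick

open Groth.Agent.Lib.Helper29.QCoh Groth.Agent.Lib.Helper28.StalkTensor
  Groth.Agent.Lib.Helper28.DCohRes Groth.Agent.Lib.Helper28.Lpull Groth.Agent.Lib.Helper28.Tp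

noncomputable section

variable {X X' : Scheme.{u}}

/-- **Lemma A**: global cone step -/
theorem pc_of_singleToCx (m : ℤ) {i : X ⟶ X'} {b : ℤ} {L : CochainComplex X'.Modules ℤ}
    (h : Dat i b L) {P : X'.Modules} (hP : FlatMod.IsFinLocFree P)
    (φ : P ⟶ L.cycles b) (hφ : IsApprox b (DerivedCategory.Q.map (singleToCx L b φ)))
    (IH : ∀ C : CochainComplex X'.Modules ℤ, Dat i (b - 1) C →
      DCoh.IsPseudoCoherentD m (DerivedCategory.Q.obj C)) :
    DCoh.IsPseudoCoherentD m (DerivedCategory.Q.obj L) := by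
  let s := singleToCx L b φ
  have hSP := isStrictlyPerfect_single' hP b
  have hT := DerivedCategory.mappingCone_triangle_distinguished s
  let T := DerivedCategory.Q.mapTriangle.obj (CochainComplex.mappingCone.triangle s)
  have hC : Dat i (b - 1) (CochainComplex.mappingCone s) := by
    refine ⟨h.hT, isKFlat_mappingCone' s (isKFlat_of_isStrictlyPerfect _ hSP) h.kflat,
      fun n hn => ?_, fun m' => ?_⟩
    · have hex := exactAt_mappingCone_of_isApprox s b hφ n (by omega)
      rwa [HomologicalComplex.exactAt_iff_isZero_homology] at hex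
    · have hT' := DerivedCategory.mappingCone_triangle_distinguished ((pullCx i).map s)
      let T' := DerivedCategory.Q.mapTriangle.obj
        (CochainComplex.mappingCone.triangle ((pullCx i).map s))
      have hSP' := isStrictlyPerfect_pullCx i _ hSP
      have h₁ : DCoh.IsPseudoCoherentD (m' + 1) T'.obj₁ :=
        isPseudoCoherentD_of_glob _ (𝟙 _) hSP' (isApprox_id _ _)
      have h₂ : DCoh.IsPseudoCoherentD m' T'.obj₂ := h.pc m'
      have h₃ := (isPseudoCoherentD_triangle m' T' hT').1 h₁ h₂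
      exact isPseudoCoherentD_of_iso
        (DerivedCategory.Q.mapIso (pullCxMappingConeIso i s)).symm h₃
  have h₃ := IH _ hC
  have h₁ : DCoh.IsPseudoCoherentD m T.obj₁ :=
    isPseudoCoherentD_of_glob _ (𝟙 _) hSP (isApprox_id m _)
  exact (isPseudoCoherentD_triangle m T hT).2.1 h₁ h₃

/-- **Lemma B**: step with a global epimorphism onto the top cohomology -/
theorem pc_of_epi_top (m : ℤ) {i : X ⟶ X'} {b : ℤ} {L : CochainComplex X'.Modules ℤ}
    (h : Dat i b L) {P : X'.Modules} (hP : FlatMod.IsFinLocFree P)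
    (π : P ⟶ L.homology b) [Epi π]
    (IH : ∀ {Y Y' : Scheme.{u}} (i' : Y ⟶ Y') (C : CochainComplex Y'.Modules ℤ),
      Dat i' (b - 1) C → DCoh.IsPseudoCoherentD m (DerivedCategory.Q.obj C)) :
    DCoh.IsPseudoCoherentD m (DerivedCategory.Q.obj L) := by
  have hex : ∀ n, b < n → L.ExactAt n := fun n hn => by
    rw [HomologicalComplex.exactAt_iff_isZero_homology]
    exact h.acyc n hn
  refine isPseudoCoherentD_of_locally fun y => ?_
  obtain ⟨V, hyV, φ, hφ⟩ := exists_local_singleToCx L b hex hP π y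
  refine ⟨V, V.ι, inferInstance, by rw [Scheme.Opens.range_ι]; exact hyV, ?_⟩
  have := pc_of_singleToCx m (h.restrict V) (isFinLocFree_restrict V.ι hP) φ hφ
    (fun C hC => IH _ C hC)
  exact isPseudoCoherentD_of_iso ((resDQ V.ι).app L).symm this

/-- **Lemma C**: step with a map onto the top cohomology which is surjective on one stalk -/
theorem pc_of_stalk_surjective (m : ℤ) {i : X ⟶ X'} {b : ℤ} {L : CochainComplex X'.Modules ℤ}
    (h : Dat i b L) (hs : Strict b L) {P : X'.Modules} (hP : FlatMod.IsFinLocFree P)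
    (π : P ⟶ L.homology b) (y : X) (hsurj : Function.Surjective (stalkMap π (i.base y)))
    (IH : ∀ {Y Y' : Scheme.{u}} (i' : Y ⟶ Y') (C : CochainComplex Y'.Modules ℤ),
      Dat i' (b - 1) C → DCoh.IsPseudoCoherentD m (DerivedCategory.Q.obj C)) :
    ∃ V' : X'.Opens, i.base y ∈ V' ∧
      DCoh.IsPseudoCoherentD m ((resD V'.ι).obj (DerivedCategory.Q.obj L)) := by
  obtain ⟨hq, hf⟩ := h.isQuasicoherent_isFiniteType hs
  haveI := hq
  haveI := hf
  haveI : P.IsQuasicoherent := isQuasicoherent_of_isFinLocFree hP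
  obtain ⟨V', hyV', hepi⟩ := exists_epi_restrict_of_stalk_surjective h.hT (L.homology b) π y hsurj
  refine ⟨V', hyV', ?_⟩
  let ε := ((mapHCHomologyIso (Scheme.Modules.restrictFunctor V'.ι) b).app L).symm
  haveI : Epi ((Scheme.Modules.restrictFunctor V'.ι).map π ≫ ε.hom) := epi_comp _ _
  have := pc_of_epi_top m (h.restrict V') (isFinLocFree_restrict V'.ι hP)
    ((Scheme.Modules.restrictFunctor V'.ι).map π ≫ ε.hom) IH
  exact isPseudoCoherentD_of_iso ((resDQ V'.ι).app L).symm this

/-- **Lemma D**: the strict case, local at a point of the thickening -/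
theorem pc_of_strict (m : ℤ) {i : X ⟶ X'} {b : ℤ} {L : CochainComplex X'.Modules ℤ}
    (h : Dat i b L) (hs : Strict b L) (y : X)
    (IH : ∀ {Y Y' : Scheme.{u}} (i' : Y ⟶ Y') (C : CochainComplex Y'.Modules ℤ),
      Dat i' (b - 1) C → DCoh.IsPseudoCoherentD m (DerivedCategory.Q.obj C)) :
    ∃ (U : Scheme.{u}) (j : U ⟶ X') (_ : IsOpenImmersion j), i.base y ∈ Set.range j.base ∧
      DCoh.IsPseudoCoherentD m ((resD j).obj (DerivedCategory.Q.obj L)) := by
  obtain ⟨hq, hf⟩ := h.isQuasicoherent_isFiniteType hs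
  haveI := hf
  have hfin := stalk_finite_of_pullback h.hT (L.homology b) y (finite_stalk_of_isFiniteType _ y)
  obtain ⟨V₁, hx₁, n, π, hπ⟩ := exists_hom_stalk_surjective (L.homology b) (i.base y) hfin
  have h₁ := h.restrict V₁
  have hs₁ := hs.restrict V₁
  let y₁ : (i ⁻¹ᵁ V₁ : Scheme.{u}) := ⟨y, hx₁⟩
  have hy₁ : (i ∣_ V₁).base y₁ = ⟨i.base y, hx₁⟩ := Subtype.ext (morphismRestrict_base_coe i V₁ y₁)
  let ε := ((mapHCHomologyIso (Scheme.Modules.restrictFunctor V₁.ι) b).app L).symm
  let π₁ : freeM (V₁ : Scheme.{u}) (ULift.{u} (Fin n)) ⟶ ((resCx V₁.ι).obj L).homology b :=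
    π ≫ ε.hom
  have hπ₁ : Function.Surjective (stalkMap π₁ ((i ∣_ V₁).base y₁)) := by
    rw [hy₁]
    intro t
    obtain ⟨t', ht'⟩ := (epi_iff_stalkMap_surjective ε.hom).1 inferInstance ⟨i.base y, hx₁⟩ t
    obtain ⟨t'', ht''⟩ := hπ t'
    refine ⟨t'', ?_⟩
    refine (stalkMap_comp_apply π ε.hom _ t'').trans ?_
    rw [ht'']
    exact ht'
  obtain ⟨V₂, hyV₂, hpc⟩ := pc_of_stalk_surjective m h₁ hs₁ (isFinLocFree_freeM _) π₁ y₁ hπ₁ IH
  refine ⟨V₂, V₂.ι ≫ V₁.ι, inferInstance, ?_, ?_⟩
  · refine ⟨⟨(i ∣_ V₁).base y₁, hyV₂⟩, ?_⟩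
    change V₁.ι.base (V₂.ι.base ⟨(i ∣_ V₁).base y₁, hyV₂⟩) = _
    change V₁.ι.base ((i ∣_ V₁).base y₁) = _
    rw [hy₁]
    rfl
  · exact isPseudoCoherentD_of_iso
      ((resD V₂.ι).mapIso ((resDQ V₁.ι).app L).symm ≪≫
        ((resDComp V₂.ι V₁.ι).app (DerivedCategory.Q.obj L)).symm) hpc

/-- **The induction.** -/
theorem pc_of_dat (m : ℤ) : ∀ (k : ℕ) {X X' : Scheme.{u}} (i : X ⟶ X')
    (L : CochainComplex X'.Modules ℤ) (b : ℤ), b + 1 ≤ m + k → Dat i b L →
    DCoh.IsPseudoCoherentD m (DerivedCategory.Q.obj L) := by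
  have base : ∀ {X X' : Scheme.{u}} (i : X ⟶ X') (L : CochainComplex X'.Modules ℤ) (b : ℤ),
      b + 1 ≤ m → Dat i b L → DCoh.IsPseudoCoherentD m (DerivedCategory.Q.obj L) := by
    intro X X' i L b hb h
    exact isPseudoCoherentD_of_isZero_homology (fun n hn => IsZero.of_iso (h.acyc n (by omega))
      ((DerivedCategory.homologyFunctorFactors X'.Modules n).app L))
  intro k
  induction k with
  | zero =>
    intro X X' i L b hb h
    exact base i L b (by simpa using hb) h
  | succ k ih =>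
    intro X X' i L b hb h
    by_cases hbm : b + 1 ≤ m
    · exact base i L b hbm h
    · obtain ⟨F', q, hKF, hSLE, hq⟩ := PerfTensor.exists_kflat_resolution_isStrictlyLE L b
        (fun n hn => (h.acyc n hn).of_iso
          ((DerivedCategory.homologyFunctorFactors X'.Modules n).app L))
      have hs : Strict b F' := fun n hn => CochainComplex.isZero_of_isStrictlyLE F' b n hn
      have hq' : IsIso (DerivedCategory.Q.map q) := by
        rw [DerivedCategory.isIso_Q_map_iff_quasiIso]
        exact hq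
      have hpq : IsIso (DerivedCategory.Q.map ((pullCx i).map q)) := by
        rw [DerivedCategory.isIso_Q_map_iff_quasiIso]
        exact quasiIso_pullCx_map i q hKF h.kflat hq
      have hF : Dat i b F' := by
        refine ⟨h.hT, hKF, fun n hn => ?_, fun m' => ?_⟩
        · have : IsIso (HomologicalComplex.homologyMap q n) := by
            rw [quasiIso_iff] at hq
            have := hq n
            rwa [quasiIsoAt_iff_isIso_homologyMap] at this
          exact (h.acyc n hn).of_iso (asIso (HomologicalComplex.homologyMap q n))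
        · exact isPseudoCoherentD_of_iso
            (asIso (DerivedCategory.Q.map ((pullCx i).map q))).symm (h.pc m')
      have hpc : DCoh.IsPseudoCoherentD m (DerivedCategory.Q.obj F') := by
        refine isPseudoCoherentD_of_locally fun x' => ?_
        obtain ⟨y, rfl⟩ := h.hT.surj x'
        exact pc_of_strict m hF hs y
          (fun i' C hC => ih i' C (b - 1) (by push_cast at hb; omega) hC)
      exact isPseudoCoherentD_of_iso (asIso (DerivedCategory.Q.map q)) hpc

lemma stalk_subsingleton_of_isZero_restrict (M : X.Modules) {U : Scheme.{u}} (j : U ⟶ X)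
    [IsOpenImmersion j] (hz : IsZero (M.restrict j)) (u : U) :
    Subsingleton (M.presheaf.stalk (j.base u)) := by
  have h1 : Subsingleton ((M.restrict j).presheaf.stalk u) :=
    (isZero_iff_stalk_subsingleton (M.restrict j)).1 hz u
  have h2 : IsZero ((M.restrict j).presheaf.stalk u) := AddCommGrpCat.isZero_of_subsingleton _
  exact AddCommGrpCat.subsingleton_of_isZero (h2.of_iso (restrictStalkIso j M u).symm)

lemma isZero_restrict_of_stalk (M : X.Modules) (V : X.Opens)
    (h : ∀ v : V, Subsingleton (M.presheaf.stalk (V.ι.base v))) : IsZero (M.restrict V.ι) := by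
  rw [isZero_iff_stalk_subsingleton]
  intro v
  have h2 : IsZero (M.presheaf.stalk (V.ι.base v)) :=
    @AddCommGrpCat.isZero_of_subsingleton _ (h v)
  exact AddCommGrpCat.subsingleton_of_isZero (h2.of_iso (restrictStalkIso V.ι M v))

/-- pseudo-coherence descends along a stalkwise finite order thickening -/
theorem isPseudoCoherentD_of_Lpull_of_T (i : X ⟶ X')
    (hT : T i) [DCoh.HasLpull i] (K' : DCoh.D X')
    (hK : ∀ m : ℤ, DCoh.IsPseudoCoherentD m ((DCoh.Lpull i).obj K')) (m : ℤ) :
    DCoh.IsPseudoCoherentD m K' := by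
  obtain ⟨G, hG, ⟨eG⟩⟩ := exists_kflat_rep K'
  have hpc : ∀ m' : ℤ, DCoh.IsPseudoCoherentD m'
      (DerivedCategory.Q.obj ((pullCx i).obj G)) := fun m' =>
    isPseudoCoherentD_of_iso ((DCoh.Lpull i).mapIso eG.symm ≪≫ LpullIso i G hG) (hK m')
  refine isPseudoCoherentD_of_locally fun x' => ?_
  obtain ⟨y, rfl⟩ := hT.surj x'
  obtain ⟨U, j, hj, hy, P, α, hP, hα⟩ := (isPseudoCoherentD_iff 0 _).1 (hpc 0) y
  obtain ⟨⟨a₁, b₁, hv⟩, -⟩ := hP
  let b := max 0 b₁
  have hz : ∀ n : ℤ, b < n → IsZero ((((pullCx i).obj G).homology n).restrict j) := by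
    intro n hn
    have hn0 : (0 : ℤ) < n := lt_of_le_of_lt (le_max_left 0 b₁) hn
    have hn1 : b₁ < n := lt_of_le_of_lt (le_max_right 0 b₁) hn
    have h1 : IsZero (DCoh.HD (DerivedCategory.Q.obj P) n) :=
      IsZero.of_iso ((HomologicalComplex.ExactAt.of_isZero (hv n (Or.inr hn1))).isZero_homology)
        ((DerivedCategory.homologyFunctorFactors _ n).app P)
    haveI := hα.1 n hn0
    have h3 : IsZero (DCoh.HD ((resD j).obj (DerivedCategory.Q.obj ((pullCx i).obj G))) n) :=
      h1.of_iso (asIso ((DerivedCategory.homologyFunctor _ n).map α)).symm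
    have h4 := h3.of_iso (HDresDIso j _ n).symm
    exact h4.of_iso ((Scheme.Modules.restrictFunctor j).mapIso
      ((DerivedCategory.homologyFunctorFactors _ n).app ((pullCx i).obj G))).symm
  let W : X.Opens := j.opensRange
  have hyW : y ∈ W := hy
  let V' : X'.Opens := ⟨i.base '' (W : Set X), hT.isOpenMap _ W.2⟩
  have hyV' : i.base y ∈ V' := ⟨y, hyW, rfl⟩
  have hD : Dat (i ∣_ V') b ((resCx V'.ι).obj G) := by
    refine ⟨hT.restrict V', isKFlat_resCx V'.ι G hG, ?_, fun m' => ?_⟩
    · refine isZero_homology_of_pullCx (hT.restrict V') _ (isKFlat_resCx V'.ι G hG) b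
        (fun n hn => ?_)
      have h5 : IsZero ((((pullCx i).obj G).homology n).restrict (i ⁻¹ᵁ V').ι) := by
        refine isZero_restrict_of_stalk _ _ (fun v => ?_)
        obtain ⟨w, hw, hwv⟩ := v.2
        have hwv' : w = (i ⁻¹ᵁ V').ι.base v := hT.inj hwv
        obtain ⟨u, hu⟩ := hw
        rw [← hwv', ← hu]
        exact stalk_subsingleton_of_isZero_restrict _ j (hz n hn) u
      have h6 := h5.of_iso
        ((mapHCHomologyIso (Scheme.Modules.restrictFunctor (i ⁻¹ᵁ V').ι) n).app
          ((pullCx i).obj G))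
      exact h6.of_iso ((HomologicalComplex.homologyFunctor _ _ n).mapIso
        (pullRestrictCxIso i V' G)).symm
    · exact isPseudoCoherentD_of_iso
        ((resDQ (i ⁻¹ᵁ V').ι).app _ ≪≫ DerivedCategory.Q.mapIso (pullRestrictCxIso i V' G))
        (isPseudoCoherentD_resD (hpc m') (i ⁻¹ᵁ V').ι)
  have key := pc_of_dat m (b + 1 - m).toNat (i ∣_ V') _ b (by omega) hD
  refine ⟨V', V'.ι, inferInstance, by rw [Scheme.Opens.range_ι]; exact hyV', ?_⟩
  exact isPseudoCoherentD_of_iso (((resDQ V'.ι).app G).symm ≪≫ (resD V'.ι).mapIso eG) key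

/-- **S7231**: pseudo-coherence descends along a finite order thickening -/
theorem isPseudoCoherentD_of_Lpull_thickening (i : X ⟶ X')
    (hi : MoreMor.IsFiniteOrderThickening i) [DCoh.HasLpull i] (K' : DCoh.D X')
    (hK : ∀ m : ℤ, DCoh.IsPseudoCoherentD m ((DCoh.Lpull i).obj K')) (m : ℤ) :
    DCoh.IsPseudoCoherentD m K' :=
  isPseudoCoherentD_of_Lpull_of_T i (T_of_isFiniteOrderThickening i hi) K' hK m

end

end Groth.Agent.Lib.Helper28.Thick
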