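import Mathlib
import Groth.Agent.Lib.Helper28.Th5
import Groth.Agent.Lib.Helper28.Ds1
set_option autoImplicit false

universe u

open CategoryTheory Limits AlgebraicGeometry TopologicalSpace

attribute [local instance] HasDerivedCategory.standard

namespace Groth.Agent.Lib.Helper28.DescPC

open Groth.Agent.Lib.Helper29.QCoh Groth.Agent.Lib.Helper28.StalkTensor
  Groth.Agent.Lib.Helper28.DCohRes Groth.Agent.Lib.Helper28.Lpull Groth.Agent.Lib.Helper28.Tp
  Groth.Agent.Lib.Helper28.Thick

noncomputable section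

variable {X X' : Scheme.{u}} {i : X ⟶ X'}

theorem ds_stalk_subsingleton_of_pullback (hT : DS i) (N : X'.Modules) (y : X)
    (h : Subsingleton (((Scheme.Modules.pullback i).obj N).presheaf.stalk y)) :
    Subsingleton (N.presheaf.stalk (i.base y)) := by
  have h1 : IsZero ((DerSch.stalkFunctor X y).obj ((Scheme.Modules.pullback i).obj N)) :=
    @ModuleCat.isZero_of_subsingleton _ _ _ h
  have h2 := h1.of_iso (pullStalkIso i N y).symm
  exact (hT.good y).sub
    ((DerSch.stalkFunctor X' (i.base y)).obj N) h2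

theorem ds_stalk_finite_of_pullback (hT : DS i) (N : X'.Modules) (y : X)
    (h : Module.Finite (X.presheaf.stalk y)
      (((Scheme.Modules.pullback i).obj N).presheaf.stalk y)) :
    Module.Finite (X'.presheaf.stalk (i.base y)) (N.presheaf.stalk (i.base y)) := by
  have h1 : Module.Finite (X.presheaf.stalk y)
      ((DerSch.stalkFunctor X y).obj ((Scheme.Modules.pullback i).obj N)) := h
  have h2 : Module.Finite (X.presheaf.stalk y)
      ((ModuleCat.extendScalars.{u, u, u} (i.stalkMap y).hom).obj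
        ((DerSch.stalkFunctor X' (i.base y)).obj N)) :=
    Module.Finite.equiv (pullStalkIso i N y).toLinearEquiv
  exact (hT.good y).fin
    ((DerSch.stalkFunctor X' (i.base y)).obj N) h2

/-- **Acyclicity above a degree descends** (pointwise form), for K-flat complexes. -/
theorem ds_subsingleton_stalk_homology_of_pullCx (hT : DS i) (L' : CochainComplex X'.Modules ℤ)
    (hK : DCoh.IsKFlat L') (b : ℤ) (y : X)
    (h : ∀ n : ℤ, b < n → Subsingleton ((((pullCx i).obj L').homology n).presheaf.stalk y))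
    (n : ℤ) (hn : b < n) : Subsingleton ((L'.homology n).presheaf.stalk (i.base y)) := by
  have h1 : ∀ k : ℤ, b < k → IsZero (((stalkCx y).obj ((pullCx i).obj L')).homology k) :=
    fun k hk => by
      have h0 : IsZero ((DerSch.stalkFunctor X y).obj (((pullCx i).obj L').homology k)) :=
        @ModuleCat.isZero_of_subsingleton _ _ _ (h k hk)
      exact h0.of_iso ((mapHCHomologyIso (DerSch.stalkFunctor X y) k).app _)
  have h2 : ∀ k : ℤ, b < k → IsZero (((DTen.extCx (i.stalkMap y).hom).obj
      ((stalkCx (i.base y)).obj L')).homology k) := fun k hk =>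
    (h1 k hk).of_iso ((HomologicalComplex.homologyFunctor _ _ k).mapIso
      (stalkCxPullIso i y L').symm)
  have hKx := isKFlat_stalk_of_isKFlat (i.base y) L' hK
  have h3 := (hT.good y).acyc _ hKx b h2 n hn
  have h4 : IsZero ((DerSch.stalkFunctor X' (i.base y)).obj (L'.homology n)) :=
    h3.of_iso ((mapHCHomologyIso (DerSch.stalkFunctor X' (i.base y)) n).app L').symm
  exact ModuleCat.subsingleton_of_isZero h4

/-- a quotient of a module of finite type is of finite type (no quasi-coherence needed) -/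
theorem isFiniteType_of_epi_general {Z : Scheme.{u}} {M N : Z.Modules} (π : M ⟶ N) [Epi π]
    [M.IsFiniteType] : N.IsFiniteType := by
  refine isFiniteType_of_locally_epi N fun x => ?_
  obtain ⟨V, hxV, P, p, hP, hp⟩ := exists_epi_of_isFiniteType M x
  haveI : PreservesColimits (Scheme.Modules.restrictFunctor V.ι) :=
    (Scheme.Modules.restrictAdjunction V.ι).leftAdjoint_preservesColimits
  haveI : Epi ((Scheme.Modules.restrictFunctor V.ι).map π) :=
    (Scheme.Modules.restrictFunctor V.ι).map_epi π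
  exact ⟨V, V.ι, inferInstance, by rw [Scheme.Opens.range_ι]; exact hxV, P,
    p ≫ (Scheme.Modules.restrictFunctor V.ι).map π, hP, epi_comp _ _⟩

/-- **Generators spread.** If `π : P ⟶ N` is surjective on the stalk at `i y` and `i^* N` is of
finite type, then `π` is an epimorphism on a neighbourhood of `i y`. -/
theorem ds_exists_epi_restrict_of_stalk_surjective (hT : DS i) (N : X'.Modules)
    [((Scheme.Modules.pullback i).obj N).IsFiniteType]
    {P : X'.Modules} (π : P ⟶ N) (y : X)
    (hsurj : Function.Surjective (stalkMap π (i.base y))) :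
    ∃ V' : X'.Opens, i.base y ∈ V' ∧ Epi ((Scheme.Modules.restrictFunctor V'.ι).map π) := by
  let Q := cokernel π
  have hQ : Subsingleton (Q.presheaf.stalk (i.base y)) := by
    let F := DerSch.stalkFunctor X' (i.base y)
    have hepi : Epi (F.map π) := (ModuleCat.epi_iff_surjective _).2 hsurj
    have hz : IsZero (cokernel (F.map π)) := isZero_cokernel_of_epi (F.map π)
    exact ModuleCat.subsingleton_of_isZero (hz.of_iso (PreservesCokernel.iso F π))
  let G := Scheme.Modules.pullback i
  haveI : PreservesColimits G :=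
    (Scheme.Modules.pullbackPushforwardAdjunction i).leftAdjoint_preservesColimits
  haveI : Epi (G.map (cokernel.π π)) := G.map_epi _
  haveI : (G.obj Q).IsFiniteType := isFiniteType_of_epi_general (G.map (cokernel.π π))
  have hopen := isOpen_setOf_subsingleton_stalk (G.obj Q)
  have hpre : i.base ⁻¹' {x' : X' | Subsingleton (Q.presheaf.stalk x')} =
      {w : X | Subsingleton ((G.obj Q).presheaf.stalk w)} := by
    ext w
    exact ⟨fun h => stalk_subsingleton_pullback i Q w h,
      fun h => ds_stalk_subsingleton_of_pullback hT Q w h⟩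
  let V' : X'.Opens := ⟨{x' : X' | Subsingleton (Q.presheaf.stalk x')},
    hT.quot _ (by rw [hpre]; exact hopen)⟩
  refine ⟨V', hQ, ?_⟩
  let R := Scheme.Modules.restrictFunctor V'.ι
  have hz : IsZero (R.obj Q) := by
    rw [isZero_iff_stalk_subsingleton]
    intro v
    have h1 : Subsingleton (Q.presheaf.stalk (V'.ι v)) := v.2
    have h2 : IsZero (Q.presheaf.stalk (V'.ι v)) :=
      AddCommGrpCat.isZero_of_subsingleton _
    exact AddCommGrpCat.subsingleton_of_isZero (h2.of_iso (restrictStalkIso V'.ι Q v))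
  have hz2 : IsZero (cokernel (R.map π)) := hz.of_iso (PreservesCokernel.iso R π).symm
  exact Preadditive.epi_of_isZero_cokernel _ hz2

/-- data for the induction: a K-flat complex on a thickening, acyclic above `b`, whose pullback
is pseudo-coherent -/
structure DDat (i : X ⟶ X') (m b : ℤ) (L : CochainComplex X'.Modules ℤ) : Prop where
  hT : DS i
  kflat : DCoh.IsKFlat L
  acyc : ∀ n : ℤ, b < n → IsZero (L.homology n)
  pc : DCoh.IsPseudoCoherentD m (DerivedCategory.Q.obj ((pullCx i).obj L))

variable {i : X ⟶ X'} {m b : ℤ} {L : CochainComplex X'.Modules ℤ}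

theorem DDat.restrict (h : DDat i m b L) (V' : X'.Opens) :
    DDat (i ∣_ V') m b ((resCx V'.ι).obj L) := by
  refine ⟨h.hT.restrict V', isKFlat_resCx V'.ι L h.kflat, fun n hn => ?_, ?_⟩
  · exact ((Scheme.Modules.restrictFunctor V'.ι).map_isZero (h.acyc n hn)).of_iso
      ((mapHCHomologyIso (Scheme.Modules.restrictFunctor V'.ι) n).app L)
  · have h1 := isPseudoCoherentD_resD h.pc (i ⁻¹ᵁ V').ι
    exact isPseudoCoherentD_of_iso
      ((resDQ (i ⁻¹ᵁ V').ι).app _ ≪≫ DerivedCategory.Q.mapIso (pullRestrictCxIso i V' L)) h1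

theorem DDat.mono (h : DDat i m b L) {b' : ℤ} (hb : b ≤ b') : DDat i m b' L :=
  ⟨h.hT, h.kflat, fun n hn => h.acyc n (by omega), h.pc⟩

theorem DDat.isFiniteType (h : DDat i m b L) (hmb : m ≤ b) (hs : Strict b L) :
    ((Scheme.Modules.pullback i).obj (L.homology b)).IsFiniteType := by
  let E := DerivedCategory.Q.obj ((pullCx i).obj L)
  let e : DCoh.HD E b ≅ (Scheme.Modules.pullback i).obj (L.homology b) :=
    (DerivedCategory.homologyFunctorFactors X.Modules b).app _ ≪≫ topHomologyPullIso i hs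
  have hz : ∀ n : ℤ, b < n → IsZero (DCoh.HD E n) := fun n hn => by
    refine IsZero.of_iso ?_ ((DerivedCategory.homologyFunctorFactors X.Modules n).app _)
    exact (HomologicalComplex.ExactAt.of_isZero
      ((Scheme.Modules.pullback i).map_isZero (hs n hn))).isZero_homology
  exact isFiniteType_of_isPseudoCoherentD (isPseudoCoherentD_mono h.pc hmb) hz e

/-- **Lemma A**: global cone step -/
theorem ds_pc_of_singleToCx {i : X ⟶ X'} {m b : ℤ} {L : CochainComplex X'.Modules ℤ}
    (h : DDat i m b L) {P : X'.Modules} (hP : FlatMod.IsFinLocFree P)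
    (φ : P ⟶ L.cycles b) (hφ : IsApprox b (DerivedCategory.Q.map (singleToCx L b φ)))
    (IH : ∀ C : CochainComplex X'.Modules ℤ, DDat i m (b - 1) C →
      DCoh.IsPseudoCoherentD m (DerivedCategory.Q.obj C)) :
    DCoh.IsPseudoCoherentD m (DerivedCategory.Q.obj L) := by
  let s := singleToCx L b φ
  have hSP := isStrictlyPerfect_single' hP b
  have hT := DerivedCategory.mappingCone_triangle_distinguished s
  let T := DerivedCategory.Q.mapTriangle.obj (CochainComplex.mappingCone.triangle s)
  have hC : DDat i m (b - 1) (CochainComplex.mappingCone s) := by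
    refine ⟨h.hT, isKFlat_mappingCone' s (isKFlat_of_isStrictlyPerfect _ hSP) h.kflat,
      fun n hn => ?_, ?_⟩
    · have hex := exactAt_mappingCone_of_isApprox s b hφ n (by omega)
      rwa [HomologicalComplex.exactAt_iff_isZero_homology] at hex
    · have hT' := DerivedCategory.mappingCone_triangle_distinguished ((pullCx i).map s)
      let T' := DerivedCategory.Q.mapTriangle.obj
        (CochainComplex.mappingCone.triangle ((pullCx i).map s))
      have hSP' := isStrictlyPerfect_pullCx i _ hSP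
      have h₁ : DCoh.IsPseudoCoherentD (m + 1) T'.obj₁ :=
        isPseudoCoherentD_of_glob _ (𝟙 _) hSP' (isApprox_id _ _)
      have h₂ : DCoh.IsPseudoCoherentD m T'.obj₂ := h.pc
      have h₃ := (isPseudoCoherentD_triangle m T' hT').1 h₁ h₂
      exact isPseudoCoherentD_of_iso
        (DerivedCategory.Q.mapIso (pullCxMappingConeIso i s)).symm h₃
  have h₃ := IH _ hC
  have h₁ : DCoh.IsPseudoCoherentD m T.obj₁ :=
    isPseudoCoherentD_of_glob _ (𝟙 _) hSP (isApprox_id m _)
  exact (isPseudoCoherentD_triangle m T hT).2.1 h₁ h₃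

/-- **Lemma B**: step with a global epimorphism onto the top cohomology -/
theorem ds_pc_of_epi_top {i : X ⟶ X'} {m b : ℤ} {L : CochainComplex X'.Modules ℤ}
    (h : DDat i m b L) {P : X'.Modules} (hP : FlatMod.IsFinLocFree P)
    (π : P ⟶ L.homology b) [Epi π]
    (IH : ∀ {Y Y' : Scheme.{u}} (i' : Y ⟶ Y') (C : CochainComplex Y'.Modules ℤ),
      DDat i' m (b - 1) C → DCoh.IsPseudoCoherentD m (DerivedCategory.Q.obj C)) :
    DCoh.IsPseudoCoherentD m (DerivedCategory.Q.obj L) := by
  have hex : ∀ n, b < n → L.ExactAt n := fun n hn => by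
    rw [HomologicalComplex.exactAt_iff_isZero_homology]
    exact h.acyc n hn
  refine isPseudoCoherentD_of_locally fun y => ?_
  obtain ⟨V, hyV, φ, hφ⟩ := exists_local_singleToCx L b hex hP π y
  refine ⟨V, V.ι, inferInstance, by rw [Scheme.Opens.range_ι]; exact hyV, ?_⟩
  have := ds_pc_of_singleToCx (h.restrict V) (isFinLocFree_restrict V.ι hP) φ hφ
    (fun C hC => IH _ C hC)
  exact isPseudoCoherentD_of_iso ((resDQ V.ι).app L).symm this

/-- **Lemma C**: step with a map onto the top cohomology which is surjective on one stalk -/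
theorem ds_pc_of_stalk_surjective {i : X ⟶ X'} {m b : ℤ} {L : CochainComplex X'.Modules ℤ}
    (h : DDat i m b L) (hmb : m ≤ b) (hs : Strict b L) {P : X'.Modules} (hP : FlatMod.IsFinLocFree P)
    (π : P ⟶ L.homology b) (y : X) (hsurj : Function.Surjective (stalkMap π (i.base y)))
    (IH : ∀ {Y Y' : Scheme.{u}} (i' : Y ⟶ Y') (C : CochainComplex Y'.Modules ℤ),
      DDat i' m (b - 1) C → DCoh.IsPseudoCoherentD m (DerivedCategory.Q.obj C)) :
    ∃ V' : X'.Opens, i.base y ∈ V' ∧
      DCoh.IsPseudoCoherentD m ((resD V'.ι).obj (DerivedCategory.Q.obj L)) := by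
  haveI := h.isFiniteType hmb hs
  obtain ⟨V', hyV', hepi⟩ := ds_exists_epi_restrict_of_stalk_surjective h.hT (L.homology b) π y hsurj
  refine ⟨V', hyV', ?_⟩
  let ε := ((mapHCHomologyIso (Scheme.Modules.restrictFunctor V'.ι) b).app L).symm
  haveI : Epi ((Scheme.Modules.restrictFunctor V'.ι).map π ≫ ε.hom) := epi_comp _ _
  have := ds_pc_of_epi_top (h.restrict V') (isFinLocFree_restrict V'.ι hP)
    ((Scheme.Modules.restrictFunctor V'.ι).map π ≫ ε.hom) IH
  exact isPseudoCoherentD_of_iso ((resDQ V'.ι).app L).symm this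

/-- **Lemma D**: the strict case, local at a point of the thickening -/
theorem ds_pc_of_strict {i : X ⟶ X'} {m b : ℤ} {L : CochainComplex X'.Modules ℤ}
    (h : DDat i m b L) (hmb : m ≤ b) (hs : Strict b L) (y : X)
    (IH : ∀ {Y Y' : Scheme.{u}} (i' : Y ⟶ Y') (C : CochainComplex Y'.Modules ℤ),
      DDat i' m (b - 1) C → DCoh.IsPseudoCoherentD m (DerivedCategory.Q.obj C)) :
    ∃ (U : Scheme.{u}) (j : U ⟶ X') (_ : IsOpenImmersion j), i.base y ∈ Set.range j.base ∧
      DCoh.IsPseudoCoherentD m ((resD j).obj (DerivedCategory.Q.obj L)) := by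
  haveI := h.isFiniteType hmb hs
  have hfin := ds_stalk_finite_of_pullback h.hT (L.homology b) y (finite_stalk_of_isFiniteType _ y)
  obtain ⟨V₁, hx₁, n, π, hπ⟩ := exists_hom_stalk_surjective (L.homology b) (i.base y) hfin
  have h₁ := h.restrict V₁
  have hs₁ := hs.restrict V₁
  let y₁ : (i ⁻¹ᵁ V₁ : Scheme.{u}) := ⟨y, hx₁⟩
  have hy₁ : (i ∣_ V₁).base y₁ = ⟨i.base y, hx₁⟩ := Subtype.ext (morphismRestrict_base_coe i V₁ y₁)
  let ε := ((mapHCHomologyIso (Scheme.Modules.restrictFunctor V₁.ι) b).app L).symm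
  let π₁ : freeM (V₁ : Scheme.{u}) (ULift.{u} (Fin n)) ⟶ ((resCx V₁.ι).obj L).homology b :=
    π ≫ ε.hom
  have hπ₁ : Function.Surjective (stalkMap π₁ ((i ∣_ V₁).base y₁)) := by
    rw [hy₁]
    intro t
    obtain ⟨t', ht'⟩ := (epi_iff_stalkMap_surjective ε.hom).1 inferInstance ⟨i.base y, hx₁⟩ t
    obtain ⟨t'', ht''⟩ := hπ t'
    refine ⟨t'', ?_⟩
    refine (stalkMap_comp_apply π ε.hom _ t'').trans ?_
    rw [ht'']
    exact ht'
  obtain ⟨V₂, hyV₂, hpc⟩ := ds_pc_of_stalk_surjective h₁ hmb hs₁ (isFinLocFree_freeM _) π₁ y₁ hπ₁ IH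
  refine ⟨V₂, V₂.ι ≫ V₁.ι, inferInstance, ?_, ?_⟩
  · refine ⟨⟨(i ∣_ V₁).base y₁, hyV₂⟩, ?_⟩
    change V₁.ι.base (V₂.ι.base ⟨(i ∣_ V₁).base y₁, hyV₂⟩) = _
    change V₁.ι.base ((i ∣_ V₁).base y₁) = _
    rw [hy₁]
    rfl
  · exact isPseudoCoherentD_of_iso
      ((resD V₂.ι).mapIso ((resDQ V₁.ι).app L).symm ≪≫
        ((resDComp V₂.ι V₁.ι).app (DerivedCategory.Q.obj L)).symm) hpc

/-- **The induction.** -/
theorem ds_pc_of_dat (m : ℤ) : ∀ (k : ℕ) {X X' : Scheme.{u}} (i : X ⟶ X')
    (L : CochainComplex X'.Modules ℤ) (b : ℤ), b + 1 ≤ m + k → DDat i m b L →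
    DCoh.IsPseudoCoherentD m (DerivedCategory.Q.obj L) := by
  have base : ∀ {X X' : Scheme.{u}} (i : X ⟶ X') (L : CochainComplex X'.Modules ℤ) (b : ℤ),
      b + 1 ≤ m → DDat i m b L → DCoh.IsPseudoCoherentD m (DerivedCategory.Q.obj L) := by
    intro X X' i L b hb h
    exact isPseudoCoherentD_of_isZero_homology (fun n hn => IsZero.of_iso (h.acyc n (by omega))
      ((DerivedCategory.homologyFunctorFactors X'.Modules n).app L))
  intro k
  induction k with
  | zero =>
    intro X X' i L b hb h
    exact base i L b (by simpa using hb) h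
  | succ k ih =>
    intro X X' i L b hb h
    by_cases hbm : b + 1 ≤ m
    · exact base i L b hbm h
    · obtain ⟨F', q, hKF, hSLE, hq⟩ := PerfTensor.exists_kflat_resolution_isStrictlyLE L b
        (fun n hn => (h.acyc n hn).of_iso
          ((DerivedCategory.homologyFunctorFactors X'.Modules n).app L))
      have hs : Strict b F' := fun n hn => CochainComplex.isZero_of_isStrictlyLE F' b n hn
      have hq' : IsIso (DerivedCategory.Q.map q) := by
        rw [DerivedCategory.isIso_Q_map_iff_quasiIso]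
        exact hq
      have hpq : IsIso (DerivedCategory.Q.map ((pullCx i).map q)) := by
        rw [DerivedCategory.isIso_Q_map_iff_quasiIso]
        exact quasiIso_pullCx_map i q hKF h.kflat hq
      have hF : DDat i m b F' := by
        refine ⟨h.hT, hKF, fun n hn => ?_, ?_⟩
        · have : IsIso (HomologicalComplex.homologyMap q n) := by
            rw [quasiIso_iff] at hq
            have := hq n
            rwa [quasiIsoAt_iff_isIso_homologyMap] at this
          exact (h.acyc n hn).of_iso (asIso (HomologicalComplex.homologyMap q n))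
        · exact isPseudoCoherentD_of_iso
            (asIso (DerivedCategory.Q.map ((pullCx i).map q))).symm h.pc
      have hpc : DCoh.IsPseudoCoherentD m (DerivedCategory.Q.obj F') := by
        refine isPseudoCoherentD_of_locally fun x' => ?_
        obtain ⟨y, rfl⟩ := h.hT.surj x'
        exact ds_pc_of_strict hF (by omega) hs y
          (fun i' C hC => ih i' C (b - 1) (by push_cast at hb; omega) hC)
      exact isPseudoCoherentD_of_iso (asIso (DerivedCategory.Q.map q)) hpc

/-- core: pseudo-coherence descends along a `DS` morphism, given that the cohomology of the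
pullback is locally (on the target) bounded above along a section of points -/
theorem ds_pc_of_bdd (i : X ⟶ X') (hT : DS i) (G : CochainComplex X'.Modules ℤ)
    (hG : DCoh.IsKFlat G) (m : ℤ)
    (hpc : DCoh.IsPseudoCoherentD m (DerivedCategory.Q.obj ((pullCx i).obj G)))
    (hbdd : ∀ x' : X', ∃ (V' : X'.Opens) (b : ℤ), x' ∈ V' ∧ ∀ v : X', v ∈ V' →
      ∃ w : X, i.base w = v ∧ ∀ n : ℤ, b < n →
        Subsingleton ((((pullCx i).obj G).homology n).presheaf.stalk w)) :
    DCoh.IsPseudoCoherentD m (DerivedCategory.Q.obj G) := by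
  refine isPseudoCoherentD_of_locally fun x' => ?_
  obtain ⟨V', b₀, hxV', hV'⟩ := hbdd x'
  let b := max m b₀
  have hD : DDat (i ∣_ V') m b ((resCx V'.ι).obj G) := by
    refine ⟨hT.restrict V', isKFlat_resCx V'.ι G hG, ?_, ?_⟩
    · intro n hn
      have h5 : IsZero ((G.homology n).restrict V'.ι) := by
        refine isZero_restrict_of_stalk _ _ (fun v => ?_)
        obtain ⟨w, hwv, hw⟩ := hV' (V'.ι.base v) (by
          have := v.2
          exact this)
        rw [← hwv]
        exact ds_subsingleton_stalk_homology_of_pullCx hT G hG b w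
          (fun k hk => hw k (lt_of_le_of_lt (le_max_right m b₀) hk)) n hn
      exact h5.of_iso ((mapHCHomologyIso (Scheme.Modules.restrictFunctor V'.ι) n).app G)
    · exact isPseudoCoherentD_of_iso
        ((resDQ (i ⁻¹ᵁ V').ι).app _ ≪≫ DerivedCategory.Q.mapIso (pullRestrictCxIso i V' G))
        (isPseudoCoherentD_resD hpc (i ⁻¹ᵁ V').ι)
  have hbm : m ≤ b := le_max_left m b₀
  have key := ds_pc_of_dat m (b + 1 - m).toNat (i ∣_ V') _ b (by omega) hD
  refine ⟨V', V'.ι, inferInstance, by rw [Scheme.Opens.range_ι]; exact hxV', ?_⟩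
  exact isPseudoCoherentD_of_iso ((resDQ V'.ι).app G).symm key

/-- local upper bound for the cohomology of a pseudo-coherent complex -/
theorem exists_bound_of_pc {Y : Scheme.{u}} (L : CochainComplex Y.Modules ℤ) (m : ℤ)
    (hpc : DCoh.IsPseudoCoherentD m (DerivedCategory.Q.obj L)) (y : Y) :
    ∃ (W : Y.Opens) (b : ℤ), y ∈ W ∧ ∀ w : Y, w ∈ W → ∀ n : ℤ, b < n →
      Subsingleton ((L.homology n).presheaf.stalk w) := by
  obtain ⟨U, j, hj, hy, P, α, hP, hα⟩ := (isPseudoCoherentD_iff m _).1 hpc y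
  obtain ⟨⟨a₁, b₁, hv⟩, -⟩ := hP
  let b := max m b₁
  have hz : ∀ n : ℤ, b < n → IsZero ((L.homology n).restrict j) := by
    intro n hn
    have hn0 : m < n := lt_of_le_of_lt (le_max_left m b₁) hn
    have hn1 : b₁ < n := lt_of_le_of_lt (le_max_right m b₁) hn
    have h1 : IsZero (DCoh.HD (DerivedCategory.Q.obj P) n) :=
      IsZero.of_iso ((HomologicalComplex.ExactAt.of_isZero (hv n (Or.inr hn1))).isZero_homology)
        ((DerivedCategory.homologyFunctorFactors _ n).app P)
    haveI := hα.1 n hn0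
    have h3 : IsZero (DCoh.HD ((resD j).obj (DerivedCategory.Q.obj L)) n) :=
      h1.of_iso (asIso ((DerivedCategory.homologyFunctor _ n).map α)).symm
    have h4 := h3.of_iso (HDresDIso j _ n).symm
    exact h4.of_iso ((Scheme.Modules.restrictFunctor j).mapIso
      ((DerivedCategory.homologyFunctorFactors _ n).app L)).symm
  refine ⟨j.opensRange, b, hy, fun w hw n hn => ?_⟩
  obtain ⟨u, rfl⟩ := hw
  exact stalk_subsingleton_of_isZero_restrict _ j (hz n hn) u

/-- **pseudo-coherence descends** along a surjective open morphism with good stalk maps -/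
theorem isPseudoCoherentD_of_Lpull_of_DS (i : X ⟶ X')
    (hT : DS i) (ho : IsOpenMap i.base) [DCoh.HasLpull i] (K' : DCoh.D X') (m : ℤ)
    (hK : DCoh.IsPseudoCoherentD m ((DCoh.Lpull i).obj K')) :
    DCoh.IsPseudoCoherentD m K' := by
  obtain ⟨G, hG, ⟨eG⟩⟩ := exists_kflat_rep K'
  have hpc : DCoh.IsPseudoCoherentD m (DerivedCategory.Q.obj ((pullCx i).obj G)) :=
    isPseudoCoherentD_of_iso ((DCoh.Lpull i).mapIso eG.symm ≪≫ LpullIso i G hG) hK
  refine isPseudoCoherentD_of_iso eG (ds_pc_of_bdd i hT G hG m hpc fun x' => ?_)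
  obtain ⟨y, rfl⟩ := hT.surj x'
  obtain ⟨W, b, hyW, hW⟩ := exists_bound_of_pc _ m hpc y
  refine ⟨⟨i.base '' (W : Set X), ho _ W.2⟩, b, ⟨y, hyW, rfl⟩, fun v hv => ?_⟩
  obtain ⟨w, hw, hwv⟩ := hv
  exact ⟨w, hwv, hW w hw⟩

/-- **pseudo-coherence descends** along a surjective quasi-compact morphism which is a
topological quotient map with good stalk maps (e.g. an fpqc covering) -/
theorem isPseudoCoherentD_of_Lpull_of_DS_of_quasiCompact (i : X ⟶ X')
    (hT : DS i) [QuasiCompact i] [DCoh.HasLpull i] (K' : DCoh.D X') (m : ℤ)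
    (hK : DCoh.IsPseudoCoherentD m ((DCoh.Lpull i).obj K')) :
    DCoh.IsPseudoCoherentD m K' := by
  obtain ⟨G, hG, ⟨eG⟩⟩ := exists_kflat_rep K'
  have hpc : DCoh.IsPseudoCoherentD m (DerivedCategory.Q.obj ((pullCx i).obj G)) :=
    isPseudoCoherentD_of_iso ((DCoh.Lpull i).mapIso eG.symm ≪≫ LpullIso i G hG) hK
  refine isPseudoCoherentD_of_iso eG (ds_pc_of_bdd i hT G hG m hpc fun x' => ?_)
  obtain ⟨V', hV'aff, hxV'⟩ : ∃ V' : X'.Opens, IsAffineOpen V' ∧ x' ∈ V' := by
    obtain ⟨V', hV', hx, -⟩ := (Opens.isBasis_iff_nbhd.1 X'.isBasis_affineOpens)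
      (show x' ∈ (⊤ : X'.Opens) from trivial)
    exact ⟨V', hV', hx⟩
  have hcpt : IsCompact (i.base ⁻¹' (V' : Set X')) :=
    QuasiCompact.isCompact_preimage _ V'.2 hV'aff.isCompact
  choose W bb hyW hW using fun y : X => exists_bound_of_pc _ m hpc y
  obtain ⟨t, ht⟩ := hcpt.elim_finite_subcover (fun y : X => (W y : Set X))
    (fun y => (W y).2) (fun w _ => Set.mem_iUnion.2 ⟨w, hyW w⟩)
  obtain ⟨b, hb⟩ := (t.image bb).exists_le
  refine ⟨V', b, hxV', fun v hv => ?_⟩
  obtain ⟨w, rfl⟩ := hT.surj v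
  refine ⟨w, rfl, fun n hn => ?_⟩
  obtain ⟨y, hyt, hwy⟩ : ∃ y ∈ t, w ∈ W y := by
    have := ht (show w ∈ i.base ⁻¹' (V' : Set X') from hv)
    simpa using this
  exact hW y w hwy n (lt_of_le_of_lt (hb _ (Finset.mem_image_of_mem bb hyt)) hn)

end

end Groth.Agent.Lib.Helper28.DescPC
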