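import Mathlib
import Groth.Agent.Lib.Helper18.PushStalk
import Groth.Agent.Lib.Helper12.ClosedPullbackEpi
import Groth.Agent.Lib.Helper17.RpushRes
import Groth.Agent.Lib.Helper28.Ds2
set_option autoImplicit false

universe u

open CategoryTheory Limits AlgebraicGeometry TopologicalSpace

attribute [local instance] HasDerivedCategory.standard

namespace Groth.Agent.Lib.Helper28.ClPush

open Groth.Agent.Lib.Helper29.QCoh Groth.Agent.Lib.Helper18.PushStalk
open Groth.Agent.Lib.Helper28.DCohRes

noncomputable section

variable {Z X : Scheme.{u}} (i : Z ⟶ X)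

lemma pushStalkMap_naturality {M N : Z.Modules} (φ : M ⟶ N) (z : Z)
    (t : ((Scheme.Modules.pushforward i).obj M).presheaf.stalk (i z)) :
    pushStalkMap i N z (stalkMap ((Scheme.Modules.pushforward i).map φ) (i z) t) =
      stalkMap φ z (pushStalkMap i M z t) := by
  obtain ⟨U, hz, s, rfl⟩ :=
    ((Scheme.Modules.pushforward i).obj M).presheaf.exists_germ_eq (x := i z) t
  rw [stalkMap_germ, pushStalkMap_germ, pushStalkMap_germ, stalkMap_germ]
  rfl

instance preservesFiniteLimits_pushforward :
    PreservesFiniteLimits (Scheme.Modules.pushforward i) := by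
  haveI := (Scheme.Modules.pullbackPushforwardAdjunction i).rightAdjoint_preservesLimits
  infer_instance

theorem epi_pushforward_map [IsClosedImmersion i] {M N : Z.Modules} (φ : M ⟶ N) [Epi φ] :
    Epi ((Scheme.Modules.pushforward i).map φ) := by
  rw [epi_iff_stalkMap_surjective]
  intro x
  by_cases hx : x ∈ Set.range i.base
  · obtain ⟨z, rfl⟩ := hx
    intro t
    have hi : Topology.IsInducing i.base := i.isEmbedding.isInducing
    obtain ⟨s, hs⟩ := (epi_iff_stalkMap_surjective φ).1 inferInstance z (pushStalkMap i N z t)
    obtain ⟨s', rfl⟩ := (pushStalkMap_bijective i M hi z).2 s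
    refine ⟨s', (pushStalkMap_bijective i N hi z).1 ?_⟩
    rw [pushStalkMap_naturality, hs]
  · haveI := subsingleton_stalk_of_notMem_range i N i.isClosedEmbedding.isClosed_range x hx
    intro t
    exact ⟨0, Subsingleton.elim _ _⟩

instance preservesFiniteColimits_pushforward [IsClosedImmersion i] :
    PreservesFiniteColimits (Scheme.Modules.pushforward i) := by
  rw [Functor.preservesFiniteColimits_iff_forall_exact_map_and_epi]
  intro S hS
  haveI := hS.mono_f
  haveI := hS.epi_g
  exact ⟨hS.exact.map_of_mono_of_preservesKernel (Scheme.Modules.pushforward i)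
    inferInstance inferInstance, epi_pushforward_map i S.g⟩

example : (Scheme.Modules.pushforward i).Additive := inferInstance

theorem isZero_of_isZero_pushforward [IsClosedImmersion i] (N : Z.Modules)
    (h : IsZero ((Scheme.Modules.pushforward i).obj N)) : IsZero N := by
  rw [isZero_iff_stalk_subsingleton] at h ⊢
  intro z
  haveI := h (i z)
  exact (pushStalkMap_bijective i N i.isEmbedding.isInducing z).2.subsingleton

theorem subsingleton_stalk_of_pushforward [IsClosedImmersion i] (N : Z.Modules) (z : Z)
    (h : Subsingleton (((Scheme.Modules.pushforward i).obj N).presheaf.stalk (i z))) :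
    Subsingleton (N.presheaf.stalk z) :=
  (pushStalkMap_bijective i N i.isEmbedding.isInducing z).2.subsingleton

end

end Groth.Agent.Lib.Helper28.ClPush
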