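import Mathlib
import Groth.Agent.Lib.Helper28.DCohRes19
import Groth.Agent.Lib.Helper28.DCohRes27
import Groth.Agent.Lib.Helper28.LpullPerfect
import Groth.Agent.Lib.Helper28.LpullExists
set_option autoImplicit false

universe u

open CategoryTheory Limits AlgebraicGeometry TopologicalSpace

namespace Groth.Agent.Lib.Helper28.TrivLocus

noncomputable section

attribute [local instance] HasDerivedCategory.standard

open Groth.Agent.Lib.Helper29.QCoh Groth.Agent.Lib.Helper28.DCohRes
  Groth.Agent.Lib.Helper28.StalkTensor Groth.Agent.Lib.Helper28.Lpull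

variable {X Y : Scheme.{u}}

/-- the complex with `M` in degree `i` -/
abbrev sgl (M : X.Modules) (i : ℤ) : CochainComplex X.Modules ℤ :=
  (HomologicalComplex.single X.Modules (ComplexShape.up ℤ) i).obj M

/-- `M[-i]` is the complex with `M` in degree `i` -/
def inDShiftIso (M : X.Modules) (i : ℤ) :
    (DCoh.inD X M)⟦-i⟧ ≅ DerivedCategory.Q.obj (sgl M i) :=
  ((DerivedCategory.singleFunctors X.Modules).shiftIso (-i) i 0 (by omega)).app M ≪≫
    (DerivedCategory.singleFunctorIsoCompQ X.Modules i).app M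

/-- the cohomology of `M` placed in degree `i` -/
def HDsglIso (M : X.Modules) (i : ℤ) : DCoh.HD (DerivedCategory.Q.obj (sgl M i)) i ≅ M :=
  (DerivedCategory.homologyFunctorFactors X.Modules i).app (sgl M i) ≪≫
    HomologicalComplex.singleObjHomologySelfIso (ComplexShape.up ℤ) i M

lemma isZero_HD_sgl (M : X.Modules) (i j : ℤ) (hj : j ≠ i) :
    IsZero (DCoh.HD (DerivedCategory.Q.obj (sgl M i)) j) :=
  (HomologicalComplex.isZero_single_obj_homology (ComplexShape.up ℤ) i M j hj).of_iso
    ((DerivedCategory.homologyFunctorFactors X.Modules j).app (sgl M i))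

/-- an additive functor maps `sgl` to `sgl` -/
def sglRestrictIso {U : Scheme.{u}} (j : U ⟶ X) [IsOpenImmersion j] (M : X.Modules) (i : ℤ) :
    (resCx j).obj (sgl M i) ≅ sgl (M.restrict j) i :=
  (HomologicalComplex.singleMapHomologicalComplex
      (Scheme.Modules.restrictFunctor j) (ComplexShape.up ℤ) i).app M

def sglPullIso (f : Y ⟶ X) (M : X.Modules) (i : ℤ) :
    (pullCx f).obj (sgl M i) ≅ sgl ((Scheme.Modules.pullback f).obj M) i :=
  (HomologicalComplex.singleMapHomologicalComplex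
      (Scheme.Modules.pullback f) (ComplexShape.up ℤ) i).app M

def sglMapIso {M N : X.Modules} (e : M ≅ N) (i : ℤ) : sgl M i ≅ sgl N i :=
  (HomologicalComplex.single X.Modules (ComplexShape.up ℤ) i).mapIso e

lemma isStrictlyPerfect_sgl {P : X.Modules} (hP : FlatMod.IsFinLocFree P) (i : ℤ) :
    DCoh.IsStrictlyPerfect (sgl P i) := by
  refine ⟨⟨i, i, fun k hk => HomologicalComplex.isZero_single_obj_X _ _ _ _ (by omega)⟩,
    fun k => ?_⟩
  by_cases h : k = i
  · subst h
    exact isFinLocFree_of_iso (HomologicalComplex.singleObjXSelf (ComplexShape.up ℤ) k P).symm hP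
  · exact isFinLocFree_of_isZero (HomologicalComplex.isZero_single_obj_X _ _ _ _ h)

/-- `E` is, near `x`, a free module of rank `r` placed in degree `i` -/
def TrivAt (E : DCoh.D X) (i : ℤ) (r : ℕ) (x : X) : Prop :=
  ∃ (U : Scheme.{u}) (j : U ⟶ X) (_ : IsOpenImmersion j), x ∈ Set.range j.base ∧
    RepAlong E j (sgl (FlatMod.freeMod U r) i)

lemma isOpen_trivAt (E : DCoh.D X) (i : ℤ) (r : ℕ) : IsOpen {x : X | TrivAt E i r x} := by
  rw [isOpen_iff_forall_mem_open]
  rintro x ⟨U, j, hj, hx, h⟩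
  exact ⟨Set.range j.base, fun y hy => ⟨U, j, hj, hy, h⟩, j.isOpenEmbedding.isOpen_range, hx⟩

/-- restriction of a free module to an open is free -/
def restrictFreeModIso {U : Scheme.{u}} (j : U ⟶ X) [IsOpenImmersion j] (r : ℕ) :
    (FlatMod.freeMod X r).restrict j ≅ FlatMod.freeMod U r :=
  (Scheme.Modules.restrictFunctorIsoPullback j).app _ ≪≫ pullbackFreeModIso j r

lemma TrivAt.exists_opens {E : DCoh.D X} {i : ℤ} {r : ℕ} {x : X} (h : TrivAt E i r x) :
    ∃ W : X.Opens, x ∈ W ∧ RepAlong E W.ι (sgl (FlatMod.freeMod W r) i) := by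
  obtain ⟨U, j, hj, hx, hK⟩ := h
  refine ⟨j.opensRange, hx, ?_⟩
  obtain ⟨e⟩ := (hK.comp j.isoOpensRange.inv).of_eq j.isoOpensRange_inv_comp
  exact ⟨e ≪≫ DerivedCategory.Q.mapIso (sglRestrictIso _ _ i ≪≫
    sglMapIso (restrictFreeModIso _ r) i)⟩

end

end Groth.Agent.Lib.Helper28.TrivLocus
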