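import Mathlib
import Groth.Agent.Lib.Helper28.TrivLocus1
import Groth.Agent.Lib.Helper28.DCohStalk7
set_option autoImplicit false

universe u

open CategoryTheory Limits AlgebraicGeometry TopologicalSpace

namespace Groth.Agent.Lib.Helper28.TrivLocus

noncomputable section

attribute [local instance] HasDerivedCategory.standard

open Groth.Agent.Lib.Helper29.QCoh Groth.Agent.Lib.Helper28.DCohRes
  Groth.Agent.Lib.Helper28.StalkTensor Groth.Agent.Lib.Helper28.Lpull

variable {X Y : Scheme.{u}}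

/-- the stalk of the free module of rank `n` has rank `n` -/
lemma finrank_stalk_freeMod (x : X) (n : ℕ) :
    Module.finrank (X.presheaf.stalk x) ((FlatMod.freeMod X n).presheaf.stalk x) = n := by
  let R := X.presheaf.stalk x
  let e1 : (DerSch.stalkFunctor X x).obj (FlatMod.freeMod X n) ≅
      ∐ fun _ : Fin n => (DerSch.stalkFunctor X x).obj (Coh.structureModule X) :=
    PreservesCoproduct.iso _ _
  let e2 : (∐ fun _ : Fin n => (DerSch.stalkFunctor X x).obj (Coh.structureModule X)) ≅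
      ∐ fun _ : Fin n => ModuleCat.of R R :=
    Sigma.mapIso (fun _ => Groth.Agent.Lib.Helper28.DCohStalk.stalkFunctorUnitIso X x)
  let e3 : (∐ fun _ : Fin n => ModuleCat.of R R) ≅ ⨁ fun _ : Fin n => ModuleCat.of R R :=
    (biproduct.isoCoproduct _).symm
  let e4 := ModuleCat.biproductIsoPi (fun _ : Fin n => ModuleCat.of R R)
  have := (e1 ≪≫ e2 ≪≫ e3 ≪≫ e4).toLinearEquiv.finrank_eq
  refine this.trans ?_
  show Module.finrank R (Fin n → R) = n
  simp

lemma finrank_stalk_of_iso {M N : X.Modules} (e : M ≅ N) (x : X) :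
    Module.finrank (X.presheaf.stalk x) (M.presheaf.stalk x) =
      Module.finrank (X.presheaf.stalk x) (N.presheaf.stalk x) :=
  (stalkLinearEquiv e x).finrank_eq

lemma finrank_stalk_restrict {U : Scheme.{u}} (j : U ⟶ X) [IsOpenImmersion j] (M : X.Modules)
    (y : U) :
    Module.finrank (X.presheaf.stalk (j y)) (M.presheaf.stalk (j y)) =
      Module.finrank (U.presheaf.stalk y) ((M.restrict j).presheaf.stalk y) := by
  let e : X.presheaf.stalk (j y) ≃+* U.presheaf.stalk y :=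
    (asIso (j.stalkMap y)).commRingCatIsoToRingEquiv
  letI : RingHomInvPair (e : X.presheaf.stalk (j y) →+* U.presheaf.stalk y)
    (e.symm : U.presheaf.stalk y →+* X.presheaf.stalk (j y)) := RingHomInvPair.of_ringEquiv e
  letI : RingHomInvPair (e.symm : U.presheaf.stalk y →+* X.presheaf.stalk (j y))
    (e : X.presheaf.stalk (j y) →+* U.presheaf.stalk y) := RingHomInvPair.of_ringEquiv e.symm
  have h := rank_eq_of_equiv_equiv (R := X.presheaf.stalk (j y)) (R' := U.presheaf.stalk y)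
    (M := M.presheaf.stalk (j y)) (M₁ := (M.restrict j).presheaf.stalk y) e
    (restrictStalkSemilinearEquiv j M y).toAddEquiv e.bijective
    (fun r m => (restrictStalkSemilinearEquiv j M y).map_smulₛₗ r m)
  unfold Module.finrank
  rw [h]

/-- the rank of the stalk of a module which is free of rank `n` near the point -/
lemma finrank_stalk_of_restrict_iso {M : X.Modules} {U : Scheme.{u}} (j : U ⟶ X)
    [IsOpenImmersion j] (y : U) (n : ℕ) (e : M.restrict j ≅ FlatMod.freeMod U n) :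
    Module.finrank (X.presheaf.stalk (j y)) (M.presheaf.stalk (j y)) = n := by
  rw [finrank_stalk_restrict j M y, finrank_stalk_of_iso e y, finrank_stalk_freeMod]

/-- a module which is finite locally free near `x`, with stalk of rank `r` at `x`, is free of
rank `r` near `x` -/
lemma exists_isFreeAlong_of_lfAt {M : X.Modules} {x : X} (h : LFAt M x) (r : ℕ)
    (hr : Module.finrank (X.presheaf.stalk x) (M.presheaf.stalk x) = r) :
    ∃ W : X.Opens, x ∈ W ∧ IsFreeAlong M W.ι r := by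
  obtain ⟨V, hx, hV⟩ := h
  obtain ⟨U₂, n, hx₂, ⟨e⟩⟩ := hV ⟨x, hx⟩
  let j : (U₂ : Scheme.{u}) ⟶ X := U₂.ι ≫ V.ι
  let e' : M.restrict j ≅ FlatMod.freeMod U₂ n :=
    (Scheme.Modules.restrictFunctorComp U₂.ι V.ι).app M ≪≫ e
  have hn : n = r := by
    have := finrank_stalk_of_restrict_iso j ⟨⟨x, hx⟩, hx₂⟩ n e'
    exact this.symm.trans hr
  subst hn
  have h1 : IsFreeAlong M j n := (isFreeAlong_iff_restrict M j n).2 ⟨e'⟩
  refine ⟨j.opensRange, ⟨⟨⟨x, hx⟩, hx₂⟩, rfl⟩, h1.of_range_subset _ ?_⟩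
  rw [Scheme.Opens.range_ι]
  rfl

/-- an object with cohomology only in degree `i` -/
theorem nonempty_iso_sgl (K : DCoh.D X) (i : ℤ) (M : X.Modules)
    (h0 : ∀ j, j ≠ i → IsZero (DCoh.HD K j)) (e : DCoh.HD K i ≅ M) :
    Nonempty (K ≅ DerivedCategory.Q.obj (sgl M i)) := by
  haveI : K.IsGE i := (DerivedCategory.isGE_iff K i).2 fun j hj => h0 j (by omega)
  haveI : K.IsLE i := (DerivedCategory.isLE_iff K i).2 fun j hj => h0 j (by omega)
  obtain ⟨A, ⟨eA⟩⟩ := DerivedCategory.exists_iso_singleFunctor_obj_of_isGE_of_isLE K i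
  let eAM : A ≅ M :=
    ((DerivedCategory.singleFunctorCompHomologyFunctorIso X.Modules i).app A).symm ≪≫
      (DerivedCategory.homologyFunctor X.Modules i).mapIso eA.symm ≪≫ e
  exact ⟨eA ≪≫ (DerivedCategory.singleFunctor X.Modules i).mapIso eAM ≪≫
    (DerivedCategory.singleFunctorIsoCompQ X.Modules i).app M⟩

/-- **restriction of `Lf^*` over an open where the object has a K-flat model** -/
theorem nonempty_resD_Lpull_iso (f : Y ⟶ X) [DCoh.HasLpull f] (E : DCoh.D X) (W : X.Opens)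
    (E₀ : CochainComplex (W : Scheme.{u}).Modules ℤ) (hE₀ : DCoh.IsKFlat E₀)
    (h : RepAlong E W.ι E₀) :
    Nonempty ((resD (f ⁻¹ᵁ W).ι).obj ((DCoh.Lpull f).obj E) ≅
      DerivedCategory.Q.obj ((pullCx (f ∣_ W)).obj E₀)) := by
  obtain ⟨G, hG, ⟨eG⟩⟩ := exists_kflat_rep E
  obtain ⟨e⟩ := h
  let F := DerivedCategory.Q.objPreimage ((DCoh.Lpull f).obj (DCoh.toD X G))
  let eF : DCoh.toD Y F ≅ (DCoh.Lpull f).obj (DCoh.toD X G) :=
    DerivedCategory.Q.objObjPreimageIso _
  have hh : DCoh.HasLpull (f ∣_ W) := hasLpull _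
  have hGV : DCoh.IsKFlat ((resCx W.ι).obj G) := isKFlat_resCx W.ι G hG
  let e₀ : DerivedCategory.Q.obj ((resCx W.ι).obj G) ≅ DerivedCategory.Q.obj E₀ :=
    ((resDQ W.ι).app G).symm ≪≫ (resD W.ι).mapIso eG ≪≫ e
  exact ⟨(resD (f ⁻¹ᵁ W).ι).mapIso ((DCoh.Lpull f).mapIso eG.symm ≪≫ eF.symm) ≪≫
    (resDQ (f ⁻¹ᵁ W).ι).app F ≪≫ resLpullIso f W G hG F eF ≪≫
    (LpullIso (f ∣_ W) _ hGV).symm ≪≫ (DCoh.Lpull (f ∣_ W)).mapIso e₀ ≪≫
    LpullIso (f ∣_ W) E₀ hE₀⟩

end

end Groth.Agent.Lib.Helper28.TrivLocus
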