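import Mathlib

/-! Idempotents of `R ⊗[k] S` for `S` geometrically connected over a field `k`. -/

namespace Groth.Agent.Lib.Helper28

open TensorProduct PrimeSpectrum

universe u

theorem preconnectedSpace_of_surjective {α β : Type*} [TopologicalSpace α] [TopologicalSpace β]
    [PreconnectedSpace α] {f : α → β} (hf : Function.Surjective f) (hc : Continuous f) :
    PreconnectedSpace β := by
  rw [preconnectedSpace_iff_univ, ← hf.range_eq]
  exact isPreconnected_range hc

/-- a ring whose spectrum is preconnected has only trivial idempotents -/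
theorem idem_eq_zero_or_one_of_preconnected {A : Type*} [CommRing A]
    [PreconnectedSpace (PrimeSpectrum A)] {y : A} (hy : IsIdempotentElem y) : y = 0 ∨ y = 1 := by
  have hcl : IsClopen (basicOpen y : Set (PrimeSpectrum A)) :=
    PrimeSpectrum.isClopen_iff.mpr ⟨y, hy, rfl⟩
  rcases _root_.isClopen_iff.mp hcl with h | h
  · left
    apply basicOpen_injOn_isIdempotentElem hy IsIdempotentElem.zero
    apply SetLike.coe_injective
    rw [h]; simp
  · right
    apply basicOpen_injOn_isIdempotentElem hy IsIdempotentElem.one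
    apply SetLike.coe_injective
    rw [h]; simp

variable {k R S : Type u} [Field k] [CommRing R] [CommRing S] [Algebra k R] [Algebra k S]

/-- Local version: if the fibre ring over `p` has preconnected spectrum, an idempotent is in
all or none of the primes over `p`. -/
theorem mem_iff_of_comap_eq_of_fibre
    {x : R ⊗[k] S} (hx : IsIdempotentElem x) (q1 q2 : PrimeSpectrum (R ⊗[k] S))
    (h : comap (algebraMap R (R ⊗[k] S)) q1 = comap (algebraMap R (R ⊗[k] S)) q2)
    (hfib : PreconnectedSpace (PrimeSpectrum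
      ((comap (algebraMap R (R ⊗[k] S)) q2).asIdeal.ResidueField ⊗[k] S))) :
    x ∈ q1.asIdeal ↔ x ∈ q2.asIdeal := by
  set p := comap (algebraMap R (R ⊗[k] S)) q2 with hp
  have hconn : PreconnectedSpace
      (PrimeSpectrum (p.asIdeal.ResidueField ⊗[R] (R ⊗[k] S))) := by
    exact preconnectedSpace_of_surjective
      (PrimeSpectrum.homeomorphOfRingEquiv (Algebra.TensorProduct.cancelBaseChange k R
        p.asIdeal.ResidueField p.asIdeal.ResidueField S).toRingEquiv).symm.surjective
        (Homeomorph.continuous _)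
  have hy : IsIdempotentElem ((Algebra.TensorProduct.includeRight :
      (R ⊗[k] S) →ₐ[R] p.asIdeal.ResidueField ⊗[R] (R ⊗[k] S)) x) := hx.map _
  have hy01 := idem_eq_zero_or_one_of_preconnected hy
  have key : ∀ q : PrimeSpectrum (R ⊗[k] S), comap (algebraMap R (R ⊗[k] S)) q = p →
      (x ∈ q.asIdeal ↔ (Algebra.TensorProduct.includeRight :
      (R ⊗[k] S) →ₐ[R] p.asIdeal.ResidueField ⊗[R] (R ⊗[k] S)) x = 0) := by
    intro q hq
    have hq' : q = comap (Algebra.TensorProduct.includeRight :
        (R ⊗[k] S) →ₐ[R] p.asIdeal.ResidueField ⊗[R] (R ⊗[k] S)).toRingHom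
        (preimageEquivFiber R (R ⊗[k] S) p ⟨q, hq⟩) := by
      have := (preimageEquivFiber R (R ⊗[k] S) p).symm_apply_apply ⟨q, hq⟩
      exact congrArg Subtype.val this.symm
    have hmem : x ∈ q.asIdeal ↔ (Algebra.TensorProduct.includeRight :
        (R ⊗[k] S) →ₐ[R] p.asIdeal.ResidueField ⊗[R] (R ⊗[k] S)) x ∈
        (preimageEquivFiber R (R ⊗[k] S) p ⟨q, hq⟩).asIdeal := by
      conv_lhs => rw [hq']
      rfl
    rw [hmem]
    have hprime := (preimageEquivFiber R (R ⊗[k] S) p ⟨q, hq⟩).isPrime
    rcases hy01 with h0 | h1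
    · rw [h0]; simp
    · rw [h1]
      constructor
      · intro h; exact absurd h hprime.one_notMem
      · intro h
        exfalso
        apply hprime.one_notMem
        rw [h]; exact zero_mem _
  rw [key q1 h, key q2 rfl]

theorem mem_iff_of_comap_eq
    (hS : ∀ (k' : Type u) [Field k'] [Algebra k k'], ConnectedSpace (PrimeSpectrum (k' ⊗[k] S)))
    {x : R ⊗[k] S} (hx : IsIdempotentElem x) (q1 q2 : PrimeSpectrum (R ⊗[k] S))
    (h : comap (algebraMap R (R ⊗[k] S)) q1 = comap (algebraMap R (R ⊗[k] S)) q2) :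
    x ∈ q1.asIdeal ↔ x ∈ q2.asIdeal :=
  mem_iff_of_comap_eq_of_fibre hx q1 q2 h (hS _).toPreconnectedSpace

theorem existsUnique_idem
    (hS : ∀ (k' : Type u) [Field k'] [Algebra k k'], ConnectedSpace (PrimeSpectrum (k' ⊗[k] S)))
    (x : R ⊗[k] S) (hx : IsIdempotentElem x) :
    ∃! e : R, IsIdempotentElem e ∧ algebraMap R (R ⊗[k] S) e = x := by
  have hopen : IsOpenMap (comap (algebraMap R (R ⊗[k] S))) :=
    isOpenMap_comap_algebraMap_tensorProduct_of_field
  have hsurj : Function.Surjective (comap (algebraMap R (R ⊗[k] S))) := by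
    intro p
    have : Nontrivial (p.asIdeal.ResidueField ⊗[R] (R ⊗[k] S)) := by
      have h1 := hS p.asIdeal.ResidueField
      have h2 : Nontrivial (p.asIdeal.ResidueField ⊗[k] S) := by
        obtain ⟨q⟩ := h1.toNonempty
        exact q.nontrivial
      exact (Algebra.TensorProduct.cancelBaseChange k R
        p.asIdeal.ResidueField p.asIdeal.ResidueField S).symm.injective.nontrivial
    exact (nontrivial_iff_mem_rangeComap p).mp this
  have hU : IsClopen (basicOpen x : Set (PrimeSpectrum (R ⊗[k] S))) :=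
    PrimeSpectrum.isClopen_iff.mpr ⟨x, hx, rfl⟩
  have hsat : comap (algebraMap R (R ⊗[k] S)) ⁻¹'
      (comap (algebraMap R (R ⊗[k] S)) '' (basicOpen x : Set (PrimeSpectrum (R ⊗[k] S)))) =
      (basicOpen x : Set (PrimeSpectrum (R ⊗[k] S))) := by
    apply Set.Subset.antisymm
    · rintro q ⟨q0, hq0, hq⟩
      exact fun hxq => hq0 ((mem_iff_of_comap_eq hS hx q0 q hq).mpr hxq)
    · exact Set.subset_preimage_image _ _
  have hV : IsClopen (comap (algebraMap R (R ⊗[k] S)) ''
      (basicOpen x : Set (PrimeSpectrum (R ⊗[k] S)))) := by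
    refine ⟨?_, hopen _ (basicOpen x).isOpen⟩
    have : (comap (algebraMap R (R ⊗[k] S)) '' (basicOpen x : Set (PrimeSpectrum (R ⊗[k] S))))ᶜ =
        comap (algebraMap R (R ⊗[k] S)) '' ((basicOpen x : Set (PrimeSpectrum (R ⊗[k] S)))ᶜ) := by
      apply Set.Subset.antisymm
      · intro p hp
        obtain ⟨q, rfl⟩ := hsurj p
        exact ⟨q, fun hq => hp ⟨q, hq, rfl⟩, rfl⟩
      · rintro _ ⟨q, hq, rfl⟩ ⟨q0, hq0, h⟩
        apply hq
        rw [← hsat]
        exact ⟨q0, hq0, h⟩
    rw [← isOpen_compl_iff, this]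
    exact hopen _ hU.compl.isOpen
  obtain ⟨e, he, hVe⟩ := PrimeSpectrum.isClopen_iff.mp hV
  have hex : algebraMap R (R ⊗[k] S) e = x := by
    apply basicOpen_injOn_isIdempotentElem (he.map _) hx
    apply SetLike.coe_injective
    rw [← hsat, hVe]
    rfl
  refine ⟨e, ⟨he, hex⟩, ?_⟩
  rintro e' ⟨he', hex'⟩
  apply basicOpen_injOn_isIdempotentElem he' he
  apply SetLike.coe_injective
  rw [← hVe, ← Set.image_preimage_eq (basicOpen e' : Set (PrimeSpectrum R)) hsurj]
  congr 1
  rw [← hex']
  rfl

end Groth.Agent.Lib.Helper28
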