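import Mathlib

/-!
# A countable Nullstellensatz over uncountable algebraically closed fields (helper28)

`exists_maximal_not_mem`: `k` uncountable algebraically closed, `R` a `k`-algebra of finite type
with irreducible spectrum (prime nilradical), `f n` countably many non-nilpotent elements: there is
a maximal ideal of `R` containing no `f n`.
-/

set_option autoImplicit false
universe u

namespace Groth.Agent.Lib.Helper28

open Cardinal in
/-- a field extension of countable dimension of an uncountable algebraically closed field is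
trivial. -/
theorem algebraMap_surjective_of_rank_le_aleph0 {k : Type u} [Field k] [IsAlgClosed k]
    [Uncountable k] {L : Type u} [Field L] [Algebra k L] (hrank : Module.rank k L ≤ ℵ₀) :
    Function.Surjective (algebraMap k L) := by
  have halg : Algebra.IsAlgebraic k L := by
    constructor
    intro x
    by_contra hx
    have hx' : Transcendental k x := hx
    have h1 := hx'.linearIndependent_sub_inv.cardinal_le_rank
    have h2 : ℵ₀ < #k := Cardinal.aleph0_lt_mk
    exact absurd (h2.trans_le (h1.trans hrank)) (lt_irrefl _)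
  have : Algebra.IsIntegral k L := Algebra.IsAlgebraic.isIntegral
  exact IsAlgClosed.algebraMap_bijective_of_isIntegral.2

theorem exists_maximal_not_mem {k : Type u} [Field k] [IsAlgClosed k] [Uncountable k]
    {R : Type u} [CommRing R] [Algebra k R] [Algebra.FiniteType k R]
    (hprime : (nilradical R).IsPrime) (f : ℕ → R) (hf : ∀ n, f n ∉ nilradical R) :
    ∃ m : Ideal R, m.IsMaximal ∧ ∀ n, f n ∉ m := by
  classical
  let D := R ⧸ nilradical R
  have : IsDomain D := Ideal.Quotient.isDomain _
  let K := FractionRing D
  let φ : R →ₐ[k] K := (IsScalarTower.toAlgHom k D K).comp (Ideal.Quotient.mkₐ k (nilradical R))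
  have hφ : ∀ n, φ (f n) ≠ 0 := by
    intro n h
    apply hf n
    have h1 : algebraMap D K (Ideal.Quotient.mk (nilradical R) (f n)) = 0 := h
    have h2 : Ideal.Quotient.mk (nilradical R) (f n) = 0 :=
      IsFractionRing.injective D K (by rw [h1, map_zero])
    exact Ideal.Quotient.eq_zero_iff_mem.mp h2
  obtain ⟨s, hs⟩ := (Algebra.FiniteType.out : (⊤ : Subalgebra k R).FG)
  let C : Set K := φ '' (s : Set R) ∪ Set.range (fun n => (φ (f n))⁻¹)
  have hC : C.Countable := (s.finite_toSet.image φ).countable.union (Set.countable_range _)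
  let S' : Subalgebra k K := Algebra.adjoin k C
  have hrange : ∀ r, φ r ∈ S' := by
    intro r
    have h0 : φ.range = Algebra.adjoin k (φ '' (s : Set R)) := by
      rw [← Algebra.map_top, ← hs, AlgHom.map_adjoin]
    have h1 : φ r ∈ φ.range := ⟨r, rfl⟩
    rw [h0] at h1
    exact Algebra.adjoin_mono Set.subset_union_left h1
  let φ' : R →ₐ[k] S' := φ.codRestrict S' hrange
  obtain ⟨M, hM⟩ := Ideal.exists_maximal S'
  let L := S' ⧸ M
  let _ : Field L := Ideal.Quotient.field M
  have hrank : Module.rank k L ≤ Cardinal.aleph0 := by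
    calc Module.rank k L ≤ Module.rank k S' :=
          LinearMap.rank_le_of_surjective (Ideal.Quotient.mkₐ k M).toLinearMap
            (Ideal.Quotient.mkₐ_surjective k M)
      _ ≤ max (Cardinal.mk C) Cardinal.aleph0 := Algebra.rank_adjoin_le C
      _ ≤ Cardinal.aleph0 := max_le hC.le_aleph0 le_rfl
  have hsurj : Function.Surjective (algebraMap k L) :=
    algebraMap_surjective_of_rank_le_aleph0 hrank
  let ψ : R →ₐ[k] L := (Ideal.Quotient.mkₐ k M).comp φ'
  have hψ : Function.Surjective ψ := by
    intro l
    obtain ⟨c, rfl⟩ := hsurj l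
    exact ⟨algebraMap k R c, by simp⟩
  refine ⟨RingHom.ker ψ.toRingHom, RingHom.ker_isMaximal_of_surjective _ hψ, ?_⟩
  intro n hn
  have hu : IsUnit (φ' (f n)) := by
    refine IsUnit.of_mul_eq_one
      ⟨(φ (f n))⁻¹, Algebra.subset_adjoin (Or.inr ⟨n, rfl⟩)⟩ ?_
    apply Subtype.ext
    change φ (f n) * (φ (f n))⁻¹ = 1
    exact mul_inv_cancel₀ (hφ n)
  have h3 : IsUnit (ψ (f n)) := hu.map (Ideal.Quotient.mkₐ k M)
  rw [show ψ (f n) = 0 from hn] at h3
  exact not_isUnit_zero h3

end Groth.Agent.Lib.Helper28
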