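import Mathlib.RingTheory.MvPolynomial.Basic
import Mathlib.Algebra.Module.FinitePresentation
import Mathlib.RingTheory.FiniteType
import Mathlib.RingTheory.FinitePresentation
import Mathlib.Tactic

set_option autoImplicit false
set_option linter.style.haveILetI false

namespace Groth.Agent.Lib.Helper28

open Function

section Tower

variable {S A M : Type*} [CommRing S] [CommRing A] [Algebra S A] [AddCommGroup M] [Module S M]
  [Module A M] [IsScalarTower S A M]

/-- Descent of finite presentation along a surjective ring map. -/
theorem fp_of_surjective_algebraMap (h : Surjective (algebraMap S A))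
    [Module.FinitePresentation S M] : Module.FinitePresentation A M := by
  classical
  obtain ⟨n, f, hf⟩ := Module.Finite.exists_fin' S M
  have hK := Module.FinitePresentation.fg_ker f hf
  let g : (Fin n → A) →ₗ[A] M := Fintype.linearCombination A (fun i => f (Pi.single i 1))
  let c : (Fin n → S) →ₗ[S] (Fin n → A) := (Algebra.linearMap S A).compLeft (Fin n)
  have hgc : ∀ s, g (c s) = f s := by
    intro s
    have hs : s = ∑ i, s i • (Pi.single i (1 : S) : Fin n → S) := by
      funext j
      simp [Finset.sum_apply, Pi.single_apply]
    conv_rhs => rw [hs, map_sum]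
    simp only [g, c, Fintype.linearCombination_apply, LinearMap.compLeft_apply, Function.comp,
      Algebra.linearMap_apply, map_smul, algebraMap_smul]
  have hc : Surjective c := by
    intro a
    choose s hs using fun i => h (a i)
    exact ⟨s, funext hs⟩
  have hg : Surjective g := fun m => by
    obtain ⟨s, rfl⟩ := hf m
    exact ⟨c s, hgc s⟩
  obtain ⟨t, ht⟩ := hK
  refine Module.finitePresentation_of_surjective g hg ⟨t.image c, ?_⟩
  apply le_antisymm
  · rw [Submodule.span_le]
    intro a ha
    simp only [Finset.coe_image, Set.mem_image] at ha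
    obtain ⟨s, hs, rfl⟩ := ha
    have : s ∈ LinearMap.ker f := ht ▸ Submodule.subset_span hs
    simp only [SetLike.mem_coe, LinearMap.mem_ker, hgc]
    exact this
  · intro a ha
    obtain ⟨s, rfl⟩ := hc a
    rw [LinearMap.mem_ker, hgc] at ha
    have hs : s ∈ Submodule.span S (t : Set (Fin n → S)) := ht ▸ ha
    have h1 : c s ∈ Submodule.map c (Submodule.span S (t : Set (Fin n → S))) :=
      Submodule.mem_map_of_mem hs
    rw [Submodule.map_span] at h1
    have h2 : Submodule.span S (c '' (t : Set (Fin n → S))) ≤
        (Submodule.span A (c '' (t : Set (Fin n → S)))).restrictScalars S :=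
      Submodule.span_le_restrictScalars S A _
    simpa using h2 h1

/-- Ascent of finite presentation along a surjective ring map with finitely generated kernel. -/
theorem fp_of_fg_ker (h : Surjective (algebraMap S A)) (hker : (RingHom.ker (algebraMap S A)).FG)
    [Module.FinitePresentation A M] : Module.FinitePresentation S M := by
  have : Module.FinitePresentation S A := by
    refine Module.finitePresentation_of_surjective (Algebra.linearMap S A) h ?_
    have : LinearMap.ker (Algebra.linearMap S A) = RingHom.ker (algebraMap S A) := by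
      ext x; simp
    rw [this]; exact hker
  exact Module.FinitePresentation.trans S M A

end Tower

/-- `M` (an `A`-module) is finitely presented over `S` via `φ : S →+* A`. -/
def FPVia {S A : Type*} [CommRing S] [CommRing A] (φ : S →+* A) (M : Type*) [AddCommGroup M]
    [Module A M] : Prop :=
  @Module.FinitePresentation S M _ _ (Module.compHom M φ)

section Via

variable {T S A : Type*} [CommRing T] [CommRing S] [CommRing A] (M : Type*) [AddCommGroup M]
  [Module A M]

theorem fpVia_of_surjective (φ : S →+* A) (hφ : Surjective φ) (h : FPVia φ M) :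
    Module.FinitePresentation A M := by
  letI : Algebra S A := φ.toAlgebra
  letI : Module S M := Module.compHom M φ
  haveI : IsScalarTower S A M := ⟨fun s a m => by
    change (φ s * a) • m = φ s • (a • m)
    rw [mul_smul]⟩
  haveI : Module.FinitePresentation S M := h
  exact fp_of_surjective_algebraMap (S := S) (A := A) hφ

theorem fpVia_comp_iff (ψ : T →+* S) (φ : S →+* A) (hψ : Surjective ψ)
    (hker : (RingHom.ker ψ).FG) : FPVia (φ.comp ψ) M ↔ FPVia φ M := by
  letI : Module S M := Module.compHom M φ
  letI : Algebra T S := ψ.toAlgebra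
  letI : Module T M := Module.compHom M (φ.comp ψ)
  haveI : IsScalarTower T S M := ⟨fun t s m => by
    change φ (ψ t * s) • m = φ (ψ t) • (φ s • m)
    rw [map_mul, mul_smul]⟩
  constructor
  · intro h
    haveI : Module.FinitePresentation T M := h
    exact fp_of_surjective_algebraMap (S := T) (A := S) hψ
  · intro h
    haveI : Module.FinitePresentation S M := h
    exact fp_of_fg_ker (S := T) (A := S) hψ hker

end Via

section MvPoly

variable {R A : Type*} [CommRing R] [CommRing A] [Algebra R A] {σ τ : Type*} [Finite σ] [Finite τ]
  (M : Type*) [AddCommGroup M] [Module A M]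

theorem fpVia_mvPolynomial_iff (α : MvPolynomial σ R →ₐ[R] A) (hα : Surjective α)
    (β : MvPolynomial τ R →ₐ[R] A) (hβ : Surjective β) :
    FPVia α.toRingHom M ↔ FPVia β.toRingHom M := by
  choose p hp using fun j : τ => hα (β (MvPolynomial.X j))
  choose q hq using fun i : σ => hβ (α (MvPolynomial.X i))
  let ψ : MvPolynomial (σ ⊕ τ) R →ₐ[R] MvPolynomial σ R :=
    MvPolynomial.aeval (Sum.elim MvPolynomial.X p)
  let ψ' : MvPolynomial (σ ⊕ τ) R →ₐ[R] MvPolynomial τ R :=
    MvPolynomial.aeval (Sum.elim q MvPolynomial.X)
  have hψ : Surjective ψ := fun x => ⟨MvPolynomial.rename Sum.inl x, by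
    simp only [ψ, MvPolynomial.aeval_rename]
    have : (Sum.elim MvPolynomial.X p ∘ Sum.inl : σ → MvPolynomial σ R) = MvPolynomial.X := rfl
    rw [this, MvPolynomial.aeval_X_left]; rfl⟩
  have hψ' : Surjective ψ' := fun x => ⟨MvPolynomial.rename Sum.inr x, by
    simp only [ψ', MvPolynomial.aeval_rename]
    have : (Sum.elim q MvPolynomial.X ∘ Sum.inr : τ → MvPolynomial τ R) = MvPolynomial.X := rfl
    rw [this, MvPolynomial.aeval_X_left]; rfl⟩
  have hk : (RingHom.ker ψ.toRingHom).FG := Algebra.FinitePresentation.ker_fG_of_surjective ψ hψ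
  have hk' : (RingHom.ker ψ'.toRingHom).FG :=
    Algebra.FinitePresentation.ker_fG_of_surjective ψ' hψ'
  have hcomp : α.comp ψ = β.comp ψ' := by
    apply MvPolynomial.algHom_ext
    rintro (i | j)
    · simp [ψ, ψ', hq]
    · simp [ψ, ψ', hp]
  have e1 := fpVia_comp_iff M ψ.toRingHom α.toRingHom hψ hk
  have e2 := fpVia_comp_iff M ψ'.toRingHom β.toRingHom hψ' hk'
  have e3 : α.toRingHom.comp ψ.toRingHom = β.toRingHom.comp ψ'.toRingHom := by
    have := congrArg AlgHom.toRingHom hcomp
    exact this
  rw [← e1, ← e2, e3]

end MvPoly

end Groth.Agent.Lib.Helper28
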