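import Groth.Agent.Lib.Helper28.RelFP
import Mathlib.RingTheory.Finiteness.ModuleFinitePresentation
import Mathlib.RingTheory.IntegralClosure.IsIntegral.Basic
import Mathlib.Algebra.MvPolynomial.Equiv

set_option autoImplicit false
set_option linter.style.haveILetI false

namespace Groth.Agent.Lib.Helper28

open Function

section Finite

variable {S S' M : Type*} [CommRing S] [CommRing S'] [Algebra S S'] [AddCommGroup M] [Module S M]
  [Module S' M] [IsScalarTower S S' M]

/-- For a finite, finitely presented ring extension `S → S'`, finite presentation of an
`S'`-module can be checked over `S`. -/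
theorem fp_iff_of_finite_fp [Module.Finite S S'] [Module.FinitePresentation S S'] :
    Module.FinitePresentation S M ↔ Module.FinitePresentation S' M := by
  constructor
  · intro h
    have : Module.Finite S' M := Module.Finite.of_restrictScalars_finite S S' M
    obtain ⟨b, f, hf⟩ := Module.Finite.exists_fin' S' M
    have hK := Module.FinitePresentation.fg_ker (f.restrictScalars S) hf
    obtain ⟨t, ht⟩ := hK
    refine Module.finitePresentation_of_surjective f hf ⟨t, ?_⟩
    apply le_antisymm
    · rw [Submodule.span_le]
      intro x hx
      have : x ∈ LinearMap.ker (f.restrictScalars S) := ht ▸ Submodule.subset_span hx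
      exact this
    · intro x hx
      have h1 : x ∈ LinearMap.ker (f.restrictScalars S) := hx
      rw [← ht] at h1
      exact Submodule.span_le_restrictScalars S S' _ h1
  · intro h
    exact Module.FinitePresentation.trans S M S'

end Finite

section Via2

variable {S S' B : Type*} [CommRing S] [CommRing S'] [CommRing B] [Algebra S S']
  (M : Type*) [AddCommGroup M] [Module B M]

theorem fpVia_algebraMap_comp_iff [Module.Finite S S'] [Module.FinitePresentation S S']
    (φ' : S' →+* B) : FPVia (φ'.comp (algebraMap S S')) M ↔ FPVia φ' M := by
  letI : Module S' M := Module.compHom M φ'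
  letI : Module S M := Module.compHom M (φ'.comp (algebraMap S S'))
  haveI : IsScalarTower S S' M := ⟨fun s s' m => by
    change φ' (s • s') • m = φ' (algebraMap S S' s) • (φ' s' • m)
    rw [Algebra.smul_def, map_mul, mul_smul]⟩
  exact fp_iff_of_finite_fp (S := S) (S' := S') (M := M)

/-- `FPVia` only depends on the resulting scalar action. -/
theorem fpVia_congr {A : Type*} [CommRing A] [Module A M] (φ : S →+* A) (φ' : S →+* B)
    (h : ∀ (s : S) (m : M), φ s • m = φ' s • m) : FPVia φ M ↔ FPVia φ' M := by
  have : Module.compHom M φ = Module.compHom M φ' := Module.ext' _ _ h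
  unfold FPVia
  rw [this]

theorem fpVia_comp_equiv {T : Type*} [CommRing T] (e : T ≃+* S) (φ : S →+* B) :
    FPVia (φ.comp e.toRingHom) M ↔ FPVia φ M := by
  refine fpVia_comp_iff M e.toRingHom φ e.surjective ?_
  have : RingHom.ker e.toRingHom = ⊥ := (RingHom.injective_iff_ker_eq_bot _).mp e.injective
  rw [this]
  exact Submodule.fg_bot

end Via2

end Groth.Agent.Lib.Helper28
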