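import Groth.Prelude.Def_AlgSpMor5

/-!
# Integral morphisms of sheaves (`AlgSp.IsIntegralMor`): composition and cancellation
-/

set_option autoImplicit false
universe u
open CategoryTheory CategoryTheory.Limits AlgebraicGeometry
open AlgSp

namespace Groth.Agent.Lib.Helper28.AlgSpIntegral

variable {S : Scheme.{u}}

/-- Integral morphisms of sheaves are stable under composition. -/
theorem isIntegralMor_comp {F G H : Sp S} (f : F ⟶ G) (g : G ⟶ H)
    (hf : IsIntegralMor f) (hg : IsIntegralMor g) : IsIntegralMor (f ≫ g) := by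
  intro Z hZ t
  obtain ⟨V, iV, pV, sqV, hVa, hVi⟩ := hg hZ t
  obtain ⟨W, iW, pW, sqW, hWa, hWi⟩ := hf hVa pV
  refine ⟨W, iW ≫ iV, pW, ?_, hWa, ?_⟩
  · rw [Functor.map_comp]
    exact sqW.paste_vert sqV
  · rw [Over.comp_left]
    infer_instance

/-- Cancellation: if `h ≫ π` and `π` are integral then `h` is integral. -/
theorem isIntegralMor_of_comp {F G H : Sp S} (h : F ⟶ G) (π : G ⟶ H)
    (hν : IsIntegralMor (h ≫ π)) (hπ : IsIntegralMor π) : IsIntegralMor h := by
  intro T hT t
  obtain ⟨V, iV, pV, sqV, hVa, hVi⟩ := hπ hT (t ≫ π)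
  obtain ⟨W, iW, pW, sqW, hWa, hWi⟩ := hν hT (t ≫ π)
  -- the section `s : T ⟶ V`
  obtain ⟨s, hs1, hs2⟩ : ∃ s : T ⟶ V, (yon S).map s ≫ pV = t ∧ s ≫ iV = 𝟙 T := by
    obtain ⟨s, hs⟩ := (yon S).map_surjective (sqV.lift t (𝟙 _) (by simp))
    refine ⟨s, ?_, ?_⟩
    · rw [hs]; exact sqV.lift_fst _ _ _
    · apply (yon S).map_injective
      rw [Functor.map_comp, hs, CategoryTheory.Functor.map_id]; exact sqV.lift_snd _ _ _
  -- the map `q : W ⟶ V`
  obtain ⟨q, hq1, hq2⟩ : ∃ q : W ⟶ V, (yon S).map q ≫ pV = pW ≫ h ∧ q ≫ iV = iW := by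
    obtain ⟨q, hq⟩ := (yon S).map_surjective
      (sqV.lift (pW ≫ h) ((yon S).map iW) (by rw [Category.assoc]; exact sqW.w))
    refine ⟨q, ?_, ?_⟩
    · rw [hq]; exact sqV.lift_fst _ _ _
    · apply (yon S).map_injective
      rw [Functor.map_comp, hq]; exact sqV.lift_snd _ _ _
  -- the top square is a pullback
  have sqTop : IsPullback pW ((yon S).map q) h pV := by
    refine IsPullback.of_bot ?_ hq1.symm sqV
    rw [← Functor.map_comp, hq2]
    exact sqW
  have sqP : IsPullback (pullback.fst q s) (pullback.snd q s) q s := IsPullback.of_hasPullback q s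
  have sqP' := sqP.map (yon S)
  have sqOut := sqP'.paste_horiz sqTop
  rw [hs1] at sqOut
  have hqi : IsIntegralHom q.left := by
    have h1 : IsIntegralHom (q.left ≫ iV.left) := by
      rw [← Over.comp_left, hq2]; exact hWi
    exact IsIntegralHom.of_comp q.left iV.left
  have hsnd : IsIntegralHom (pullback.snd q s).left :=
    MorphismProperty.of_isPullback (P := @IsIntegralHom) (sqP.map (Over.forget S)) hqi
  refine ⟨pullback q s, pullback.snd q s, (yon S).map (pullback.fst q s) ≫ pW, sqOut, ?_, hsnd⟩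
  exact isAffine_of_isAffineHom (pullback.snd q s).left

end Groth.Agent.Lib.Helper28.AlgSpIntegral
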