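import Mathlib

/-!
# Arithmetic rank: generating an ideal up to radical in low heights
-/

set_option autoImplicit false
universe u

namespace Groth.Agent.Lib.Helper28.Ara

open Ideal

/-- In a Noetherian ring, for every `r` there are `f_1, …, f_r ∈ I` such that every prime containing
the `f_i` but not `I` has height at least `r`. -/
theorem exists_fin_height_le (R : Type u) [CommRing R] [IsNoetherianRing R] (I : Ideal R) :
    ∀ r : ℕ, ∃ f : Fin r → R, (∀ i, f i ∈ I) ∧
      ∀ (p : Ideal R) [p.IsPrime], Ideal.span (Set.range f) ≤ p → ¬ I ≤ p → (r : ℕ∞) ≤ p.height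
  | 0 => ⟨Fin.elim0, fun i => i.elim0, fun p _ _ _ => by simp⟩
  | r + 1 => by
    classical
    obtain ⟨f, hfI, hf⟩ := exists_fin_height_le R I r
    have hfin : ((Ideal.span (Set.range f)).minimalPrimes).Finite :=
      Ideal.finite_minimalPrimes_of_isNoetherianRing R _
    let S : Finset (Ideal R) := hfin.toFinset.filter (fun q => ¬ I ≤ q)
    have hS : ∀ q ∈ S, q.IsPrime := fun q hq =>
      (hfin.mem_toFinset.1 (Finset.mem_filter.1 hq).1).1.1
    have havoid : ¬ ((I : Set R) ⊆ ⋃ q ∈ (S : Set (Ideal R)), (q : Set R)) := by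
      rw [Ideal.subset_union_prime (f := fun q : Ideal R => q) ⊤ ⊤ (fun q hq _ _ => hS q hq)]
      rintro ⟨q, hq, hIq⟩
      exact (Finset.mem_filter.1 hq).2 hIq
    obtain ⟨g, hgI, hg⟩ := Set.not_subset.1 havoid
    refine ⟨Fin.cons g f, fun i => ?_, fun p _ hp hIp => ?_⟩
    · refine Fin.cases ?_ (fun j => ?_) i
      · simpa using hgI
      · simpa using hfI j
    · rw [Fin.range_cons, Ideal.span_le, Set.insert_subset_iff] at hp
      obtain ⟨hgp, hfp⟩ := hp
      have hJp : Ideal.span (Set.range f) ≤ p := Ideal.span_le.2 hfp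
      obtain ⟨q, hq, hqp⟩ := Ideal.exists_minimalPrimes_le hJp
      have hqprime : q.IsPrime := hq.1.1
      have hIq : ¬ I ≤ q := fun h => hIp (h.trans hqp)
      have hqS : q ∈ S := Finset.mem_filter.2 ⟨hfin.mem_toFinset.2 hq, hIq⟩
      have hgq : g ∉ q := fun h => hg (Set.mem_iUnion₂.2 ⟨q, hqS, h⟩)
      have hlt : q < p := lt_of_le_of_ne hqp (fun h => hgq (h ▸ hgp))
      have h1 : (r : ℕ∞) ≤ q.height := hf q hq.1.2 hIq
      have h2 : q.height + 1 ≤ p.height := Ideal.height_add_one_le_of_lt_of_isPrime hlt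
      calc ((r + 1 : ℕ) : ℕ∞) = (r : ℕ∞) + 1 := by push_cast; rfl
        _ ≤ q.height + 1 := by gcongr
        _ ≤ p.height := h2

/-- If `f i ∈ I` and the primes containing `span f` all contain `I`, the radicals agree. -/
theorem radical_eq_of_primes {R : Type u} [CommRing R] (I : Ideal R) {r : ℕ} (f : Fin r → R)
    (hfI : ∀ i, f i ∈ I)
    (h : ∀ (p : Ideal R) [p.IsPrime], Ideal.span (Set.range f) ≤ p → I ≤ p) :
    I.radical = (Ideal.span (Set.range f)).radical := by
  have hle : Ideal.span (Set.range f) ≤ I :=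
    Ideal.span_le.2 (by rintro _ ⟨i, rfl⟩; exact hfI i)
  refine le_antisymm ?_ (Ideal.radical_mono hle)
  rw [Ideal.radical_eq_sInf (Ideal.span (Set.range f))]
  refine le_sInf fun p hp => ?_
  have hp2 : p.IsPrime := hp.2
  exact hp2.radical_le_iff.2 (h p hp.1)

end Groth.Agent.Lib.Helper28.Ara
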