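import Mathlib

/-! Homogeneous polynomials in two variables over an algebraically closed field. -/

namespace Groth.Agent.Lib.Helper28

open MvPolynomial

variable {k : Type*} [Field k]

/-- scaling all the variables by a common factor `u`. -/
theorem aeval_mul_right_of_isHomogeneous {σ A : Type*} [CommRing A] [Algebra k A]
    {F : MvPolynomial σ k} {d : ℕ} (hF : F.IsHomogeneous d) (g : σ → A) (u : A) :
    aeval (fun i => g i * u) F = aeval g F * u ^ d := by
  classical
  conv_lhs => rw [← F.support_sum_monomial_coeff]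
  conv_rhs => rw [← F.support_sum_monomial_coeff]
  rw [map_sum, map_sum, Finset.sum_mul]
  refine Finset.sum_congr rfl fun m hm => ?_
  rw [aeval_monomial, aeval_monomial, mul_assoc]
  congr 1
  have hdeg : d = ∑ i ∈ m.support, m i := hF.degree_eq_sum_deg_support hm
  rw [Finsupp.prod, Finsupp.prod]
  simp_rw [mul_pow]
  rw [Finset.prod_mul_distrib, Finset.prod_pow_eq_pow_sum, ← hdeg]

theorem aeval_algebraMap_mul_of_isHomogeneous {σ A : Type*} [CommRing A] [Algebra k A]
    {F : MvPolynomial σ k} {d : ℕ} (hF : F.IsHomogeneous d) (a : σ → k) (t : A) :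
    aeval (fun i => algebraMap k A (a i) * t) F = algebraMap k A (eval a F) * t ^ d := by
  rw [aeval_mul_right_of_isHomogeneous hF]
  congr 1
  have : (aeval fun i => (algebraMap k A) (a i)) =
      (Algebra.ofId k A).comp (aeval a : MvPolynomial σ k →ₐ[k] k) := by
    apply MvPolynomial.algHom_ext
    intro i
    simp [Algebra.ofId_apply]
  rw [this]
  simp [Algebra.ofId_apply]

/-- The linear form vanishing at `a`. -/
noncomputable def linForm (a : Fin 2 → k) : MvPolynomial (Fin 2) k :=
  C (a 1) * X 0 - C (a 0) * X 1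

theorem eval_linForm (a : Fin 2 → k) : eval a (linForm a) = 0 := by
  simp [linForm, mul_comm]

theorem not_isUnit_linForm (a : Fin 2 → k) : ¬ IsUnit (linForm a) := by
  intro h
  have := h.map (eval a)
  rw [eval_linForm] at this
  exact not_isUnit_zero this

/-- A homogeneous polynomial vanishing at `a ≠ 0` is divisible by the linear form of `a`. -/
theorem linForm_dvd_of_eval_eq_zero {F : MvPolynomial (Fin 2) k} {d : ℕ} (hF : F.IsHomogeneous d)
    (a : Fin 2 → k) (ha : a ≠ 0) (h0 : eval a F = 0) : linForm a ∣ F := by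
  -- choose an index with `a j ≠ 0`
  obtain ⟨j, hj⟩ : ∃ j, a j ≠ 0 := by
    by_contra hcon
    push Not at hcon
    exact ha (funext hcon)
  -- the two substitutions agree modulo the ideal of the linear form
  have hgen : ∀ i, C (a j) * X i - C (a i) * X j ∈ Ideal.span {linForm a} := by
    intro i
    fin_cases j <;> fin_cases i
    · simp
    · have : C (a 0) * X 1 - C (a 1) * X 0 = (-1 : MvPolynomial (Fin 2) k) * linForm a := by
        simp only [linForm]; ring
      simp only [Fin.zero_eta, Fin.mk_one]
      rw [this]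
      exact Ideal.mul_mem_left _ _ (Ideal.subset_span rfl)
    · simp only [Fin.zero_eta, Fin.mk_one]
      exact Ideal.subset_span rfl
    · simp
  have hcong : (Ideal.Quotient.mkₐ k (Ideal.span {linForm a})).comp
      (aeval (fun i => (X i : MvPolynomial (Fin 2) k) * C (a j))) =
      (Ideal.Quotient.mkₐ k (Ideal.span {linForm a})).comp
      (aeval (fun i => (C (a i) : MvPolynomial (Fin 2) k) * X j)) := by
    apply MvPolynomial.algHom_ext
    intro i
    simp only [AlgHom.comp_apply, aeval_X, Ideal.Quotient.mkₐ_eq_mk]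
    rw [Ideal.Quotient.eq, mul_comm (X i)]
    exact hgen i
  have h1 := DFunLike.congr_fun hcong F
  simp only [AlgHom.comp_apply] at h1
  rw [aeval_mul_right_of_isHomogeneous hF] at h1
  have h2 : aeval (fun i => (C (a i) : MvPolynomial (Fin 2) k) * X j) F = 0 := by
    have := aeval_algebraMap_mul_of_isHomogeneous (A := MvPolynomial (Fin 2) k) hF a (X j)
    rw [h0, map_zero, zero_mul] at this
    exact this
  rw [h2, map_zero, Ideal.Quotient.mkₐ_eq_mk, Ideal.Quotient.eq_zero_iff_mem,
    Ideal.mem_span_singleton] at h1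
  have h3 : aeval (fun i => (X i : MvPolynomial (Fin 2) k)) F = F := by
    have : (aeval (fun i => (X i : MvPolynomial (Fin 2) k))) = AlgHom.id k _ := by
      apply MvPolynomial.algHom_ext; intro i; simp
    rw [this]; rfl
  rw [h3] at h1
  have hu : IsUnit ((C (a j) : MvPolynomial (Fin 2) k) ^ d) :=
    (IsUnit.map C (isUnit_iff_ne_zero.mpr hj)).pow d
  exact (hu.dvd_mul_right).mp h1

/-- A nonunit polynomial in two variables over an algebraically closed field has a nonzero zero. -/
theorem exists_ne_zero_eval_eq_zero [IsAlgClosed k] {H : MvPolynomial (Fin 2) k}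
    (hH : ¬ IsUnit H) : ∃ a : Fin 2 → k, a ≠ 0 ∧ eval a H = 0 := by
  by_contra hcon
  push Not at hcon
  have hX : ∀ j : Fin 2, ∃ n : ℕ, H ∣ (X j : MvPolynomial (Fin 2) k) ^ n := by
    intro j
    have hmem : (X j : MvPolynomial (Fin 2) k) ∈
        vanishingIdeal k (zeroLocus k (Ideal.span {H})) := by
      rw [mem_vanishingIdeal_iff]
      intro x hx
      have hx0 : eval x H = 0 := by
        have := hx H (Ideal.subset_span rfl)
        simpa [coe_aeval_eq_eval] using this
      have : x = 0 := by
        by_contra hne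
        exact hcon x hne hx0
      simp [this]
    rw [vanishingIdeal_zeroLocus_eq_radical] at hmem
    obtain ⟨n, hn⟩ := hmem
    exact ⟨n, Ideal.mem_span_singleton.mp hn⟩
  obtain ⟨n0, h0⟩ := hX 0
  obtain ⟨n1, h1⟩ := hX 1
  obtain ⟨i0, -, hi0⟩ := (dvd_prime_pow (X_prime (R := k) (i := (0 : Fin 2))) n0).mp h0
  obtain ⟨i1, -, hi1⟩ := (dvd_prime_pow (X_prime (R := k) (i := (1 : Fin 2))) n1).mp h1
  have hass : Associated ((X 0 : MvPolynomial (Fin 2) k) ^ i0) ((X 1 : MvPolynomial (Fin 2) k) ^ i1) :=
    hi0.symm.trans hi1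
  rcases Nat.eq_zero_or_pos i0 with hz | hpos
  · apply hH
    rw [hz, pow_zero] at hi0
    exact (associated_one_iff_isUnit.mp hi0)
  · have hdvd : (X 0 : MvPolynomial (Fin 2) k) ∣ (X 1 : MvPolynomial (Fin 2) k) ^ i1 :=
      (dvd_pow_self _ hpos.ne').trans hass.dvd
    have := (X_prime (R := k) (i := (0 : Fin 2))).dvd_of_dvd_pow hdvd
    rw [X_dvd_X] at this
    exact absurd this (by decide)

section Graded

attribute [local instance] MvPolynomial.gradedAlgebra

theorem homogeneousComponent_mul_of_isHomogeneous {σ : Type*} {G F : MvPolynomial σ k} {d m : ℕ}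
    (hF : F.IsHomogeneous d) (hdm : d ≤ m) :
    homogeneousComponent m (G * F) = homogeneousComponent (m - d) G * F := by
  have h := DirectSum.coe_decompose_mul_of_right_mem_of_le (homogeneousSubmodule σ k)
    (a := G) (b := F) (i := d) (n := m) hF hdm
  have e1 : ((DirectSum.decompose (homogeneousSubmodule σ k) (G * F) m : _) :
      MvPolynomial σ k) = homogeneousComponent m (G * F) :=
    decomposition.decompose'_apply (G * F) m
  have e2 : ((DirectSum.decompose (homogeneousSubmodule σ k) G (m - d) : _) :
      MvPolynomial σ k) = homogeneousComponent (m - d) G :=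
    decomposition.decompose'_apply G (m - d)
  rw [e1, e2] at h
  exact h

end Graded

/-- Binary forms of the same degree without common zero generate all forms of high degree. -/
theorem surjective_of_no_common_zero [IsAlgClosed k] {n : ℕ} (F : Fin n → MvPolynomial (Fin 2) k)
    (d : ℕ) (hF : ∀ i, (F i).IsHomogeneous d)
    (hzero : ∀ a : Fin 2 → k, (∀ i, eval a (F i) = 0) → a = 0) :
    ∃ m : ℕ, d ≤ m ∧ ∀ P : MvPolynomial (Fin 2) k, P.IsHomogeneous m →
      ∃ G : Fin n → MvPolynomial (Fin 2) k, (∀ i, (G i).IsHomogeneous (m - d)) ∧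
        P = ∑ i, F i * G i := by
  classical
  have hX : ∀ j : Fin 2, ∃ N : ℕ, (X j : MvPolynomial (Fin 2) k) ^ N ∈
      Ideal.span (Set.range F) := by
    intro j
    have hmem : (X j : MvPolynomial (Fin 2) k) ∈
        vanishingIdeal k (zeroLocus k (Ideal.span (Set.range F))) := by
      rw [mem_vanishingIdeal_iff]
      intro x hx
      have : x = 0 := by
        apply hzero
        intro i
        have := hx (F i) (Ideal.subset_span ⟨i, rfl⟩)
        simpa [coe_aeval_eq_eval] using this
      simp [this]
    rw [vanishingIdeal_zeroLocus_eq_radical] at hmem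
    exact hmem
  obtain ⟨N0, h0⟩ := hX 0
  obtain ⟨N1, h1⟩ := hX 1
  refine ⟨d + (N0 + N1), Nat.le_add_right _ _, ?_⟩
  intro P hP
  have hPI : P ∈ Ideal.span (Set.range F) := by
    rw [← P.support_sum_monomial_coeff]
    refine Ideal.sum_mem _ fun s hs => ?_
    have hdeg : d + (N0 + N1) = ∑ i ∈ s.support, s i := hP.degree_eq_sum_deg_support hs
    have hsum : ∑ i ∈ s.support, s i = s 0 + s 1 := by
      rw [← Fin.sum_univ_two (f := fun i => s i)]
      refine Finset.sum_subset (Finset.subset_univ _) ?_
      intro i _ hi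
      simpa using hi
    have hmono : monomial s (coeff s P) = C (coeff s P) * (X 0 ^ s 0 * X 1 ^ s 1) := by
      rw [monomial_eq, Finsupp.prod_fintype _ _ (by simp), Fin.prod_univ_two]
    rw [hmono]
    have : N0 ≤ s 0 ∨ N1 ≤ s 1 := by omega
    rcases this with h | h
    · have e : (X 0 : MvPolynomial (Fin 2) k) ^ s 0 = X 0 ^ (s 0 - N0) * X 0 ^ N0 := by
        rw [← pow_add, Nat.sub_add_cancel h]
      rw [e]
      exact Ideal.mul_mem_left _ _ (Ideal.mul_mem_right _ _ (Ideal.mul_mem_left _ _ h0))
    · have e : (X 1 : MvPolynomial (Fin 2) k) ^ s 1 = X 1 ^ (s 1 - N1) * X 1 ^ N1 := by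
        rw [← pow_add, Nat.sub_add_cancel h]
      rw [e]
      exact Ideal.mul_mem_left _ _ (Ideal.mul_mem_left _ _ (Ideal.mul_mem_left _ _ h1))
  obtain ⟨c, hc⟩ := (Ideal.mem_span_range_iff_exists_fun).mp hPI
  refine ⟨fun i => homogeneousComponent (d + (N0 + N1) - d) (c i),
    fun i => homogeneousComponent_isHomogeneous _ _, ?_⟩
  have h2 : homogeneousComponent (d + (N0 + N1)) P = P := homogeneousComponent_of_mem hP |>.trans (by simp)
  rw [← h2, ← hc, map_sum]
  refine Finset.sum_congr rfl fun i _ => ?_
  rw [homogeneousComponent_mul_of_isHomogeneous (hF i) (Nat.le_add_right _ _), mul_comm]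

end Groth.Agent.Lib.Helper28
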