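import Mathlib
import Groth.Agent.Lib.Helper28.ClPush1
set_option autoImplicit false

universe u

open CategoryTheory Limits AlgebraicGeometry TopologicalSpace

attribute [local instance] HasDerivedCategory.standard

namespace Groth.Agent.Lib.Helper28.ClPush

open Groth.Agent.Lib.Helper29.QCoh Groth.Agent.Lib.Helper18.PushStalk
open Groth.Agent.Lib.Helper28.DCohRes Groth.Agent.Lib.Helper17 Groth.Agent.Lib.Helper28.Thick

noncomputable section

variable {Z X : Scheme.{u}} (i : Z ⟶ X)

/-- termwise direct image of complexes -/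
abbrev pushCx : CochainComplex Z.Modules ℤ ⥤ CochainComplex X.Modules ℤ :=
  (Scheme.Modules.pushforward i).mapHomologicalComplex (ComplexShape.up ℤ)

/-- every open of the source of a closed immersion is a preimage -/
lemma exists_opens_preimage_eq [IsClosedImmersion i] (W : Z.Opens) :
    ∃ V : X.Opens, i ⁻¹ᵁ V = W := by
  obtain ⟨t, ht, htU⟩ := i.isEmbedding.isInducing.isOpen_iff.mp W.2
  exact ⟨⟨t, ht⟩, TopologicalSpace.Opens.ext htU⟩

/-- termwise direct image commutes with restriction to opens -/
def pushResIso (V : X.Opens) (L : CochainComplex Z.Modules ℤ) :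
    (resCx V.ι).obj ((pushCx i).obj L) ≅
      (pushCx (i ∣_ V)).obj ((resCx (i ⁻¹ᵁ V).ι).obj L) :=
  HomologicalComplex.Hom.isoOfComponents (fun n => (RpushRes.θ i V).app (L.X n))
    (fun n k _ => ((RpushRes.θ i V).hom.naturality (L.d n k)).symm)

/-- finite type descends along the direct image of a closed immersion -/
theorem isFiniteType_of_pushforward [IsClosedImmersion i] (N : Z.Modules)
    [((Scheme.Modules.pushforward i).obj N).IsFiniteType] : N.IsFiniteType := by
  refine isFiniteType_of_locally_epi N fun z => ?_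
  obtain ⟨V, hzV, P, p, hP, hp⟩ :=
    exists_epi_of_isFiniteType ((Scheme.Modules.pushforward i).obj N) (i z)
  let ψ : P ⟶ (Scheme.Modules.pushforward (i ∣_ V)).obj (N.restrict (i ⁻¹ᵁ V).ι) :=
    p ≫ (RpushRes.θ i V).hom.app N
  haveI : Epi ψ := epi_comp _ _
  have h1 := (H12S19488.main (i ∣_ V) P _ ψ).1
  refine ⟨i ⁻¹ᵁ V, (i ⁻¹ᵁ V).ι, inferInstance, ?_, (Scheme.Modules.pullback (i ∣_ V)).obj P, _,
    isFinLocFree_pullback _ hP, h1⟩
  rw [Scheme.Opens.range_ι]
  exact hzV

/-- data: a closed immersion with pseudo-coherent direct image of the structure sheaf -/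
structure CDat (i : Z ⟶ X) : Prop where
  cl : IsClosedImmersion i
  hO : ∀ m : ℤ, DCoh.IsPseudoCoherentD m
    (DCoh.inD X ((Scheme.Modules.pushforward i).obj (Coh.structureModule Z)))

variable {i}

theorem CDat.restrict (h : CDat i) (V : X.Opens) : CDat (i ∣_ V) := by
  haveI := h.cl
  refine ⟨inferInstance, fun m => ?_⟩
  have h1 := isPseudoCoherentD_resD (h.hO m) V.ι
  refine isPseudoCoherentD_of_iso (resDinDIso V.ι _ ≪≫
    (DerivedCategory.singleFunctor _ 0).mapIso ((RpushRes.θ i V).app _ ≪≫
      (Scheme.Modules.pushforward (i ∣_ V)).mapIso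
        (Scheme.Modules.restrictUnitIso (i ⁻¹ᵁ V).ι))) h1

variable (i)

/-- the direct image of `P`, placed in degree `0`, is pseudo-coherent -/
def PushPC (P : Z.Modules) : Prop :=
  ∀ m : ℤ, DCoh.IsPseudoCoherentD m (DCoh.inD X ((Scheme.Modules.pushforward i).obj P))

variable {i}

lemma PushPC.of_iso {P P' : Z.Modules} (e : P ≅ P') (h : PushPC i P) : PushPC i P' := fun m =>
  isPseudoCoherentD_of_iso ((DerivedCategory.singleFunctor _ 0).mapIso
    ((Scheme.Modules.pushforward i).mapIso e)) (h m)

lemma isPseudoCoherentD_biprod' {m : ℤ} (K L : DCoh.D X) (hK : DCoh.IsPseudoCoherentD m K)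
    (hL : DCoh.IsPseudoCoherentD m L) : DCoh.IsPseudoCoherentD m (K ⊞ L) :=
  (isPseudoCoherentD_triangle m _
    (Pretriangulated.binaryBiproductTriangle_distinguished K L)).2.1 hK hL

lemma PushPC.biprod {A B : Z.Modules} (hA : PushPC i A) (hB : PushPC i B) :
    PushPC i (A ⊞ B) := fun m => by
  haveI : PreservesBinaryBiproducts
      (Scheme.Modules.pushforward i ⋙ DerivedCategory.singleFunctor X.Modules 0) :=
    preservesBinaryBiproducts_of_preservesBiproducts _
  exact isPseudoCoherentD_of_iso
    ((Scheme.Modules.pushforward i ⋙ DerivedCategory.singleFunctor X.Modules 0).mapBiprod A B).symm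
    (isPseudoCoherentD_biprod' _ _ (hA m) (hB m))

lemma pushPC_of_isZero {P : Z.Modules} (h : IsZero P) : PushPC i P := fun _ =>
  isPseudoCoherentD_of_isZero_homology fun n _ =>
    (DerivedCategory.homologyFunctor X.Modules n).map_isZero
      ((DerivedCategory.singleFunctor X.Modules 0).map_isZero
        ((Scheme.Modules.pushforward i).map_isZero h))

/-- `O_X^{n+1} ≅ O_X ⊞ O_X^n`. -/
def freeModSuccIso' (X : Scheme.{u}) (n : ℕ) :
    FlatMod.freeMod X (n + 1) ≅ unitM X ⊞ FlatMod.freeMod X n :=
  ((extendCofanIsColimit (fun _ : Fin (n + 1) => unitM X)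
    (coproductIsCoproduct (fun _ : Fin n => unitM X))
    (coprodIsCoprod (unitM X) (∐ fun _ : Fin n => unitM X))).coconePointUniqueUpToIso
      (coproductIsCoproduct (fun _ : Fin (n + 1) => unitM X))).symm ≪≫
    (biprod.isoCoprod (unitM X) (FlatMod.freeMod X n)).symm

lemma pushPC_freeMod (hC : CDat i) (n : ℕ) : PushPC i (FlatMod.freeMod Z n) := by
  induction n with
  | zero =>
    apply pushPC_of_isZero
    rw [IsZero.iff_id_eq_zero]
    apply Sigma.hom_ext
    intro k
    exact k.elim0
  | succ n ih =>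
    exact PushPC.of_iso (freeModSuccIso' Z n).symm (PushPC.biprod hC.hO ih)

theorem pushPC_of_isFinLocFree (hC : CDat i) {P : Z.Modules} (hP : FlatMod.IsFinLocFree P) :
    PushPC i P := by
  haveI := hC.cl
  intro m
  refine isPseudoCoherentD_of_locally fun x => ?_
  by_cases hx : x ∈ Set.range i.base
  · obtain ⟨z, rfl⟩ := hx
    obtain ⟨W, n, hzW, ⟨e⟩⟩ := hP z
    obtain ⟨V, rfl⟩ := exists_opens_preimage_eq i W
    refine ⟨V, V.ι, inferInstance, by rw [Scheme.Opens.range_ι]; exact hzW, ?_⟩
    exact isPseudoCoherentD_of_iso (resDinDIso V.ι _ ≪≫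
      (DerivedCategory.singleFunctor _ 0).mapIso ((RpushRes.θ i V).app _ ≪≫
        (Scheme.Modules.pushforward (i ∣_ V)).mapIso e)).symm
      (pushPC_freeMod (hC.restrict V) n m)
  · let V : X.Opens := ⟨(Set.range i.base)ᶜ, i.isClosedEmbedding.isClosed_range.isOpen_compl⟩
    refine ⟨V, V.ι, inferInstance, by rw [Scheme.Opens.range_ι]; exact hx, ?_⟩
    have hz : IsZero (((Scheme.Modules.pushforward i).obj P).restrict V.ι) :=
      isZero_restrict_of_stalk _ V fun v =>
        subsingleton_stalk_of_notMem_range i P i.isClosedEmbedding.isClosed_range _ v.2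
    refine isPseudoCoherentD_of_iso (resDinDIso V.ι _).symm ?_
    exact isPseudoCoherentD_of_isZero_homology fun n _ =>
      (DerivedCategory.homologyFunctor _ n).map_isZero
        ((DerivedCategory.singleFunctor _ 0).map_isZero hz)

end

end Groth.Agent.Lib.Helper28.ClPush
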