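import Mathlib
import Groth.Agent.Lib.Helper28.ClPush2
set_option autoImplicit false

universe u

open CategoryTheory Limits AlgebraicGeometry TopologicalSpace

attribute [local instance] HasDerivedCategory.standard

namespace Groth.Agent.Lib.Helper28.ClPush

open Groth.Agent.Lib.Helper29.QCoh Groth.Agent.Lib.Helper18.PushStalk
open Groth.Agent.Lib.Helper28.DCohRes Groth.Agent.Lib.Helper17 Groth.Agent.Lib.Helper28.Thick
open Groth.Agent.Lib.Helper28.DescPC

noncomputable section

variable {Z X : Scheme.{u}} {i : Z ⟶ X}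

/-- `PushPC` in any degree -/
lemma PushPC.single {P : Z.Modules} (h : PushPC i P) (b m : ℤ) :
    DCoh.IsPseudoCoherentD m (DerivedCategory.Q.obj ((pushCx i).obj
      ((HomologicalComplex.single Z.Modules (ComplexShape.up ℤ) b).obj P))) := by
  have e1 := DerivedCategory.Q.mapIso ((HomologicalComplex.singleMapHomologicalComplex
    (Scheme.Modules.pushforward i) (ComplexShape.up ℤ) b).app P)
  have e2 := ((DerivedCategory.singleFunctors X.Modules).shiftIso (-b) b 0 (by omega)).app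
    ((Scheme.Modules.pushforward i).obj P)
  have h1 := isPseudoCoherentD_shift (h (m - b)) (-b) m (by omega)
  exact isPseudoCoherentD_of_iso (e2 ≪≫ e1.symm) h1

/-- **Lemma A**: global cone step -/
theorem pc_iff_of_singleToCx (hC : CDat i) {m b : ℤ} {L : CochainComplex Z.Modules ℤ}
    {P : Z.Modules} (hP : FlatMod.IsFinLocFree P)
    (φ : P ⟶ L.cycles b) (hφ : IsApprox b (DerivedCategory.Q.map (singleToCx L b φ)))
    (IH : ∀ C : CochainComplex Z.Modules ℤ, (∀ n : ℤ, b - 1 < n → IsZero (C.homology n)) →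
      (DCoh.IsPseudoCoherentD m (DerivedCategory.Q.obj C) ↔
        DCoh.IsPseudoCoherentD m (DerivedCategory.Q.obj ((pushCx i).obj C)))) :
    DCoh.IsPseudoCoherentD m (DerivedCategory.Q.obj L) ↔
      DCoh.IsPseudoCoherentD m (DerivedCategory.Q.obj ((pushCx i).obj L)) := by
  haveI := hC.cl
  let s := singleToCx L b φ
  have hSP := isStrictlyPerfect_single' hP b
  let T := DerivedCategory.Q.mapTriangle.obj (CochainComplex.mappingCone.triangle s)
  have hT : T ∈ distTriang _ := DerivedCategory.mappingCone_triangle_distinguished s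
  let s' := (pushCx i).map s
  let T' := DerivedCategory.Q.mapTriangle.obj (CochainComplex.mappingCone.triangle s')
  have hT' : T' ∈ distTriang _ := DerivedCategory.mappingCone_triangle_distinguished s'
  have hCacyc : ∀ n : ℤ, b - 1 < n → IsZero ((CochainComplex.mappingCone s).homology n) := by
    intro n hn
    have hex := exactAt_mappingCone_of_isApprox s b hφ n (by omega)
    rwa [HomologicalComplex.exactAt_iff_isZero_homology] at hex
  have h₁ : ∀ m' : ℤ, DCoh.IsPseudoCoherentD m' T.obj₁ := fun m' =>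
    isPseudoCoherentD_of_glob _ (𝟙 _) hSP (isApprox_id m' _)
  have h₁' : ∀ m' : ℤ, DCoh.IsPseudoCoherentD m' T'.obj₁ := fun m' =>
    (pushPC_of_isFinLocFree hC hP).single b m'
  have eC : DerivedCategory.Q.obj ((pushCx i).obj (CochainComplex.mappingCone s)) ≅ T'.obj₃ :=
    DerivedCategory.Q.mapIso
      (CochainComplex.mappingCone.mapHomologicalComplexIso s (Scheme.Modules.pushforward i))
  have a1 : DCoh.IsPseudoCoherentD m (DerivedCategory.Q.obj L) ↔
      DCoh.IsPseudoCoherentD m (DerivedCategory.Q.obj (CochainComplex.mappingCone s)) :=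
    ⟨fun h => (isPseudoCoherentD_triangle m T hT).1 (h₁ _) h,
      fun h => (isPseudoCoherentD_triangle m T hT).2.1 (h₁ _) h⟩
  have a2 : DCoh.IsPseudoCoherentD m (DerivedCategory.Q.obj ((pushCx i).obj L)) ↔
      DCoh.IsPseudoCoherentD m T'.obj₃ :=
    ⟨fun h => (isPseudoCoherentD_triangle m T' hT').1 (h₁' _) h,
      fun h => (isPseudoCoherentD_triangle m T' hT').2.1 (h₁' _) h⟩
  rw [a1, IH _ hCacyc, a2]
  exact ⟨fun h => isPseudoCoherentD_of_iso eC h, fun h => isPseudoCoherentD_of_iso eC.symm h⟩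

/-- local-to-global, forward direction -/
theorem pc_push_of_locally (hC : CDat i) {m : ℤ} {L : CochainComplex Z.Modules ℤ}
    (hL : DCoh.IsPseudoCoherentD m (DerivedCategory.Q.obj L))
    (h : ∀ z : Z, ∃ V : X.Opens, i.base z ∈ V ∧
      (DCoh.IsPseudoCoherentD m (DerivedCategory.Q.obj ((resCx (i ⁻¹ᵁ V).ι).obj L)) →
        DCoh.IsPseudoCoherentD m (DerivedCategory.Q.obj
          ((pushCx (i ∣_ V)).obj ((resCx (i ⁻¹ᵁ V).ι).obj L))))) :
    DCoh.IsPseudoCoherentD m (DerivedCategory.Q.obj ((pushCx i).obj L)) := by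
  haveI := hC.cl
  refine isPseudoCoherentD_of_locally fun x => ?_
  by_cases hx : x ∈ Set.range i.base
  · obtain ⟨z, rfl⟩ := hx
    obtain ⟨V, hzV, himp⟩ := h z
    refine ⟨V, V.ι, inferInstance, by rw [Scheme.Opens.range_ι]; exact hzV, ?_⟩
    have h1 : DCoh.IsPseudoCoherentD m (DerivedCategory.Q.obj ((resCx (i ⁻¹ᵁ V).ι).obj L)) :=
      isPseudoCoherentD_of_iso ((resDQ (i ⁻¹ᵁ V).ι).app L)
        (isPseudoCoherentD_resD hL (i ⁻¹ᵁ V).ι)
    exact isPseudoCoherentD_of_iso
      ((resDQ V.ι).app _ ≪≫ DerivedCategory.Q.mapIso (pushResIso i V L)).symm (himp h1)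
  · let V : X.Opens := ⟨(Set.range i.base)ᶜ, i.isClosedEmbedding.isClosed_range.isOpen_compl⟩
    refine ⟨V, V.ι, inferInstance, by rw [Scheme.Opens.range_ι]; exact hx, ?_⟩
    refine isPseudoCoherentD_of_iso ((resDQ V.ι).app _).symm ?_
    refine isPseudoCoherentD_of_isZero_homology fun n _ => ?_
    refine IsZero.of_iso ?_ ((DerivedCategory.homologyFunctorFactors _ n).app _)
    have hz : IsZero (((resCx V.ι).obj ((pushCx i).obj L)).X n) :=
      isZero_restrict_of_stalk _ V fun v =>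
        subsingleton_stalk_of_notMem_range i (L.X n) i.isClosedEmbedding.isClosed_range _ v.2
    exact (HomologicalComplex.ExactAt.of_isZero hz).isZero_homology

/-- local-to-global, backward direction -/
theorem pc_of_push_locally (hC : CDat i) {m : ℤ} {L : CochainComplex Z.Modules ℤ}
    (hP : DCoh.IsPseudoCoherentD m (DerivedCategory.Q.obj ((pushCx i).obj L)))
    (h : ∀ z : Z, ∃ V : X.Opens, i.base z ∈ V ∧
      (DCoh.IsPseudoCoherentD m (DerivedCategory.Q.obj
          ((pushCx (i ∣_ V)).obj ((resCx (i ⁻¹ᵁ V).ι).obj L))) →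
        DCoh.IsPseudoCoherentD m (DerivedCategory.Q.obj ((resCx (i ⁻¹ᵁ V).ι).obj L)))) :
    DCoh.IsPseudoCoherentD m (DerivedCategory.Q.obj L) := by
  haveI := hC.cl
  refine isPseudoCoherentD_of_locally fun z => ?_
  obtain ⟨V, hzV, himp⟩ := h z
  refine ⟨i ⁻¹ᵁ V, (i ⁻¹ᵁ V).ι, inferInstance, by rw [Scheme.Opens.range_ι]; exact hzV, ?_⟩
  have h1 : DCoh.IsPseudoCoherentD m (DerivedCategory.Q.obj
      ((pushCx (i ∣_ V)).obj ((resCx (i ⁻¹ᵁ V).ι).obj L))) :=
    isPseudoCoherentD_of_iso ((resDQ V.ι).app _ ≪≫ DerivedCategory.Q.mapIso (pushResIso i V L))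
      (isPseudoCoherentD_resD hP V.ι)
  exact isPseudoCoherentD_of_iso ((resDQ (i ⁻¹ᵁ V).ι).app L).symm (himp h1)

theorem pc_iff_of_locally (hC : CDat i) {m : ℤ} {L : CochainComplex Z.Modules ℤ}
    (h : ∀ z : Z, ∃ V : X.Opens, i.base z ∈ V ∧
      (DCoh.IsPseudoCoherentD m (DerivedCategory.Q.obj ((resCx (i ⁻¹ᵁ V).ι).obj L)) ↔
        DCoh.IsPseudoCoherentD m (DerivedCategory.Q.obj
          ((pushCx (i ∣_ V)).obj ((resCx (i ⁻¹ᵁ V).ι).obj L))))) :
    DCoh.IsPseudoCoherentD m (DerivedCategory.Q.obj L) ↔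
      DCoh.IsPseudoCoherentD m (DerivedCategory.Q.obj ((pushCx i).obj L)) :=
  ⟨fun hL => pc_push_of_locally hC hL fun z => by
      obtain ⟨V, hzV, hiff⟩ := h z
      exact ⟨V, hzV, hiff.1⟩,
    fun hP => pc_of_push_locally hC hP fun z => by
      obtain ⟨V, hzV, hiff⟩ := h z
      exact ⟨V, hzV, hiff.2⟩⟩

end

end Groth.Agent.Lib.Helper28.ClPush
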