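import Mathlib
import Groth.Agent.Lib.Helper28.ClPush3
set_option autoImplicit false

universe u

open CategoryTheory Limits AlgebraicGeometry TopologicalSpace

attribute [local instance] HasDerivedCategory.standard

namespace Groth.Agent.Lib.Helper28.ClPush

open Groth.Agent.Lib.Helper29.QCoh Groth.Agent.Lib.Helper18.PushStalk
open Groth.Agent.Lib.Helper28.DCohRes Groth.Agent.Lib.Helper17 Groth.Agent.Lib.Helper28.Thick
open Groth.Agent.Lib.Helper28.DescPC

noncomputable section

variable {Z X : Scheme.{u}} {i : Z ⟶ X}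

lemma isZero_homology_resCx {L : CochainComplex Z.Modules ℤ} {n : ℤ} (W : Z.Opens)
    (h : IsZero (L.homology n)) : IsZero (((resCx W.ι).obj L).homology n) :=
  ((Scheme.Modules.restrictFunctor W.ι).map_isZero h).of_iso
    ((mapHCHomologyIso (Scheme.Modules.restrictFunctor W.ι) n).app L)

/-- **Lemma B**: step with a global epimorphism onto the top cohomology -/
theorem pc_iff_of_epi_top (hC : CDat i) {m b : ℤ} {L : CochainComplex Z.Modules ℤ}
    (hac : ∀ n : ℤ, b < n → IsZero (L.homology n))
    {P : Z.Modules} (hP : FlatMod.IsFinLocFree P) (π : P ⟶ L.homology b) [Epi π]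
    (IH : ∀ {Z' X' : Scheme.{u}} (i' : Z' ⟶ X') (_ : CDat i') (C : CochainComplex Z'.Modules ℤ),
      (∀ n : ℤ, b - 1 < n → IsZero (C.homology n)) →
      (DCoh.IsPseudoCoherentD m (DerivedCategory.Q.obj C) ↔
        DCoh.IsPseudoCoherentD m (DerivedCategory.Q.obj ((pushCx i').obj C)))) :
    DCoh.IsPseudoCoherentD m (DerivedCategory.Q.obj L) ↔
      DCoh.IsPseudoCoherentD m (DerivedCategory.Q.obj ((pushCx i).obj L)) := by
  haveI := hC.cl
  have hex : ∀ n, b < n → L.ExactAt n := fun n hn => by
    rw [HomologicalComplex.exactAt_iff_isZero_homology]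
    exact hac n hn
  refine pc_iff_of_locally hC fun z => ?_
  obtain ⟨W, hzW, φ, hφ⟩ := exists_local_singleToCx L b hex hP π z
  obtain ⟨V, rfl⟩ := exists_opens_preimage_eq i W
  exact ⟨V, hzW, pc_iff_of_singleToCx (hC.restrict V) (isFinLocFree_restrict _ hP) φ hφ
    (fun C hCz => IH _ (hC.restrict V) C hCz)⟩

/-- **Lemma C**: step when the top cohomology is of finite type -/
theorem pc_iff_of_isFiniteType (hC : CDat i) {m b : ℤ} {L : CochainComplex Z.Modules ℤ}
    (hac : ∀ n : ℤ, b < n → IsZero (L.homology n)) [(L.homology b).IsFiniteType]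
    (IH : ∀ {Z' X' : Scheme.{u}} (i' : Z' ⟶ X') (_ : CDat i') (C : CochainComplex Z'.Modules ℤ),
      (∀ n : ℤ, b - 1 < n → IsZero (C.homology n)) →
      (DCoh.IsPseudoCoherentD m (DerivedCategory.Q.obj C) ↔
        DCoh.IsPseudoCoherentD m (DerivedCategory.Q.obj ((pushCx i').obj C)))) :
    DCoh.IsPseudoCoherentD m (DerivedCategory.Q.obj L) ↔
      DCoh.IsPseudoCoherentD m (DerivedCategory.Q.obj ((pushCx i).obj L)) := by
  haveI := hC.cl
  refine pc_iff_of_locally hC fun z => ?_
  obtain ⟨W, hzW, P, π, hP, hπ⟩ := exists_epi_of_isFiniteType (L.homology b) z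
  obtain ⟨V, rfl⟩ := exists_opens_preimage_eq i W
  let ε := ((mapHCHomologyIso (Scheme.Modules.restrictFunctor (i ⁻¹ᵁ V).ι) b).app L).symm
  haveI : Epi (π ≫ ε.hom) := epi_comp _ _
  exact ⟨V, hzW, pc_iff_of_epi_top (hC.restrict V)
    (fun n hn => isZero_homology_resCx _ (hac n hn)) hP (π ≫ ε.hom) IH⟩

/-- **The induction.** -/
theorem pc_push_iff (m : ℤ) : ∀ (k : ℕ) {Z X : Scheme.{u}} (i : Z ⟶ X) (_ : CDat i)
    (L : CochainComplex Z.Modules ℤ) (b : ℤ), b + 1 ≤ m + k →
    (∀ n : ℤ, b < n → IsZero (L.homology n)) →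
    (DCoh.IsPseudoCoherentD m (DerivedCategory.Q.obj L) ↔
      DCoh.IsPseudoCoherentD m (DerivedCategory.Q.obj ((pushCx i).obj L))) := by
  have base : ∀ {Z X : Scheme.{u}} (i : Z ⟶ X) (_ : CDat i) (L : CochainComplex Z.Modules ℤ)
      (b : ℤ), b + 1 ≤ m → (∀ n : ℤ, b < n → IsZero (L.homology n)) →
      (DCoh.IsPseudoCoherentD m (DerivedCategory.Q.obj L) ↔
        DCoh.IsPseudoCoherentD m (DerivedCategory.Q.obj ((pushCx i).obj L))) := by
    intro Z X i hC L b hb hac
    haveI := hC.cl
    refine ⟨fun _ => ?_, fun _ => ?_⟩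
    · refine isPseudoCoherentD_of_isZero_homology fun n hn => IsZero.of_iso ?_
        ((DerivedCategory.homologyFunctorFactors X.Modules n).app _)
      exact ((Scheme.Modules.pushforward i).map_isZero (hac n (by omega))).of_iso
        ((mapHCHomologyIso (Scheme.Modules.pushforward i) n).app L)
    · exact isPseudoCoherentD_of_isZero_homology fun n hn => IsZero.of_iso (hac n (by omega))
        ((DerivedCategory.homologyFunctorFactors Z.Modules n).app L)
  intro k
  induction k with
  | zero =>
    intro Z X i hC L b hb hac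
    exact base i hC L b (by simpa using hb) hac
  | succ k ih =>
    intro Z X i hC L b hb hac
    by_cases hbm : b + 1 ≤ m
    · exact base i hC L b hbm hac
    · haveI := hC.cl
      have hmb : m ≤ b := by omega
      have IH : ∀ {Z' X' : Scheme.{u}} (i' : Z' ⟶ X') (_ : CDat i')
          (C : CochainComplex Z'.Modules ℤ),
          (∀ n : ℤ, b - 1 < n → IsZero (C.homology n)) →
          (DCoh.IsPseudoCoherentD m (DerivedCategory.Q.obj C) ↔
            DCoh.IsPseudoCoherentD m (DerivedCategory.Q.obj ((pushCx i').obj C))) :=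
        fun i' hC' C hCz => ih i' hC' C (b - 1) (by push_cast at hb; omega) hCz
      have hz : ∀ n : ℤ, b < n → IsZero (DCoh.HD (DerivedCategory.Q.obj L) n) := fun n hn =>
        IsZero.of_iso (hac n hn) ((DerivedCategory.homologyFunctorFactors Z.Modules n).app L)
      have hz' : ∀ n : ℤ, b < n →
          IsZero (DCoh.HD (DerivedCategory.Q.obj ((pushCx i).obj L)) n) := fun n hn =>
        IsZero.of_iso (((Scheme.Modules.pushforward i).map_isZero (hac n hn)).of_iso
          ((mapHCHomologyIso (Scheme.Modules.pushforward i) n).app L))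
          ((DerivedCategory.homologyFunctorFactors X.Modules n).app _)
      have ft1 : DCoh.IsPseudoCoherentD m (DerivedCategory.Q.obj L) →
          (L.homology b).IsFiniteType := fun h =>
        isFiniteType_of_isPseudoCoherentD (isPseudoCoherentD_mono h hmb) hz
          ((DerivedCategory.homologyFunctorFactors Z.Modules b).app L)
      have ft2 : DCoh.IsPseudoCoherentD m (DerivedCategory.Q.obj ((pushCx i).obj L)) →
          (L.homology b).IsFiniteType := fun h => by
        haveI h1 : ((Scheme.Modules.pushforward i).obj (L.homology b)).IsFiniteType :=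
          isFiniteType_of_isPseudoCoherentD (isPseudoCoherentD_mono h hmb) hz'
            ((DerivedCategory.homologyFunctorFactors X.Modules b).app _ ≪≫
              (mapHCHomologyIso (Scheme.Modules.pushforward i) b).app L)
        exact isFiniteType_of_pushforward i _
      constructor
      · intro h
        haveI := ft1 h
        exact (pc_iff_of_isFiniteType hC hac IH).1 h
      · intro h
        haveI := ft2 h
        exact (pc_iff_of_isFiniteType hC hac IH).2 h

/-- **S1102**: for a closed immersion with pseudo-coherent `i_* O_Z`, `E` is `m`-pseudo-coherent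
iff its termwise direct image is. -/
theorem isPseudoCoherentD_pushforward_iff (i : Z ⟶ X) [IsClosedImmersion i]
    [(Scheme.Modules.pushforward i).Additive] [PreservesFiniteLimits (Scheme.Modules.pushforward i)]
    [PreservesFiniteColimits (Scheme.Modules.pushforward i)]
    (hO : ∀ m : ℤ, DCoh.IsPseudoCoherentD m
      (DCoh.inD X ((Scheme.Modules.pushforward i).obj (Coh.structureModule Z))))
    (E : DCoh.D Z) (m : ℤ) :
    DCoh.IsPseudoCoherentD m E ↔
      DCoh.IsPseudoCoherentD m ((Scheme.Modules.pushforward i).mapDerivedCategory.obj E) := by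
  have hC : CDat i := ⟨inferInstance, hO⟩
  let L := DerivedCategory.Q.objPreimage E
  let e : DerivedCategory.Q.obj L ≅ E := DerivedCategory.Q.objObjPreimageIso E
  let eΦ : (Scheme.Modules.pushforward i).mapDerivedCategory.obj E ≅
      DerivedCategory.Q.obj ((pushCx i).obj L) :=
    (Scheme.Modules.pushforward i).mapDerivedCategory.mapIso e.symm ≪≫
      (Scheme.Modules.pushforward i).mapDerivedCategoryFactors.app L
  have key : DCoh.IsPseudoCoherentD m (DerivedCategory.Q.obj L) ↔
      DCoh.IsPseudoCoherentD m (DerivedCategory.Q.obj ((pushCx i).obj L)) := by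
    constructor
    · intro hL
      refine pc_push_of_locally hC hL fun z => ?_
      obtain ⟨W, b, hzW, hW⟩ := exists_bound_of_pc L m hL z
      obtain ⟨V, rfl⟩ := exists_opens_preimage_eq i W
      refine ⟨V, hzW, (pc_push_iff m (b + 1 - m).toNat (i ∣_ V) (hC.restrict V) _ b
        (by omega) ?_).1⟩
      intro n hn
      exact (isZero_restrict_of_stalk _ _ (fun v => hW _ v.2 n hn)).of_iso
        ((mapHCHomologyIso (Scheme.Modules.restrictFunctor (i ⁻¹ᵁ V).ι) n).app L)
    · intro hP
      refine pc_of_push_locally hC hP fun z => ?_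
      obtain ⟨V, b, hzV, hV⟩ := exists_bound_of_pc ((pushCx i).obj L) m hP (i.base z)
      refine ⟨V, hzV, (pc_push_iff m (b + 1 - m).toNat (i ∣_ V) (hC.restrict V) _ b
        (by omega) ?_).2⟩
      intro n hn
      refine (isZero_restrict_of_stalk _ _ (fun v => ?_)).of_iso
        ((mapHCHomologyIso (Scheme.Modules.restrictFunctor (i ⁻¹ᵁ V).ι) n).app L)
      have h1 := hV (i.base v.1) v.2 n hn
      apply subsingleton_stalk_of_pushforward i (L.homology n) v.1
      let ε := (stalkFunctor X (i.base v.1)).mapIso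
        ((mapHCHomologyIso (Scheme.Modules.pushforward i) n).app L)
      exact @Equiv.subsingleton _ _ (ε.symm.addCommGroupIsoToAddEquiv.toEquiv) h1
  constructor
  · intro h
    exact isPseudoCoherentD_of_iso eΦ.symm (key.1 (isPseudoCoherentD_of_iso e.symm h))
  · intro h
    exact isPseudoCoherentD_of_iso e (key.2 (isPseudoCoherentD_of_iso eΦ h))

end

end Groth.Agent.Lib.Helper28.ClPush
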