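import Mathlib

/-!
# Projectivity of a cokernel and the fibrewise kernel condition
-/

set_option autoImplicit false
universe u v w
open TensorProduct

namespace Groth.Agent.Lib.Helper28.CokerProj

variable {R : Type u} [CommRing R] {M : Type v} {N : Type w} [AddCommGroup M] [Module R M]
  [AddCommGroup N] [Module R N] (d : M →ₗ[R] N)

section Step1

variable (κ : Type*) [CommRing κ] [Algebra R κ]

/-- The fibrewise kernel condition is equivalent to injectivity of `κ ⊗ im d → κ ⊗ N`. -/
theorem ker_baseChange_le_iff :
    LinearMap.ker (d.baseChange κ) ≤ LinearMap.range ((LinearMap.ker d).subtype.baseChange κ) ↔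
      Function.Injective ((LinearMap.range d).subtype.lTensor κ) := by
  have hfac : ∀ x : κ ⊗[R] M, (d.baseChange κ) x =
      (LinearMap.range d).subtype.lTensor κ (d.rangeRestrict.lTensor κ x) := by
    intro x
    have hc : (LinearMap.range d).subtype ∘ₗ d.rangeRestrict = d := LinearMap.ext fun _ => rfl
    rw [← LinearMap.comp_apply, ← LinearMap.lTensor_comp, hc]
    rfl
  have hsurj : Function.Surjective (d.rangeRestrict.lTensor κ) :=
    LinearMap.lTensor_surjective _ d.surjective_rangeRestrict
  have hex : Function.Exact ((LinearMap.ker d).subtype.lTensor κ) (d.rangeRestrict.lTensor κ) := by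
    refine lTensor_exact κ ?_ d.surjective_rangeRestrict
    intro m
    constructor
    · intro hm
      have : d m = 0 := congrArg Subtype.val hm
      exact ⟨⟨m, this⟩, rfl⟩
    · rintro ⟨x, rfl⟩
      exact Subtype.ext x.2
  constructor
  · intro h
    rw [injective_iff_map_eq_zero]
    intro b hb
    obtain ⟨m, rfl⟩ := hsurj b
    have hm : m ∈ LinearMap.ker (d.baseChange κ) := by
      rw [LinearMap.mem_ker, hfac, hb]
    obtain ⟨y, hy⟩ := h hm
    have hy' : (LinearMap.ker d).subtype.lTensor κ y = m := hy
    exact (hex m).mpr ⟨y, hy'⟩
  · intro h x hx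
    rw [LinearMap.mem_ker, hfac] at hx
    have hx' : d.rangeRestrict.lTensor κ x = 0 := h (by rw [hx, map_zero])
    obtain ⟨y, hy⟩ := (hex x).mp hx'
    exact ⟨y, hy⟩

end Step1

section Step2

variable [Module.Finite R M] [Module.Finite R N] [Module.Projective R N] (p : PrimeSpectrum R)

/-- local freeness of the cokernel at `p` is equivalent to injectivity of `κ(p) ⊗ im d → κ(p) ⊗ N`. -/
theorem mem_freeLocus_iff :
    p ∈ Module.freeLocus R (N ⧸ LinearMap.range d) ↔
      Function.Injective ((LinearMap.range d).subtype.lTensor p.asIdeal.ResidueField) := by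
  rw [Module.mem_freeLocus_iff_tensor p (Localization.AtPrime p.asIdeal)]
  obtain ⟨j, hj⟩ : ∃ j : LinearMap.range d →ₗ[R] N, j = (LinearMap.range d).subtype := ⟨_, rfl⟩
  obtain ⟨π, hπ⟩ : ∃ π : N →ₗ[R] N ⧸ LinearMap.range d, π = (LinearMap.range d).mkQ := ⟨_, rfl⟩
  have hex0 : Function.Exact j π := by
    rw [hj, hπ]; exact LinearMap.exact_subtype_mkQ _
  have hπs : Function.Surjective π := by rw [hπ]; exact Submodule.mkQ_surjective _
  have hjinj : Function.Injective j := by rw [hj]; exact Submodule.subtype_injective _
  have hex : Function.Exact (j.baseChange (Localization.AtPrime p.asIdeal))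
      (π.baseChange (Localization.AtPrime p.asIdeal)) :=
    lTensor_exact (Localization.AtPrime p.asIdeal) hex0 hπs
  have hsurj : Function.Surjective (π.baseChange (Localization.AtPrime p.asIdeal)) :=
    LinearMap.lTensor_surjective _ hπs
  have hinj' : Function.Injective (j.baseChange (Localization.AtPrime p.asIdeal)) :=
    Module.Flat.lTensor_preserves_injective_linearMap j hjinj
  have hfinB : Module.Finite R (LinearMap.range d) := Module.Finite.range d
  have hfree : Module.Free (Localization.AtPrime p.asIdeal)
      (Localization.AtPrime p.asIdeal ⊗[R] N) := Module.free_of_flat_of_isLocalRing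
  -- transfer along `cancelBaseChange`
  have hnat := TensorProduct.AlgebraTensorModule.lTensor_comp_cancelBaseChange (R := R)
    (A := Localization.AtPrime p.asIdeal) (B := p.asIdeal.ResidueField)
    (M := p.asIdeal.ResidueField) j
  have hnat' : ∀ z, (j.lTensor p.asIdeal.ResidueField)
      (TensorProduct.AlgebraTensorModule.cancelBaseChange R (Localization.AtPrime p.asIdeal)
        p.asIdeal.ResidueField p.asIdeal.ResidueField _ z) =
      TensorProduct.AlgebraTensorModule.cancelBaseChange R (Localization.AtPrime p.asIdeal)
        p.asIdeal.ResidueField p.asIdeal.ResidueField _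
        (((j.baseChange (Localization.AtPrime p.asIdeal)).lTensor p.asIdeal.ResidueField) z) :=
    fun z => LinearMap.congr_fun hnat z
  have hiff : Function.Injective (j.lTensor p.asIdeal.ResidueField) ↔
      Function.Injective
        ((j.baseChange (Localization.AtPrime p.asIdeal)).lTensor p.asIdeal.ResidueField) := by
    constructor
    · intro h z z' hzz'
      apply (TensorProduct.AlgebraTensorModule.cancelBaseChange R
        (Localization.AtPrime p.asIdeal) p.asIdeal.ResidueField p.asIdeal.ResidueField _).injective
      apply h
      rw [hnat', hnat', hzz']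
    · intro h y y' hyy'
      obtain ⟨z, rfl⟩ := (TensorProduct.AlgebraTensorModule.cancelBaseChange R
        (Localization.AtPrime p.asIdeal) p.asIdeal.ResidueField p.asIdeal.ResidueField _).surjective y
      obtain ⟨z', rfl⟩ := (TensorProduct.AlgebraTensorModule.cancelBaseChange R
        (Localization.AtPrime p.asIdeal) p.asIdeal.ResidueField p.asIdeal.ResidueField _).surjective y'
      rw [hnat', hnat'] at hyy'
      rw [h ((TensorProduct.AlgebraTensorModule.cancelBaseChange R
        (Localization.AtPrime p.asIdeal) p.asIdeal.ResidueField p.asIdeal.ResidueField _).injective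
          hyy')]
  rw [← hj, hiff]
  constructor
  · intro hF
    have hproj : Module.Projective (Localization.AtPrime p.asIdeal)
        (Localization.AtPrime p.asIdeal ⊗[R] (N ⧸ LinearMap.range d)) := Module.Projective.of_free
    have hsplit := (Function.Exact.split_tfae hex hinj' hsurj).out 0 1
    obtain ⟨t, ht⟩ := hsplit.mp (Module.projective_lifting_property _ _ hsurj)
    exact (IsLocalRing.split_injective_iff_lTensor_residueField_injective _).mp ⟨t, ht⟩
  · intro h
    exact Module.free_of_lTensor_residueField_injective
      (j.baseChange (Localization.AtPrime p.asIdeal))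
      (π.baseChange (Localization.AtPrime p.asIdeal)) hsurj hex h

end Step2

section Main

variable [Module.Finite R M] [Module.Finite R N] [Module.Projective R N]

theorem finitePresentation_coker : Module.FinitePresentation R (N ⧸ LinearMap.range d) := by
  have : Module.FinitePresentation R N := Module.finitePresentation_of_projective R N
  refine Module.finitePresentation_of_surjective (LinearMap.range d).mkQ
    (Submodule.mkQ_surjective _) ?_
  rw [Submodule.ker_mkQ, LinearMap.range_eq_map]
  exact Submodule.FG.map _ Module.Finite.fg_top

theorem mem_freeLocus_iff_ker_le (p : PrimeSpectrum R) :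
    p ∈ Module.freeLocus R (N ⧸ LinearMap.range d) ↔
      LinearMap.ker (d.baseChange p.asIdeal.ResidueField) ≤
        LinearMap.range ((LinearMap.ker d).subtype.baseChange p.asIdeal.ResidueField) := by
  rw [mem_freeLocus_iff, ker_baseChange_le_iff]

theorem projective_coker_iff :
    Module.Projective R (N ⧸ LinearMap.range d) ↔
      ∀ p : PrimeSpectrum R,
        LinearMap.ker (d.baseChange p.asIdeal.ResidueField) ≤
          LinearMap.range ((LinearMap.ker d).subtype.baseChange p.asIdeal.ResidueField) := by
  have := finitePresentation_coker d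
  rw [← Module.freeLocus_eq_univ_iff, Set.eq_univ_iff_forall]
  exact forall_congr' fun p => mem_freeLocus_iff_ker_le d p

theorem ker_le_iff_exists_away (p : PrimeSpectrum R) :
    LinearMap.ker (d.baseChange p.asIdeal.ResidueField) ≤
        LinearMap.range ((LinearMap.ker d).subtype.baseChange p.asIdeal.ResidueField) ↔
      ∃ f : R, f ∉ p.asIdeal ∧
        Module.Projective (Localization.Away f)
          (LocalizedModule (Submonoid.powers f) (N ⧸ LinearMap.range d)) := by
  have := finitePresentation_coker d
  rw [← mem_freeLocus_iff_ker_le]
  constructor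
  · intro hp
    obtain ⟨_, ⟨f, rfl⟩, hpf, hsub⟩ := PrimeSpectrum.isTopologicalBasis_basic_opens.exists_subset_of_mem_open
      hp (Module.isOpen_freeLocus (R := R) (M := N ⧸ LinearMap.range d))
    exact ⟨f, hpf, Module.basicOpen_subset_freeLocus_iff.mp hsub⟩
  · rintro ⟨f, hf, hproj⟩
    exact Module.basicOpen_subset_freeLocus_iff.mpr hproj hf

end Main

end Groth.Agent.Lib.Helper28.CokerProj


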