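import Mathlib
import Groth.Agent.Lib.Helper28.TorFiltered
import Groth.Agent.Lib.Helper4.TorLES

/-!
# `Tor` commutes with filtered colimits in the resolved variable
-/

set_option autoImplicit false
universe u
open CategoryTheory CategoryTheory.Limits MonoidalCategory

namespace Groth.Agent.Lib.Helper28.TorFiltered2

open Groth.Agent.Lib.Helper28.HomologyFiltered Groth.Agent.Lib.Helper4

section General

variable {R : Type u} [Ring R] {C : Type*} [Category C]
  {J : Type u} [SmallCategory J] [IsFiltered J]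

theorem nonempty_isColimit_of_leftExact (F₃ F₁ F₂ : C ⥤ ModuleCat.{u} R) (δ : F₃ ⟶ F₁)
    (α : F₁ ⟶ F₂) (hinj : ∀ X, Function.Injective (δ.app X).hom)
    (hzero : ∀ X (x : F₃.obj X), (α.app X).hom ((δ.app X).hom x) = 0)
    (hex : ∀ X (y : F₁.obj X), (α.app X).hom y = 0 → ∃ x, (δ.app X).hom x = y)
    {D : J ⥤ C} (c : Cocone D) (h₁ : IsColimit (F₁.mapCocone c))
    (h₂ : IsColimit (F₂.mapCocone c)) : Nonempty (IsColimit (F₃.mapCocone c)) := by
  have hδ : ∀ {X Y : C} (f : X ⟶ Y) (x : F₃.obj X),
      (δ.app Y).hom ((F₃.map f).hom x) = (F₁.map f).hom ((δ.app X).hom x) := by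
    intro X Y f x
    exact congrArg (fun g => g.hom x) (δ.naturality f)
  have hα : ∀ {X Y : C} (f : X ⟶ Y) (x : F₁.obj X),
      (α.app Y).hom ((F₁.map f).hom x) = (F₂.map f).hom ((α.app X).hom x) := by
    intro X Y f x
    exact congrArg (fun g => g.hom x) (α.naturality f)
  let φ : ∀ j, D.obj j ⟶ c.pt := fun j => c.ι.app j
  have hw₁ : ∀ {j k : J} (f : j ⟶ k) (y : F₁.obj (D.obj j)),
      (F₁.map (φ k)).hom ((F₁.map (D.map f)).hom y) = (F₁.map (φ j)).hom y := by
    intro j k f y
    have := c.w f
    change (F₁.map (D.map f) ≫ F₁.map (φ k)).hom y = _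
    rw [← F₁.map_comp, this]
  apply nonempty_isColimit
  · intro x
    obtain ⟨j, y', hy'⟩ := exists_rep h₁ ((δ.app c.pt).hom x)
    have hy'' : (F₁.map (φ j)).hom y' = (δ.app c.pt).hom x := hy'
    have hu : (F₂.map (φ j)).hom ((α.app (D.obj j)).hom y') = 0 := by
      rw [← hα, hy'', hzero]
    obtain ⟨k, f, hf⟩ := exists_map_eq_zero h₂ j _ hu
    have hf' : (F₂.map (D.map f)).hom ((α.app (D.obj j)).hom y') = 0 := hf
    rw [← hα] at hf'
    obtain ⟨y, hy⟩ := hex _ _ hf'
    refine ⟨k, y, ?_⟩
    change (F₃.map (φ k)).hom y = x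
    apply hinj
    rw [hδ, hy, hw₁, hy'']
  · intro j y hy
    have hy' : (F₃.map (φ j)).hom y = 0 := hy
    have h0 : (F₁.map (φ j)).hom ((δ.app (D.obj j)).hom y) = 0 := by
      rw [← hδ, hy', map_zero]
    obtain ⟨k, f, hf⟩ := exists_map_eq_zero h₁ j ((δ.app (D.obj j)).hom y) h0
    have hf' : (F₁.map (D.map f)).hom ((δ.app (D.obj j)).hom y) = 0 := hf
    refine ⟨k, f, ?_⟩
    change (F₃.map (D.map f)).hom y = 0
    apply hinj
    rw [hδ, hf', map_zero]

end General

section TorDelta

variable {A : Type u} [CommRing A] (T : ShortComplex (ModuleCat.{u} A)) (hT : T.ShortExact)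
include hT in
theorem hS (N : ModuleCat.{u} A) : (tensorSC T (projectiveResolution N).complex).ShortExact :=
  tensorSC_shortExact T hT (projectiveResolution N).complex
    (fun n => (projectiveResolution N).projective n)

/-- the morphism of `tensorSC` induced by a chain map -/
noncomputable def tensorSCMap {Q Q' : ChainComplex (ModuleCat.{u} A) ℕ} (g : Q ⟶ Q') :
    tensorSC T Q ⟶ tensorSC T Q' where
  τ₁ := ((tensorLeft T.X₁).mapHomologicalComplex _).map g
  τ₂ := ((tensorLeft T.X₂).mapHomologicalComplex _).map g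
  τ₃ := ((tensorLeft T.X₃).mapHomologicalComplex _).map g
  comm₁₂ := NatTrans.mapHomologicalComplex_naturality
    ((tensoringLeft (ModuleCat.{u} A)).map T.f) g
  comm₂₃ := NatTrans.mapHomologicalComplex_naturality
    ((tensoringLeft (ModuleCat.{u} A)).map T.g) g

/-- `torIsoHomology` with the target written through `tensorSC` -/
noncomputable def tI₁ (N : ModuleCat.{u} A) (p : ℕ) :
    ((Tor (ModuleCat.{u} A) p).obj T.X₁).obj N ≅
      (tensorSC T (projectiveResolution N).complex).X₁.homology p :=
  torIsoHomology T.X₁ N p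

/-- `torIsoHomology` with the target written through `tensorSC` -/
noncomputable def tI₂ (N : ModuleCat.{u} A) (p : ℕ) :
    ((Tor (ModuleCat.{u} A) p).obj T.X₂).obj N ≅
      (tensorSC T (projectiveResolution N).complex).X₂.homology p :=
  torIsoHomology T.X₂ N p

/-- `torIsoHomology` with the target written through `tensorSC` -/
noncomputable def tI₃ (N : ModuleCat.{u} A) (p : ℕ) :
    ((Tor (ModuleCat.{u} A) p).obj T.X₃).obj N ≅
      (tensorSC T (projectiveResolution N).complex).X₃.homology p :=
  torIsoHomology T.X₃ N p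

theorem tor_obj_map_eq (X : ModuleCat.{u} A) {N N' : ModuleCat.{u} A} (g : N ⟶ N') (p : ℕ) :
    ((Tor (ModuleCat.{u} A) p).obj X).map g =
      (torIsoHomology X N p).hom ≫
        HomologicalComplex.homologyMap (((tensorLeft X).mapHomologicalComplex _).map
          (ProjectiveResolution.lift g (projectiveResolution N) (projectiveResolution N'))) p ≫
        (torIsoHomology X N' p).inv :=
  Functor.leftDerived_map_eq (tensorLeft X) p g _
    (ProjectiveResolution.lift_commutes g _ _)

theorem map₁ {N N' : ModuleCat.{u} A} (g : N ⟶ N') (p : ℕ) :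
    ((Tor (ModuleCat.{u} A) p).obj T.X₁).map g ≫ (tI₁ T N' p).hom =
      (tI₁ T N p).hom ≫ HomologicalComplex.homologyMap (tensorSCMap T
        (ProjectiveResolution.lift g (projectiveResolution N) (projectiveResolution N'))).τ₁ p := by
  have h : ((Tor (ModuleCat.{u} A) p).obj T.X₁).map g =
      (tI₁ T N p).hom ≫ HomologicalComplex.homologyMap (tensorSCMap T
        (ProjectiveResolution.lift g (projectiveResolution N) (projectiveResolution N'))).τ₁ p ≫
        (tI₁ T N' p).inv := tor_obj_map_eq T.X₁ g p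
  rw [h, Category.assoc, Category.assoc, Iso.inv_hom_id, Category.comp_id]

theorem map₃ {N N' : ModuleCat.{u} A} (g : N ⟶ N') (p : ℕ) :
    ((Tor (ModuleCat.{u} A) p).obj T.X₃).map g ≫ (tI₃ T N' p).hom =
      (tI₃ T N p).hom ≫ HomologicalComplex.homologyMap (tensorSCMap T
        (ProjectiveResolution.lift g (projectiveResolution N) (projectiveResolution N'))).τ₃ p := by
  have h : ((Tor (ModuleCat.{u} A) p).obj T.X₃).map g =
      (tI₃ T N p).hom ≫ HomologicalComplex.homologyMap (tensorSCMap T
        (ProjectiveResolution.lift g (projectiveResolution N) (projectiveResolution N'))).τ₃ p ≫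
        (tI₃ T N' p).inv := tor_obj_map_eq T.X₃ g p
  rw [h, Category.assoc, Category.assoc, Iso.inv_hom_id, Category.comp_id]

theorem mapf (N : ModuleCat.{u} A) (p : ℕ) :
    ((Tor (ModuleCat.{u} A) p).map T.f).app N ≫ (tI₂ T N p).hom =
      (tI₁ T N p).hom ≫
        HomologicalComplex.homologyMap (tensorSC T (projectiveResolution N).complex).f p := by
  have h : ((Tor (ModuleCat.{u} A) p).map T.f).app N =
      (tI₁ T N p).hom ≫
        HomologicalComplex.homologyMap (tensorSC T (projectiveResolution N).complex).f p ≫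
        (tI₂ T N p).inv :=
    ProjectiveResolution.leftDerived_app_eq _ (projectiveResolution N) p
  rw [h, Category.assoc, Category.assoc, Iso.inv_hom_id, Category.comp_id]

/-- the connecting map `Tor_{p+1}(X₃, N) ⟶ Tor_p(X₁, N)` -/
noncomputable def δT (N : ModuleCat.{u} A) (p : ℕ) :
    ((Tor (ModuleCat.{u} A) (p + 1)).obj T.X₃).obj N ⟶ ((Tor (ModuleCat.{u} A) p).obj T.X₁).obj N :=
  (tI₃ T N (p + 1)).hom ≫ (hS T hT N).δ (p + 1) p (by simp) ≫ (tI₁ T N p).inv

theorem δT_naturality {N N' : ModuleCat.{u} A} (g : N ⟶ N') (p : ℕ) :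
    ((Tor (ModuleCat.{u} A) (p + 1)).obj T.X₃).map g ≫ δT T hT N' p =
      δT T hT N p ≫ ((Tor (ModuleCat.{u} A) p).obj T.X₁).map g := by
  have h := HomologicalComplex.HomologySequence.δ_naturality
    (tensorSCMap T (ProjectiveResolution.lift g (projectiveResolution N) (projectiveResolution N')))
    (hS T hT N) (hS T hT N') (p + 1) p (by simp)
  rw [← cancel_mono (tI₁ T N' p).hom]
  unfold δT
  simp only [Category.assoc, Iso.inv_hom_id, Category.comp_id]
  rw [map₁, Iso.inv_hom_id_assoc, h, ← Category.assoc, ← Category.assoc, map₃]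

theorem δT_comp (N : ModuleCat.{u} A) (p : ℕ) :
    δT T hT N p ≫ ((Tor (ModuleCat.{u} A) p).map T.f).app N = 0 := by
  rw [← cancel_mono (tI₂ T N p).hom, zero_comp]
  unfold δT
  simp only [Category.assoc]
  rw [mapf, Iso.inv_hom_id_assoc, (hS T hT N).δ_comp (p + 1) p (by simp), comp_zero]

theorem δT_exact (N : ModuleCat.{u} A) (p : ℕ)
    (y : ((Tor (ModuleCat.{u} A) p).obj T.X₁).obj N)
    (hy : (((Tor (ModuleCat.{u} A) p).map T.f).app N).hom y = 0) :
    ∃ x, (δT T hT N p).hom x = y := by
  have hex := (hS T hT N).homology_exact₁ (p + 1) p (by simp)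
  rw [ShortComplex.moduleCat_exact_iff] at hex
  have h1 : (HomologicalComplex.homologyMap (tensorSC T (projectiveResolution N).complex).f p).hom
      ((tI₁ T N p).hom.hom y) = 0 := by
    have := congrArg (fun f => f.hom y) (mapf T N p)
    change (tI₂ T N p).hom.hom ((((Tor (ModuleCat.{u} A) p).map T.f).app N).hom y) = _ at this
    rw [hy, map_zero] at this
    exact this.symm
  obtain ⟨x, hx⟩ := hex ((tI₁ T N p).hom.hom y) h1
  have hx' : ((hS T hT N).δ (p + 1) p (by simp)).hom x = (tI₁ T N p).hom.hom y := hx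
  refine ⟨(tI₃ T N (p + 1)).inv.hom x, ?_⟩
  unfold δT
  change (tI₁ T N p).inv.hom (((hS T hT N).δ (p + 1) p (by simp)).hom
    ((tI₃ T N (p + 1)).hom.hom ((tI₃ T N (p + 1)).inv.hom x))) = y
  have e1 : (tI₃ T N (p + 1)).hom.hom ((tI₃ T N (p + 1)).inv.hom x) = x :=
    congrArg (fun f => f.hom x) (tI₃ T N (p + 1)).inv_hom_id
  rw [e1, hx']
  exact congrArg (fun f => f.hom y) (tI₁ T N p).hom_inv_id

theorem δT_injective (N : ModuleCat.{u} A) (p : ℕ)
    (h2 : IsZero (((Tor (ModuleCat.{u} A) (p + 1)).obj T.X₂).obj N)) :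
    Function.Injective (δT T hT N p).hom := by
  have z2 : IsZero ((tensorSC T (projectiveResolution N).complex).X₂.homology (p + 1)) :=
    h2.of_iso (tI₂ T N (p + 1)).symm
  have hmono : Mono ((hS T hT N).δ (p + 1) p (by simp)) :=
    (hS T hT N).mono_δ _ _ _ z2
  have : Mono (δT T hT N p) := by
    unfold δT
    infer_instance
  exact (ModuleCat.mono_iff_injective _).1 this

/-- `δT` as a natural transformation -/
noncomputable def δNat (p : ℕ) :
    (Tor (ModuleCat.{u} A) (p + 1)).obj T.X₃ ⟶ (Tor (ModuleCat.{u} A) p).obj T.X₁ where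
  app N := δT T hT N p
  naturality _ _ g := δT_naturality T hT g p

end TorDelta

section Main

variable {A : Type u} [CommRing A] (J : Type u) [SmallCategory J] [IsFiltered J]

theorem preservesColimitsOfShape_tor (p : ℕ) : ∀ M : ModuleCat.{u} A,
    PreservesColimitsOfShape J ((Tor (ModuleCat.{u} A) p).obj M) := by
  induction p with
  | zero =>
    intro M
    have : PreservesFiniteColimits (tensorLeft M) := inferInstance
    exact preservesColimitsOfShape_of_natIso (Functor.leftDerivedZeroIsoSelf (tensorLeft M)).symm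
  | succ p ih =>
    intro M
    let T : ShortComplex (ModuleCat.{u} A) :=
      ShortComplex.mk (kernel.ι (Projective.π M)) (Projective.π M) (kernel.condition _)
    have hT : T.ShortExact :=
      { exact := ShortComplex.exact_of_f_is_kernel _ (kernelIsKernel _)
        mono_f := by dsimp [T]; infer_instance
        epi_g := by dsimp [T]; infer_instance }
    have hproj : Module.Projective A (Projective.over M : ModuleCat.{u} A) :=
      ModuleCat.projective_of_module_projective _
    have hflat : Module.Flat A T.X₂ := by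
      change Module.Flat A (Projective.over M : ModuleCat.{u} A)
      infer_instance
    refine ⟨fun {D} => ⟨fun {c} hc => ?_⟩⟩
    have h₁ := isColimitOfPreserves ((Tor (ModuleCat.{u} A) p).obj T.X₁) hc
    have h₂ := isColimitOfPreserves ((Tor (ModuleCat.{u} A) p).obj T.X₂) hc
    exact nonempty_isColimit_of_leftExact ((Tor (ModuleCat.{u} A) (p + 1)).obj T.X₃)
      ((Tor (ModuleCat.{u} A) p).obj T.X₁) ((Tor (ModuleCat.{u} A) p).obj T.X₂)
      (δNat T hT p) ((Tor (ModuleCat.{u} A) p).map T.f)
      (fun X => δT_injective T hT X p (isZero_tor_of_flat _ _ _ (Nat.succ_pos p)))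
      (fun X x => congrArg (fun f => f.hom x) (δT_comp T hT X p))
      (fun X y hy => δT_exact T hT X p y hy) c h₁ h₂

end Main

end Groth.Agent.Lib.Helper28.TorFiltered2


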