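import Mathlib
import Groth.Agent.Lib.Helper28.TorFiltered2
import Groth.Agent.Lib.Helper9.TorSymm
import Groth.Agent.Lib.Lead.ModHomology

/-!
# Tor-dimension is detected by residue fields (Noetherian rings)

`isZero_tor_of_forall_quotient`: if `Tor_i(M, A/I) = 0` for all ideals `I` and all `i > n`, then
`Tor_i(M, N) = 0` for all `N`, `i > n` (dimension shifting; any commutative ring).
`isZero_tor_quotient_of_residueField`: over a Noetherian ring, if `Tor_i(κ(p), M) = 0` for all primes
and all `i > n` then `Tor_i(A/I, M) = 0` for all ideals `I`, `i > n`.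
-/

set_option autoImplicit false
universe u
open CategoryTheory CategoryTheory.Limits MonoidalCategory

namespace Groth.Agent.Lib.Helper28.TorResidue

open Groth.Agent.Lib.Helper4 Groth.Agent.Lib.Helper9.TorSymm Groth.Agent.Lib.Helper28.TorFiltered2

variable {A : Type u} [CommRing A]

/-- dimension shifting: vanishing of `Tor_i(M, A/I)` for `i > n` gives vanishing of all
`Tor_i(M, N)`, `i > n`. -/
theorem isZero_tor_of_forall_quotient (n : ℕ) : ∀ (M : ModuleCat.{u} A),
    (∀ (I : Ideal A) (i : ℕ), n < i →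
      IsZero (((Tor (ModuleCat.{u} A) i).obj M).obj (ModuleCat.of A (A ⧸ I)))) →
    ∀ (N : ModuleCat.{u} A) (i : ℕ), n < i →
      IsZero (((Tor (ModuleCat.{u} A) i).obj M).obj N) := by
  induction n with
  | zero =>
    intro M h N i hi
    have hflat : Module.Flat A M := by
      apply flat_of_isZero_tor_one_quotient
      intro I
      exact isZero_tor_swap (h I 1 (by omega))
    exact isZero_tor_of_flat M N i hi
  | succ n ih =>
    intro M h N i hi
    let T : ShortComplex (ModuleCat.{u} A) :=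
      ShortComplex.mk (kernel.ι (Projective.π M)) (Projective.π M) (kernel.condition _)
    have hT : T.ShortExact :=
      { exact := ShortComplex.exact_of_f_is_kernel _ (kernelIsKernel _)
        mono_f := by dsimp [T]; infer_instance
        epi_g := by dsimp [T]; infer_instance }
    have hproj : Module.Projective A (Projective.over M : ModuleCat.{u} A) :=
      ModuleCat.projective_of_module_projective _
    have hflat : Module.Flat A T.X₂ := by
      change Module.Flat A (Projective.over M : ModuleCat.{u} A)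
      infer_instance
    have hK : ∀ (I : Ideal A) (j : ℕ), n < j →
        IsZero (((Tor (ModuleCat.{u} A) j).obj T.X₁).obj (ModuleCat.of A (A ⧸ I))) := by
      intro I j hj
      exact isZero_tor_X₁ T hT _ j (h I (j + 1) (by omega))
        (isZero_tor_of_flat T.X₂ _ j (by omega))
    have hK' := ih T.X₁ hK N
    obtain ⟨j, rfl⟩ : ∃ j, i = j + 1 := ⟨i - 1, by omega⟩
    have hinj := δT_injective T hT N j (isZero_tor_of_flat T.X₂ N (j + 1) (by omega))
    have hmono : Mono (δT T hT N j) := (ModuleCat.mono_iff_injective _).2 hinj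
    exact IsZero.of_mono (δT T hT N j) (hK' j (by omega))

section SES

variable (I J₁ J₂ : Ideal A) (a : A)

/-- multiplication by `a`, `A/J₁ → A/I` -/
noncomputable def fMap (h₁ : ∀ x, x ∈ J₁ ↔ a * x ∈ I) : (A ⧸ J₁) →ₗ[A] (A ⧸ I) :=
  Submodule.mapQ J₁ I (LinearMap.mulLeft A a) (fun x hx => (h₁ x).1 hx)

/-- the projection `A/I → A/J₂` -/
noncomputable def gMap (h₂ : J₂ = I ⊔ Ideal.span {a}) : (A ⧸ I) →ₗ[A] (A ⧸ J₂) :=
  Submodule.mapQ I J₂ LinearMap.id (by rw [h₂]; exact le_sup_left)

variable {I J₁ J₂ a}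

theorem fMap_mk (h₁ : ∀ x, x ∈ J₁ ↔ a * x ∈ I) (x : A) :
    fMap I J₁ a h₁ (Submodule.Quotient.mk x) = Submodule.Quotient.mk (a * x) := rfl

theorem gMap_mk (h₂ : J₂ = I ⊔ Ideal.span {a}) (x : A) :
    gMap I J₂ a h₂ (Submodule.Quotient.mk x) = Submodule.Quotient.mk x := rfl

theorem fMap_injective (h₁ : ∀ x, x ∈ J₁ ↔ a * x ∈ I) : Function.Injective (fMap I J₁ a h₁) := by
  rw [injective_iff_map_eq_zero]
  intro y hy
  obtain ⟨x, rfl⟩ := Submodule.Quotient.mk_surjective _ y
  rw [fMap_mk, Submodule.Quotient.mk_eq_zero] at hy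
  rw [Submodule.Quotient.mk_eq_zero]
  exact (h₁ x).2 hy

theorem gMap_surjective (h₂ : J₂ = I ⊔ Ideal.span {a}) : Function.Surjective (gMap I J₂ a h₂) := by
  intro y
  obtain ⟨x, rfl⟩ := Submodule.Quotient.mk_surjective _ y
  exact ⟨Submodule.Quotient.mk x, rfl⟩

theorem exact_fMap_gMap (h₁ : ∀ x, x ∈ J₁ ↔ a * x ∈ I) (h₂ : J₂ = I ⊔ Ideal.span {a}) :
    Function.Exact (fMap I J₁ a h₁) (gMap I J₂ a h₂) := by
  intro y
  obtain ⟨x, rfl⟩ := Submodule.Quotient.mk_surjective _ y
  constructor
  · intro hy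
    rw [gMap_mk, Submodule.Quotient.mk_eq_zero, h₂, Submodule.mem_sup] at hy
    obtain ⟨i, hi, s, hs, rfl⟩ := hy
    obtain ⟨c, rfl⟩ := Ideal.mem_span_singleton'.1 hs
    refine ⟨Submodule.Quotient.mk c, ?_⟩
    rw [fMap_mk, eq_comm, ← sub_eq_zero, ← Submodule.Quotient.mk_sub, Submodule.Quotient.mk_eq_zero]
    have : i + c * a - a * c = i := by ring
    rw [this]
    exact hi
  · rintro ⟨y', hy'⟩
    obtain ⟨c, rfl⟩ := Submodule.Quotient.mk_surjective _ y'
    rw [← hy', fMap_mk, gMap_mk, Submodule.Quotient.mk_eq_zero, h₂]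
    exact Submodule.mem_sup_right (Ideal.mul_mem_right _ _ (Ideal.mem_span_singleton_self a))

/-- the short exact sequence `0 → A/J₁ → A/I → A/J₂ → 0` -/
noncomputable def TT (h₁ : ∀ x, x ∈ J₁ ↔ a * x ∈ I) (h₂ : J₂ = I ⊔ Ideal.span {a}) :
    ShortComplex (ModuleCat.{u} A) :=
  ShortComplex.mk (ModuleCat.ofHom (fMap I J₁ a h₁)) (ModuleCat.ofHom (gMap I J₂ a h₂)) (by
    apply ModuleCat.hom_ext
    apply LinearMap.ext
    intro y
    exact (exact_fMap_gMap h₁ h₂).apply_apply_eq_zero y)

theorem TT_shortExact (h₁ : ∀ x, x ∈ J₁ ↔ a * x ∈ I) (h₂ : J₂ = I ⊔ Ideal.span {a}) :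
    (TT h₁ h₂).ShortExact :=
  ModuleCat.shortComplex_shortExact _ (exact_fMap_gMap h₁ h₂) (fMap_injective h₁)
    (gMap_surjective h₂)

end SES

section Denominators

open TensorProduct

/-- the inclusion `A/I → κ(I)` as an `A`-linear map -/
noncomputable def φ (I : Ideal A) [I.IsPrime] : (A ⧸ I) →ₗ[A] I.ResidueField :=
  (IsScalarTower.toAlgHom A (A ⧸ I) I.ResidueField).toLinearMap

theorem φ_injective (I : Ideal A) [I.IsPrime] : Function.Injective (φ I) :=
  Ideal.injective_algebraMap_quotient_residueField I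

theorem φ_apply (I : Ideal A) [I.IsPrime] (x : A ⧸ I) :
    φ I x = algebraMap (A ⧸ I) I.ResidueField x := rfl

/-- clearing denominators in `κ(I) ⊗ Y` -/
theorem exists_smul_eq (I : Ideal A) [I.IsPrime] (Y : Type u) [AddCommGroup Y] [Module A Y]
    (w : I.ResidueField ⊗[A] Y) :
    ∃ a : A, a ∉ I ∧ ∃ w' : (A ⧸ I) ⊗[A] Y, a • w = LinearMap.rTensor Y (φ I) w' := by
  induction w using TensorProduct.induction_on with
  | zero =>
    refine ⟨1, ?_, 0, by simp⟩
    intro h1
    exact (Ideal.IsPrime.ne_top inferInstance) (I.eq_top_of_isUnit_mem h1 isUnit_one)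
  | tmul c y =>
    obtain ⟨⟨s, t⟩, hst⟩ := IsLocalization.surj (nonZeroDivisors (A ⧸ I)) c
    obtain ⟨a, ha⟩ := Ideal.Quotient.mk_surjective (t : A ⧸ I)
    refine ⟨a, ?_, s ⊗ₜ[A] y, ?_⟩
    · intro haI
      have : (t : A ⧸ I) = 0 := by
        rw [← ha]
        exact Ideal.Quotient.eq_zero_iff_mem.2 haI
      exact nonZeroDivisors.ne_zero t.2 this
    · rw [LinearMap.rTensor_tmul, TensorProduct.smul_tmul', φ_apply]
      congr 1
      simp only at hst
      rw [← hst, Algebra.smul_def, IsScalarTower.algebraMap_apply A (A ⧸ I) I.ResidueField,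
        mul_comm]
      congr 2
  | add w₁ w₂ h₁ h₂ =>
    obtain ⟨a₁, ha₁, w₁', e₁⟩ := h₁
    obtain ⟨a₂, ha₂, w₂', e₂⟩ := h₂
    refine ⟨a₁ * a₂, ?_, a₂ • w₁' + a₁ • w₂', ?_⟩
    · intro h
      rcases Ideal.IsPrime.mem_or_mem inferInstance h with h | h
      · exact ha₁ h
      · exact ha₂ h
    · rw [smul_add, map_add, map_smul, map_smul, ← e₁, ← e₂, smul_smul, smul_smul, mul_comm a₂ a₁]

end Denominators

section StepA

open Groth.Agent.Lib.Lead.ModHomology

variable (M : ModuleCat.{u} A)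

theorem isZero_tor_succ_iff (X : ModuleCat.{u} A) (i : ℕ) :
    IsZero (((Tor (ModuleCat.{u} A) (i + 1)).obj X).obj M) ↔
    ∀ z : (X ⊗ (projectiveResolution M).complex.X (i + 1) : ModuleCat.{u} A),
      (X ◁ (projectiveResolution M).complex.d (i + 1) i).hom z = 0 →
      ∃ w : (X ⊗ (projectiveResolution M).complex.X (i + 2) : ModuleCat.{u} A),
        (X ◁ (projectiveResolution M).complex.d (i + 2) (i + 1)).hom w = z := by
  rw [(torIsoHomology X M (i + 1)).isZero_iff, ← HomologicalComplex.exactAt_iff_isZero_homology,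
    HomologicalComplex.exactAt_iff' _ (i + 2) (i + 1) i (by simp) (by simp),
    ShortComplex.moduleCat_exact_iff]
  rfl

theorem isZero_tor_of_subsingleton (X : ModuleCat.{u} A) [Subsingleton X] (i : ℕ) :
    IsZero (((Tor (ModuleCat.{u} A) (i + 1)).obj X).obj M) := by
  rw [isZero_tor_succ_iff]
  intro z _
  have : Subsingleton (X ⊗ (projectiveResolution M).complex.X (i + 1) : ModuleCat.{u} A) := by
    change Subsingleton (TensorProduct A X ((projectiveResolution M).complex.X (i + 1)))
    infer_instance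
  exact ⟨0, Subsingleton.elim _ _⟩

theorem flat_resolution_X (i : ℕ) : Module.Flat A ((projectiveResolution M).complex.X i) := by
  have := (projectiveResolution M).projective i
  have h1 : Module.Projective A ((projectiveResolution M).complex.X i) :=
    ModuleCat.projective_of_module_projective _
  infer_instance

theorem prime_case (I : Ideal A) [I.IsPrime] (i : ℕ)
    (hk : IsZero (((Tor (ModuleCat.{u} A) (i + 1)).obj (ModuleCat.of A I.ResidueField)).obj M))
    (hbig : ∀ a : A, a ∉ I → IsZero (((Tor (ModuleCat.{u} A) (i + 2)).obj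
      (ModuleCat.of A (A ⧸ (I ⊔ Ideal.span {a})))).obj M)) :
    IsZero (((Tor (ModuleCat.{u} A) (i + 1)).obj (ModuleCat.of A (A ⧸ I))).obj M) := by
  rw [isZero_tor_succ_iff]
  rw [isZero_tor_succ_iff] at hk
  set Q := (projectiveResolution M).complex with hQ
  intro z hz
  let φc : ModuleCat.of A (A ⧸ I) ⟶ ModuleCat.of A I.ResidueField := ModuleCat.ofHom (φ I)
  have hexch : ∀ (p q : ℕ) (y : (ModuleCat.of A (A ⧸ I) ⊗ Q.X p : ModuleCat.{u} A)),
      (ModuleCat.of A I.ResidueField ◁ Q.d p q).hom ((φc ▷ Q.X p).hom y) =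
        (φc ▷ Q.X q).hom ((ModuleCat.of A (A ⧸ I) ◁ Q.d p q).hom y) := by
    intro p q y
    exact (congrArg (fun f => f.hom y) (whisker_exchange φc (Q.d p q))).symm
  have hcyc : (ModuleCat.of A I.ResidueField ◁ Q.d (i + 1) i).hom ((φc ▷ Q.X (i + 1)).hom z) = 0 := by
    rw [hexch, hz, map_zero]
  obtain ⟨w, hw⟩ := hk _ hcyc
  obtain ⟨a, ha, w', hw'⟩ := exists_smul_eq I (Q.X (i + 2)) w
  have hw'' : a • w = (φc ▷ Q.X (i + 2)).hom w' := hw'
  have hflat := flat_resolution_X M (i + 1)
  have hinj : Function.Injective (φc ▷ Q.X (i + 1)).hom :=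
    Module.Flat.rTensor_preserves_injective_linearMap (φ I) (φ_injective I)
  have key : a • z = (ModuleCat.of A (A ⧸ I) ◁ Q.d (i + 2) (i + 1)).hom w' := by
    apply hinj
    rw [← hexch, ← hw'', map_smul, map_smul, hw]
  -- the short exact sequence for multiplication by `a`
  have h₁ : ∀ x, x ∈ I ↔ a * x ∈ I := by
    intro x
    constructor
    · intro hx
      exact I.mul_mem_left a hx
    · intro hx
      rcases Ideal.IsPrime.mem_or_mem inferInstance hx with h | h
      · exact absurd h ha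
      · exact h
  have hT := TT_shortExact (I := I) (J₁ := I) (J₂ := I ⊔ Ideal.span {a}) (a := a) h₁ rfl
  have hSS := hS (TT h₁ rfl) hT M
  have hex := hSS.homology_exact₁ (i + 2) (i + 1) (by simp)
  have hz3 : IsZero ((tensorSC (TT h₁ rfl) (projectiveResolution M).complex).X₃.homology (i + 2)) :=
    (hbig a ha).of_iso (torIsoHomology _ M (i + 2)).symm
  have hmono : Mono (HomologicalComplex.homologyMap
      (tensorSC (TT h₁ rfl) (projectiveResolution M).complex).f (i + 1)) :=
    hex.mono_g (hz3.eq_of_src _ _)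
  rw [hc_mono_iff _ (i + 2) (i + 1) i (by simp) (by simp)] at hmono
  have hfa : ∀ y : (ModuleCat.of A (A ⧸ I) ⊗ Q.X (i + 1) : ModuleCat.{u} A),
      ((TT h₁ rfl).f ▷ Q.X (i + 1)).hom y = a • y := by
    intro y
    have : LinearMap.rTensor (Q.X (i + 1)) (fMap I I a h₁) = a • LinearMap.id := by
      apply TensorProduct.ext'
      intro x q
      obtain ⟨x, rfl⟩ := Submodule.Quotient.mk_surjective _ x
      rw [LinearMap.rTensor_tmul, fMap_mk, LinearMap.smul_apply, LinearMap.id_apply,
        TensorProduct.smul_tmul', ← Submodule.Quotient.mk_smul, smul_eq_mul]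
    exact LinearMap.congr_fun this y
  exact hmono z hz ⟨w', by
    change (ModuleCat.of A (A ⧸ I) ◁ Q.d (i + 2) (i + 1)).hom w' = ((TT h₁ rfl).f ▷ Q.X (i + 1)).hom z
    rw [hfa, key]⟩

end StepA

section Main

variable (M : ModuleCat.{u} A)

/-- Over a Noetherian ring, vanishing of `Tor_i(κ(p), M)` for all primes `p` and all `i > n` implies
vanishing of `Tor_i(A/I, M)` for all ideals `I`, `i > n`. -/
theorem isZero_tor_quotient_of_residueField [IsNoetherianRing A] (n : ℕ)
    (h : ∀ (x : Ideal A) [x.IsPrime] (i : ℕ), n < i →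
      IsZero (((Tor (ModuleCat.{u} A) i).obj (ModuleCat.of A x.ResidueField)).obj M))
    (I : Ideal A) : ∀ i : ℕ, n < i →
      IsZero (((Tor (ModuleCat.{u} A) i).obj (ModuleCat.of A (A ⧸ I))).obj M) := by
  refine IsNoetherian.induction (P := fun I : Ideal A => ∀ i : ℕ, n < i →
      IsZero (((Tor (ModuleCat.{u} A) i).obj (ModuleCat.of A (A ⧸ I))).obj M)) ?_ I
  intro (I : Ideal A) ih i hi
  obtain ⟨j, rfl⟩ : ∃ j, i = j + 1 := ⟨i - 1, by omega⟩
  by_cases hex : ∃ a : A, a ∉ I ∧ ∃ x : A, x ∉ I ∧ a * x ∈ I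
  · obtain ⟨a, ha, x, hx, hax⟩ := hex
    let J₁ : Ideal A := Submodule.comap (LinearMap.mulLeft A a) I
    have h₁ : ∀ y, y ∈ J₁ ↔ a * y ∈ I := fun y => Iff.rfl
    have hlt₁ : I < J₁ := by
      refine lt_of_le_of_ne (fun y hy => (h₁ y).2 (Ideal.mul_mem_left I a hy)) ?_
      intro heq
      apply hx
      rw [heq]
      exact (h₁ x).2 hax
    have hlt₂ : I < I ⊔ Ideal.span {a} := by
      refine lt_of_le_of_ne le_sup_left ?_
      intro heq
      apply ha
      rw [heq]
      exact Submodule.mem_sup_right (Ideal.mem_span_singleton_self a)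
    have hT := TT_shortExact (I := I) (J₁ := J₁) (J₂ := I ⊔ Ideal.span {a}) (a := a) h₁ rfl
    exact isZero_tor_X₂ (TT h₁ rfl) hT M (j + 1) (ih J₁ hlt₁ (j + 1) hi)
      (ih (I ⊔ Ideal.span {a}) hlt₂ (j + 1) hi)
  · by_cases htop : I = ⊤
    · have : Subsingleton (ModuleCat.of A (A ⧸ I)) := by
        change Subsingleton (A ⧸ I)
        exact Ideal.Quotient.subsingleton_iff.2 htop
      exact isZero_tor_of_subsingleton M _ j
    · have hprime : Ideal.IsPrime I := by
        refine ⟨htop, ?_⟩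
        intro a x hax
        by_contra hcon
        push Not at hcon
        exact hex ⟨a, hcon.1, x, hcon.2, hax⟩
      refine prime_case M I j (h I (j + 1) hi) ?_
      intro a ha
      have hlt₂ : I < I ⊔ Ideal.span {a} := by
        refine lt_of_le_of_ne le_sup_left ?_
        intro heq
        apply ha
        rw [heq]
        exact Submodule.mem_sup_right (Ideal.mem_span_singleton_self a)
      exact ih _ hlt₂ (j + 2) (by omega)

/-- Over a Noetherian ring, `M` has tor-dimension `≤ n` as soon as `Tor_i(κ(p), M) = 0` for all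
primes `p` and all `i > n`. -/
theorem isZero_tor_of_residueField [IsNoetherianRing A] (n : ℕ)
    (h : ∀ (x : Ideal A) [x.IsPrime] (i : ℕ), n < i →
      IsZero (((Tor (ModuleCat.{u} A) i).obj (ModuleCat.of A x.ResidueField)).obj M))
    (N : ModuleCat.{u} A) (i : ℕ) (hi : n < i) :
    IsZero (((Tor (ModuleCat.{u} A) i).obj N).obj M) := by
  apply isZero_tor_swap
  apply isZero_tor_of_forall_quotient n M _ N i hi
  intro I j hj
  exact isZero_tor_swap (isZero_tor_quotient_of_residueField M n h I j hj)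

end Main

end Groth.Agent.Lib.Helper28.TorResidue
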