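import Mathlib
import Groth.Agent.Lib.Helper28.TorResidue

/-!
# Exactness of a sequence of flat modules is detected by residue fields (Noetherian rings)

`exact_of_forall_residueField`: let `A` be Noetherian, `(E i, D i : E (i+1) → E i)` a sequence of flat
modules with `D ∘ D = 0`.  If `κ(p) ⊗ E` is exact at all spots `i + 1` for all primes `p`, then `E` is
exact at all spots `i + 1`.
-/

set_option autoImplicit false
universe u
open TensorProduct

namespace Groth.Agent.Lib.Helper28.FlatSeqResidue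

open Groth.Agent.Lib.Helper28.TorResidue

variable {A : Type u} [CommRing A]
  (E : ℕ → Type u) [∀ i, AddCommGroup (E i)] [∀ i, Module A (E i)]
  (D : ∀ i, E (i + 1) →ₗ[A] E i)

/-- exactness of `X ⊗ E` at the spot `i + 1` (cycles are boundaries) -/
def ExAt (X : Type u) [AddCommGroup X] [Module A X] (i : ℕ) : Prop :=
  ∀ z : X ⊗[A] E (i + 1), LinearMap.lTensor X (D i) z = 0 →
    ∃ w : X ⊗[A] E (i + 2), LinearMap.lTensor X (D (i + 1)) w = z

variable {E D}

theorem comm_apply {X Y : Type u} [AddCommGroup X] [Module A X] [AddCommGroup Y] [Module A Y]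
    (f : X →ₗ[A] Y) (i : ℕ) (z : X ⊗[A] E (i + 1)) :
    LinearMap.lTensor Y (D i) (LinearMap.rTensor (E (i + 1)) f z) =
      LinearMap.rTensor (E i) f (LinearMap.lTensor X (D i) z) := by
  rw [← LinearMap.comp_apply, ← LinearMap.comp_apply, LinearMap.lTensor_comp_rTensor,
    LinearMap.rTensor_comp_lTensor]

theorem lT_DD (hDD : ∀ i x, D i (D (i + 1) x) = 0) (X : Type u) [AddCommGroup X] [Module A X]
    (i : ℕ) (w : X ⊗[A] E (i + 2)) :
    LinearMap.lTensor X (D i) (LinearMap.lTensor X (D (i + 1)) w) = 0 := by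
  have h0 : D i ∘ₗ D (i + 1) = 0 := LinearMap.ext (fun x => hDD i x)
  rw [← LinearMap.comp_apply, ← LinearMap.lTensor_comp, h0, LinearMap.lTensor_zero,
    LinearMap.zero_apply]

/-- two out of three: the middle term of a short exact sequence -/
theorem exAt_of_shortExact [∀ i, Module.Flat A (E i)] (hDD : ∀ i x, D i (D (i + 1) x) = 0)
    {X₁ X₂ X₃ : Type u} [AddCommGroup X₁] [Module A X₁]
    [AddCommGroup X₂] [Module A X₂] [AddCommGroup X₃] [Module A X₃]
    (f : X₁ →ₗ[A] X₂) (g : X₂ →ₗ[A] X₃) (hf : Function.Injective f) (hg : Function.Surjective g)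
    (hfg : Function.Exact f g) (i : ℕ) (h₁ : ExAt E D X₁ i) (h₃ : ExAt E D X₃ i) :
    ExAt E D X₂ i := by
  intro z hz
  have hz3 : LinearMap.lTensor X₃ (D i) (LinearMap.rTensor (E (i + 1)) g z) = 0 := by
    rw [comm_apply, hz, map_zero]
  obtain ⟨w₃, hw₃⟩ := h₃ _ hz3
  obtain ⟨w₂, hw₂⟩ := LinearMap.rTensor_surjective (E (i + 2)) hg w₃
  have hker : LinearMap.rTensor (E (i + 1)) g (z - LinearMap.lTensor X₂ (D (i + 1)) w₂) = 0 := by
    rw [map_sub, ← comm_apply, hw₂, hw₃, sub_self]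
  obtain ⟨z₁, hz₁⟩ := (rTensor_exact (E (i + 1)) hfg hg _).1 hker
  have hinj : Function.Injective (LinearMap.rTensor (E i) f) :=
    Module.Flat.rTensor_preserves_injective_linearMap f hf
  have hz₁c : LinearMap.lTensor X₁ (D i) z₁ = 0 := by
    apply hinj
    rw [← comm_apply, hz₁, map_sub, hz, map_zero, zero_sub, neg_eq_zero]
    exact lT_DD hDD X₂ i w₂
  obtain ⟨w₁, hw₁⟩ := h₁ _ hz₁c
  refine ⟨w₂ + LinearMap.rTensor (E (i + 2)) f w₁, ?_⟩
  rw [map_add, comm_apply, hw₁, hz₁]
  abel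

theorem rTensor_fMap_apply (I : Ideal A) (a : A) (h₁ : ∀ x, x ∈ I ↔ a * x ∈ I) (Y : Type u)
    [AddCommGroup Y] [Module A Y] (y : (A ⧸ I) ⊗[A] Y) :
    LinearMap.rTensor Y (fMap I I a h₁) y = a • y := by
  have : LinearMap.rTensor Y (fMap I I a h₁) = a • LinearMap.id := by
    apply TensorProduct.ext'
    intro x q
    obtain ⟨x, rfl⟩ := Submodule.Quotient.mk_surjective _ x
    rw [LinearMap.rTensor_tmul, fMap_mk, LinearMap.smul_apply, LinearMap.id_apply,
      TensorProduct.smul_tmul', ← Submodule.Quotient.mk_smul, smul_eq_mul]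
  exact LinearMap.congr_fun this y

/-- the prime case -/
theorem exAt_prime [∀ i, Module.Flat A (E i)] (hDD : ∀ i x, D i (D (i + 1) x) = 0)
    (I : Ideal A) [I.IsPrime] (i : ℕ) (hk : ExAt E D I.ResidueField i)
    (hbig : ∀ a : A, a ∉ I → ExAt E D (A ⧸ (I ⊔ Ideal.span {a})) (i + 1)) :
    ExAt E D (A ⧸ I) i := by
  intro z hz
  have hcyc : LinearMap.lTensor I.ResidueField (D i) (LinearMap.rTensor (E (i + 1)) (φ I) z) = 0 := by
    rw [comm_apply, hz, map_zero]
  obtain ⟨w, hw⟩ := hk _ hcyc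
  obtain ⟨a, ha, w', hw'⟩ := exists_smul_eq I (E (i + 2)) w
  have hinj : Function.Injective (LinearMap.rTensor (E (i + 1)) (φ I)) :=
    Module.Flat.rTensor_preserves_injective_linearMap (φ I) (φ_injective I)
  have key : a • z = LinearMap.lTensor (A ⧸ I) (D (i + 1)) w' := by
    apply hinj
    rw [← comm_apply, ← hw', map_smul, map_smul, hw]
  have h₁ : ∀ x, x ∈ I ↔ a * x ∈ I := by
    intro x
    constructor
    · intro hx
      exact I.mul_mem_left a hx
    · intro hx
      rcases Ideal.IsPrime.mem_or_mem inferInstance hx with h | h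
      · exact absurd h ha
      · exact h
  have h₂ : I ⊔ Ideal.span {a} = I ⊔ Ideal.span {a} := rfl
  have hfg := exact_fMap_gMap h₁ h₂
  have hgsurj := gMap_surjective (I := I) (a := a) h₂
  have hfinj := fMap_injective (I := I) (a := a) h₁
  -- the image of `w'` modulo `a` is a cycle
  have hc3 : LinearMap.lTensor (A ⧸ (I ⊔ Ideal.span {a})) (D (i + 1))
      (LinearMap.rTensor (E (i + 2)) (gMap I _ a h₂) w') = 0 := by
    rw [comm_apply, ← key, ← rTensor_fMap_apply I a h₁, ← LinearMap.comp_apply,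
      ← LinearMap.rTensor_comp]
    have : gMap I _ a h₂ ∘ₗ fMap I I a h₁ = 0 :=
      LinearMap.ext (fun x => hfg.apply_apply_eq_zero x)
    rw [this, LinearMap.rTensor_zero, LinearMap.zero_apply]
  obtain ⟨s₃, hs₃⟩ := hbig a ha _ hc3
  obtain ⟨s, hs⟩ := LinearMap.rTensor_surjective (E (i + 3)) hgsurj s₃
  have hker : LinearMap.rTensor (E (i + 2)) (gMap I _ a h₂)
      (w' - LinearMap.lTensor (A ⧸ I) (D (i + 2)) s) = 0 := by
    rw [map_sub, ← comm_apply, hs, hs₃, sub_self]
  obtain ⟨t, ht⟩ := (rTensor_exact (E (i + 2)) hfg hgsurj _).1 hker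
  rw [rTensor_fMap_apply] at ht
  refine ⟨t, ?_⟩
  have hinj2 : Function.Injective (LinearMap.rTensor (E (i + 1)) (fMap I I a h₁)) :=
    Module.Flat.rTensor_preserves_injective_linearMap _ hfinj
  apply hinj2
  rw [rTensor_fMap_apply, rTensor_fMap_apply, key, ← map_smul, ht, map_sub, lT_DD hDD, sub_zero]

theorem exAt_of_subsingleton (X : Type u) [AddCommGroup X] [Module A X] [Subsingleton X] (i : ℕ) :
    ExAt E D X i := by
  intro z _
  exact ⟨0, Subsingleton.elim _ _⟩

/-- Noetherian induction over ideals -/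
theorem exAt_quotient [IsNoetherianRing A] [∀ i, Module.Flat A (E i)]
    (hDD : ∀ i x, D i (D (i + 1) x) = 0)
    (h : ∀ (p : Ideal A) [p.IsPrime] (i : ℕ), ExAt E D p.ResidueField i) (I : Ideal A) :
    ∀ i : ℕ, ExAt E D (A ⧸ I) i := by
  refine IsNoetherian.induction (P := fun I : Ideal A => ∀ i : ℕ, ExAt E D (A ⧸ I) i) ?_ I
  intro (I : Ideal A) ih i
  by_cases hex : ∃ a : A, a ∉ I ∧ ∃ x : A, x ∉ I ∧ a * x ∈ I
  · obtain ⟨a, ha, x, hx, hax⟩ := hex
    let J₁ : Ideal A := Submodule.comap (LinearMap.mulLeft A a) I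
    have h₁ : ∀ y, y ∈ J₁ ↔ a * y ∈ I := fun y => Iff.rfl
    have hlt₁ : I < J₁ := by
      refine lt_of_le_of_ne (fun y hy => (h₁ y).2 (Ideal.mul_mem_left I a hy)) ?_
      intro heq
      apply hx
      rw [heq]
      exact (h₁ x).2 hax
    have hlt₂ : I < I ⊔ Ideal.span {a} := by
      refine lt_of_le_of_ne le_sup_left ?_
      intro heq
      apply ha
      rw [heq]
      exact Submodule.mem_sup_right (Ideal.mem_span_singleton_self a)
    have h₂ : I ⊔ Ideal.span {a} = I ⊔ Ideal.span {a} := rfl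
    exact exAt_of_shortExact hDD (fMap I J₁ a h₁) (gMap I _ a h₂) (fMap_injective h₁)
      (gMap_surjective h₂) (exact_fMap_gMap h₁ h₂) i (ih J₁ hlt₁ i) (ih _ hlt₂ i)
  · by_cases htop : I = ⊤
    · have : Subsingleton (A ⧸ I) := Ideal.Quotient.subsingleton_iff.2 htop
      exact exAt_of_subsingleton _ i
    · have hprime : Ideal.IsPrime I := by
        refine ⟨htop, ?_⟩
        intro a x hax
        by_contra hcon
        push Not at hcon
        exact hex ⟨a, hcon.1, x, hcon.2, hax⟩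
      refine exAt_prime hDD I i (h I i) ?_
      intro a ha
      have hlt₂ : I < I ⊔ Ideal.span {a} := by
        refine lt_of_le_of_ne le_sup_left ?_
        intro heq
        apply ha
        rw [heq]
        exact Submodule.mem_sup_right (Ideal.mem_span_singleton_self a)
      exact ih _ hlt₂ (i + 1)

/-- the comparison `(A/⊥) ⊗ Y ≃ Y` -/
noncomputable def botEquiv (Y : Type u) [AddCommGroup Y] [Module A Y] :
    (A ⧸ (⊥ : Ideal A)) ⊗[A] Y ≃ₗ[A] Y :=
  (TensorProduct.congr (Submodule.quotEquivOfEqBot (⊥ : Ideal A) rfl) (LinearEquiv.refl A Y)) ≪≫ₗ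
    TensorProduct.lid A Y

theorem botEquiv_lTensor {Y Y' : Type u} [AddCommGroup Y] [Module A Y] [AddCommGroup Y']
    [Module A Y'] (f : Y →ₗ[A] Y') (z : (A ⧸ (⊥ : Ideal A)) ⊗[A] Y) :
    botEquiv Y' (LinearMap.lTensor _ f z) = f (botEquiv Y z) := by
  induction z using TensorProduct.induction_on with
  | zero => simp
  | tmul x y =>
    simp [botEquiv]
  | add z₁ z₂ h₁ h₂ => rw [map_add, map_add, map_add, map_add, h₁, h₂]

/-- **Exactness of a sequence of flat modules is detected on residue fields.** -/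
theorem exact_of_forall_residueField [IsNoetherianRing A] [∀ i, Module.Flat A (E i)]
    (hDD : ∀ i x, D i (D (i + 1) x) = 0)
    (h : ∀ (p : Ideal A) [p.IsPrime] (i : ℕ), ExAt E D p.ResidueField i) (i : ℕ)
    (x : E (i + 1)) (hx : D i x = 0) : ∃ y : E (i + 2), D (i + 1) y = x := by
  have hb := exAt_quotient hDD h ⊥ i
  obtain ⟨w, hw⟩ := hb ((botEquiv (E (i + 1))).symm x) (by
    apply (botEquiv (E i)).injective
    rw [botEquiv_lTensor, LinearEquiv.apply_symm_apply, hx, map_zero])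
  refine ⟨botEquiv (E (i + 2)) w, ?_⟩
  rw [← botEquiv_lTensor, hw, LinearEquiv.apply_symm_apply]

end Groth.Agent.Lib.Helper28.FlatSeqResidue
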