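import Mathlib
import Groth.Agent.Lib.Helper28.FlatSeqResidue

/-!
# Hand-made mapping cone of a map of ℕ-indexed chain complexes of projective modules, and
detection of quasi-isomorphisms on residue fields (Noetherian rings)
-/

set_option autoImplicit false
universe u
open CategoryTheory TensorProduct

namespace Groth.Agent.Lib.Helper28.ConeResidue

variable {A : Type u} [CommRing A] (P P' : ChainComplex (ModuleCat.{u} A) ℕ)

def coneE : ℕ → Type u
  | 0 => P'.X 0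
  | 1 => P'.X 0
  | (n + 2) => P.X n × P'.X (n + 1)

noncomputable instance : ∀ n, AddCommGroup (coneE P P' n)
  | 0 => inferInstanceAs (AddCommGroup (P'.X 0))
  | 1 => inferInstanceAs (AddCommGroup (P'.X 0))
  | (n + 2) => inferInstanceAs (AddCommGroup (P.X n × P'.X (n + 1)))

noncomputable instance : ∀ n, Module A (coneE P P' n)
  | 0 => inferInstanceAs (Module A (P'.X 0))
  | 1 => inferInstanceAs (Module A (P'.X 0))
  | (n + 2) => inferInstanceAs (Module A (P.X n × P'.X (n + 1)))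

theorem coneE_flat (hP : ∀ n, Module.Projective A (P.X n)) (hP' : ∀ n, Module.Projective A (P'.X n)) :
    ∀ n, Module.Flat A (coneE P P' n)
  | 0 => (inferInstance : Module.Flat A (P'.X 0))
  | 1 => (inferInstance : Module.Flat A (P'.X 0))
  | (n + 2) => (inferInstance : Module.Flat A (P.X n × P'.X (n + 1)))

variable {P P'} (ũ : P ⟶ P')

noncomputable def coneD : ∀ n, coneE P P' (n + 1) →ₗ[A] coneE P P' n
  | 0 => 0
  | 1 => (show P.X 0 × P'.X 1 →ₗ[A] P'.X 0 from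
      (ũ.f 0).hom ∘ₗ LinearMap.fst A _ _ + (P'.d 1 0).hom ∘ₗ LinearMap.snd A _ _)
  | (n + 2) => (show P.X (n + 1) × P'.X (n + 2) →ₗ[A] P.X n × P'.X (n + 1) from
      LinearMap.prod (-((P.d (n + 1) n).hom ∘ₗ LinearMap.fst A _ _))
        ((ũ.f (n + 1)).hom ∘ₗ LinearMap.fst A _ _ + (P'.d (n + 2) (n + 1)).hom ∘ₗ LinearMap.snd A _ _))

theorem hcomm (p q : ℕ) (x : P.X p) :
    (ũ.f q).hom ((P.d p q).hom x) = (P'.d p q).hom ((ũ.f p).hom x) :=
  (congrArg (fun f => f.hom x) (ũ.comm p q)).symm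

theorem hdd (K : ChainComplex (ModuleCat.{u} A) ℕ) (p q r : ℕ) (x : K.X p) :
    (K.d q r).hom ((K.d p q).hom x) = 0 :=
  congrArg (fun f => f.hom x) (K.d_comp_d p q r)

theorem coneD_one (x : P.X 0) (y : P'.X 1) :
    coneD ũ 1 ((x, y) : P.X 0 × P'.X 1) = (ũ.f 0).hom x + (P'.d 1 0).hom y := rfl

theorem coneD_succ (n : ℕ) (x : P.X (n + 1)) (y : P'.X (n + 2)) :
    coneD ũ (n + 2) ((x, y) : P.X (n + 1) × P'.X (n + 2)) =
      ((-(P.d (n + 1) n).hom x, (ũ.f (n + 1)).hom x + (P'.d (n + 2) (n + 1)).hom y) :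
        P.X n × P'.X (n + 1)) := rfl

theorem coneD_coneD : ∀ (n : ℕ) (x : coneE P P' (n + 2)), coneD ũ n (coneD ũ (n + 1) x) = 0
  | 0, x => rfl
  | 1, x => by
    obtain ⟨x, y⟩ := (x : P.X 1 × P'.X 2)
    rw [coneD_succ, coneD_one, map_neg, hcomm, map_add, hdd, add_zero, neg_add_cancel]
    rfl
  | (n + 2), x => by
    obtain ⟨x, y⟩ := (x : P.X (n + 2) × P'.X (n + 3))
    rw [coneD_succ, coneD_succ, map_neg, map_neg, hdd, hcomm, map_add, hdd, add_zero,
      neg_add_cancel, neg_zero, neg_zero]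
    rfl

section Prod

variable (K : Type u) [AddCommGroup K] [Module A K] {M₁ M₂ N : Type u} [AddCommGroup M₁]
  [Module A M₁] [AddCommGroup M₂] [Module A M₂] [AddCommGroup N] [Module A N]

theorem decomp (z : K ⊗[A] (M₁ × M₂)) :
    z = LinearMap.lTensor K (LinearMap.inl A M₁ M₂) (LinearMap.lTensor K (LinearMap.fst A M₁ M₂) z) +
      LinearMap.lTensor K (LinearMap.inr A M₁ M₂) (LinearMap.lTensor K (LinearMap.snd A M₁ M₂) z) := by
  rw [← LinearMap.comp_apply, ← LinearMap.comp_apply, ← LinearMap.lTensor_comp,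
    ← LinearMap.lTensor_comp, ← LinearMap.add_apply, ← LinearMap.lTensor_add]
  have : LinearMap.inl A M₁ M₂ ∘ₗ LinearMap.fst A M₁ M₂ +
      LinearMap.inr A M₁ M₂ ∘ₗ LinearMap.snd A M₁ M₂ = LinearMap.id := by
    apply LinearMap.ext
    rintro ⟨a, b⟩
    simp
  rw [this, LinearMap.lTensor_id, LinearMap.id_apply]

theorem lT_pair (F : M₁ × M₂ →ₗ[A] N) (x : K ⊗[A] M₁) (y : K ⊗[A] M₂) :
    LinearMap.lTensor K F (LinearMap.lTensor K (LinearMap.inl A M₁ M₂) x +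
      LinearMap.lTensor K (LinearMap.inr A M₁ M₂) y) =
    LinearMap.lTensor K (F ∘ₗ LinearMap.inl A M₁ M₂) x +
      LinearMap.lTensor K (F ∘ₗ LinearMap.inr A M₁ M₂) y := by
  rw [map_add, ← LinearMap.comp_apply, ← LinearMap.comp_apply, ← LinearMap.lTensor_comp,
    ← LinearMap.lTensor_comp]

theorem fst_pair (x : K ⊗[A] M₁) (y : K ⊗[A] M₂) :
    LinearMap.lTensor K (LinearMap.fst A M₁ M₂) (LinearMap.lTensor K (LinearMap.inl A M₁ M₂) x +
      LinearMap.lTensor K (LinearMap.inr A M₁ M₂) y) = x := by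
  rw [lT_pair, LinearMap.fst_comp_inl, LinearMap.fst_comp_inr, LinearMap.lTensor_id,
    LinearMap.lTensor_zero, LinearMap.id_apply, LinearMap.zero_apply, add_zero]

theorem snd_pair (x : K ⊗[A] M₁) (y : K ⊗[A] M₂) :
    LinearMap.lTensor K (LinearMap.snd A M₁ M₂) (LinearMap.lTensor K (LinearMap.inl A M₁ M₂) x +
      LinearMap.lTensor K (LinearMap.inr A M₁ M₂) y) = y := by
  rw [lT_pair, LinearMap.snd_comp_inl, LinearMap.snd_comp_inr, LinearMap.lTensor_id,
    LinearMap.lTensor_zero, LinearMap.id_apply, LinearMap.zero_apply, zero_add]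

end Prod

section ExK

open Groth.Agent.Lib.Helper28.FlatSeqResidue

/-- the bottom differential of the cone -/
noncomputable def coneD1 : P.X 0 × P'.X 1 →ₗ[A] P'.X 0 :=
  (ũ.f 0).hom ∘ₗ LinearMap.fst A _ _ + (P'.d 1 0).hom ∘ₗ LinearMap.snd A _ _

/-- the higher differentials of the cone -/
noncomputable def coneDS (n : ℕ) : P.X (n + 1) × P'.X (n + 2) →ₗ[A] P.X n × P'.X (n + 1) :=
  LinearMap.prod (-((P.d (n + 1) n).hom ∘ₗ LinearMap.fst A _ _))
    ((ũ.f (n + 1)).hom ∘ₗ LinearMap.fst A _ _ + (P'.d (n + 2) (n + 1)).hom ∘ₗ LinearMap.snd A _ _)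

theorem coneD1_inl : coneD1 ũ ∘ₗ LinearMap.inl A _ _ = (ũ.f 0).hom := by
  apply LinearMap.ext
  intro x
  simp [coneD1]

theorem coneD1_inr : coneD1 ũ ∘ₗ LinearMap.inr A _ _ = (P'.d 1 0).hom := by
  apply LinearMap.ext
  intro x
  simp [coneD1]

theorem coneDS_inl (n : ℕ) : coneDS ũ n ∘ₗ LinearMap.inl A _ _ =
    LinearMap.inl A _ _ ∘ₗ (-(P.d (n + 1) n).hom) + LinearMap.inr A _ _ ∘ₗ (ũ.f (n + 1)).hom := by
  apply LinearMap.ext
  intro x
  simp [coneDS]

theorem coneDS_inr (n : ℕ) : coneDS ũ n ∘ₗ LinearMap.inr A _ _ =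
    LinearMap.inr A _ _ ∘ₗ (P'.d (n + 2) (n + 1)).hom := by
  apply LinearMap.ext
  intro x
  simp [coneDS]

variable (K : Type u) [AddCommGroup K] [Module A K]

theorem lT_comm (p q : ℕ) (x : K ⊗[A] P.X p) :
    LinearMap.lTensor K (P'.d p q).hom (LinearMap.lTensor K (ũ.f p).hom x) =
      LinearMap.lTensor K (ũ.f q).hom (LinearMap.lTensor K (P.d p q).hom x) := by
  have : (P'.d p q).hom ∘ₗ (ũ.f p).hom = (ũ.f q).hom ∘ₗ (P.d p q).hom :=
    LinearMap.ext (fun y => (hcomm ũ p q y).symm)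
  rw [← LinearMap.comp_apply, ← LinearMap.comp_apply, ← LinearMap.lTensor_comp,
    ← LinearMap.lTensor_comp, this]

variable
  (hmono : ∀ (m : ℕ) (x : K ⊗[A] P.X m), LinearMap.lTensor K (P.d m (m - 1)).hom x = 0 →
    (∃ y : K ⊗[A] P'.X (m + 1),
      LinearMap.lTensor K (P'.d (m + 1) m).hom y = LinearMap.lTensor K (ũ.f m).hom x) →
    ∃ z : K ⊗[A] P.X (m + 1), LinearMap.lTensor K (P.d (m + 1) m).hom z = x)
  (hepi : ∀ (m : ℕ) (y : K ⊗[A] P'.X m), LinearMap.lTensor K (P'.d m (m - 1)).hom y = 0 →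
    ∃ x : K ⊗[A] P.X m, LinearMap.lTensor K (P.d m (m - 1)).hom x = 0 ∧
      ∃ z : K ⊗[A] P'.X (m + 1),
        LinearMap.lTensor K (P'.d (m + 1) m).hom z = y - LinearMap.lTensor K (ũ.f m).hom x)

include hmono hepi in
theorem core (m : ℕ) (x : K ⊗[A] P.X m) (y : K ⊗[A] P'.X (m + 1))
    (hx : LinearMap.lTensor K (P.d m (m - 1)).hom x = 0)
    (hxy : LinearMap.lTensor K (ũ.f m).hom x + LinearMap.lTensor K (P'.d (m + 1) m).hom y = 0) :
    ∃ (x' : K ⊗[A] P.X (m + 1)) (y' : K ⊗[A] P'.X (m + 2)),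
      -LinearMap.lTensor K (P.d (m + 1) m).hom x' = x ∧
      LinearMap.lTensor K (ũ.f (m + 1)).hom x' +
        LinearMap.lTensor K (P'.d (m + 2) (m + 1)).hom y' = y := by
  obtain ⟨x₀, hx₀⟩ := hmono m x hx ⟨-y, by
    rw [map_neg]; exact (eq_neg_of_add_eq_zero_left hxy).symm⟩
  have hcyc : LinearMap.lTensor K (P'.d (m + 1) m).hom
      (y + LinearMap.lTensor K (ũ.f (m + 1)).hom x₀) = 0 := by
    rw [map_add, lT_comm, hx₀, add_comm]
    exact hxy
  obtain ⟨x₂, hx₂, z₂, hz₂⟩ := hepi (m + 1) _ hcyc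
  have hx₂' : LinearMap.lTensor K (P.d (m + 1) m).hom x₂ = 0 := hx₂
  refine ⟨-x₀ + x₂, z₂, ?_, ?_⟩
  · rw [map_add, map_neg, hx₀, hx₂', add_zero, neg_neg]
  · rw [hz₂, map_add, map_neg]
    abel

include hepi in
theorem exAt0 (z : K ⊗[A] P'.X 0) :
    ∃ w : K ⊗[A] (P.X 0 × P'.X 1), LinearMap.lTensor K (coneD1 ũ) w = z := by
  have h0 : LinearMap.lTensor K (P'.d 0 (0 - 1)).hom z = 0 := by
    have : P'.d 0 (0 - 1) = 0 := P'.shape _ _ (by simp)
    rw [this]
    simp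
  obtain ⟨x, -, z', hz'⟩ := hepi 0 z h0
  refine ⟨LinearMap.lTensor K (LinearMap.inl A _ _) x + LinearMap.lTensor K (LinearMap.inr A _ _) z', ?_⟩
  rw [lT_pair, coneD1_inl, coneD1_inr, hz']
  abel

include hmono hepi in
theorem exAt1 (z : K ⊗[A] (P.X 0 × P'.X 1)) (hz : LinearMap.lTensor K (coneD1 ũ) z = 0) :
    ∃ w : K ⊗[A] (P.X 1 × P'.X 2), LinearMap.lTensor K (coneDS ũ 0) w = z := by
  rw [decomp K z] at hz ⊢
  set x := LinearMap.lTensor K (LinearMap.fst A (P.X 0) (P'.X 1)) z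
  set y := LinearMap.lTensor K (LinearMap.snd A (P.X 0) (P'.X 1)) z
  rw [lT_pair, coneD1_inl, coneD1_inr] at hz
  have h0 : LinearMap.lTensor K (P.d 0 (0 - 1)).hom x = 0 := by
    have : P.d 0 (0 - 1) = 0 := P.shape _ _ (by simp)
    rw [this]
    simp
  obtain ⟨x', y', h1, h2⟩ := core ũ K hmono hepi 0 x y h0 hz
  refine ⟨LinearMap.lTensor K (LinearMap.inl A _ _) x' + LinearMap.lTensor K (LinearMap.inr A _ _) y', ?_⟩
  rw [lT_pair, coneDS_inl, coneDS_inr, LinearMap.lTensor_add, LinearMap.add_apply,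
    LinearMap.lTensor_comp, LinearMap.lTensor_comp, LinearMap.lTensor_comp, LinearMap.comp_apply,
    LinearMap.comp_apply, LinearMap.comp_apply, LinearMap.lTensor_neg, LinearMap.neg_apply, h1,
    add_assoc, ← map_add, h2]

include hmono hepi in
theorem exAtS (n : ℕ) (z : K ⊗[A] (P.X (n + 1) × P'.X (n + 2)))
    (hz : LinearMap.lTensor K (coneDS ũ n) z = 0) :
    ∃ w : K ⊗[A] (P.X (n + 2) × P'.X (n + 3)), LinearMap.lTensor K (coneDS ũ (n + 1)) w = z := by
  rw [decomp K z] at hz ⊢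
  set x := LinearMap.lTensor K (LinearMap.fst A (P.X (n + 1)) (P'.X (n + 2))) z
  set y := LinearMap.lTensor K (LinearMap.snd A (P.X (n + 1)) (P'.X (n + 2))) z
  rw [lT_pair, coneDS_inl, coneDS_inr, LinearMap.lTensor_add, LinearMap.add_apply,
    LinearMap.lTensor_comp, LinearMap.lTensor_comp, LinearMap.lTensor_comp, LinearMap.comp_apply,
    LinearMap.comp_apply, LinearMap.comp_apply, LinearMap.lTensor_neg, LinearMap.neg_apply,
    add_assoc, ← map_add] at hz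
  have hz1 := congrArg (LinearMap.lTensor K (LinearMap.fst A (P.X n) (P'.X (n + 1)))) hz
  have hz2 := congrArg (LinearMap.lTensor K (LinearMap.snd A (P.X n) (P'.X (n + 1)))) hz
  rw [fst_pair, map_zero] at hz1
  rw [snd_pair, map_zero] at hz2
  have h0 : LinearMap.lTensor K (P.d (n + 1) (n + 1 - 1)).hom x = 0 := neg_eq_zero.1 hz1
  obtain ⟨x', y', h1, h2⟩ := core ũ K hmono hepi (n + 1) x y h0 hz2
  refine ⟨LinearMap.lTensor K (LinearMap.inl A _ _) x' + LinearMap.lTensor K (LinearMap.inr A _ _) y', ?_⟩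
  rw [lT_pair, coneDS_inl, coneDS_inr, LinearMap.lTensor_add, LinearMap.add_apply,
    LinearMap.lTensor_comp, LinearMap.lTensor_comp, LinearMap.lTensor_comp, LinearMap.comp_apply,
    LinearMap.comp_apply, LinearMap.comp_apply, LinearMap.lTensor_neg, LinearMap.neg_apply, h1,
    ← h2, map_add]
  exact add_assoc _ _ _

include hmono hepi in
theorem exAt_cone : ∀ i : ℕ, ExAt (coneE P P') (coneD ũ) K i
  | 0 => fun z _ => exAt0 ũ K hepi z
  | 1 => fun z hz => exAt1 ũ K hmono hepi z hz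
  | (n + 2) => fun z hz => exAtS ũ K hmono hepi n z hz

end ExK

section Main

open Groth.Agent.Lib.Helper28.FlatSeqResidue

/-- injectivity on homology of `K ⊗ ũ`, elementwise -/
def HMono (K : Type u) [AddCommGroup K] [Module A K] : Prop :=
  ∀ (m : ℕ) (x : K ⊗[A] P.X m), LinearMap.lTensor K (P.d m (m - 1)).hom x = 0 →
    (∃ y : K ⊗[A] P'.X (m + 1),
      LinearMap.lTensor K (P'.d (m + 1) m).hom y = LinearMap.lTensor K (ũ.f m).hom x) →
    ∃ z : K ⊗[A] P.X (m + 1), LinearMap.lTensor K (P.d (m + 1) m).hom z = x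

/-- surjectivity on homology of `K ⊗ ũ`, elementwise -/
def HEpi (K : Type u) [AddCommGroup K] [Module A K] : Prop :=
  ∀ (m : ℕ) (y : K ⊗[A] P'.X m), LinearMap.lTensor K (P'.d m (m - 1)).hom y = 0 →
    ∃ x : K ⊗[A] P.X m, LinearMap.lTensor K (P.d m (m - 1)).hom x = 0 ∧
      ∃ z : K ⊗[A] P'.X (m + 1),
        LinearMap.lTensor K (P'.d (m + 1) m).hom z = y - LinearMap.lTensor K (ũ.f m).hom x

/-- If `κ(p) ⊗ ũ` is a quasi-isomorphism for all primes `p` (elementwise form), then the cone of `ũ`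
is exact in its two lowest degrees. -/
theorem cone_exact [IsNoetherianRing A] (hP : ∀ n, Module.Projective A (P.X n))
    (hP' : ∀ n, Module.Projective A (P'.X n))
    (h : ∀ (p : Ideal A) [p.IsPrime], HMono ũ p.ResidueField ∧ HEpi ũ p.ResidueField) :
    (∀ y₀ : P'.X 0, ∃ (x : P.X 0) (y : P'.X 1), (ũ.f 0).hom x + (P'.d 1 0).hom y = y₀) ∧
    (∀ (x : P.X 0) (y : P'.X 1), (ũ.f 0).hom x + (P'.d 1 0).hom y = 0 →
      ∃ (x' : P.X 1) (y' : P'.X 2), -(P.d 1 0).hom x' = x ∧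
        (ũ.f 1).hom x' + (P'.d 2 1).hom y' = y) := by
  have := coneE_flat P P' hP hP'
  have G := exact_of_forall_residueField (E := coneE P P') (D := coneD ũ) (coneD_coneD ũ)
    (fun p _ i => exAt_cone ũ p.ResidueField (h p).1 (h p).2 i)
  constructor
  · intro y₀
    obtain ⟨w, hw⟩ := G 0 y₀ rfl
    obtain ⟨x, y⟩ := (w : P.X 0 × P'.X 1)
    exact ⟨x, y, hw⟩
  · intro x y hxy
    obtain ⟨w, hw⟩ := G 1 ((x, y) : P.X 0 × P'.X 1) hxy
    obtain ⟨x', y'⟩ := (w : P.X 1 × P'.X 2)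
    have hw' : (((-(P.d 1 0).hom x', (ũ.f 1).hom x' + (P'.d 2 1).hom y')) : P.X 0 × P'.X 1) =
        (x, y) := hw
    exact ⟨x', y', congrArg Prod.fst hw', congrArg Prod.snd hw'⟩

end Main

end Groth.Agent.Lib.Helper28.ConeResidue
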