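import Mathlib

/-! Connected components of `Spec R` via idempotents. -/

namespace Groth.Agent.Lib.Helper28

open PrimeSpectrum

variable {R : Type*} [CommRing R]

/-- every element of the ideal spanned by idempotents of `p` is killed by `1 - ε`
for some idempotent `ε ∈ p`. -/
theorem exists_idem_of_mem_span (p : Ideal R) {x : R}
    (hx : x ∈ Ideal.span {e : R | IsIdempotentElem e ∧ e ∈ p}) :
    ∃ ε : R, IsIdempotentElem ε ∧ ε ∈ p ∧ x * (1 - ε) = 0 := by
  induction hx using Submodule.span_induction with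
  | mem x hx =>
    refine ⟨x, hx.1, hx.2, ?_⟩
    have := hx.1.eq
    rw [mul_sub, mul_one, this, sub_self]
  | zero => exact ⟨0, IsIdempotentElem.zero, p.zero_mem, by simp⟩
  | add x y _ _ hx hy =>
    obtain ⟨a, ha, hap, hxa⟩ := hx
    obtain ⟨b, hb, hbp, hyb⟩ := hy
    refine ⟨1 - (1 - a) * (1 - b), (ha.one_sub.mul hb.one_sub).one_sub, ?_, ?_⟩
    · have : 1 - (1 - a) * (1 - b) = a + b - a * b := by ring
      rw [this]
      exact p.sub_mem (p.add_mem hap hbp) (p.mul_mem_right _ hap)
    · have : (x + y) * (1 - (1 - (1 - a) * (1 - b))) =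
        x * (1 - a) * (1 - b) + y * (1 - b) * (1 - a) := by ring
      rw [this, hxa, hyb]; simp
  | smul r x _ hx =>
    obtain ⟨a, ha, hap, hxa⟩ := hx
    refine ⟨a, ha, hap, ?_⟩
    rw [smul_eq_mul, mul_assoc, hxa, mul_zero]

theorem idem_mem_or_one_sub_mem (p : Ideal R) [p.IsPrime] {e : R} (he : IsIdempotentElem e) :
    e ∈ Ideal.span {e : R | IsIdempotentElem e ∧ e ∈ p} ∨
      1 - e ∈ Ideal.span {e : R | IsIdempotentElem e ∧ e ∈ p} := by
  have h0 : e * (1 - e) ∈ p := by
    have : e * (1 - e) = 0 := by rw [mul_sub, mul_one, he.eq, sub_self]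
    rw [this]; exact p.zero_mem
  rcases Ideal.IsPrime.mem_or_mem ‹_› h0 with h | h
  · exact Or.inl (Ideal.subset_span ⟨he, h⟩)
  · exact Or.inr (Ideal.subset_span ⟨he.one_sub, h⟩)

/-- The quotient by the ideal of idempotents in a prime has only trivial idempotents. -/
theorem quotient_idem_trivial (p : Ideal R) [p.IsPrime]
    (x : R ⧸ Ideal.span {e : R | IsIdempotentElem e ∧ e ∈ p}) (hx : IsIdempotentElem x) :
    x = 0 ∨ x = 1 := by
  obtain ⟨a, rfl⟩ := Ideal.Quotient.mk_surjective x
  have h1 : a * a - a ∈ Ideal.span {e : R | IsIdempotentElem e ∧ e ∈ p} := by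
    rw [← Ideal.Quotient.eq]
    simpa using hx.eq
  obtain ⟨ε, hε, hεp, hk⟩ := exists_idem_of_mem_span p h1
  have hεI : ε ∈ Ideal.span {e : R | IsIdempotentElem e ∧ e ∈ p} := Ideal.subset_span ⟨hε, hεp⟩
  have he' : IsIdempotentElem (a * (1 - ε)) := by
    have h2 : (1 - ε) * (1 - ε) = 1 - ε := hε.one_sub.eq
    show a * (1 - ε) * (a * (1 - ε)) = a * (1 - ε)
    have : a * (1 - ε) * (a * (1 - ε)) - a * (1 - ε) =
        (a * a) * ((1 - ε) * (1 - ε)) - a * (1 - ε) := by ring
    rw [← sub_eq_zero, this, h2]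
    have : a * a * (1 - ε) - a * (1 - ε) = (a * a - a) * (1 - ε) := by ring
    rw [this, hk]
  have hmk : Ideal.Quotient.mk (Ideal.span {e : R | IsIdempotentElem e ∧ e ∈ p}) (a * (1 - ε)) =
      Ideal.Quotient.mk _ a := by
    rw [Ideal.Quotient.eq]
    have : a * (1 - ε) - a = -(a * ε) := by ring
    rw [this]
    exact Ideal.neg_mem_iff _ |>.mpr (Ideal.mul_mem_left _ _ hεI)
  rcases idem_mem_or_one_sub_mem p he' with h | h
  · left
    rw [← hmk]
    exact Ideal.Quotient.eq_zero_iff_mem.mpr h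
  · right
    rw [← hmk, ← sub_eq_zero, ← neg_eq_zero, neg_sub, ← map_one (Ideal.Quotient.mk _), ← map_sub]
    exact Ideal.Quotient.eq_zero_iff_mem.mpr h

theorem preconnectedSpace_quotient (p : Ideal R) [p.IsPrime] :
    PreconnectedSpace
      (PrimeSpectrum (R ⧸ Ideal.span {e : R | IsIdempotentElem e ∧ e ∈ p})) := by
  rw [preconnectedSpace_iff_clopen]
  intro s hs
  obtain ⟨e, he, rfl⟩ := PrimeSpectrum.isClopen_iff.mp hs
  rcases quotient_idem_trivial p e he with rfl | rfl
  · left; simp
  · right; simp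

theorem isPreconnected_zeroLocus_idem (p : PrimeSpectrum R) :
    IsPreconnected (zeroLocus {e : R | IsIdempotentElem e ∧ e ∈ p.asIdeal}) := by
  have := preconnectedSpace_quotient p.asIdeal
  have h := isPreconnected_range
    (PrimeSpectrum.continuous_comap (Ideal.Quotient.mk
      (Ideal.span {e : R | IsIdempotentElem e ∧ e ∈ p.asIdeal})))
  rwa [_root_.range_comap_of_surjective _ _ Ideal.Quotient.mk_surjective,
    Ideal.mk_ker, zeroLocus_span] at h

theorem connectedComponent_eq_zeroLocus_idem (p : PrimeSpectrum R) :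
    connectedComponent p = zeroLocus {e : R | IsIdempotentElem e ∧ e ∈ p.asIdeal} := by
  apply Set.Subset.antisymm
  · intro q hq
    rw [mem_zeroLocus]
    intro e he
    have hcl : IsClopen (zeroLocus ({e} : Set R)) :=
      PrimeSpectrum.isClopen_iff_zeroLocus.mpr ⟨e, he.1, rfl⟩
    have hp : p ∈ zeroLocus ({e} : Set R) := by
      rw [mem_zeroLocus]; simpa using he.2
    have := hcl.connectedComponent_subset hp hq
    rw [mem_zeroLocus] at this
    exact this (Set.mem_singleton e)
  · apply (isPreconnected_zeroLocus_idem p).subset_connectedComponent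
    rw [mem_zeroLocus]
    intro e he
    exact he.2

end Groth.Agent.Lib.Helper28
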