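import Mathlib

/-! Extensions generated by elements `x` with `x²`, `x³` in the base: homeomorphism on spectra
and trivial residue field extensions. -/

namespace Groth.Agent.Lib.Helper28

open PrimeSpectrum

variable {R S : Type*} [CommRing R] [CommRing S] [Algebra R S]

/-- Key uniform statement: every `s` is, up to a denominator outside `p`, congruent to an element
of `R` modulo all primes over `p`. -/
theorem exists_uniform_approx
    (hgen : Algebra.adjoin R {x : S | x ^ 2 ∈ Set.range (algebraMap R S) ∧
      x ^ 3 ∈ Set.range (algebraMap R S)} = ⊤)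
    (p : Ideal R) [p.IsPrime] (s : S) :
    ∃ r t : R, t ∉ p ∧ ∀ q : Ideal S, q.IsPrime → q.comap (algebraMap R S) = p →
      algebraMap R S t * s - algebraMap R S r ∈ q := by
  have hs : s ∈ Algebra.adjoin R {x : S | x ^ 2 ∈ Set.range (algebraMap R S) ∧
      x ^ 3 ∈ Set.range (algebraMap R S)} := by rw [hgen]; trivial
  have h1 : (1 : R) ∉ p := (Ideal.ne_top_iff_one p).mp (Ideal.IsPrime.ne_top inferInstance)
  induction hs using Algebra.adjoin_induction with
  | mem x hx =>
    obtain ⟨⟨a, ha⟩, ⟨b, hb⟩⟩ := hx
    by_cases hap : a ∈ p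
    · refine ⟨0, 1, h1, fun q hq hqp => ?_⟩
      have : x ^ 2 ∈ q := by
        rw [← ha]
        have : a ∈ q.comap (algebraMap R S) := by rw [hqp]; exact hap
        exact this
      have hxq : x ∈ q := hq.mem_of_pow_mem _ this
      simpa using hxq
    · refine ⟨b, a, hap, fun q _ _ => ?_⟩
      have : algebraMap R S a * x - algebraMap R S b = 0 := by
        rw [ha, hb]; ring
      rw [this]; exact zero_mem _
  | algebraMap r0 =>
    exact ⟨r0, 1, h1, fun q _ _ => by simp⟩
  | add x y _ _ hx hy =>
    obtain ⟨r1, t1, ht1, h1'⟩ := hx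
    obtain ⟨r2, t2, ht2, h2'⟩ := hy
    refine ⟨t2 * r1 + t1 * r2, t1 * t2, ?_, fun q hq hqp => ?_⟩
    · intro h
      rcases Ideal.IsPrime.mem_or_mem inferInstance h with h | h
      · exact ht1 h
      · exact ht2 h
    · have e : algebraMap R S (t1 * t2) * (x + y) - algebraMap R S (t2 * r1 + t1 * r2) =
          algebraMap R S t2 * (algebraMap R S t1 * x - algebraMap R S r1) +
          algebraMap R S t1 * (algebraMap R S t2 * y - algebraMap R S r2) := by
        simp only [map_mul, map_add]; ring
      rw [e]
      exact add_mem (q.mul_mem_left _ (h1' q hq hqp)) (q.mul_mem_left _ (h2' q hq hqp))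
  | mul x y _ _ hx hy =>
    obtain ⟨r1, t1, ht1, h1'⟩ := hx
    obtain ⟨r2, t2, ht2, h2'⟩ := hy
    refine ⟨r1 * r2, t1 * t2, ?_, fun q hq hqp => ?_⟩
    · intro h
      rcases Ideal.IsPrime.mem_or_mem inferInstance h with h | h
      · exact ht1 h
      · exact ht2 h
    · have e : algebraMap R S (t1 * t2) * (x * y) - algebraMap R S (r1 * r2) =
          (algebraMap R S t1 * x - algebraMap R S r1) * (algebraMap R S t2 * y) +
          algebraMap R S r1 * (algebraMap R S t2 * y - algebraMap R S r2) := by
        simp only [map_mul]; ring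
      rw [e]
      exact add_mem (q.mul_mem_right _ (h1' q hq hqp)) (q.mul_mem_left _ (h2' q hq hqp))

theorem isIntegral_of_gen
    (hgen : Algebra.adjoin R {x : S | x ^ 2 ∈ Set.range (algebraMap R S) ∧
      x ^ 3 ∈ Set.range (algebraMap R S)} = ⊤) : Algebra.IsIntegral R S := by
  refine ⟨fun s => ?_⟩
  have hs : s ∈ Algebra.adjoin R {x : S | x ^ 2 ∈ Set.range (algebraMap R S) ∧
      x ^ 3 ∈ Set.range (algebraMap R S)} := by rw [hgen]; trivial
  induction hs using Algebra.adjoin_induction with
  | mem x hx =>
    obtain ⟨⟨a, ha⟩, -⟩ := hx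
    refine IsIntegral.of_pow (n := 2) (by norm_num) ?_
    rw [← ha]
    exact isIntegral_algebraMap
  | algebraMap r => exact isIntegral_algebraMap
  | add x y _ _ hx hy => exact hx.add hy
  | mul x y _ _ hx hy => exact hx.mul hy

theorem comap_injective_of_gen
    (hgen : Algebra.adjoin R {x : S | x ^ 2 ∈ Set.range (algebraMap R S) ∧
      x ^ 3 ∈ Set.range (algebraMap R S)} = ⊤) :
    Function.Injective (PrimeSpectrum.comap (algebraMap R S)) := by
  have key : ∀ q q' : PrimeSpectrum S, comap (algebraMap R S) q = comap (algebraMap R S) q' →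
      q.asIdeal ≤ q'.asIdeal := by
    intro q q' h s hs
    obtain ⟨r, t, ht, hrt⟩ := exists_uniform_approx hgen (comap (algebraMap R S) q).asIdeal s
    have hq := hrt q.asIdeal q.isPrime rfl
    have hq' := hrt q'.asIdeal q'.isPrime (congrArg PrimeSpectrum.asIdeal h.symm)
    have hr : algebraMap R S r ∈ q.asIdeal := by
      have := q.asIdeal.sub_mem (q.asIdeal.mul_mem_left (algebraMap R S t) hs) hq
      simpa using this
    have hr' : algebraMap R S r ∈ q'.asIdeal := by
      have h1 : r ∈ (comap (algebraMap R S) q).asIdeal := hr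
      rw [h] at h1
      exact h1
    have hts : algebraMap R S t * s ∈ q'.asIdeal := by
      have := q'.asIdeal.add_mem hq' hr'
      simpa using this
    rcases q'.isPrime.mem_or_mem hts with h1 | h1
    · exfalso
      apply ht
      have h2 : t ∈ (comap (algebraMap R S) q').asIdeal := h1
      rw [← h] at h2
      exact h2
    · exact h1
  intro q q' h
  ext1
  exact le_antisymm (key q q' h) (key q' q h.symm)

theorem isHomeomorph_comap_of_gen
    (hgen : Algebra.adjoin R {x : S | x ^ 2 ∈ Set.range (algebraMap R S) ∧
      x ^ 3 ∈ Set.range (algebraMap R S)} = ⊤)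
    (hker : ∀ r : R, algebraMap R S r = 0 → IsNilpotent r) :
    IsHomeomorph (PrimeSpectrum.comap (algebraMap R S)) := by
  have hint := isIntegral_of_gen hgen
  rw [isHomeomorph_iff_continuous_isClosedMap_bijective]
  refine ⟨PrimeSpectrum.continuous_comap _, ?_, comap_injective_of_gen hgen, ?_⟩
  · exact PrimeSpectrum.isClosedMap_comap_of_isIntegral _ (algebraMap_isIntegral_iff.mpr hint)
  · intro p
    obtain ⟨Q, -, hQ, hQp⟩ := Ideal.exists_ideal_over_prime_of_isIntegral p.asIdeal (⊥ : Ideal S)
      (by
        intro r hr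
        have : algebraMap R S r = 0 := by simpa using hr
        obtain ⟨n, hn⟩ := hker r this
        exact p.isPrime.mem_of_pow_mem n (hn ▸ zero_mem _))
    exact ⟨⟨Q, hQ⟩, PrimeSpectrum.ext hQp⟩

theorem residueField_map_bijective_of_gen
    (hgen : Algebra.adjoin R {x : S | x ^ 2 ∈ Set.range (algebraMap R S) ∧
      x ^ 3 ∈ Set.range (algebraMap R S)} = ⊤) (q : Ideal S) [q.IsPrime] :
    Function.Bijective (Ideal.ResidueField.map (q.comap (algebraMap R S)) q
      (algebraMap R S) rfl) := by
  refine ⟨RingHom.injective _, ?_⟩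
  -- the range is a subfield containing the image of S
  have hS : ∀ s : S, algebraMap S q.ResidueField s ∈
      (Ideal.ResidueField.map (q.comap (algebraMap R S)) q (algebraMap R S) rfl).fieldRange := by
    intro s
    obtain ⟨r, t, ht, hrt⟩ := exists_uniform_approx hgen (q.comap (algebraMap R S)) s
    have h1 := hrt q inferInstance rfl
    have h2 : algebraMap S q.ResidueField (algebraMap R S t) * algebraMap S q.ResidueField s =
        algebraMap S q.ResidueField (algebraMap R S r) := by
      rw [← map_mul, ← sub_eq_zero, ← map_sub]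
      exact Ideal.algebraMap_residueField_eq_zero.mpr h1
    have ht0 : algebraMap S q.ResidueField (algebraMap R S t) ≠ 0 := by
      intro h0
      have : algebraMap R S t ∈ q := (Ideal.algebraMap_residueField_eq_zero (I := q)).mp h0
      exact ht this
    have h3 : algebraMap S q.ResidueField s =
        algebraMap S q.ResidueField (algebraMap R S r) /
          algebraMap S q.ResidueField (algebraMap R S t) := by
      rw [eq_div_iff ht0, mul_comm]; exact h2
    rw [h3]
    refine div_mem ?_ ?_
    · exact ⟨algebraMap R _ r, Ideal.ResidueField.map_algebraMap _ _ _ _ r⟩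
    · exact ⟨algebraMap R _ t, Ideal.ResidueField.map_algebraMap _ _ _ _ t⟩
  intro y
  obtain ⟨z, rfl⟩ := IsLocalRing.residue_surjective y
  obtain ⟨s, u, rfl⟩ := IsLocalization.exists_mk'_eq q.primeCompl z
  have hu : algebraMap S q.ResidueField u ≠ 0 := by
    intro h0
    exact u.2 ((Ideal.algebraMap_residueField_eq_zero (I := q)).mp h0)
  have : IsLocalRing.residue (Localization.AtPrime q) (IsLocalization.mk' _ s u) =
      algebraMap S q.ResidueField s / algebraMap S q.ResidueField u := by
    rw [eq_div_iff hu]
    rw [IsScalarTower.algebraMap_apply S (Localization.AtPrime q) q.ResidueField,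
      IsScalarTower.algebraMap_apply S (Localization.AtPrime q) q.ResidueField,
      IsLocalRing.ResidueField.algebraMap_eq, ← map_mul, IsLocalization.mk'_spec]
  rw [this]
  have := div_mem (hS s) (hS u)
  exact this

end Groth.Agent.Lib.Helper28
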