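import Mathlib
import Groth.Agent.Lib.Helper28.DCohTilde5

/-!
# Relative tor amplitude of `M~` over `Spec R₀` versus tor amplitude of `M` over `R₀`
-/

set_option autoImplicit false
set_option backward.isDefEq.respectTransparency.types false

universe u

open CategoryTheory Limits AlgebraicGeometry TopologicalSpace Opposite
open AlgebraicGeometry.StructureSheaf ChangeOfRings

namespace Groth.Agent.Lib.Helper28.DCohTilde

noncomputable section

attribute [local instance] HasDerivedCategory.standard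

open Groth.Agent.Lib.Helper28.DCohStalk Groth.Agent.Lib.Helper13.DR

variable {R₀ R : CommRingCat.{u}} (ψ : R₀ ⟶ R)

/-- the complex of stalks of `K~` over the base is the localized complex -/
def stalkCxOverTildeIso (x : PrimeSpectrum.Top R) (K : DRing.Cx R) :
    (DerSch.stalkCxOver (Spec.map ψ) x).obj ((tildeCx R).obj K) ≅
      (DTen.resCx ((Spec.map ψ).stalkMap x).hom).obj ((DTen.extCx (lx R x)).obj K) :=
  HomologicalComplex.Hom.isoOfComponents
    (fun i => (ModuleCat.restrictScalars ((Spec.map ψ).stalkMap x).hom).mapIso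
      ((thetaIso R x).app (K.X i)).symm)
    (fun i j _ =>
      ((ModuleCat.restrictScalars ((Spec.map ψ).stalkMap x).hom).map_comp _ _).symm.trans
        ((congrArg (ModuleCat.restrictScalars ((Spec.map ψ).stalkMap x).hom).map
          ((thetaIso R x).inv.naturality (K.d i j)).symm).trans
          ((ModuleCat.restrictScalars ((Spec.map ψ).stalkMap x).hom).map_comp _ _)))

variable [PreservesFiniteLimits (tilde.functor R)]

/-- the comparison in the derived category of the local ring of the base -/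
def stalkCxOverIso (x : PrimeSpectrum.Top R) (K : DRing.Cx R)
    {F : CochainComplex (Spec R).Modules ℤ}
    (eF : DerivedCategory.Q.obj F ≅ DerivedCategory.Q.obj ((tildeCx R).obj K)) :
    DRing.toD ((DerSch.stalkCxOver (Spec.map ψ) x).obj F) ≅
      DRing.toD ((DTen.resCx ((Spec.map ψ).stalkMap x).hom).obj
        ((DTen.extCx (lx R x)).obj K)) :=
  ((stalkDQ (Spec.map ψ) x).app F).symm ≪≫ (stalkD (Spec.map ψ) x).mapIso eF ≪≫
    (stalkDQ (Spec.map ψ) x).app _ ≪≫ DerivedCategory.Q.mapIso (stalkCxOverTildeIso ψ x K)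

theorem hasTorAmplitudeIn_restrictD_of_hasTorAmplitude (M : DerivedCategory (ModuleCat.{u} R))
    (F : CochainComplex (Spec R).Modules ℤ)
    (hF : Nonempty (DCoh.toD (Spec R) F ≅ (DCoh.tildeD R).obj M)) (a b : ℤ)
    (h : DerSch.HasTorAmplitude (Spec.map ψ) a b F) :
    DRing.HasTorAmplitudeIn R₀ a b ((DRing.restrictD ψ.hom).obj M) := by
  let K : DRing.Cx R := DerivedCategory.Q.objPreimage M
  let e0 : DerivedCategory.Q.obj K ≅ M := DerivedCategory.Q.objObjPreimageIso M
  let eF : DerivedCategory.Q.obj F ≅ DerivedCategory.Q.obj ((tildeCx R).obj K) :=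
    hF.some ≪≫ (DCoh.tildeD R).mapIso e0.symm ≪≫ (tildeDQ R).app K
  have key := hasTorAmplitudeIn_resCx_of_forall ψ.hom K a b (ι := PrimeSpectrum.Top R)
    (fun x => (Spec R₀).presheaf.stalk ((Spec.map ψ) x)) (fun x => (Spec R).presheaf.stalk x)
    (fun x => lx R₀ ((Spec.map ψ) x)) (fun x => lx R x)
    (fun x => ((Spec.map ψ).stalkMap x).hom)
    (fun x => lx_square R x ψ) (fun x => lx_flat R₀ _) (fun x => lx_flat R x)
    (isZero_of_forall_isZero_extendScalars_lx R)
    (fun x => hasTorAmplitudeIn_of_iso (stalkCxOverIso ψ x K eF) (h x))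
  exact hasTorAmplitudeIn_of_iso
    ((restrictDQIso ψ.hom K).symm ≪≫ (DRing.restrictD ψ.hom).mapIso e0) key

theorem hasTorAmplitude_of_hasTorAmplitudeIn_restrictD (M : DerivedCategory (ModuleCat.{u} R))
    (F : CochainComplex (Spec R).Modules ℤ)
    (hF : Nonempty (DCoh.toD (Spec R) F ≅ (DCoh.tildeD R).obj M)) (a b : ℤ)
    (h : DRing.HasTorAmplitudeIn R₀ a b ((DRing.restrictD ψ.hom).obj M)) :
    DerSch.HasTorAmplitude (Spec.map ψ) a b F := by
  let K : DRing.Cx R := DerivedCategory.Q.objPreimage M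
  let e0 : DerivedCategory.Q.obj K ≅ M := DerivedCategory.Q.objObjPreimageIso M
  let eF : DerivedCategory.Q.obj F ≅ DerivedCategory.Q.obj ((tildeCx R).obj K) :=
    hF.some ≪≫ (DCoh.tildeD R).mapIso e0.symm ≪≫ (tildeDQ R).app K
  have hK : DRing.HasTorAmplitudeIn R₀ a b (DRing.toD ((DTen.resCx ψ.hom).obj K)) :=
    hasTorAmplitudeIn_of_iso
      ((DRing.restrictD ψ.hom).mapIso e0.symm ≪≫ restrictDQIso ψ.hom K) h
  intro x
  have := hasTorAmplitudeIn_resCx_localization ψ.hom (lx R₀ ((Spec.map ψ) x)) (lx R x)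
    ((Spec.map ψ).stalkMap x).hom (lx_square R x ψ) (lx_flat R₀ _) (lx_flat R x)
    (isIso_counit_lx R₀ _) K a b hK
  exact hasTorAmplitudeIn_of_iso (stalkCxOverIso ψ x K eF).symm this

end

end Groth.Agent.Lib.Helper28.DCohTilde
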