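import Mathlib
import Groth.Agent.Lib.Helper28.LpullPerfect
import Groth.Agent.Lib.Helper28.DCohStalk3
import Groth.Agent.Lib.Helper28.StalkAdj3
import Groth.Agent.Lib.Helper13.DRingDescent2

/-!
# Descent of flat amplitude along flat surjective morphisms (helper28)
-/

set_option autoImplicit false

universe u

open CategoryTheory Limits AlgebraicGeometry Functor Opposite

attribute [local instance] HasDerivedCategory.standard

namespace Groth.Agent.Lib.Helper28.FlatDescent

open Groth.Agent.Lib.Helper28.StalkTensor Groth.Agent.Lib.Helper28.DCohRes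
  Groth.Agent.Lib.Helper28.Lpull Groth.Agent.Lib.Helper28.DCohStalk Groth.Agent.Lib.Helper13.DR

noncomputable section

variable {X Y : Scheme.{u}}

lemma hasFlatAmplitudeIn_of_iso {K L : DCoh.D X} (e : K ≅ L) {a b : ℤ}
    (h : DCoh.HasFlatAmplitudeIn a b K) : DCoh.HasFlatAmplitudeIn a b L := by
  obtain ⟨E, hv, hfl, ⟨e'⟩⟩ := h
  exact ⟨E, hv, hfl, ⟨e' ≪≫ e⟩⟩

/-- the complex of stalks over the identity is the complex of stalks -/
def stalkCxOverIdIso (F : CochainComplex X.Modules ℤ) (x : X) :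
    (DerSch.stalkCxOver (𝟙 X) x).obj F ≅ (StalkTensor.stalkCx x).obj F := by
  have hσ : ((𝟙 X : X ⟶ X).stalkMap x) = 𝟙 (X.presheaf.stalk x) := by simp
  change ((DerSch.stalkFunctor X x ⋙ ModuleCat.restrictScalars
    ((𝟙 X : X ⟶ X).stalkMap x).hom).mapHomologicalComplex (ComplexShape.up ℤ)).obj F ≅ _
  rw [hσ]
  exact (NatIso.mapHomologicalComplex
    (isoWhiskerLeft (DerSch.stalkFunctor X x) (ModuleCat.restrictScalarsId _) ≪≫
      Functor.rightUnitor _) (ComplexShape.up ℤ)).app F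

lemma hasTorAmplitudeAt_id_iff (F : CochainComplex X.Modules ℤ) (x : X) (a b : ℤ) :
    DerSch.HasTorAmplitudeAt (𝟙 X) a b F x ↔
      DRing.HasTorAmplitudeIn (X.presheaf.stalk x) a b (DRing.toD ((StalkTensor.stalkCx x).obj F)) := by
  constructor
  · intro h
    exact Groth.Agent.Lib.Helper13.DR.hasTorAmplitudeIn_of_iso
      (DerivedCategory.Q.mapIso (stalkCxOverIdIso F x)) h
  · intro h
    exact Groth.Agent.Lib.Helper13.DR.hasTorAmplitudeIn_of_iso
      (DerivedCategory.Q.mapIso (stalkCxOverIdIso F x)).symm h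

/-- **flat amplitude descends along flat surjective morphisms** -/
theorem hasFlatAmplitudeIn_of_Lpull (f : X ⟶ Y) [Flat f] [Surjective f] [DCoh.HasLpull f]
    (E : DCoh.D Y) (a b : ℤ) (h : DCoh.HasFlatAmplitudeIn a b ((DCoh.Lpull f).obj E)) :
    DCoh.HasFlatAmplitudeIn a b E := by
  obtain ⟨G, hG, ⟨eG⟩⟩ := exists_kflat_rep E
  have h1 : DCoh.HasFlatAmplitudeIn a b (DCoh.toD X ((pullCx f).obj G)) :=
    hasFlatAmplitudeIn_of_iso ((DCoh.Lpull f).mapIso eG.symm ≪≫ LpullIso f G hG) h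
  have h2 := hasTorAmplitude_of_hasFlatAmplitudeIn _ a b h1
  have h3 : DerSch.HasTorAmplitude (𝟙 Y) a b G := by
    intro y
    obtain ⟨x, rfl⟩ := f.surjective y
    rw [hasTorAmplitudeAt_id_iff]
    have hx := (hasTorAmplitudeAt_id_iff _ x a b).1 (h2 x)
    letI : Algebra (Y.presheaf.stalk (f.base x)) (X.presheaf.stalk x) :=
      (f.stalkMap x).hom.toAlgebra
    haveI : Module.Flat (Y.presheaf.stalk (f.base x)) (X.presheaf.stalk x) := Flat.stalkMap f x
    haveI : IsLocalHom (algebraMap (Y.presheaf.stalk (f.base x)) (X.presheaf.stalk x)) :=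
      (inferInstance : IsLocalHom (f.stalkMap x).hom)
    haveI : Module.FaithfullyFlat (Y.presheaf.stalk (f.base x)) (X.presheaf.stalk x) :=
      Module.FaithfullyFlat.of_flat_of_isLocalHom
    refine hasTorAmplitudeIn_of_jointlyFaithful
      (jointlyFaithful_of_faithfullyFlat _ (X.presheaf.stalk x)) _ a b (fun _ => ?_)
    exact Groth.Agent.Lib.Helper13.DR.hasTorAmplitudeIn_of_iso
      (DerivedCategory.Q.mapIso (stalkCxPullIso f x G)) hx
  exact hasFlatAmplitudeIn_of_iso eG (hasFlatAmplitudeIn_of_hasTorAmplitude G a b h3)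

end

end Groth.Agent.Lib.Helper28.FlatDescent
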