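import Mathlib
import Groth.Agent.Lib.Helper28.DCohStalk8

/-!
# Stalks over a base and restriction to opens (helper28)
-/

set_option autoImplicit false

universe u

open CategoryTheory Limits AlgebraicGeometry TopologicalSpace Opposite

namespace Groth.Agent.Lib.Helper28.RelPerf

noncomputable section

attribute [local instance] HasDerivedCategory.standard

open Groth.Agent.Lib.Helper29.QCoh Groth.Agent.Lib.Helper28.DCohRes
  Groth.Agent.Lib.Helper28.DCohStalk

variable {X Y S : Scheme.{u}}

/-- the linear equivalence between the stalk of a restriction (over the local ring of the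
ambient scheme) and the stalk of the module -/
def restrictStalkOverLinearEquiv (j : Y ⟶ X) [IsOpenImmersion j] (y : Y) (M : X.Modules) :
    ((DerSch.stalkOver j y).obj ((Scheme.Modules.restrictFunctor j).obj M)) ≃ₗ[X.presheaf.stalk (j y)]
      ((DerSch.stalkFunctor X (j y)).obj M) :=
  { toFun := fun t => (restrictStalkIso j M y).hom t
    invFun := fun t => (restrictStalkIso j M y).inv t
    map_add' := fun a b => map_add _ a b
    map_smul' := fun r t => restrictStalkIso_smul j M y r t
    left_inv := fun t => by
      change (restrictStalkIso j M y).inv ((restrictStalkIso j M y).hom t) = t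
      rw [← ConcreteCategory.comp_apply, Iso.hom_inv_id]; rfl
    right_inv := fun t => by
      change (restrictStalkIso j M y).hom ((restrictStalkIso j M y).inv t) = t
      rw [← ConcreteCategory.comp_apply, Iso.inv_hom_id]; rfl }

/-- restriction to an open followed by the stalk over the ambient scheme is the stalk -/
def restrictStalkOverIso (j : Y ⟶ X) [IsOpenImmersion j] (y : Y) :
    Scheme.Modules.restrictFunctor j ⋙ DerSch.stalkOver j y ≅ DerSch.stalkFunctor X (j y) :=
  NatIso.ofComponents (fun M => (restrictStalkOverLinearEquiv j y M).toModuleIso) (by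
    intro M N φ
    ext t
    obtain ⟨V, hy, s, rfl⟩ := ((Scheme.Modules.restrictFunctor j).obj M).presheaf.exists_germ_eq
      (x := y) t
    change (restrictStalkIso j N y).hom ((DerSch.stalkFunctor Y y).map
        ((Scheme.Modules.restrictFunctor j).map φ)
        (((Scheme.Modules.restrictFunctor j).obj M).presheaf.germ V y hy s)) =
      (DerSch.stalkFunctor X (j y)).map φ ((restrictStalkIso j M y).hom
        (((Scheme.Modules.restrictFunctor j).obj M).presheaf.germ V y hy s))
    rw [DerSch.stalkFunctor_map_germ, restrictStalkIso_germ, restrictStalkIso_germ,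
      DerSch.stalkFunctor_map_germ]
    rfl)

/-- the stalk over the base of a restriction to an open -/
def stalkOverRestrictIso (j : Y ⟶ X) [IsOpenImmersion j] (f : X ⟶ S) (y : Y) :
    Scheme.Modules.restrictFunctor j ⋙ DerSch.stalkOver (j ≫ f) y ≅ DerSch.stalkOver f (j y) :=
  Functor.isoWhiskerLeft _ (stalkOverCompIso j f y).symm ≪≫
    (Functor.associator _ _ _).symm ≪≫
    Functor.isoWhiskerRight (restrictStalkOverIso j y)
      (ModuleCat.restrictScalars (f.stalkMap (j y)).hom)

/-- the complex of stalks over the base of a restriction to an open -/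
def stalkCxOverRestrictIso (j : Y ⟶ X) [IsOpenImmersion j] (f : X ⟶ S) (y : Y)
    (F : CochainComplex X.Modules ℤ) :
    (DerSch.stalkCxOver (j ≫ f) y).obj ((resCx j).obj F) ≅ (DerSch.stalkCxOver f (j y)).obj F :=
  HomologicalComplex.Hom.isoOfComponents (fun i => (stalkOverRestrictIso j f y).app (F.X i))
    (fun i k _ => ((stalkOverRestrictIso j f y).hom.naturality (F.d i k)).symm)

end

end Groth.Agent.Lib.Helper28.RelPerf
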