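import Mathlib
import Groth.Agent.Lib.Helper28.RelPerf1

/-!
# Relative flat amplitude versus stalkwise tor amplitude over the base (helper28)
-/

set_option autoImplicit false

universe u

open CategoryTheory Limits AlgebraicGeometry TopologicalSpace Opposite

namespace Groth.Agent.Lib.Helper28.RelPerf

noncomputable section

attribute [local instance] HasDerivedCategory.standard

open Groth.Agent.Lib.Helper29.QCoh Groth.Agent.Lib.Helper28.DCohRes
  Groth.Agent.Lib.Helper28.DCohStalk

open ZeroObject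

variable {X Y S : Scheme.{u}}

lemma isFlatOverAt_iff_stalkOver (g : X ⟶ S) (M : X.Modules) (x : X) :
    FlatMod.IsFlatOverAt g M x ↔
      Module.Flat (S.presheaf.stalk (g.base x)) ((DerSch.stalkOver g x).obj M) :=
  Iff.rfl

lemma isFlatOver_of_iso (g : X ⟶ S) {M N : X.Modules} (e : M ≅ N)
    (h : FlatMod.IsFlatOver g M) : FlatMod.IsFlatOver g N := by
  intro x
  rw [isFlatOverAt_iff_stalkOver]
  haveI : Module.Flat (S.presheaf.stalk (g.base x)) ((DerSch.stalkOver g x).obj M) :=
    (isFlatOverAt_iff_stalkOver g M x).1 (h x)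
  exact Module.Flat.of_linearEquiv ((DerSch.stalkOver g x).mapIso e).symm.toLinearEquiv

lemma isFlatOver_of_isZero (g : X ⟶ S) {M : X.Modules} (h : IsZero M) :
    FlatMod.IsFlatOver g M := by
  intro x
  rw [isFlatOverAt_iff_stalkOver]
  haveI : Subsingleton ((DerSch.stalkOver g x).obj M) :=
    ModuleCat.subsingleton_of_isZero ((DerSch.stalkOver g x).map_isZero h)
  infer_instance

/-- a flat module is flat over any base over which the scheme is flat -/
lemma isFlatOver_of_isFlat (g : X ⟶ S) [Flat g] {M : X.Modules} (hM : FlatMod.IsFlat M) :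
    FlatMod.IsFlatOver g M := by
  intro y
  have hfl : Module.Flat (X.presheaf.stalk y) (M.presheaf.stalk y) := hM y
  have hflat : (g.stalkMap y).hom.Flat := Flat.stalkMap g y
  letI : Algebra (S.presheaf.stalk (g.base y)) (X.presheaf.stalk y) :=
    (g.stalkMap y).hom.toAlgebra
  letI := FlatMod.moduleStalkOver g M y
  haveI : IsScalarTower (S.presheaf.stalk (g.base y)) (X.presheaf.stalk y)
      (M.presheaf.stalk y) := IsScalarTower.of_algebraMap_smul fun r t => rfl
  haveI : Module.Flat (S.presheaf.stalk (g.base y)) (X.presheaf.stalk y) := hflat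
  exact Module.Flat.trans (S.presheaf.stalk (g.base y)) (X.presheaf.stalk y) (M.presheaf.stalk y)

/-- transport of the derived stalk along an isomorphism in `D(O_X)` -/
def stalkCxOverIsoOfIso (g : X ⟶ S) (x : X) {G F : CochainComplex X.Modules ℤ}
    (e : DerivedCategory.Q.obj G ≅ DerivedCategory.Q.obj F) :
    DerivedCategory.Q.obj ((DerSch.stalkCxOver g x).obj G) ≅
      DerivedCategory.Q.obj ((DerSch.stalkCxOver g x).obj F) :=
  ((stalkDQ g x).app G).symm ≪≫ (stalkD g x).mapIso e ≪≫ (stalkDQ g x).app F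

/-- stalkwise tor amplitude over the base forces exactness outside the interval -/
lemma exactAt_of_hasTorAmplitude (g : X ⟶ S) {F G : CochainComplex X.Modules ℤ} {a b : ℤ}
    (h : DerSch.HasTorAmplitude g a b F)
    (eG : DerivedCategory.Q.obj G ≅ DerivedCategory.Q.obj F) (i : ℤ) (hi : i < a ∨ b < i) :
    G.ExactAt i := by
  rw [HomologicalComplex.exactAt_iff_isZero_homology]
  refine isZero_of_forall_isZero_stalkOver g _ fun x => ?_
  obtain ⟨E, hv, hfl, ⟨eE⟩⟩ := h x
  have hz : IsZero (E.homology i) :=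
    IsZero.of_mono (E.homologyι i) (IsZero.of_epi (E.pOpcycles i) (hv i hi))
  refine hz.of_iso ((stalkHomologyIso g x G i).symm ≪≫
    ((DerivedCategory.homologyFunctorFactors _ i).app _).symm ≪≫
    (DerivedCategory.homologyFunctor _ i).mapIso (stalkCxOverIsoOfIso g x eG ≪≫ eE.symm) ≪≫
    (DerivedCategory.homologyFunctorFactors _ i).app E)

/-- stalkwise flatness over the base of the cokernel -/
lemma isFlatOver_cokernel_d_of_hasTorAmplitude (g : X ⟶ S)
    {F Q : CochainComplex X.Modules ℤ} {a b : ℤ}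
    (h : DerSch.HasTorAmplitude g a b F)
    (eQ : DerivedCategory.Q.obj Q ≅ DerivedCategory.Q.obj F)
    (hQf : ∀ i, FlatMod.IsFlatOver g (Q.X i)) (n : ℤ) (hQb : ∀ i, n < i → IsZero (Q.X i)) :
    FlatMod.IsFlatOver g (cokernel (Q.d (a - 1) a)) := by
  intro x
  rw [isFlatOverAt_iff_stalkOver]
  obtain ⟨E, hv, hfl, ⟨eE⟩⟩ := h x
  let K := (DerSch.stalkCxOver g x).obj Q
  have hK : Module.Flat (S.presheaf.stalk (g.base x))
      ((K.X a) ⧸ LinearMap.range (K.d (a - 1) a).hom) := by
    refine Groth.Agent.S6944.result _ K n (fun i hi => ?_) (fun i => ?_) a b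
      ⟨E, hv, hfl, ⟨eE ≪≫ (stalkCxOverIsoOfIso g x eQ).symm⟩⟩
    · exact (DerSch.stalkOver g x).map_isZero (hQb i hi)
    · exact (isFlatOverAt_iff_stalkOver g (Q.X i) x).1 (hQf i x)
  let e1 : (DerSch.stalkOver g x).obj (cokernel (Q.d (a - 1) a)) ≅
      cokernel ((DerSch.stalkOver g x).map (Q.d (a - 1) a)) :=
    PreservesCokernel.iso _ _
  let e2 := ModuleCat.cokernelIsoRangeQuotient ((DerSch.stalkOver g x).map (Q.d (a - 1) a))
  haveI : Module.Flat (S.presheaf.stalk (g.base x))
      (ModuleCat.of (S.presheaf.stalk (g.base x))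
        (((DerSch.stalkOver g x).obj (Q.X a)) ⧸
          LinearMap.range ((DerSch.stalkOver g x).map (Q.d (a - 1) a)).hom)) := hK
  exact Module.Flat.of_linearEquiv (e1 ≪≫ e2).toLinearEquiv

/-- **Theorem B'.** stalkwise tor amplitude over the base implies relative flat amplitude, for a
flat morphism. -/
theorem hasRelFlatAmplitudeIn_of_hasTorAmplitude (g : X ⟶ S) [Flat g]
    (F : CochainComplex X.Modules ℤ) (a b : ℤ)
    (h : DerSch.HasTorAmplitude g a b F) : DCoh.HasRelFlatAmplitudeIn g a b (DCoh.toD X F) := by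
  by_cases hab : a ≤ b
  · have hLE : F.IsLE b := by
      rw [CochainComplex.isLE_iff]
      intro i hi
      exact exactAt_of_hasTorAmplitude g h (Iso.refl _) i (Or.inr hi)
    obtain ⟨Q0, β0, hQb, hQfl, hβ0⟩ :=
      Groth.Agent.Lib.Helper28.KFlatSite.exists_flat_resolution_of_isLE (O := X.sheaf) F b hLE
    let Q : CochainComplex X.Modules ℤ := Q0
    let β : Q ⟶ F := β0
    have hβ : QuasiIso β := hβ0
    have hi2 : IsIso (DerivedCategory.Q.map β) := by
      rw [DerivedCategory.isIso_Q_map_iff_quasiIso]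
      exact hβ
    have eQ : DerivedCategory.Q.obj Q ≅ DerivedCategory.Q.obj F :=
      @asIso _ _ _ _ (DerivedCategory.Q.map β) hi2
    have hQge : Q.IsGE a := by
      rw [CochainComplex.isGE_iff]
      intro i hi
      exact exactAt_of_hasTorAmplitude g h eQ i (Or.inl hi)
    have hQf : ∀ i, FlatMod.IsFlat (Q.X i) := fun i =>
      (Groth.Agent.Lib.Helper17.FlatBridge.isFlat_iff _).2 (hQfl i)
    have hQfS : ∀ i, FlatMod.IsFlatOver g (Q.X i) := fun i => isFlatOver_of_isFlat g (hQf i)
    have hQb' : ∀ i, b < i → IsZero (Q.X i) := fun i hi =>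
      CochainComplex.isZero_of_isStrictlyLE Q0 b i hi
    have hc0 := isFlatOver_cokernel_d_of_hasTorAmplitude g h eQ hQfS b hQb'
    have hi3 : IsIso (DerivedCategory.Q.map (Q.πTruncGE a)) := by
      rw [DerivedCategory.isIso_Q_map_iff_quasiIso]
      infer_instance
    refine ⟨Q.truncGE a, ?_, ?_,
      ⟨(@asIso _ _ _ _ (DerivedCategory.Q.map (Q.πTruncGE a)) hi3).symm ≪≫ eQ⟩⟩
    · rintro i (hi | hi)
      · exact (Q.truncGE a).isZero_of_isStrictlyGE a i hi
      · exact IsZero.of_iso (hQb' i hi) (Q.truncGEXIso a i (by omega))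
    · intro i
      rcases lt_trichotomy i a with hi | rfl | hi
      · exact isFlatOver_of_isZero g ((Q.truncGE a).isZero_of_isStrictlyGE a i hi)
      · let e1 : Q.opcycles i ≅ cokernel (Q.d (i - 1) i) :=
          IsColimit.coconePointUniqueUpToIso (Q.opcyclesIsCokernel (i - 1) i (by simp))
            (colimit.isColimit (parallelPair (Q.d (i - 1) i) 0))
        exact isFlatOver_of_iso g (e1.symm ≪≫ (Q.truncGEXIsoOpcycles i).symm) hc0
      · exact isFlatOver_of_iso g (Q.truncGEXIso a i hi).symm (hQfS i)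
  · have zero : ∀ i, IsZero ((0 : CochainComplex X.Modules ℤ).X i) := fun i =>
      (HomologicalComplex.eval _ _ i).map_isZero (isZero_zero _)
    have hq : QuasiIso (0 : (0 : CochainComplex X.Modules ℤ) ⟶ F) := by
      rw [quasiIso_iff]
      intro i
      rw [quasiIsoAt_iff_isIso_homologyMap]
      have h1 : IsZero ((0 : CochainComplex X.Modules ℤ).homology i) :=
        IsZero.of_mono (HomologicalComplex.homologyι _ i)
          (IsZero.of_epi (HomologicalComplex.pOpcycles _ i) (zero i))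
      have h2 : IsZero (F.homology i) :=
        (HomologicalComplex.exactAt_iff_isZero_homology _ _).1
          (exactAt_of_hasTorAmplitude g h (Iso.refl _) i (by omega))
      exact ⟨⟨0, h1.eq_of_src _ _, h2.eq_of_src _ _⟩⟩
    have hi : IsIso (DerivedCategory.Q.map (0 : (0 : CochainComplex X.Modules ℤ) ⟶ F)) := by
      rw [DerivedCategory.isIso_Q_map_iff_quasiIso]
      exact hq
    exact ⟨0, fun i _ => zero i, fun i => isFlatOver_of_isZero g (zero i),
      ⟨@asIso _ _ _ _ (DerivedCategory.Q.map (0 : (0 : CochainComplex X.Modules ℤ) ⟶ F)) hi⟩⟩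

/-- tor amplitude at a point of an open, in terms of the restriction -/
lemma hasTorAmplitudeAt_restrict_iff (f : X ⟶ S) (j : Y ⟶ X) [IsOpenImmersion j]
    (F : CochainComplex X.Modules ℤ) (a b : ℤ) (y : Y) :
    DerSch.HasTorAmplitudeAt (j ≫ f) a b ((resCx j).obj F) y ↔
      DerSch.HasTorAmplitudeAt f a b F (j y) := by
  constructor
  · intro h
    exact Groth.Agent.Lib.Helper13.DR.hasTorAmplitudeIn_of_iso
      (DerivedCategory.Q.mapIso (stalkCxOverRestrictIso j f y F)) h
  · intro h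
    exact Groth.Agent.Lib.Helper13.DR.hasTorAmplitudeIn_of_iso
      (DerivedCategory.Q.mapIso (stalkCxOverRestrictIso j f y F)).symm h

/-- tor amplitude at a point only depends on the object of the derived category -/
lemma hasTorAmplitudeAt_of_iso (f : X ⟶ S) {F F' : CochainComplex X.Modules ℤ}
    (e : DerivedCategory.Q.obj F ≅ DerivedCategory.Q.obj F') (a b : ℤ) (x : X)
    (h : DerSch.HasTorAmplitudeAt f a b F x) : DerSch.HasTorAmplitudeAt f a b F' x :=
  Groth.Agent.Lib.Helper13.DR.hasTorAmplitudeIn_of_iso (stalkCxOverIsoOfIso f x e) h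

/-- **Theorem A.** -/
theorem locFiniteTorAmplitude_of_locHasFiniteRelTorDim (f : X ⟶ S) {K : DCoh.D X}
    (h : DCoh.LocHasFiniteRelTorDim f K) (F : CochainComplex X.Modules ℤ)
    (eF : DCoh.toD X F ≅ K) : DerSch.LocFiniteTorAmplitude f F := by
  intro x
  obtain ⟨V, a, b, hxV, hV⟩ := h x
  refine ⟨V, a, b, hxV, fun x' hx' => ?_⟩
  obtain ⟨E, hv, hfl, ⟨eE⟩⟩ := hV F ⟨eF⟩
  let y : (V : Scheme.{u}) := ⟨x', hx'⟩
  have h1 : DerSch.HasTorAmplitudeAt (V.ι ≫ f) a b E y := by
    refine ⟨(DerSch.stalkCxOver (V.ι ≫ f) y).obj E, fun i hi => ?_, fun i => ?_, ⟨Iso.refl _⟩⟩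
    · exact (DerSch.stalkOver (V.ι ≫ f) y).map_isZero (hv i hi)
    · exact (isFlatOverAt_iff_stalkOver (V.ι ≫ f) (E.X i) y).1 (hfl i y)
  have h2 := hasTorAmplitudeAt_of_iso (V.ι ≫ f) eE a b y h1
  exact (hasTorAmplitudeAt_restrict_iff f V.ι F a b y).1 h2

/-- **Theorem B.** -/
theorem locHasFiniteRelTorDim_of_locFiniteTorAmplitude (f : X ⟶ S) [Flat f] {K : DCoh.D X}
    (F : CochainComplex X.Modules ℤ) (eF : DCoh.toD X F ≅ K)
    (h : DerSch.LocFiniteTorAmplitude f F) : DCoh.LocHasFiniteRelTorDim f K := by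
  intro x
  obtain ⟨V, a, b, hxV, hV⟩ := h x
  refine ⟨V, a, b, hxV, fun F' ⟨eF'⟩ => ?_⟩
  refine hasRelFlatAmplitudeIn_of_hasTorAmplitude (V.ι ≫ f) ((DCoh.restrictCx V).obj F') a b ?_
  intro y
  rw [hasTorAmplitudeAt_restrict_iff f V.ι F' a b y]
  exact hasTorAmplitudeAt_of_iso f (eF ≪≫ eF'.symm) a b _ (hV _ y.2)

end

end Groth.Agent.Lib.Helper28.RelPerf
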