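import Mathlib
import Groth.Prelude.Def_DerSch
import Groth.Prelude.Def_DCoh4
import Groth.Agent.Lib.Helper28.StalkAdj3
import Groth.Agent.Lib.Helper28.StalkTensor9
import Groth.Agent.Lib.Helper28.KFlatAbs5
import Groth.Agent.Lib.Helper28.KFlatSite10
import Groth.Agent.Lib.Helper28.DCohStalk8
import Groth.Agent.Lib.Helper28.RelPerf2
import Groth.Agent.Lib.Helper28.PullTensor6
import Groth.Agent.Lib.Helper28.LpullComp
import Groth.Agent.Lib.Helper13.TorAmpRes
import Groth.Agent.Lib.Helper13.DRingRestrict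
import Groth.Agent.Lib.Helper13.DRingTor3

/-!
# Stalks of `f^*P ⊗ F` over the base and relative tor amplitude (helper28)

* `stalkCxOverPullTensorIso`: `(f^*P ⊗ F)_x ≅ F_x ⊗_{O_{Y,f x}} P_{f x}` over `O_{Y, f x}`
* `hasTorAmplitudeIn_of_restrictCx_bijective`, `hasTorAmplitudeAt_morphismRestrict`
* `isZero_HD_LTensorCx_Lpull` (S6241)
-/

set_option autoImplicit false

universe u

open CategoryTheory Limits AlgebraicGeometry MonoidalCategory

attribute [local instance] HasDerivedCategory.standard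

namespace Groth.Agent.Lib.Helper28.PullTor

open Groth.Agent.Lib.Helper28.StalkTensor Groth.Agent.Lib.Helper13.DR
  Groth.Agent.Lib.Helper28.RelPerf
  Groth.Agent.Lib.Helper28.Lpull Groth.Agent.Lib.Helper28.KFlatSite

noncomputable section

section Core


variable {X Y : Scheme.{u}} (f : X ⟶ Y) (x : X)

/-- symmetry of the tensor product of complexes of modules -/
def tensorSymmIso {R : Type u} [CommRing R] (K L : DRing.Cx R) : K ⊗ L ≅ L ⊗ K :=
  Groth.Agent.Lib.Helper28.KFlatAbs.symmIso (curriedTensor (ModuleCat.{u} R))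
    (BraidedCategory.curriedBraidingNatIso _) K L

/-- the complex of stalks over the base is the restriction of the complex of stalks -/
def stalkCxOverIso (F : CochainComplex X.Modules ℤ) :
    (DerSch.stalkCxOver f x).obj F ≅ (DTen.resCx (f.stalkMap x).hom).obj ((stalkCx x).obj F) :=
  Iso.refl _

/-- **stalk of `f^*P ⊗ F` over the base** -/
def stalkCxOverPullTensorIso (P : CochainComplex Y.Modules ℤ) (F : CochainComplex X.Modules ℤ) :
    (DerSch.stalkCxOver f x).obj ((DCoh.tensorCx.obj ((pullCx f).obj P)).obj F) ≅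
      (DerSch.stalkCxOver f x).obj F ⊗ (stalkCx (f.base x)).obj P :=
  stalkCxOverIso f x _ ≪≫
    (DTen.resCx (f.stalkMap x).hom).mapIso
      (stalkTotIso x ((pullCx f).obj P) F ≪≫
        whiskerRightIso (stalkCxPullIso f x P) _ ≪≫ tensorSymmIso _ _) ≪≫
    (Groth.Agent.Lib.Helper13.RE.resExtIso (f.stalkMap x).hom ((stalkCx x).obj F)
      ((stalkCx (f.base x)).obj P)).symm ≪≫
    whiskerRightIso (stalkCxOverIso f x F).symm _


end Core

section IsoDescent


open Groth.Agent.Lib.Helper13.DR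

/-- restriction of scalars along mutually inverse ring homomorphisms -/
def restrictCxInvIso {A B : Type u} [CommRing A] [CommRing B] (φ : A →+* B) (ψ : B →+* A)
    (h : φ.comp ψ = RingHom.id B) (C : DRing.Cx B) :
    (DRing.restrictCx ψ).obj ((DRing.restrictCx φ).obj C) ≅ C :=
  (NatIso.mapHomologicalComplex
    ((ModuleCat.restrictScalarsComp' ψ φ (RingHom.id B) h.symm).symm ≪≫
      ModuleCat.restrictScalarsId' (RingHom.id B) rfl) (ComplexShape.up ℤ)).app C

/-- tor amplitude descends along restriction of scalars along a bijective ring homomorphism -/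
theorem hasTorAmplitudeIn_of_restrictCx_bijective {A B : Type u} [CommRing A] [CommRing B]
    (φ : A →+* B) (hφ : Function.Bijective φ) (C : DRing.Cx B) (a b : ℤ)
    (h : DRing.HasTorAmplitudeIn A a b (DerivedCategory.Q.obj ((DRing.restrictCx φ).obj C))) :
    DRing.HasTorAmplitudeIn B a b (DerivedCategory.Q.obj C) := by
  obtain ⟨G, hGv, hGfl, ⟨eG⟩⟩ := h
  let ψ : B →+* A := ((RingEquiv.ofBijective φ hφ).symm : B →+* A)
  have hψ : Function.Bijective ψ := (RingEquiv.ofBijective φ hφ).symm.bijective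
  have hc : φ.comp ψ = RingHom.id B := by
    ext t
    exact (RingEquiv.ofBijective φ hφ).apply_symm_apply t
  refine ⟨(DRing.restrictCx ψ).obj G, fun i hi => ?_, fun i => ?_, ⟨?_⟩⟩
  · exact (ModuleCat.restrictScalars ψ).map_isZero (hGv i hi)
  · exact (Groth.Agent.Lib.Helper28.DCohStalk.flat_restrictScalars_iff ψ hψ (G.X i)).2 (hGfl i)
  · exact (restrictDQIso ψ G).symm ≪≫ (DRing.restrictD ψ).mapIso eG ≪≫
      restrictDQIso ψ _ ≪≫ DerivedCategory.Q.mapIso (restrictCxInvIso φ ψ hc C)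


end IsoDescent

section Restrict

variable {X Y : Scheme.{u}} (f : X ⟶ Y)

/-- tor amplitude at a point is inherited by the restriction of `f` over an open of the base -/
theorem hasTorAmplitudeAt_morphismRestrict (V : Y.Opens) (F : CochainComplex X.Modules ℤ)
    (a b : ℤ) (x' : (f ⁻¹ᵁ V : Scheme.{u}))
    (h : DerSch.HasTorAmplitudeAt f a b F ((f ⁻¹ᵁ V).ι x')) :
    DerSch.HasTorAmplitudeAt (f ∣_ V) a b ((DCoh.restrictCx (f ⁻¹ᵁ V)).obj F) x' := by
  have h1 := (hasTorAmplitudeAt_restrict_iff f (f ⁻¹ᵁ V).ι F a b x').2 h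
  have e : (f ⁻¹ᵁ V).ι ≫ f = (f ∣_ V) ≫ V.ι := (morphismRestrict_ι f V).symm
  rw [e] at h1
  have h2 : DRing.HasTorAmplitudeIn (Y.presheaf.stalk (V.ι ((f ∣_ V) x'))) a b
      (DerivedCategory.Q.obj ((DRing.restrictCx (V.ι.stalkMap ((f ∣_ V) x')).hom).obj
        ((DerSch.stalkCxOver (f ∣_ V) x').obj ((DCoh.restrictCx (f ⁻¹ᵁ V)).obj F)))) :=
    hasTorAmplitudeIn_of_iso (DerivedCategory.Q.mapIso
      (Groth.Agent.Lib.Helper28.DCohStalk.stalkCxOverCompIso (f ∣_ V) V.ι x' ((DCoh.restrictCx (f ⁻¹ᵁ V)).obj F))).symm h1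
  refine hasTorAmplitudeIn_of_restrictCx_bijective (V.ι.stalkMap ((f ∣_ V) x')).hom ?_ _ a b h2
  exact (ConcreteCategory.isIso_iff_bijective _).1 inferInstance

end Restrict

section Vanishing

variable {X Y : Scheme.{u}} (f : X ⟶ Y)

/-- **vanishing of `H^i(Lf^*M ⊗^L F)` outside the tor amplitude of `F` relative to `f`** -/
theorem isZero_HD_LTensorCx_Lpull (F : CochainComplex X.Modules ℤ) (m n : ℤ)
    (hF : DerSch.HasTorAmplitude f m n F) (M : Y.Modules) [DCoh.HasLpull f] [DCoh.HasLTensorCx F]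
    (i : ℤ) (hi : i < m ∨ n < i) :
    IsZero (DCoh.HD ((DCoh.LTensorCx F).obj ((DCoh.Lpull f).obj (DCoh.inD Y M))) i) := by
  obtain ⟨P0, α0, hPle, hPfl, -, hα0⟩ := exists_flat_resolution_single (O := Y.sheaf) M
  let P : CochainComplex Y.Modules ℤ := P0
  let α : P ⟶ (HomologicalComplex.single Y.Modules (ComplexShape.up ℤ) 0).obj M := α0
  have hα : QuasiIso α := hα0
  have hPK : DCoh.IsKFlat P := isKFlat_of_isStrictlyLE (O := Y.sheaf) P0 0 hPle hPfl
  have hiα : IsIso (DerivedCategory.Q.map α) := by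
    rw [DerivedCategory.isIso_Q_map_iff_quasiIso]
    exact hα
  let e1 : DCoh.inD Y M ≅ DerivedCategory.Q.obj P :=
    (DerivedCategory.singleFunctorIsoCompQ Y.Modules 0).app M ≪≫
      (@asIso _ _ _ _ (DerivedCategory.Q.map α) hiα).symm
  let T : CochainComplex X.Modules ℤ := (DCoh.tensorCx.obj ((pullCx f).obj P)).obj F
  let e3 : (DCoh.LTensorCx F).obj ((DCoh.Lpull f).obj (DCoh.inD Y M)) ≅ DerivedCategory.Q.obj T :=
    (DCoh.LTensorCx F).mapIso ((DCoh.Lpull f).mapIso e1 ≪≫ LpullIso f P hPK) ≪≫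
      LTensorCxIsoLeft' F _ (isKFlat_pullCx f P hPK)
  have e4 : DCoh.HD ((DCoh.LTensorCx F).obj ((DCoh.Lpull f).obj (DCoh.inD Y M))) i ≅ T.homology i :=
    (DerivedCategory.homologyFunctor X.Modules i).mapIso e3 ≪≫
      (DerivedCategory.homologyFunctorFactors X.Modules i).app T
  refine IsZero.of_iso ?_ e4
  apply isZero_homology_of_forall_stalkCx
  intro x
  have hz : IsZero (((DerSch.stalkCxOver f x).obj F ⊗ (stalkCx (f.base x)).obj P).homology i) := by
    haveI : QuasiIso ((stalkCx (f.base x)).map α) := inferInstance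
    refine Groth.Agent.Lib.Helper13.DV.isZero_homology_tensor_of_torAmp _ m n (hF x)
      ((stalkCx (f.base x)).obj P) ((stalkCx (f.base x)).obj
        ((HomologicalComplex.single Y.Modules (ComplexShape.up ℤ) 0).obj M))
      (isKFlat_stalk_of_isKFlat (f.base x) P hPK) ((stalkCx (f.base x)).map α) ?_ i hi
    intro q hq
    exact (DerSch.stalkFunctor Y (f.base x)).map_isZero
      (HomologicalComplex.isZero_single_obj_X (ComplexShape.up ℤ) 0 M q hq)
  have hz2 : IsZero (((DerSch.stalkCxOver f x).obj T).homology i) :=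
    IsZero.of_iso hz ((HomologicalComplex.homologyFunctor _ _ i).mapIso
      (stalkCxOverPullTensorIso f x P F))
  exact (Groth.Agent.Lib.Helper13.DV.isZero_homology_resCx_iff (f.stalkMap x).hom
    ((stalkCx x).obj T) i).1 hz2

end Vanishing

end

end Groth.Agent.Lib.Helper28.PullTor
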