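import Mathlib
import Groth.Agent.Lib.Helper28.Ds2
import Groth.Agent.Lib.Helper28.FlatDescent
import Groth.Agent.Lib.Helper28.PullTor
import Groth.Agent.Lib.Helper28.LpullQCoh
import Groth.Agent.Lib.Helper28.DCohStalk8
set_option autoImplicit false

universe u

open CategoryTheory Limits AlgebraicGeometry TopologicalSpace

attribute [local instance] HasDerivedCategory.standard

namespace Groth.Agent.Lib.Helper28.DescPC

open Groth.Agent.Lib.Helper28.StalkTensor
  Groth.Agent.Lib.Helper28.DCohRes Groth.Agent.Lib.Helper28.Lpull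
  Groth.Agent.Lib.Helper28.Thick Groth.Agent.Lib.Helper28.FlatDescent
  Groth.Agent.Lib.Helper28.DCohStalk Groth.Agent.Lib.Helper13.DR
  Groth.Agent.Lib.Helper28.RelPerf Groth.Agent.Lib.Helper28.PullTor

noncomputable section

variable {X X' : Scheme.{u}}

/-- pointwise descent of tor amplitude along a flat morphism -/
theorem hasTorAmplitudeAt_of_pullCx {Z : Scheme.{u}} (g : Z ⟶ X) [Flat g]
    (G : CochainComplex X.Modules ℤ) (a b : ℤ) (z : Z)
    (h : DerSch.HasTorAmplitudeAt (𝟙 Z) a b ((pullCx g).obj G) z) :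
    DerSch.HasTorAmplitudeAt (𝟙 X) a b G (g.base z) := by
  rw [hasTorAmplitudeAt_id_iff] at h ⊢
  letI : Algebra (X.presheaf.stalk (g.base z)) (Z.presheaf.stalk z) :=
    (g.stalkMap z).hom.toAlgebra
  haveI : Module.Flat (X.presheaf.stalk (g.base z)) (Z.presheaf.stalk z) := Flat.stalkMap g z
  haveI : IsLocalHom (algebraMap (X.presheaf.stalk (g.base z)) (Z.presheaf.stalk z)) :=
    (inferInstance : IsLocalHom (g.stalkMap z).hom)
  haveI : Module.FaithfullyFlat (X.presheaf.stalk (g.base z)) (Z.presheaf.stalk z) :=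
    Module.FaithfullyFlat.of_flat_of_isLocalHom
  refine hasTorAmplitudeIn_of_jointlyFaithful
    (jointlyFaithful_of_faithfullyFlat _ (Z.presheaf.stalk z)) _ a b (fun _ => ?_)
  exact Groth.Agent.Lib.Helper13.DR.hasTorAmplitudeIn_of_iso
    (DerivedCategory.Q.mapIso (stalkCxPullIso g z G)) h

theorem hasTorAmplitudeAt_mono {Z S : Scheme.{u}} (g : Z ⟶ S) {a b a' b' : ℤ} (ha : a' ≤ a)
    (hb : b ≤ b') (F : CochainComplex Z.Modules ℤ) (z : Z)
    (h : DerSch.HasTorAmplitudeAt g a b F z) : DerSch.HasTorAmplitudeAt g a' b' F z := by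
  obtain ⟨E, hv, hfl, he⟩ := h
  exact ⟨E, fun i hi => hv i (by omega), hfl, he⟩

/-- tor amplitude at a point does not see a further open immersion of the base -/
theorem hasTorAmplitudeAt_of_comp_openImmersion {Z Y S : Scheme.{u}} (g : Z ⟶ Y) (j : Y ⟶ S)
    [IsOpenImmersion j] (F : CochainComplex Z.Modules ℤ) (a b : ℤ) (z : Z)
    (h : DerSch.HasTorAmplitudeAt (g ≫ j) a b F z) : DerSch.HasTorAmplitudeAt g a b F z := by
  have h2 : DRing.HasTorAmplitudeIn (S.presheaf.stalk (j (g z))) a b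
      (DerivedCategory.Q.obj ((DRing.restrictCx (j.stalkMap (g z)).hom).obj
        ((DerSch.stalkCxOver g z).obj F))) :=
    Groth.Agent.Lib.Helper13.DR.hasTorAmplitudeIn_of_iso (DerivedCategory.Q.mapIso
      (stalkCxOverCompIso g j z F)).symm h
  refine hasTorAmplitudeIn_of_restrictCx_bijective (j.stalkMap (g z)).hom ?_ _ a b h2
  exact (ConcreteCategory.isIso_iff_bijective _).1 inferInstance

/-- restriction of pointwise tor amplitude to an open -/
theorem hasTorAmplitudeAt_id_resCx {U : Scheme.{u}} (j : U ⟶ X) [IsOpenImmersion j]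
    (F : CochainComplex X.Modules ℤ) (a b : ℤ) (u : U)
    (h : DerSch.HasTorAmplitudeAt (𝟙 X) a b F (j u)) :
    DerSch.HasTorAmplitudeAt (𝟙 U) a b ((resCx j).obj F) u := by
  have h1 := (hasTorAmplitudeAt_restrict_iff (𝟙 X) j F a b u).2 h
  have e : j ≫ 𝟙 X = 𝟙 U ≫ j := by simp
  rw [e] at h1
  exact hasTorAmplitudeAt_of_comp_openImmersion (𝟙 U) j _ a b u h1

/-- locally finite tor dimension from pointwise tor amplitude of a representative -/
theorem locHasFiniteTorDim_of_locFiniteTorAmplitude (G : CochainComplex X.Modules ℤ)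
    (h : DerSch.LocFiniteTorAmplitude (𝟙 X) G) :
    DCoh.LocHasFiniteTorDim (DerivedCategory.Q.obj G) := by
  intro x
  obtain ⟨V, a, b, hxV, hV⟩ := h x
  refine ⟨V, a, b, hxV, fun F' ⟨eF'⟩ => ?_⟩
  refine hasFlatAmplitudeIn_of_hasTorAmplitude _ a b fun u => ?_
  refine hasTorAmplitudeAt_id_resCx V.ι F' a b u ?_
  exact hasTorAmplitudeAt_of_iso (𝟙 X) eF'.symm a b _ (hV _ u.2)

lemma locHasFiniteTorDim_of_iso {K L : DCoh.D X} (e : K ≅ L) (h : DCoh.LocHasFiniteTorDim K) :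
    DCoh.LocHasFiniteTorDim L := by
  intro x
  obtain ⟨V, a, b, hxV, hV⟩ := h x
  exact ⟨V, a, b, hxV, fun F' ⟨eF'⟩ => hV F' ⟨eF' ≪≫ e.symm⟩⟩

/-- local pointwise bound for the tor amplitude of `G` at the images of points near `w` -/
theorem exists_torAt_of_pullCx (f : X' ⟶ X) [Flat f] (G : CochainComplex X.Modules ℤ)
    (h : DCoh.LocHasFiniteTorDim (DerivedCategory.Q.obj ((pullCx f).obj G))) (w : X') :
    ∃ (W : X'.Opens) (a b : ℤ), w ∈ W ∧ ∀ w' : X', w' ∈ W →
      DerSch.HasTorAmplitudeAt (𝟙 X) a b G (f.base w') := by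
  obtain ⟨V, a, b, hwV, hV⟩ := h w
  refine ⟨V, a, b, hwV, fun w' hw' => ?_⟩
  have h1 := hV ((pullCx f).obj G) ⟨Iso.refl _⟩
  have h1' : DCoh.HasFlatAmplitudeIn a b (DCoh.toD (V : Scheme.{u}) ((pullCx (V.ι ≫ f)).obj G)) :=
    hasFlatAmplitudeIn_of_iso (DerivedCategory.Q.mapIso
      (resCxPullIso V.ι _ ≪≫ pullCxCompIso V.ι f G)) h1
  have h2 := hasTorAmplitude_of_hasFlatAmplitudeIn _ a b h1' ⟨w', hw'⟩
  exact hasTorAmplitudeAt_of_pullCx (V.ι ≫ f) G a b ⟨w', hw'⟩ h2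

/-- **locally finite tor dimension descends along fpqc coverings** -/
theorem locHasFiniteTorDim_of_Lpull_of_quasiCompact (f : X' ⟶ X) [Flat f] [Surjective f]
    [QuasiCompact f] [DCoh.HasLpull f] (E : DCoh.D X)
    (h : DCoh.LocHasFiniteTorDim ((DCoh.Lpull f).obj E)) : DCoh.LocHasFiniteTorDim E := by
  obtain ⟨G, hG, ⟨eG⟩⟩ := exists_kflat_rep E
  have h' : DCoh.LocHasFiniteTorDim (DerivedCategory.Q.obj ((pullCx f).obj G)) :=
    locHasFiniteTorDim_of_iso ((DCoh.Lpull f).mapIso eG.symm ≪≫ LpullIso f G hG) h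
  refine locHasFiniteTorDim_of_iso eG (locHasFiniteTorDim_of_locFiniteTorAmplitude G fun x => ?_)
  obtain ⟨V, hVaff, hxV⟩ : ∃ V : X.Opens, IsAffineOpen V ∧ x ∈ V := by
    obtain ⟨V, hV, hx, -⟩ := (Opens.isBasis_iff_nbhd.1 X.isBasis_affineOpens)
      (show x ∈ (⊤ : X.Opens) from trivial)
    exact ⟨V, hV, hx⟩
  have hcpt : IsCompact (f.base ⁻¹' (V : Set X)) :=
    QuasiCompact.isCompact_preimage _ V.2 hVaff.isCompact
  choose W aa bb hyW hW using fun w : X' => exists_torAt_of_pullCx f G h' w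
  obtain ⟨t, ht⟩ := hcpt.elim_finite_subcover (fun y : X' => (W y : Set X'))
    (fun y => (W y).2) (fun w _ => Set.mem_iUnion.2 ⟨w, hyW w⟩)
  obtain ⟨b, hb⟩ := (t.image bb).exists_le
  obtain ⟨a, ha⟩ : ∃ a : ℤ, ∀ i ∈ t.image aa, a ≤ i := by
    obtain ⟨M, hM⟩ := (t.image (fun y => -aa y)).exists_le
    refine ⟨-M, fun i hi => ?_⟩
    obtain ⟨y, hy, rfl⟩ := Finset.mem_image.1 hi
    have := hM _ (Finset.mem_image_of_mem (fun y => -aa y) hy)
    omega
  refine ⟨V, a, b, hxV, fun v hv => ?_⟩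
  obtain ⟨w, rfl⟩ := f.surjective v
  obtain ⟨y, hyt, hwy⟩ : ∃ y ∈ t, w ∈ W y := by
    have := ht (show w ∈ f.base ⁻¹' (V : Set X) from hv)
    simpa using this
  exact hasTorAmplitudeAt_mono (𝟙 X) (ha _ (Finset.mem_image_of_mem aa hyt))
    (hb _ (Finset.mem_image_of_mem bb hyt)) G _ (hW y w hwy)

end

end Groth.Agent.Lib.Helper28.DescPC
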