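import Mathlib
import Groth.Agent.Lib.Helper13.TorAmpLocal
set_option autoImplicit false

universe u

open CategoryTheory CategoryTheory.Limits MonoidalCategory TensorProduct ChangeOfRings

attribute [local instance] HasDerivedCategory.standard

namespace Groth.Agent.Lib.Helper28.FibreTor

open DTen Groth.Agent.Lib.Helper13.SF Groth.Agent.Lib.Helper13.DT Groth.Agent.Lib.Helper13.DR
  Groth.Agent.Lib.Helper13.HT Groth.Agent.Lib.Helper13.RE Groth.Agent.Lib.Helper13.PC
  Groth.Agent.Lib.Helper13.DV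

noncomputable section

section Res

variable {A B : Type u} [CommRing A] [CommRing B] (φ : A →+* B)

/-- extension of scalars along a flat ring map preserves acyclicity -/
lemma acyclic_extCx_of_flat (hφ : φ.Flat) (L : DRing.Cx A) (hL : ∀ i : ℤ, IsZero (L.homology i))
    (j : ℤ) : IsZero (((extCx φ).obj L).homology j) := by
  letI := φ.toAlgebra
  haveI : Module.Flat A B := hφ
  exact IsZero.of_iso (Functor.map_isZero _ (hL j)) (Groth.Agent.Lib.Helper13.DV.extendCxHomologyIso A B L j)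

/-- restriction of scalars along a flat ring map preserves K-flatness -/
theorem kflat_resCx_of_flat (hφ : φ.Flat) (P : DRing.Cx B) (hP : KFlat P) :
    KFlat ((resCx φ).obj P) := by
  intro L hL i
  refine IsZero.of_iso ?_ ((HomologicalComplex.homologyFunctor _ _ i).mapIso
    (braidCx L ((resCx φ).obj P)))
  rw [HomologicalComplex.homologyFunctor_obj, ← isZero_homology_mix_iff φ P L i]
  refine IsZero.of_iso (hP _ (acyclic_extCx_of_flat φ hφ L hL) i)
    ((HomologicalComplex.homologyFunctor _ _ i).mapIso (braidCx P ((extCx φ).obj L)))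

end Res

section BC

variable {A A' B C : Type u} [CommRing A] [CommRing A'] [CommRing B] [CommRing C]
  (γ : A →+* A') (φ : A →+* B) (ιL : A' →+* C) (ιR : B →+* C)

/-- the pushout condition, for ring homomorphisms -/
def IsPO (hsq : ιL.comp γ = ιR.comp φ) : Prop :=
  letI : Algebra A A' := γ.toAlgebra
  letI : Algebra A B := φ.toAlgebra
  letI : Algebra A' C := ιL.toAlgebra
  letI : Algebra B C := ιR.toAlgebra
  letI : Algebra A C := (ιL.comp γ).toAlgebra
  haveI : IsScalarTower A A' C := IsScalarTower.of_algebraMap_eq fun _ => rfl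
  haveI : IsScalarTower A B C := IsScalarTower.of_algebraMap_eq fun x => by
    change (ιL.comp γ) x = (ιR.comp φ) x
    rw [hsq]
  Algebra.IsPushout A A' B C

variable (hsq : ιL.comp γ = ιR.comp φ) (hpo : IsPO γ φ ιL ιR hsq)

/-- base change for modules along a pushout square of rings -/
def bcLinearEquiv (N : ModuleCat.{u} B) :
    ((ModuleCat.extendScalars.{u, u, u} γ).obj ((ModuleCat.restrictScalars.{u} φ).obj N)) ≃ₗ[A']
      ((ModuleCat.restrictScalars.{u} ιL).obj ((ModuleCat.extendScalars.{u, u, u} ιR).obj N)) := by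
  letI : Algebra A A' := γ.toAlgebra
  letI : Algebra A B := φ.toAlgebra
  letI : Algebra A' C := ιL.toAlgebra
  letI : Algebra B C := ιR.toAlgebra
  letI : Algebra A C := (ιL.comp γ).toAlgebra
  haveI : IsScalarTower A A' C := IsScalarTower.of_algebraMap_eq fun _ => rfl
  haveI : IsScalarTower A B C := IsScalarTower.of_algebraMap_eq fun x => by
    change (ιL.comp γ) x = (ιR.comp φ) x
    rw [hsq]
  haveI : Algebra.IsPushout A A' B C := hpo
  letI : Module A N := Module.compHom N φ
  haveI : IsScalarTower A B N := IsScalarTower.of_algebraMap_smul fun _ _ => rfl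
  exact (Algebra.IsPushout.cancelBaseChange A A' B C N).symm


lemma bcLinearEquiv_tmul (N : ModuleCat.{u} B) (a' : A') (n : N) :
    bcLinearEquiv γ φ ιL ιR hsq hpo N
      (a' ⊗ₜ[A,γ] (n : (ModuleCat.restrictScalars.{u} φ).obj N)) =
      (ιL a' ⊗ₜ[B,ιR] n : (ModuleCat.extendScalars.{u, u, u} ιR).obj N) := by
  letI : Algebra A A' := γ.toAlgebra
  letI : Algebra A B := φ.toAlgebra
  letI : Algebra A' C := ιL.toAlgebra
  letI : Algebra B C := ιR.toAlgebra
  letI : Algebra A C := (ιL.comp γ).toAlgebra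
  haveI : IsScalarTower A A' C := IsScalarTower.of_algebraMap_eq fun _ => rfl
  haveI : IsScalarTower A B C := IsScalarTower.of_algebraMap_eq fun x => by
    change (ιL.comp γ) x = (ιR.comp φ) x
    rw [hsq]
  haveI : Algebra.IsPushout A A' B C := hpo
  letI : Module A N := Module.compHom N φ
  haveI : IsScalarTower A B N := IsScalarTower.of_algebraMap_smul fun _ _ => rfl
  exact Algebra.IsPushout.cancelBaseChange_symm_tmul A A' B C N a' n

/-- base change for modules along a pushout square of rings, as an isomorphism -/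
def bcIso (N : ModuleCat.{u} B) :
    (ModuleCat.extendScalars.{u, u, u} γ).obj ((ModuleCat.restrictScalars.{u} φ).obj N) ≅
      (ModuleCat.restrictScalars.{u} ιL).obj ((ModuleCat.extendScalars.{u, u, u} ιR).obj N) :=
  (bcLinearEquiv γ φ ιL ιR hsq hpo N).toModuleIso

lemma bcIso_hom_tmul (N : ModuleCat.{u} B) (a' : A') (n : N) :
    (bcIso γ φ ιL ιR hsq hpo N).hom
      (a' ⊗ₜ[A,γ] (n : (ModuleCat.restrictScalars.{u} φ).obj N)) =
      (ιL a' ⊗ₜ[B,ιR] n : (ModuleCat.extendScalars.{u, u, u} ιR).obj N) :=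
  bcLinearEquiv_tmul γ φ ιL ιR hsq hpo N a' n

lemma bcIso_naturality {N N' : ModuleCat.{u} B} (g : N ⟶ N') :
    (ModuleCat.extendScalars.{u, u, u} γ).map ((ModuleCat.restrictScalars.{u} φ).map g) ≫
      (bcIso γ φ ιL ιR hsq hpo N').hom =
    (bcIso γ φ ιL ιR hsq hpo N).hom ≫
      (ModuleCat.restrictScalars.{u} ιL).map ((ModuleCat.extendScalars.{u, u, u} ιR).map g) := by
  apply ModuleCat.ExtendScalars.hom_ext
  intro n
  change (bcIso γ φ ιL ιR hsq hpo N').hom
      ((ModuleCat.extendScalars.{u, u, u} γ).map ((ModuleCat.restrictScalars.{u} φ).map g)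
        ((1 : A') ⊗ₜ[A,γ] n)) =
    (ModuleCat.extendScalars.{u, u, u} ιR).map g
      ((bcIso γ φ ιL ιR hsq hpo N).hom ((1 : A') ⊗ₜ[A,γ] n))
  rw [ModuleCat.ExtendScalars.map_tmul, bcIso_hom_tmul]
  refine (bcIso_hom_tmul γ φ ιL ιR hsq hpo N' 1 (g.hom n)).trans ?_
  rw [ModuleCat.ExtendScalars.map_tmul]
  rfl

end BC

section Main

variable {A A' B B' C : Type u} [CommRing A] [CommRing A'] [CommRing B] [CommRing B'] [CommRing C]
  (γ : A →+* A') (φ : A →+* B) (ιL : A' →+* C) (ιR : B →+* C)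
  (hsq : ιL.comp γ = ιR.comp φ) (hpo : IsPO γ φ ιL ιR hsq)

/-- base change for complexes along a pushout square of rings -/
def bcCxIso (P : DRing.Cx B) :
    (extCx γ).obj ((resCx φ).obj P) ≅ (resCx ιL).obj ((extCx ιR).obj P) :=
  HomologicalComplex.Hom.isoOfComponents (fun n => bcIso γ φ ιL ιR hsq hpo (P.X n))
    (fun i j _ => (bcIso_naturality γ φ ιL ιR hsq hpo (P.d i j)).symm)

lemma quasiIso_resCx_map {R R' : Type u} [CommRing R] [CommRing R'] (ψ : R →+* R')
    {Z S : DRing.Cx R'} (π : Z ⟶ S) [QuasiIso π] : QuasiIso ((resCx ψ).map π) :=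
  inferInstance

/-- the last step: vanishing of `H^i(res P ⊗_A res Z)` -/
lemma isZero_homology_res_tensor_res (hφγ : φ.Flat ∨ γ.Flat)
    (P : DRing.Cx B) (hP : KFlat P) (a b : ℤ)
    (h : DRing.HasTorAmplitudeIn A a b (DerivedCategory.Q.obj ((resCx φ).obj P)))
    (Z S : DRing.Cx A') (hZ : KFlat Z) (π : Z ⟶ S) [QuasiIso π]
    (hS : ∀ q : ℤ, q ≠ 0 → IsZero (S.X q)) (i : ℤ) (hi : i < a ∨ b < i) :
    IsZero (((resCx φ).obj P ⊗ (resCx γ).obj Z).homology i) := by
  have hq : QuasiIso ((resCx γ).map π) := quasiIso_resCx_map γ π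
  have hS' : ∀ q : ℤ, q ≠ 0 → IsZero (((resCx γ).obj S).X q) := fun q hq =>
    Functor.map_isZero (ModuleCat.restrictScalars.{u} γ) (hS q hq)
  rcases hφγ with hφ | hγ
  · have hP' : KFlat ((resCx φ).obj P) := kflat_resCx_of_flat φ hφ P hP
    have q1 := quasiIso_whiskerLeft_of_kflat_left _ hP' ((resCx γ).map π)
    rw [isZero_homology_of_quasiIso ((resCx φ).obj P ◁ (resCx γ).map π) i]
    obtain ⟨Z₀, f, hf, hproj, hz⟩ := exists_projective_quasiIso ((resCx γ).obj S) 0
      (fun j hj => ShortComplex.isZero_homology_of_isZero_X₂ _ (hS' j (by omega)))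
    haveI : Z₀.IsKProjective := isKProjective_of_forall_projective Z₀ 0 hz hproj
    have hZ₀ : KFlat Z₀ := isKFlat_of_isKProjective Z₀
    have q2 := quasiIso_whiskerLeft_of_kflat_left _ hP' f
    rw [← isZero_homology_of_quasiIso ((resCx φ).obj P ◁ f) i]
    exact isZero_homology_tensor_of_torAmp ((resCx φ).obj P) a b h Z₀ _ hZ₀ f hS' i hi
  · have hZ' : KFlat ((resCx γ).obj Z) := kflat_resCx_of_flat γ hγ Z hZ
    exact isZero_homology_tensor_of_torAmp ((resCx φ).obj P) a b h _ _ hZ' ((resCx γ).map π)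
      hS' i hi

include hsq hpo in
/-- **base change of tor amplitude along a flat localisation of a pushout square** -/
theorem hasTorAmplitudeIn_baseChange (c : C →+* B') (hc : c.Flat) (hφγ : φ.Flat ∨ γ.Flat)
    (P : DRing.Cx B) (hP : KFlat P) (a b : ℤ)
    (h : DRing.HasTorAmplitudeIn A a b (DerivedCategory.Q.obj ((resCx φ).obj P))) :
    DRing.HasTorAmplitudeIn A' a b (DerivedCategory.Q.obj
      ((resCx (c.comp ιL)).obj ((extCx (c.comp ιR)).obj P))) := by
  refine hasTorAmplitudeIn_of_key _ a b (fun Z S hZ π _ hS i hi => ?_)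
  rw [← isZero_homology_mix_iff (c.comp ιL) ((extCx (c.comp ιR)).obj P) Z i]
  let P₁ : DRing.Cx C := (extCx ιR).obj P
  let Z₁ : DRing.Cx C := (extCx ιL).obj Z
  let e : (extCx (c.comp ιR)).obj P ⊗ (extCx (c.comp ιL)).obj Z ≅ (extCx c).obj (P₁ ⊗ Z₁) :=
    ((extCxCompIso ιR c P).symm ⊗ᵢ (extCxCompIso ιL c Z).symm) ≪≫
      (Groth.Agent.Lib.Helper13.ET.extTenIso c P₁ Z₁).symm
  refine IsZero.of_iso ?_ ((HomologicalComplex.homologyFunctor _ _ i).mapIso e)
  letI : Algebra C B' := c.toAlgebra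
  haveI : Module.Flat C B' := hc
  refine IsZero.of_iso ?_ (Groth.Agent.Lib.Helper13.DV.extendCxHomologyIso C B' (P₁ ⊗ Z₁) i)
  apply Functor.map_isZero
  rw [isZero_homology_mix_iff ιL P₁ Z i]
  refine IsZero.of_iso ?_ ((HomologicalComplex.homologyFunctor _ _ i).mapIso
    (whiskerRightIso (bcCxIso γ φ ιL ιR hsq hpo P).symm Z ≪≫
      braidCx ((extCx γ).obj ((resCx φ).obj P)) Z))
  rw [HomologicalComplex.homologyFunctor_obj, isZero_homology_mix_iff γ Z ((resCx φ).obj P) i]
  refine IsZero.of_iso ?_ ((HomologicalComplex.homologyFunctor _ _ i).mapIso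
    (braidCx ((resCx γ).obj Z) ((resCx φ).obj P)))
  exact isZero_homology_res_tensor_res γ φ hφγ P hP a b h Z S hZ π hS i hi

end Main

end

end Groth.Agent.Lib.Helper28.FibreTor
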