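import Mathlib
import Groth.Agent.Lib.Helper28.RelPerf2
import Groth.Agent.Lib.Helper13.DRingTor5

/-!
# Relatively perfect objects form a thick triangulated subcategory (helper28)
-/

set_option autoImplicit false

universe u

open CategoryTheory Limits AlgebraicGeometry TopologicalSpace Opposite Pretriangulated

namespace Groth.Agent.Lib.Helper28.RelPerf

noncomputable section

attribute [local instance] HasDerivedCategory.standard

open Groth.Agent.Lib.Helper29.QCoh Groth.Agent.Lib.Helper28.DCohRes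
  Groth.Agent.Lib.Helper28.DCohStalk Groth.Agent.Lib.Helper13.DR

/-- a retract in a pretriangulated category is a direct summand -/
lemma exists_iso_biprod_of_retract {C : Type*} [Category C] [HasZeroObject C] [HasShift C ℤ]
    [Preadditive C] [∀ n : ℤ, (shiftFunctor C n).Additive] [Pretriangulated C] {X Y : C}
    (h : Retract X Y) : ∃ Z : C, Nonempty (Y ≅ X ⊞ Z) := by
  obtain ⟨Z, g, δ, hT⟩ := distinguished_cocone_triangle h.i
  haveI : IsSplitMono h.i := ⟨⟨⟨h.r, h.retract⟩⟩⟩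
  have h0 : (Triangle.mk h.i g δ).mor₃ = 0 :=
    (Triangle.mk h.i g δ).mor₃_eq_zero_of_mono₁ hT (inferInstanceAs (Mono h.i))
  obtain ⟨e, -, -⟩ := exists_iso_binaryBiproduct_of_distTriang _ hT h0
  exact ⟨Z, ⟨e⟩⟩

variable {X S : Scheme.{u}} (f : X ⟶ S)

/-- stalkwise locally finite tor amplitude over the base, for objects of `D(O_X)` -/
def LocTorD (E : DCoh.D X) : Prop :=
  ∀ x : X, ∃ (V : X.Opens) (a b : ℤ), x ∈ V ∧ ∀ x' : X, x' ∈ V →
    DRing.HasTorAmplitudeIn (S.presheaf.stalk (f.base x')) a b ((stalkD f x').obj E)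

lemma locTorD_iff_locFiniteTorAmplitude (E : DCoh.D X) (F : CochainComplex X.Modules ℤ)
    (eF : DCoh.toD X F ≅ E) : LocTorD f E ↔ DerSch.LocFiniteTorAmplitude f F := by
  have e : ∀ x' : X, (stalkD f x').obj E ≅ DRing.toD ((DerSch.stalkCxOver f x').obj F) :=
    fun x' => (stalkD f x').mapIso eF.symm ≪≫ (stalkDQ f x').app F
  constructor
  · intro h x
    obtain ⟨V, a, b, hx, hV⟩ := h x
    exact ⟨V, a, b, hx, fun x' hx' => hasTorAmplitudeIn_of_iso (e x') (hV x' hx')⟩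
  · intro h x
    obtain ⟨V, a, b, hx, hV⟩ := h x
    exact ⟨V, a, b, hx, fun x' hx' => hasTorAmplitudeIn_of_iso (e x').symm (hV x' hx')⟩

theorem locHasFiniteRelTorDim_iff_locTorD [Flat f] (E : DCoh.D X) :
    DCoh.LocHasFiniteRelTorDim f E ↔ LocTorD f E := by
  let F : CochainComplex X.Modules ℤ := DerivedCategory.Q.objPreimage E
  let eF : DCoh.toD X F ≅ E := DerivedCategory.Q.objObjPreimageIso _
  rw [locTorD_iff_locFiniteTorAmplitude f E F eF]
  exact ⟨fun h => locFiniteTorAmplitude_of_locHasFiniteRelTorDim f h F eF,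
    fun h => locHasFiniteRelTorDim_of_locFiniteTorAmplitude f F eF h⟩

variable {f}

lemma LocTorD.of_iso {E E' : DCoh.D X} (e : E ≅ E') (h : LocTorD f E) : LocTorD f E' := by
  intro x
  obtain ⟨V, a, b, hx, hV⟩ := h x
  exact ⟨V, a, b, hx, fun x' hx' =>
    hasTorAmplitudeIn_of_iso ((stalkD f x').mapIso e) (hV x' hx')⟩

lemma LocTorD.of_isZero {E : DCoh.D X} (h : IsZero E) : LocTorD f E :=
  fun _ => ⟨⊤, 0, 0, trivial, fun x' _ =>
    hasTorAmplitudeIn_of_isZero ((stalkD f x').map_isZero h) 0 0⟩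

lemma LocTorD.shift {E : DCoh.D X} (h : LocTorD f E) (n : ℤ) :
    LocTorD f ((shiftFunctor (DCoh.D X) n).obj E) := by
  intro x
  obtain ⟨V, a, b, hx, hV⟩ := h x
  exact ⟨V, a - n, b - n, hx, fun x' hx' =>
    hasTorAmplitudeIn_of_iso (((stalkD f x').commShiftIso n).app E).symm
      (hasTorAmplitudeIn_shift (hV x' hx') n)⟩

lemma LocTorD.obj₂ (T : Triangle (DCoh.D X)) (hT : T ∈ distTriang _)
    (h₁ : LocTorD f T.obj₁) (h₃ : LocTorD f T.obj₃) : LocTorD f T.obj₂ := by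
  intro x
  obtain ⟨V₁, a₁, b₁, hx₁, hV₁⟩ := h₁ x
  obtain ⟨V₃, a₃, b₃, hx₃, hV₃⟩ := h₃ x
  refine ⟨V₁ ⊓ V₃, min a₁ a₃, max b₁ b₃, ⟨hx₁, hx₃⟩, fun x' hx' => ?_⟩
  have hT' := (stalkD f x').map_distinguished T hT
  exact hasTorAmplitudeIn_obj₂ _ hT' _ _
    (hasTorAmplitudeIn_mono (K := (stalkD f x').obj T.obj₁)
      (min_le_left _ _) (le_max_left _ _) (hV₁ x' hx'.1))
    (hasTorAmplitudeIn_mono (K := (stalkD f x').obj T.obj₃)
      (min_le_right _ _) (le_max_right _ _) (hV₃ x' hx'.2))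

lemma LocTorD.of_biprod_left {K L : DCoh.D X} (h : LocTorD f (K ⊞ L)) : LocTorD f K := by
  intro x
  obtain ⟨V, a, b, hx, hV⟩ := h x
  refine ⟨V, a, b, hx, fun x' hx' => ?_⟩
  have := preservesBinaryBiproducts_of_preservesBiproducts (stalkD f x')
  exact hasTorAmplitudeIn_of_biprod_left
    (hasTorAmplitudeIn_of_iso ((stalkD f x').mapBiprod K L) (hV x' hx'))

/-- the property of being relatively perfect -/
abbrev RelPerfProp (f : X ⟶ S) : ObjectProperty (DCoh.D X) :=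
  fun E => (∀ m : ℤ, DCoh.IsPseudoCoherentD m E) ∧ DCoh.LocHasFiniteRelTorDim f E

theorem relPerf_isTriangulated (f : X ⟶ S) [Flat f] :
    ObjectProperty.IsTriangulated (RelPerfProp f) ∧
      ObjectProperty.IsStableUnderRetracts (RelPerfProp f) := by
  have hiff : ∀ E : DCoh.D X, RelPerfProp f E ↔
      ((∀ m : ℤ, DCoh.IsPseudoCoherentD m E) ∧ LocTorD f E) := fun E =>
    and_congr Iff.rfl (locHasFiniteRelTorDim_iff_locTorD f E)
  refine ⟨?_, ⟨?_⟩⟩
  · have h0 : ObjectProperty.ContainsZero (RelPerfProp f) :=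
      ⟨⟨_, isZero_zero _, (hiff _).2 ⟨fun m => isPseudoCoherentD_of_isZero_homology
        (fun i _ => Functor.map_isZero _ (isZero_zero _)), LocTorD.of_isZero (isZero_zero _)⟩⟩⟩
    have hs : ObjectProperty.IsStableUnderShift (RelPerfProp f) ℤ :=
      { isStableUnderShiftBy := fun n => ⟨fun E hE => by
          obtain ⟨h1, h2⟩ := (hiff E).1 hE
          exact (hiff _).2 ⟨fun m => isPseudoCoherentD_shift (h1 (n + m)) n m rfl, h2.shift n⟩⟩ }
    have ht : ObjectProperty.IsTriangulatedClosed₂ (RelPerfProp f) :=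
      ⟨fun T hT h₁ h₃ => ObjectProperty.le_isoClosure _ _ (by
        obtain ⟨p₁, t₁⟩ := (hiff _).1 h₁
        obtain ⟨p₃, t₃⟩ := (hiff _).1 h₃
        exact (hiff _).2 ⟨fun m => (isPseudoCoherentD_triangle m T hT).2.1 (p₁ m) (p₃ m),
          LocTorD.obj₂ T hT t₁ t₃⟩)⟩
    exact { }
  · intro E E' h hE'
    obtain ⟨Z, ⟨e⟩⟩ := exists_iso_biprod_of_retract h
    obtain ⟨p, t⟩ := (hiff _).1 hE'
    exact (hiff _).2 ⟨fun m => (isPseudoCoherentD_of_biprod m E Z
      (isPseudoCoherentD_of_iso e (p m))).1, (t.of_iso e).of_biprod_left⟩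

end

end Groth.Agent.Lib.Helper28.RelPerf
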