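import Mathlib
import Groth.Agent.Lib.Helper28.FibreTor1
import Groth.Agent.Lib.Helper10.FibreProductStalk
import Groth.Agent.Lib.Helper28.StalkAdj3
import Groth.Agent.Lib.Helper28.StalkSky3
import Groth.Agent.Lib.Helper28.RelPerf4
set_option autoImplicit false

universe u

open CategoryTheory CategoryTheory.Limits MonoidalCategory TensorProduct

namespace Groth.Agent.Lib.Helper28.FibreTor

noncomputable section

section PO

variable {A A' B : Type u} [CommRing A] [CommRing A'] [CommRing B] (γ : A →+* A') (φ : A →+* B)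

/-- the tensor product `A' ⊗[A] B`, as a bare commutative ring -/
def TC : Type u :=
  letI : Algebra A A' := γ.toAlgebra; letI : Algebra A B := φ.toAlgebra
  A' ⊗[A] B

instance : CommRing (TC γ φ) :=
  @Algebra.TensorProduct.instCommRing A A' B _ _ γ.toAlgebra _ φ.toAlgebra

/-- the left inclusion into the tensor product -/
def tL : A' →+* TC γ φ :=
  letI : Algebra A A' := γ.toAlgebra; letI : Algebra A B := φ.toAlgebra
  (Algebra.TensorProduct.includeLeftRingHom : A' →+* A' ⊗[A] B)

/-- the right inclusion into the tensor product -/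
def tR : B →+* TC γ φ :=
  letI : Algebra A A' := γ.toAlgebra; letI : Algebra A B := φ.toAlgebra
  (Algebra.TensorProduct.includeRight : B →ₐ[A] A' ⊗[A] B).toRingHom

lemma tsq : (tL γ φ).comp γ = (tR γ φ).comp φ := by
  letI : Algebra A A' := γ.toAlgebra; letI : Algebra A B := φ.toAlgebra
  exact Algebra.TensorProduct.includeLeftRingHom_comp_algebraMap

theorem isPO_tensor : IsPO γ φ (tL γ φ) (tR γ φ) (tsq γ φ) := by
  letI : Algebra A A' := γ.toAlgebra
  letI : Algebra A B := φ.toAlgebra
  unfold IsPO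
  letI : Algebra A' (TC γ φ) := (tL γ φ).toAlgebra
  letI : Algebra B (TC γ φ) := (tR γ φ).toAlgebra
  letI : Algebra A (TC γ φ) := ((tL γ φ).comp γ).toAlgebra
  haveI : IsScalarTower A A' (TC γ φ) := IsScalarTower.of_algebraMap_eq fun _ => rfl
  haveI : IsScalarTower A B (TC γ φ) := IsScalarTower.of_algebraMap_eq fun x => by
    change ((tL γ φ).comp γ) x = ((tR γ φ).comp φ) x
    rw [tsq]
  let e : A' ⊗[A] B ≃ₗ[A'] TC γ φ :=
    { toFun := fun x => x
      invFun := fun x => x
      map_add' := fun _ _ => rfl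
      map_smul' := fun a' x => by
        exact Algebra.smul_def (A := A' ⊗[A] B) a' x
      left_inv := fun _ => rfl
      right_inv := fun _ => rfl }
  exact ⟨IsBaseChange.of_equiv e (fun x => rfl)⟩

end PO

section Desc

variable {A A' B B' : Type u} [CommRing A] [CommRing A'] [CommRing B] [CommRing B']
  (γ : A →+* A') (φ : A →+* B) (γ' : B →+* B') (φ' : A' →+* B')

/-- the induced map out of the tensor product -/
theorem exists_desc (hcomm : γ'.comp φ = φ'.comp γ) :
    ∃ c : TC γ φ →+* B', c.comp (tL γ φ) = φ' ∧ c.comp (tR γ φ) = γ' := by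
  letI : Algebra A A' := γ.toAlgebra
  letI : Algebra A B := φ.toAlgebra
  letI : Algebra A' B' := φ'.toAlgebra
  letI : Algebra B B' := γ'.toAlgebra
  letI : Algebra A B' := (γ'.comp φ).toAlgebra
  haveI : IsScalarTower A B B' := IsScalarTower.of_algebraMap_eq fun _ => rfl
  haveI : IsScalarTower A A' B' := IsScalarTower.of_algebraMap_eq fun x => by
    change (γ'.comp φ) x = (φ'.comp γ) x
    rw [hcomm]
  let c₀ : A' ⊗[A] B →ₐ[A] B' :=
    Algebra.TensorProduct.productMap (IsScalarTower.toAlgHom A A' B') (IsScalarTower.toAlgHom A B B')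
  refine ⟨(c₀ : A' ⊗[A] B →+* B'), ?_, ?_⟩
  · ext a'
    change c₀ (a' ⊗ₜ 1) = φ' a'
    simp [c₀]
    rfl
  · ext b
    change c₀ (1 ⊗ₜ b) = γ' b
    simp [c₀]
    rfl

end Desc

section Scheme

open AlgebraicGeometry Groth.Agent.Lib.Helper10.FibreProductStalk
  Groth.Agent.Lib.Helper28.StalkTensor

attribute [local instance] HasDerivedCategory.standard

variable {X S X' S' : Scheme.{u}} {f : X ⟶ S} {f' : X' ⟶ S'} {g' : X' ⟶ X} {g : S' ⟶ S}

/-- **base change of stalkwise tor amplitude** (pointwise form) -/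
theorem hasTorAmplitudeAt_pullCx (hc : IsPullback g' f' f g) (x' : X')
    (P : CochainComplex X.Modules ℤ) (hP : DCoh.IsKFlat P) (a b : ℤ)
    (hfl : (f.stalkMap (g'.base x')).hom.Flat ∨ (g.stalkMap (f'.base x')).hom.Flat)
    (h : DerSch.HasTorAmplitudeAt f a b P (g'.base x')) :
    DerSch.HasTorAmplitudeAt f' a b ((pullCx g').obj P) x' := by
  let φ : S.presheaf.stalk (f.base (g'.base x')) →+* X.presheaf.stalk (g'.base x') :=
    (f.stalkMap (g'.base x')).hom
  let γ : S.presheaf.stalk (f.base (g'.base x')) →+* S'.presheaf.stalk (f'.base x') :=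
    (baseStalkMap hc x').hom
  let γ' : X.presheaf.stalk (g'.base x') →+* X'.presheaf.stalk x' := (g'.stalkMap x').hom
  let φ' : S'.presheaf.stalk (f'.base x') →+* X'.presheaf.stalk x' := (f'.stalkMap x').hom
  have hcomm : γ'.comp φ = φ'.comp γ := by
    have := congrArg CommRingCat.Hom.hom (stalkMap_comp_eq hc x')
    exact this
  obtain ⟨c, hcL, hcR⟩ := exists_desc γ φ γ' φ' hcomm
  have hcflat : c.Flat := by
    refine flat_of_comp_include hc x' c (fun a => ?_) (fun b => ?_)
    · exact congrArg (fun ψ : _ →+* _ => ψ a) hcL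
    · exact congrArg (fun ψ : _ →+* _ => ψ b) hcR
  have hφγ : φ.Flat ∨ γ.Flat := by
    rcases hfl with h1 | h2
    · exact Or.inl h1
    · right
      change (baseStalkMap hc x').hom.Flat
      rw [baseStalkMap, CommRingCat.hom_comp]
      refine RingHom.Flat.comp (RingHom.Flat.of_bijective ?_) h2
      exact ConcreteCategory.bijective_of_isIso
        (S.presheaf.stalkCongr (.of_eq (base_eq hc x'))).hom
  let P₀ : DRing.Cx (X.presheaf.stalk (g'.base x')) := (stalkCx (g'.base x')).obj P
  have hP₀ : Groth.Agent.Lib.Helper13.HT.KFlat P₀ := isKFlat_stalk_of_isKFlat (g'.base x') P hP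
  have h0 : DRing.HasTorAmplitudeIn (S.presheaf.stalk (f.base (g'.base x'))) a b
      (DerivedCategory.Q.obj ((DTen.resCx φ).obj P₀)) := h
  have T := hasTorAmplitudeIn_baseChange γ φ (tL γ φ) (tR γ φ) (tsq γ φ) (isPO_tensor γ φ) c hcflat
    hφγ P₀ hP₀ a b h0
  rw [hcL, hcR] at T
  exact Groth.Agent.Lib.Helper13.DR.hasTorAmplitudeIn_of_iso (DerivedCategory.Q.mapIso
    ((DTen.resCx φ').mapIso (stalkCxPullIso g' x' P).symm)) T

end Scheme

end

end Groth.Agent.Lib.Helper28.FibreTor
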