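import Mathlib
import Groth.Agent.Lib.Helper28.FibreTor2
import Groth.Agent.Lib.Helper28.LpullPC
import Groth.Agent.Lib.Helper28.PerfTensor2
set_option autoImplicit false

universe u

open CategoryTheory CategoryTheory.Limits AlgebraicGeometry

attribute [local instance] HasDerivedCategory.standard

namespace Groth.Agent.Lib.Helper28.FibreTor

open Groth.Agent.Lib.Helper28.StalkTensor Groth.Agent.Lib.Helper28.Lpull
  Groth.Agent.Lib.Helper28.RelPerf Groth.Agent.Lib.Helper28.PerfTensor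

noncomputable section

variable {X S X' S' : Scheme.{u}} {f : X ⟶ S} {f' : X' ⟶ S'} {g' : X' ⟶ X} {g : S' ⟶ S}

/-- base change of stalkwise tor amplitude, for representatives of `Lg'^* K` -/
theorem hasTorAmplitudeAt_Lpull (hc : IsPullback g' f' f g) [DCoh.HasLpull g'] (K : DCoh.D X)
    (P : CochainComplex X.Modules ℤ) (hP : DCoh.IsKFlat P) (eP : DerivedCategory.Q.obj P ≅ K)
    (F' : CochainComplex X'.Modules ℤ) (eF' : DerivedCategory.Q.obj F' ≅ (DCoh.Lpull g').obj K)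
    (a b : ℤ) (x' : X')
    (hfl : (f.stalkMap (g'.base x')).hom.Flat ∨ (g.stalkMap (f'.base x')).hom.Flat)
    (h : DerSch.HasTorAmplitudeAt f a b P (g'.base x')) :
    DerSch.HasTorAmplitudeAt f' a b F' x' :=
  hasTorAmplitudeAt_of_iso f'
    ((LpullIso g' P hP).symm ≪≫ (DCoh.Lpull g').mapIso eP ≪≫ eF'.symm) a b x'
    (hasTorAmplitudeAt_pullCx hc x' P hP a b hfl h)

/-- **S6189**: tor amplitude and flat base change -/
theorem hasTorAmplitudeD_Lpull_baseChange_of_flat {X Y Y' : Scheme.{u}} (f : X ⟶ Y) (h : Y' ⟶ Y)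
    [Flat h] [DCoh.HasLpull (pullback.fst f h)] (F : CochainComplex X.Modules ℤ) (a b : ℤ)
    (hF : DerSch.HasTorAmplitude f a b F) :
    DerSch.HasTorAmplitudeD (pullback.snd f h) a b
      ((DCoh.Lpull (pullback.fst f h)).obj (DCoh.toD X F)) := by
  obtain ⟨P, q, hPK, hq⟩ := exists_kflat_resolution' F
  have hiq : IsIso (DerivedCategory.Q.map q) := by
    rw [DerivedCategory.isIso_Q_map_iff_quasiIso]
    exact hq
  let eP : DerivedCategory.Q.obj P ≅ DerivedCategory.Q.obj F :=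
    @asIso _ _ _ _ (DerivedCategory.Q.map q) hiq
  intro F' ⟨eF'⟩ x'
  exact hasTorAmplitudeAt_Lpull (IsPullback.of_hasPullback f h) _ P hPK eP F' eF' a b x'
    (Or.inr (Flat.stalkMap h _)) (hasTorAmplitudeAt_of_iso f eP.symm a b _ (hF _))

lemma hasTorAmplitude_of_flatTerms {X S : Scheme.{u}} (f : X ⟶ S) (E : CochainComplex X.Modules ℤ)
    (a b : ℤ) (hv : DCoh.VanishesOutside E a b) (hfl : ∀ i : ℤ, FlatMod.IsFlatOver f (E.X i)) :
    DerSch.HasTorAmplitude f a b E := by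
  intro x
  refine ⟨(DerSch.stalkCxOver f x).obj E, fun i hi => ?_, fun i => ?_, ⟨Iso.refl _⟩⟩
  · exact (DerSch.stalkOver f x).map_isZero (hv i hi)
  · exact (isFlatOverAt_iff_stalkOver f (E.X i) x).1 (hfl i x)

/-- **S5631**: relative flat amplitude and base change, `f` flat -/
theorem hasRelFlatAmplitudeIn_Lpull_baseChange {X Y Y' : Scheme.{u}} (f : X ⟶ Y) [Flat f]
    (h : Y' ⟶ Y) [DCoh.HasLpull (pullback.fst f h)] (E : DCoh.D X) (a b : ℤ)
    (hE : DCoh.HasRelFlatAmplitudeIn f a b E) :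
    DCoh.HasRelFlatAmplitudeIn (pullback.snd f h) a b
      ((DCoh.Lpull (pullback.fst f h)).obj E) := by
  obtain ⟨E₀, hv, hfl, ⟨e₀⟩⟩ := hE
  have hE₀ := hasTorAmplitude_of_flatTerms f E₀ a b hv hfl
  obtain ⟨P, q, hPK, hq⟩ := exists_kflat_resolution' E₀
  have hiq : IsIso (DerivedCategory.Q.map q) := by
    rw [DerivedCategory.isIso_Q_map_iff_quasiIso]
    exact hq
  let eP : DerivedCategory.Q.obj P ≅ DerivedCategory.Q.obj E₀ :=
    @asIso _ _ _ _ (DerivedCategory.Q.map q) hiq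
  let T : CochainComplex (pullback f h).Modules ℤ := (pullCx (pullback.fst f h)).obj P
  let eT : DerivedCategory.Q.obj T ≅ (DCoh.Lpull (pullback.fst f h)).obj E :=
    (LpullIso (pullback.fst f h) P hPK).symm ≪≫ (DCoh.Lpull (pullback.fst f h)).mapIso (eP ≪≫ e₀)
  have hT : DerSch.HasTorAmplitude (pullback.snd f h) a b T := fun x' =>
    hasTorAmplitudeAt_pullCx (IsPullback.of_hasPullback f h) x' P hPK a b
      (Or.inl (Flat.stalkMap f _)) (hasTorAmplitudeAt_of_iso f eP.symm a b _ (hE₀ _))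
  obtain ⟨E₁, hv₁, hfl₁, ⟨e₁⟩⟩ :=
    hasRelFlatAmplitudeIn_of_hasTorAmplitude (pullback.snd f h) T a b hT
  exact ⟨E₁, hv₁, hfl₁, ⟨e₁ ≪≫ eT⟩⟩

/-- **S1100**: relatively perfect objects and base change -/
theorem relativelyPerfect_baseChange {X S S' : Scheme.{u}} (f : X ⟶ S) [Flat f] (g : S' ⟶ S)
    [DCoh.HasLpull (pullback.fst f g)] (K : DCoh.D X)
    (hK : (∀ m : ℤ, DCoh.IsPseudoCoherentD m K) ∧ DCoh.LocHasFiniteRelTorDim f K) :
    (∀ m : ℤ, DCoh.IsPseudoCoherentD m ((DCoh.Lpull (pullback.fst f g)).obj K)) ∧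
      DCoh.LocHasFiniteRelTorDim (pullback.snd f g) ((DCoh.Lpull (pullback.fst f g)).obj K) := by
  refine ⟨fun m => isPseudoCoherentD_Lpull (pullback.fst f g) m K (hK.1 m), ?_⟩
  obtain ⟨P, hP, ⟨eP⟩⟩ := exists_kflat_rep K
  have hloc := locFiniteTorAmplitude_of_locHasFiniteRelTorDim f hK.2 P eP
  let T : CochainComplex (pullback f g).Modules ℤ := (pullCx (pullback.fst f g)).obj P
  let eT : DerivedCategory.Q.obj T ≅ (DCoh.Lpull (pullback.fst f g)).obj K :=
    (LpullIso (pullback.fst f g) P hP).symm ≪≫ (DCoh.Lpull (pullback.fst f g)).mapIso eP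
  refine locHasFiniteRelTorDim_of_locFiniteTorAmplitude (pullback.snd f g) T eT ?_
  intro x'
  obtain ⟨V, a, b, hxV, hV⟩ := hloc ((pullback.fst f g).base x')
  refine ⟨(pullback.fst f g) ⁻¹ᵁ V, a, b, hxV, fun z' hz' => ?_⟩
  exact hasTorAmplitudeAt_pullCx (IsPullback.of_hasPullback f g) z' P hP a b
    (Or.inl (Flat.stalkMap f _)) (hV _ hz')

end

end Groth.Agent.Lib.Helper28.FibreTor
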