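import Mathlib
import Groth.Agent.Lib.Helper26.FinLocFreeMor
import Groth.Agent.Lib.Helper29.QCohOmega
import Groth.Agent.Lib.Helper29.QCohQcqs
import Groth.Agent.Lib.Helper29.QCohFP
import Groth.Agent.Lib.Helper29.CP1
import Groth.Agent.Lib.Helper13.KoszulPerf
import Groth.Agent.Lib.Helper28.DCohTilde8
import Groth.Prelude.Def_RegImm
import Groth.Agent.Lib.Helper17.KProjAff
set_option autoImplicit false

universe u

open CategoryTheory Limits AlgebraicGeometry Opposite ZeroObject

attribute [local instance] HasDerivedCategory.standard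

namespace Groth.Agent.Lib.Helper28.KoszPush

open Groth.Agent.Lib.Helper29.QCoh Groth.Agent.Lib.Helper26.FinLocFreeMor
  Groth.Agent.Lib.Helper28.DCohRes Groth.Agent.Lib.Helper28.DCohTilde

noncomputable section

variable {Z X : Scheme.{u}} (i : Z ⟶ X) [IsClosedImmersion i]

/-- `(i_* O_Z)|_{Spec Γ(X, U)} ≅ (Γ(X, U) / ker)~` for a closed immersion `i` and an affine open `U` -/
theorem nonempty_restrict_push_unit_iso_tilde {U : X.Opens} (hU : IsAffineOpen U) :
    Nonempty (((Scheme.Modules.pushforward i).obj (unitM Z)).restrict hU.fromSpec ≅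
      tilde (ModuleCat.of Γ(X, U) (Γ(X, U) ⧸ RingHom.ker (i.app U).hom))) := by
  haveI : (unitM Z).IsQuasicoherent := isQuasicoherent_unitM Z
  haveI := isQuasicoherent_pushforward_of_qcqs i (unitM Z)
  let N := (Scheme.Modules.pushforward i).obj (unitM Z)
  have hsurj : Function.Surjective (i.app U).hom := i.app_surjective U hU
  letI alg : Algebra Γ(X, U) Γ(Z, i ⁻¹ᵁ U) := (i.app U).hom.toAlgebra
  let e1 := sectionsRestrictFromSpecEquiv N hU
  let e2 := sectionsEquiv i U
  let e3 := RingHom.quotientKerEquivOfSurjective hsurj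
  refine nonempty_iso_tilde_of_addEquiv (N.restrict hU.fromSpec)
    (ModuleCat.of Γ(X, U) (Γ(X, U) ⧸ RingHom.ker (i.app U).hom))
    (e1.symm.toAddEquiv.trans (e2.toAddEquiv.trans e3.symm.toAddEquiv)) ?_
  intro c s
  have h1 : c • s = (ΓSpecRingEquiv Γ(X, U) c) • s := smul_top_eq (N.restrict hU.fromSpec) c s
  rw [h1]
  change e3.symm (e2 (e1.symm ((ΓSpecRingEquiv Γ(X, U) c) • s))) =
    (ΓSpecRingEquiv Γ(X, U) c) • e3.symm (e2 (e1.symm s))
  set r := ΓSpecRingEquiv Γ(X, U) c with hr
  have h2 : e1.symm (r • s) = r • e1.symm s := e1.symm.map_smul r s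
  have h3 : e2 (r • e1.symm s) = r • e2 (e1.symm s) := e2.map_smul r _
  rw [h2, h3]
  have h4 : r • e2 (e1.symm s) = (i.app U).hom r * e2 (e1.symm s) := rfl
  rw [h4, map_mul]
  have h5 : e3.symm ((i.app U).hom r) = Ideal.Quotient.mk _ r := by
    rw [RingEquiv.symm_apply_eq]
    rfl
  rw [h5]
  rfl

/-- restriction of a module placed in degree `0` -/
def resDInDIso {U : Scheme.{u}} (j : U ⟶ X) [IsOpenImmersion j] (M : X.Modules) :
    (resD j).obj (DCoh.inD X M) ≅ DCoh.inD U (M.restrict j) :=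
  ((Scheme.Modules.restrictFunctor j).mapDerivedCategorySingleFunctor 0).app M

/-- the open complement of the image of a closed immersion -/
def complOpen : X.Opens := ⟨(Set.range i.base)ᶜ, i.isClosedEmbedding.isClosed_range.isOpen_compl⟩

/-- the direct image of the structure sheaf along a closed immersion vanishes off the image -/
lemma isZero_restrict_push_unit_compl :
    IsZero (((Scheme.Modules.pushforward i).obj (unitM Z)).restrict (complOpen i).ι) := by
  apply isZero_of_forall_subsingleton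
  intro V
  change Subsingleton Γ(unitM Z, i ⁻¹ᵁ ((complOpen i).ι ''ᵁ V))
  apply subsingleton_sections_bot
  rw [eq_bot_iff]
  rintro z hz
  obtain ⟨w, -, hw⟩ := hz
  have h1 : (complOpen i).ι.base w ∈ (Set.range i.base)ᶜ := w.2
  exact (h1 ⟨z, hw.symm⟩).elim

/-- **S6237**: the direct image of the structure sheaf along a Koszul-regular closed immersion
is perfect -/
theorem isPerfect_push_unit_of_koszul (hi : RegImm.IsRegularImmersion RegImm.Kind.koszul i) :
    DCoh.IsPerfect (DCoh.inD X ((Scheme.Modules.pushforward i).obj (unitM Z))) := by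
  rw [isPerfect_iff]
  intro x
  by_cases hx : x ∈ Set.range i.base
  · obtain ⟨z, rfl⟩ := hx
    obtain ⟨U, hzU, -, rs, hrs, hker⟩ := hi.2 z
    obtain ⟨e⟩ := nonempty_restrict_push_unit_iso_tilde i U.2
    have hperf : DRing.IsPerfectModule Γ(X, U.1) (Γ(X, U.1) ⧸ Ideal.ofList rs) :=
      Groth.Agent.Lib.Helper13.KP.isPerfectModule_quotient_of_koszulRegular _ rs hrs
    rw [← hker] at hperf
    obtain ⟨E₀, a, b, hv, hE₀, ⟨e₀⟩⟩ := hperf
    haveI : PreservesFiniteLimits (tilde.functor Γ(X, U.1)) :=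
      Groth.Agent.Lib.Helper17.KProjAff.preservesFiniteLimits_tilde _
    have hsp : DCoh.IsStrictlyPerfect ((tildeCx Γ(X, U.1)).obj E₀) :=
      ⟨⟨a, b, fun i hi => (tilde.functor Γ(X, U.1)).map_isZero (hv i hi)⟩, fun i =>
        (isFinLocFree_tilde_iff (E₀.X i)).2 (hE₀ i)⟩
    refine ⟨Spec Γ(X, U.1), U.2.fromSpec, inferInstance, ?_, (tildeCx Γ(X, U.1)).obj E₀, hsp, ⟨?_⟩⟩
    · rw [U.2.range_fromSpec]
      exact hzU
    · exact resDInDIso U.2.fromSpec _ ≪≫ (DerivedCategory.singleFunctor _ 0).mapIso e ≪≫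
        (((tilde.functor Γ(X, U.1)).mapDerivedCategorySingleFunctor 0).app _).symm ≪≫
        (DCoh.tildeD Γ(X, U.1)).mapIso e₀.symm ≪≫ (tildeDQ Γ(X, U.1)).app E₀
  · have hz := isZero_restrict_push_unit_compl i
    have hzero : ∀ n, IsZero ((0 : CochainComplex (complOpen i : Scheme.{u}).Modules ℤ).X n) :=
      fun n => (HomologicalComplex.eval _ _ n).map_isZero (isZero_zero _)
    refine ⟨complOpen i, (complOpen i).ι, inferInstance, ?_, 0,
      ⟨⟨0, 0, fun n _ => hzero n⟩, fun n => isFinLocFree_of_isZero (hzero n)⟩, ⟨?_⟩⟩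
    · rw [Scheme.Opens.range_ι]
      exact hx
    · have h1 : IsZero (DCoh.inD (complOpen i : Scheme.{u})
          (((Scheme.Modules.pushforward i).obj (unitM Z)).restrict (complOpen i).ι)) :=
        (DerivedCategory.singleFunctor _ 0).map_isZero hz
      have h2 : IsZero (DerivedCategory.Q.obj
          (0 : CochainComplex (complOpen i : Scheme.{u}).Modules ℤ)) :=
        DerivedCategory.Q.map_isZero (isZero_zero _)
      exact resDInDIso (complOpen i).ι _ ≪≫ h1.iso h2

end

end Groth.Agent.Lib.Helper28.KoszPush
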