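import Mathlib
import Groth.Agent.Lib.Helper17.RpushRes
import Groth.Agent.Lib.Helper17.TildePushD
import Groth.Agent.Lib.Helper17.OpenAdj2
import Groth.Agent.Lib.Helper17.LpullAdj
import Groth.Agent.Lib.Helper17.RGammaZPush
import Groth.Agent.Lib.Helper17.MVGamma
import Groth.Agent.Lib.Helper28.DCohRes24
import Groth.Agent.Lib.Helper28.DCohTilde7
import Groth.Agent.Lib.Helper28.KoszPush
import Groth.Agent.Lib.Helper28.LpullQCoh
import Groth.Agent.Lib.Helper17.TD4
import Groth.Agent.Lib.Helper13.DRingRelPC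
set_option autoImplicit false

universe u

open CategoryTheory Limits AlgebraicGeometry TopologicalSpace

attribute [local instance] HasDerivedCategory.standard

namespace Groth.Agent.Lib.Helper28.FinPush

open Groth.Agent.Lib.Helper28.DCohRes Groth.Agent.Lib.Helper17.MVGamma
  Groth.Agent.Lib.Helper17.LpullAdj Groth.Agent.Lib.Helper17.OpenAdj

noncomputable section

section Abstract

universe w₁ v₁ u₁

variable {C₁ : Type u₁} [Category.{v₁} C₁] [Abelian C₁] [HasDerivedCategory.{w₁} C₁]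
  (F : C₁ ⥤ C₁) [F.Additive] [PreservesFiniteLimits F] [PreservesFiniteColimits F]

/-- a functor isomorphic to the identity induces the identity on derived categories -/
def mapDerivedCategoryIdIso (e : F ≅ 𝟭 C₁) : F.mapDerivedCategory ≅ 𝟭 (DerivedCategory C₁) :=
  Localization.liftNatIso DerivedCategory.Q
    (HomologicalComplex.quasiIso C₁ (ComplexShape.up ℤ))
    (DerivedCategory.Q ⋙ F.mapDerivedCategory)
    (DerivedCategory.Q ⋙ 𝟭 (DerivedCategory C₁)) _ _
    (F.mapDerivedCategoryFactors ≪≫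
      Functor.isoWhiskerRight (NatIso.mapHomologicalComplex e (ComplexShape.up ℤ) ≪≫
        Functor.mapHomologicalComplexIdIso C₁ (ComplexShape.up ℤ)) _ ≪≫
      Functor.leftUnitor _ ≪≫ (Functor.rightUnitor _).symm)

end Abstract

variable {X Y : Scheme.{u}}

/-- restriction along the identity -/
def resDId : resD (𝟙 X) ≅ 𝟭 (DerivedCategory X.Modules) :=
  mapDerivedCategoryIdIso _ Scheme.Modules.restrictFunctorId

/-- restriction along equal morphisms -/
def resDCongr {f g : X ⟶ Y} (h : f = g) [IsOpenImmersion f] [IsOpenImmersion g] :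
    resD f ≅ resD g := by
  subst h
  exact Iso.refl _

/-- **the derived direct image along an isomorphism is restriction along the inverse** -/
theorem nonempty_resD_inv_iso_Rpush {W W' : Scheme.{u}} (e : W ≅ W') :
    Nonempty (resD e.inv ≅ DCoh.Rpush e.hom) := by
  have h1 : DCoh.Rpush e.hom ⋙ resD e.hom ≅ 𝟭 _ := RpushRestrictIso e.hom
  have h2 : resD e.hom ⋙ resD e.inv ≅ 𝟭 _ :=
    (resDComp e.inv e.hom).symm ≪≫ resDCongr e.inv_hom_id ≪≫ resDId
  exact ⟨(Functor.leftUnitor _).symm ≪≫ Functor.isoWhiskerRight h1.symm (resD e.inv) ≪≫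
    Functor.associator _ _ _ ≪≫ Functor.isoWhiskerLeft (DCoh.Rpush e.hom) h2 ≪≫
    Functor.rightUnitor _⟩

/-- **base change of `Rf_*` to affine charts** -/
theorem nonempty_Rpush_fromSpec_iso (f : X ⟶ Y) {V : Y.Opens} (hV : IsAffineOpen V)
    (hU : IsAffineOpen (f ⁻¹ᵁ V)) :
    Nonempty (DCoh.Rpush f ⋙ resD hV.fromSpec ≅
      resD hU.fromSpec ⋙ DCoh.Rpush (Spec.map (f.app V))) := by
  obtain ⟨b1⟩ := Groth.Agent.Lib.Helper17.RpushRes.nonempty_iso f V
  obtain ⟨iV⟩ := nonempty_resD_inv_iso_Rpush hV.isoSpec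
  obtain ⟨iU⟩ := nonempty_resD_inv_iso_Rpush hU.isoSpec
  obtain ⟨c1⟩ := nonempty_Rpush_comp_iso (f ∣_ V) hV.isoSpec.hom
  obtain ⟨c2⟩ := nonempty_Rpush_comp_iso hU.isoSpec.hom (Spec.map (f.app V))
  have hsq : (f ∣_ V) ≫ hV.isoSpec.hom = hU.isoSpec.hom ≫ Spec.map (f.app V) :=
    (Scheme.Opens.toSpecΓ_naturality f V).symm
  obtain ⟨c3⟩ := nonempty_Rpush_congr hsq
  have eV : resD hV.fromSpec ≅ resD V.ι ⋙ resD hV.isoSpec.inv :=
    resDCongr hV.isoSpec_inv_ι.symm ≪≫ resDComp hV.isoSpec.inv V.ι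
  have eU : resD hU.fromSpec ≅ resD (f ⁻¹ᵁ V).ι ⋙ resD hU.isoSpec.inv :=
    resDCongr hU.isoSpec_inv_ι.symm ≪≫ resDComp hU.isoSpec.inv (f ⁻¹ᵁ V).ι
  refine ⟨Functor.isoWhiskerLeft _ eV ≪≫ (Functor.associator _ _ _).symm ≪≫
    Functor.isoWhiskerRight b1 _ ≪≫ Functor.associator _ _ _ ≪≫
    Functor.isoWhiskerLeft _ (Functor.isoWhiskerLeft _ iV ≪≫ c1 ≪≫ c3 ≪≫ c2.symm ≪≫
      Functor.isoWhiskerRight iU.symm _) ≪≫ (Functor.associator _ _ _).symm ≪≫
    Functor.isoWhiskerRight eU.symm _⟩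

section Chart

open Groth.Agent.Lib.Helper13.PC Groth.Agent.Lib.Helper13.DR Groth.Agent.Lib.Helper28.DCohTilde

variable {A B : CommRingCat.{u}} (φ : A ⟶ B)

/-- pseudo-coherence of `tildeD` in terms of `IsNPC` -/
lemma isPseudoCoherentD_tildeD_iff (R : CommRingCat.{u}) [PreservesFiniteLimits (tilde.functor R)]
    (M : DerivedCategory (ModuleCat.{u} R))
    (m : ℤ) : DCoh.IsPseudoCoherentD m ((DCoh.tildeD R).obj M) ↔ IsNPC (Pff R) m M := by
  rw [← isPseudoCoherent_iff]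
  exact ⟨isPseudoCoherent_of_isPseudoCoherentD_tildeD R M m,
    isPseudoCoherentD_tildeD_of_isPseudoCoherent R M m⟩

/-- **the affine case** -/
theorem isPseudoCoherentD_Rpush_Spec_iff (hφ : IsPCHom φ.hom)
    (K : DCoh.D (Spec B)) (hK : DCoh.IsQCohD K) (m : ℤ) :
    DCoh.IsPseudoCoherentD m K ↔
      DCoh.IsPseudoCoherentD m ((DCoh.Rpush (Spec.map φ)).obj K) := by
  haveI : PreservesFiniteLimits (tilde.functor A) :=
    Groth.Agent.Lib.Helper17.KProjAff.preservesFiniteLimits_tilde _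
  haveI : PreservesFiniteLimits (tilde.functor B) :=
    Groth.Agent.Lib.Helper17.KProjAff.preservesFiniteLimits_tilde _
  obtain ⟨M, ⟨eM⟩⟩ := ((Groth.Agent.Lib.Helper17.TD4.main B).2.2 K).1 hK
  have e2 : (DCoh.Rpush (Spec.map φ)).obj K ≅
      (DCoh.tildeD A).obj ((DRing.restrictD φ.hom).obj M) :=
    (DCoh.Rpush (Spec.map φ)).mapIso eM.symm ≪≫
      (Groth.Agent.Lib.Helper17.TildePushD.main φ).app M
  constructor
  · intro h
    have h1 : IsNPC (Pff B) m M :=
      (isPseudoCoherentD_tildeD_iff B M m).1 (isPseudoCoherentD_of_iso eM.symm h)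
    have h2 := (isNPC_restrictD_iff hφ m M).1 h1
    exact isPseudoCoherentD_of_iso e2.symm ((isPseudoCoherentD_tildeD_iff A _ m).2 h2)
  · intro h
    have h2 : IsNPC (Pff A) m ((DRing.restrictD φ.hom).obj M) :=
      (isPseudoCoherentD_tildeD_iff A _ m).1 (isPseudoCoherentD_of_iso e2 h)
    have h1 := (isNPC_restrictD_iff hφ m M).2 h2
    exact isPseudoCoherentD_of_iso eM ((isPseudoCoherentD_tildeD_iff B M m).2 h1)

end Chart

section Main

open Groth.Agent.Lib.Helper13.PC Groth.Agent.Lib.Helper13.DR Groth.Agent.Lib.Helper28.DCohTilde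
  Groth.Agent.Lib.Helper29.QCoh Groth.Agent.Lib.Helper26.FinLocFreeMor
  Groth.Agent.Lib.Helper28.KoszPush Groth.Agent.Lib.Helper28.Lpull

/-- `(f_* O_X)|_{Spec Γ(Y, V)} ≅ Γ(X, f⁻¹V)~` for a qcqs morphism `f` and an affine open `V` -/
theorem nonempty_restrict_push_unit_iso_tilde' (f : X ⟶ Y) [QuasiCompact f] [QuasiSeparated f]
    {V : Y.Opens} (hV : IsAffineOpen V) :
    Nonempty (((Scheme.Modules.pushforward f).obj (unitM X)).restrict hV.fromSpec ≅
      tilde ((ModuleCat.restrictScalars (f.app V).hom).obj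
        (ModuleCat.of Γ(X, f ⁻¹ᵁ V) Γ(X, f ⁻¹ᵁ V)))) := by
  haveI : (unitM X).IsQuasicoherent := isQuasicoherent_unitM X
  haveI := isQuasicoherent_pushforward_of_qcqs f (unitM X)
  let N := (Scheme.Modules.pushforward f).obj (unitM X)
  letI alg : Algebra Γ(Y, V) Γ(X, f ⁻¹ᵁ V) := (f.app V).hom.toAlgebra
  let e1 := sectionsRestrictFromSpecEquiv N hV
  let e2 := sectionsEquiv f V
  let W : ModuleCat.{u} Γ(Y, V) := (ModuleCat.restrictScalars (f.app V).hom).obj
    (ModuleCat.of Γ(X, f ⁻¹ᵁ V) Γ(X, f ⁻¹ᵁ V))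
  let E : Γ(N.restrict hV.fromSpec, ⊤) ≃+ W := e1.symm.toAddEquiv.trans e2.toAddEquiv
  refine nonempty_iso_tilde_of_addEquiv (N.restrict hV.fromSpec) W E ?_
  intro c s
  have h1 : c • s = (ΓSpecRingEquiv Γ(Y, V) c) • s := smul_top_eq (N.restrict hV.fromSpec) c s
  rw [h1]
  change e2 (e1.symm ((ΓSpecRingEquiv Γ(Y, V) c) • s)) = _
  set r := ΓSpecRingEquiv Γ(Y, V) c with hr
  have h2 : e1.symm (r • s) = r • e1.symm s := e1.symm.map_smul r s
  have h3 : e2 (r • e1.symm s) = r • e2 (e1.symm s) := e2.map_smul r _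
  rw [h2, h3]
  rfl

theorem isPCHom_app_of_isPseudoCoherentD (f : X ⟶ Y) [QuasiCompact f] [QuasiSeparated f]
    (hO : ∀ m : ℤ, DCoh.IsPseudoCoherentD m
      (DCoh.inD Y ((Scheme.Modules.pushforward f).obj (unitM X))))
    {V : Y.Opens} (hV : IsAffineOpen V) : IsPCHom (f.app V).hom := by
  intro m
  haveI : PreservesFiniteLimits (tilde.functor Γ(Y, V)) :=
    Groth.Agent.Lib.Helper17.KProjAff.preservesFiniteLimits_tilde _
  obtain ⟨e⟩ := nonempty_restrict_push_unit_iso_tilde' f hV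
  have h1 := isPseudoCoherentD_resD (hO m) hV.fromSpec
  let W : ModuleCat.{u} Γ(Y, V) := (ModuleCat.restrictScalars (f.app V).hom).obj
    (ModuleCat.of Γ(X, f ⁻¹ᵁ V) Γ(X, f ⁻¹ᵁ V))
  have e' : (resD hV.fromSpec).obj (DCoh.inD Y ((Scheme.Modules.pushforward f).obj (unitM X))) ≅
      (DCoh.tildeD Γ(Y, V)).obj ((DerivedCategory.singleFunctor _ 0).obj W) :=
    resDInDIso hV.fromSpec _ ≪≫ (DerivedCategory.singleFunctor _ 0).mapIso e ≪≫
      (((tilde.functor Γ(Y, V)).mapDerivedCategorySingleFunctor 0).app _).symm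
  exact (isPseudoCoherentD_tildeD_iff Γ(Y, V) _ m).1 (isPseudoCoherentD_of_iso e' h1)

/-- **S1112** -/
theorem isPseudoCoherentD_Rpush_iff_of_isFinite (f : X ⟶ Y) [IsFinite f]
    (hO : ∀ m : ℤ, DCoh.IsPseudoCoherentD m
      (DCoh.inD Y ((Scheme.Modules.pushforward f).obj (unitM X))))
    (E : DCoh.D X) (hE : DCoh.IsQCohD E) (m : ℤ) :
    DCoh.IsPseudoCoherentD m E ↔ DCoh.IsPseudoCoherentD m ((DCoh.Rpush f).obj E) := by
  have key : ∀ (V : Y.Opens) (hV : IsAffineOpen V),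
      DCoh.IsPseudoCoherentD m ((resD (hV.preimage f).fromSpec).obj E) ↔
        DCoh.IsPseudoCoherentD m ((resD hV.fromSpec).obj ((DCoh.Rpush f).obj E)) := by
    intro V hV
    obtain ⟨bc⟩ := nonempty_Rpush_fromSpec_iso f hV (hV.preimage f)
    have hE' : DCoh.IsQCohD ((resD (hV.preimage f).fromSpec).obj E) :=
      isQCohD_resD _ E hE
    rw [isPseudoCoherentD_Rpush_Spec_iff (f.app V) (isPCHom_app_of_isPseudoCoherentD f hO hV)
      _ hE' m]
    exact ⟨fun h => isPseudoCoherentD_of_iso (bc.app E).symm h,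
      fun h => isPseudoCoherentD_of_iso (bc.app E) h⟩
  constructor
  · intro h
    refine isPseudoCoherentD_of_locally fun y => ?_
    obtain ⟨V, hV, hyV, -⟩ := (Opens.isBasis_iff_nbhd.1 Y.isBasis_affineOpens)
      (show y ∈ (⊤ : Y.Opens) from trivial)
    refine ⟨Spec Γ(Y, V), hV.fromSpec, inferInstance, by rw [hV.range_fromSpec]; exact hyV, ?_⟩
    exact (key V hV).1 (isPseudoCoherentD_resD h _)
  · intro h
    refine isPseudoCoherentD_of_locally fun x => ?_
    obtain ⟨V, hV, hyV, -⟩ := (Opens.isBasis_iff_nbhd.1 Y.isBasis_affineOpens)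
      (show f.base x ∈ (⊤ : Y.Opens) from trivial)
    refine ⟨Spec Γ(X, f ⁻¹ᵁ V), (hV.preimage f).fromSpec, inferInstance,
      by rw [(hV.preimage f).range_fromSpec]; exact hyV, ?_⟩
    exact (key V hV).2 (isPseudoCoherentD_resD h _)

end Main

end

end Groth.Agent.Lib.Helper28.FinPush
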