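import Mathlib
import Groth.Prelude.Def_ega3
import Groth.Agent.Lib.Helper28.FlatCxReduced
import Groth.Agent.Lib.Helper28.FlatCxBounded

/-!
# Locally constant Betti numbers over a reduced (not necessarily Noetherian) ring
-/

set_option autoImplicit false
universe u
open TensorProduct CategoryTheory CategoryTheory.Limits MonoidalCategory CohIII Topology
namespace Groth.Agent.Lib.Helper28.FlatCx

section

variable {A : Type u} [CommRing A] {ι : Type} {c : ComplexShape ι}

/-- opcycles of a complex with finitely presented term and finite previous term are finitely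
presented. -/
lemma finitePresentation_opcycles (P : HomologicalComplex (ModuleCat.{u} A) c) (q : ι)
    [Module.FinitePresentation A (P.X q)] [Module.Finite A (P.X (c.prev q))] :
    Module.FinitePresentation A (P.opcycles q) := by
  refine Module.finitePresentation_of_surjective (P.pOpcycles q).hom (pOpcycles_surjective P q) ?_
  have hex : (ShortComplex.mk (P.d (c.prev q) q) (P.pOpcycles q) (P.d_pOpcycles _ q)).Exact :=
    ShortComplex.exact_of_g_is_cokernel _ (P.opcyclesIsCokernel (c.prev q) q rfl)
  have hex' := (ShortComplex.ShortExact.moduleCat_exact_iff_function_exact _).mp hex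
  have : LinearMap.ker (P.pOpcycles q).hom = LinearMap.range (P.d (c.prev q) q).hom := by
    ext y
    rw [LinearMap.mem_ker, LinearMap.mem_range]
    exact hex' y
  rw [this, LinearMap.range_eq_map]
  exact Submodule.FG.map _ Module.Finite.fg_top

/-- over a reduced ring, locally constant `dRank` implies `T_p` exact (finitely presented
opcycles). -/
theorem exact_of_isLocallyConstant_dRank' [IsReduced A]
    (P : HomologicalComplex (ModuleCat.{u} A) c)
    (hP : ∀ i, Module.Finite A (P.X i) ∧ Module.Flat A (P.X i)) (p q : ι) (hpq : c.Rel p q)
    (fpp : Module.FinitePresentation A (P.opcycles p))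
    (fpq : Module.FinitePresentation A (P.opcycles q))
    (h : IsLocallyConstant (dRank P p)) :
    Module.Flat A (P.opcycles p) ∧ Module.Flat A (P.opcycles q) := by
  have hPf : ∀ i, Module.Flat A (P.X i) := fun i => (hP i).2
  have := (hP p).1
  have := (hP q).1
  have hWp : Module.Finite A (P.opcycles p) := finite_opcycles P p
  have hWq : Module.Finite A (P.opcycles q) := finite_opcycles P q
  -- exactness at every localization
  have hloc : ∀ y : PrimeSpectrum A,
      (TFun (bcCx (algebraMap A (Localization.AtPrime y.asIdeal)) P) p).PreservesMonomorphisms ∧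
      (TFun (bcCx (algebraMap A (Localization.AtPrime y.asIdeal)) P) p).PreservesEpimorphisms := by
    intro y
    have hPB : ∀ i, Module.Finite (Localization.AtPrime y.asIdeal)
        ((bcCx (algebraMap A (Localization.AtPrime y.asIdeal)) P).X i) ∧
        Module.Flat (Localization.AtPrime y.asIdeal)
        ((bcCx (algebraMap A (Localization.AtPrime y.asIdeal)) P).X i) := fun i =>
      have := (hP i).1
      have := (hP i).2
      ⟨finite_bcCx_X' P i, flat_bcCx_X P i⟩
    rw [exact_iff_dRank_eq_minimalPrimes _ hPB p q hpq]
    intro x' _
    rw [dRank_bcCx, dRank_bcCx]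
    have hsp : x' ⤳ IsLocalRing.closedPoint (Localization.AtPrime y.asIdeal) :=
      IsLocalRing.specializes_closedPoint x'
    have hsp' := hsp.map (PrimeSpectrum.continuous_comap
      (algebraMap A (Localization.AtPrime y.asIdeal)))
    exact ((h.eventually_eq _).filter_mono hsp').self_of_nhds
  have f1 : Module.Flat A (P.opcycles p) := by
    have : Module.freeLocus A (P.opcycles p) = Set.univ :=
      Set.eq_univ_of_forall fun y =>
        (preservesMono_bcCx_localization_iff P hP p y).mp (hloc y).1
    have := Module.freeLocus_eq_univ_iff.mp this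
    infer_instance
  have f2 : Module.Flat A (P.opcycles q) := by
    have : Module.freeLocus A (P.opcycles q) = Set.univ :=
      Set.eq_univ_of_forall fun y =>
        (preservesEpi_bcCx_localization_iff P hP p q hpq y).mp (hloc y).2
    have := Module.freeLocus_eq_univ_iff.mp this
    infer_instance
  exact ⟨f1, f2⟩

end

section Split

variable {A : Type u} [CommRing A]

/-- the kernel of a surjection onto a projective module is a retract of the source. -/
lemma exists_retraction_ker {M N : Type u} [AddCommGroup M] [Module A M] [AddCommGroup N]
    [Module A N] [Module.Projective A N] (π : M →ₗ[A] N) (hπ : Function.Surjective π) :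
    ∃ r : M →ₗ[A] LinearMap.ker π, r ∘ₗ (LinearMap.ker π).subtype = LinearMap.id := by
  obtain ⟨s, hs⟩ := Module.projective_lifting_property π LinearMap.id hπ
  have hs' : ∀ n, π (s n) = n := fun n => LinearMap.congr_fun hs n
  have hmem : ∀ m : M, ((LinearMap.id : M →ₗ[A] M) - s ∘ₗ π) m ∈ LinearMap.ker π := by
    intro m
    rw [LinearMap.mem_ker, LinearMap.sub_apply, map_sub, LinearMap.id_apply, LinearMap.comp_apply,
      hs', sub_self]
  refine ⟨((LinearMap.id : M →ₗ[A] M) - s ∘ₗ π).codRestrict _ hmem, ?_⟩
  ext x
  have hx : π (x : M) = 0 := x.2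
  simp [hx]

lemma finite_projective_ker {M N : Type u} [AddCommGroup M] [Module A M] [AddCommGroup N]
    [Module A N] [Module.Projective A N] [Module.Finite A M] [Module.Projective A M]
    (π : M →ₗ[A] N) (hπ : Function.Surjective π) :
    Module.Finite A (LinearMap.ker π) ∧ Module.Projective A (LinearMap.ker π) := by
  obtain ⟨r, hr⟩ := exists_retraction_ker π hπ
  have hsurj : Function.Surjective r := fun x => ⟨x, LinearMap.congr_fun hr x⟩
  exact ⟨Module.Finite.of_surjective r hsurj,
    Module.Projective.of_split (LinearMap.ker π).subtype r hr⟩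

end Split

section Final

variable {A : Type u} [CommRing A] {ι : Type} {c : ComplexShape ι}

/-- finite projective homology from projective opcycles -/
theorem finite_projective_homology (P : HomologicalComplex (ModuleCat.{u} A) c) (p q : ι)
    (hpq : c.Rel p q) [Module.Finite A (P.X q)] [Module.Projective A (P.X q)]
    [Module.Finite A (P.opcycles p)] [Module.Projective A (P.opcycles p)]
    [Module.Projective A (P.opcycles q)] :
    Module.Finite A (P.homology p) ∧ Module.Projective A (P.homology p) := by
  -- boundaries
  have hB : LinearMap.ker (P.pOpcycles q).hom = LinearMap.range (P.fromOpcycles p q).hom := by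
    ext y
    rw [LinearMap.mem_ker, LinearMap.mem_range]
    exact exact_fromOpcycles_pOpcycles P p q (c.prev_eq' hpq) y
  obtain ⟨hBf, hBp⟩ := finite_projective_ker (P.pOpcycles q).hom (pOpcycles_surjective P q)
  rw [hB] at hBf hBp
  obtain ⟨hKf, hKp⟩ := finite_projective_ker (P.fromOpcycles p q).hom.rangeRestrict
    (LinearMap.surjective_rangeRestrict _)
  -- homology ≃ kernel
  have hex := exact_homologyι_rangeRestrict P p q hpq
  let e : P.homology p ≃ₗ[A] LinearMap.ker (P.fromOpcycles p q).hom.rangeRestrict :=
    LinearEquiv.ofBijective
      ((P.homologyι p).hom.codRestrict _ (fun x => by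
        rw [LinearMap.mem_ker]
        exact (hex _).mpr ⟨x, rfl⟩))
      ⟨fun x y hxy => homologyι_injective P p (congrArg Subtype.val hxy),
       fun y => by
        obtain ⟨x, hx⟩ := (hex y.1).mp y.2
        exact ⟨x, Subtype.ext hx⟩⟩
  exact ⟨Module.Finite.equiv e.symm, Module.Projective.of_equiv e.symm⟩

end Final

end Groth.Agent.Lib.Helper28.FlatCx

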