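import Mathlib

/-! Graded prime avoidance. -/

namespace Groth.Agent.Lib.Helper28

open DirectSum

variable {R S : Type*} [CommRing R] [CommRing S] [Algebra R S]
  (𝒜 : ℕ → Submodule R S) [GradedAlgebra 𝒜]

theorem exists_homogeneous_mem_not_mem (J K : HomogeneousIdeal 𝒜) (h : ¬ J ≤ K) :
    ∃ d : ℕ, ∃ x ∈ 𝒜 d, x ∈ J.toIdeal ∧ x ∉ K.toIdeal := by
  classical
  obtain ⟨z, hzJ, hzK⟩ := SetLike.not_le_iff_exists.mp h
  by_contra hcon
  push Not at hcon
  apply hzK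
  rw [← HomogeneousIdeal.mem_iff, ← DirectSum.sum_support_decompose 𝒜 z]
  refine Ideal.sum_mem _ fun d _ => ?_
  exact hcon d _ (decompose 𝒜 z d).2 (J.isHomogeneous d (HomogeneousIdeal.mem_iff.mpr hzJ))

theorem graded_prime_avoidance {ι : Type*} (p : ι → HomogeneousIdeal 𝒜)
    (hp : ∀ i, (p i).toIdeal.IsPrime)
    (I : HomogeneousIdeal 𝒜) (hI : I ≤ HomogeneousIdeal.irrelevant 𝒜) (s : Finset ι)
    (h : ∀ i ∈ s, ¬ I ≤ p i) :
    ∃ x : S, ∃ d : ℕ, 0 < d ∧ x ∈ 𝒜 d ∧ x ∈ I.toIdeal ∧ ∀ i ∈ s, x ∉ (p i).toIdeal := by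
  classical
  induction s using Finset.strongInduction with
  | H s ih =>
  rcases s.eq_empty_or_nonempty with rfl | hne
  · exact ⟨0, 1, one_pos, zero_mem _, zero_mem _, by simp⟩
  obtain ⟨j, hjs, hjmin⟩ := s.exists_minimalFor p hne
  obtain ⟨x, a, ha, hxa, hxI, hx⟩ := ih (s.erase j) (Finset.erase_ssubset hjs)
    (fun i hi => h i (Finset.mem_of_mem_erase hi))
  by_cases hxj : x ∈ (p j).toIdeal
  swap
  · refine ⟨x, a, ha, hxa, hxI, fun i hi => ?_⟩
    by_cases hij : i = j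
    · subst hij; exact hxj
    · exact hx i (Finset.mem_erase.mpr ⟨hij, hi⟩)
  have hnle : ∀ i ∈ s.erase j, ¬ p i ≤ p j := by
    intro i hi hle
    have hji : p j ≤ p i := hjmin (Finset.mem_of_mem_erase hi) hle
    exact hx i hi ((_root_.toIdeal_le_toIdeal_iff.mpr hji) hxj)
  obtain ⟨du, u, hud, huI, huj⟩ := exists_homogeneous_mem_not_mem 𝒜 I (p j) (h j hjs)
  have hdu : 0 < du := by
    rcases Nat.eq_zero_or_pos du with h0 | h0
    · exfalso
      subst h0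
      have h1 : u ∈ HomogeneousIdeal.irrelevant 𝒜 := hI (HomogeneousIdeal.mem_iff.mp huI)
      rw [HomogeneousIdeal.mem_irrelevant_iff, GradedRing.proj_apply,
        decompose_of_mem_same 𝒜 hud] at h1
      exact huj (h1 ▸ zero_mem _)
    · exact h0
  choose! dv v hvd hvi hvj using fun i (hi : i ∈ s.erase j) =>
    exists_homogeneous_mem_not_mem 𝒜 (p i) (p j) (hnle i hi)
  have hyb : u * ∏ i ∈ s.erase j, v i ∈ 𝒜 (du + ∑ i ∈ s.erase j, dv i) :=
    SetLike.mul_mem_graded hud (SetLike.prod_mem_graded _ _ _ fun i hi => hvd i hi)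
  have hb : 0 < du + ∑ i ∈ s.erase j, dv i := by omega
  have hyI : u * ∏ i ∈ s.erase j, v i ∈ I.toIdeal := Ideal.mul_mem_right _ _ huI
  have hyj : u * ∏ i ∈ s.erase j, v i ∉ (p j).toIdeal := by
    intro hy
    rcases (hp j).mem_or_mem hy with h1 | h1
    · exact huj h1
    · obtain ⟨i, hi, hvi'⟩ := (hp j).prod_mem_iff.mp h1
      exact hvj i hi hvi'
  have hyi : ∀ i ∈ s.erase j, u * ∏ i ∈ s.erase j, v i ∈ (p i).toIdeal := fun i hi =>
    Ideal.mul_mem_left _ _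
      (Ideal.mem_of_dvd _ (Finset.dvd_prod_of_mem v hi) (hvi i hi))
  generalize u * ∏ i ∈ s.erase j, v i = y at *
  generalize du + ∑ i ∈ s.erase j, dv i = b at *
  refine ⟨x ^ b + y ^ a, a * b, Nat.mul_pos ha hb, ?_, ?_, ?_⟩
  · refine add_mem ?_ ?_
    · have := SetLike.pow_mem_graded b hxa
      rwa [smul_eq_mul, mul_comm] at this
    · have := SetLike.pow_mem_graded a hyb
      rwa [smul_eq_mul] at this
  · exact add_mem (Ideal.pow_mem_of_mem _ hxI _ hb) (Ideal.pow_mem_of_mem _ hyI _ ha)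
  · intro i hi hmem
    by_cases hij : i = j
    · subst hij
      have h1 : x ^ b ∈ (p i).toIdeal := Ideal.pow_mem_of_mem _ hxj _ hb
      have h2 : y ^ a ∈ (p i).toIdeal := ((p i).toIdeal.add_mem_iff_right h1).mp hmem
      exact hyj ((hp i).mem_of_pow_mem _ h2)
    · have hi' := Finset.mem_erase.mpr ⟨hij, hi⟩
      have h1 : y ^ a ∈ (p i).toIdeal := Ideal.pow_mem_of_mem _ (hyi i hi') _ ha
      have h2 : x ^ b ∈ (p i).toIdeal := ((p i).toIdeal.add_mem_iff_left h1).mp hmem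
      exact hx i hi' ((hp i).mem_of_pow_mem _ h2)

end Groth.Agent.Lib.Helper28
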