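import Mathlib

/-! Graded Nakayama lemma for ℕ-graded modules. -/

namespace Groth.Agent.Lib.Helper28

open DirectSum

section
variable {R S M : Type*} [CommRing R] [CommRing S] [Algebra R S]
  (𝒜 : ℕ → Submodule R S) [GradedAlgebra 𝒜]
  [AddCommGroup M] [Module R M] [Module S M] [IsScalarTower R S M]
  (ℳ : ℕ → Submodule R M) [DirectSum.Decomposition ℳ] [SetLike.GradedSMul 𝒜 ℳ]

/-- the degree `d` component, as an additive map -/
noncomputable def comp (d : ℕ) : M →+ M where
  toFun m := (decompose ℳ m d : M)
  map_zero' := by simp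
  map_add' x y := by simp [decompose_add]

theorem comp_apply (d : ℕ) (m : M) : comp ℳ d m = (decompose ℳ m d : M) := rfl

theorem comp_of_mem {d e : ℕ} {m : M} (hm : m ∈ ℳ e) :
    comp ℳ d m = if e = d then m else 0 := by
  split_ifs with h
  · subst h; exact decompose_of_mem_same ℳ hm
  · exact decompose_of_mem_ne ℳ hm h

omit [IsScalarTower R S M] in
include 𝒜 in
/-- Key step: component of `s • y` in degree `d` lies in `N` under suitable hypotheses. -/
theorem comp_smul_mem {σ : Type*} [SetLike σ M] [AddSubmonoidClass σ M]
    (N : σ) (d : ℕ) (s : S) (y : M)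
    (hN : ∀ a b : ℕ, a + b = d → (decompose 𝒜 s a : S) • (decompose ℳ y b : M) ∈ N) :
    comp ℳ d (s • y) ∈ N := by
  classical
  have hs := sum_support_decompose 𝒜 s
  have hy := sum_support_decompose ℳ y
  rw [← hs, ← hy, Finset.sum_smul, map_sum]
  refine sum_mem fun a _ => ?_
  rw [Finset.smul_sum, map_sum]
  refine sum_mem fun b _ => ?_
  have hmem : (decompose 𝒜 s a : S) • (decompose ℳ y b : M) ∈ ℳ (a + b) :=
    SetLike.GradedSMul.smul_mem (decompose 𝒜 s a).2 (decompose ℳ y b).2
  rw [comp_of_mem ℳ hmem]
  split_ifs with h
  · exact hN a b h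
  · exact zero_mem N

omit [IsScalarTower R S M] in
include 𝒜 in
theorem graded_nakayama {n : ℕ} (x : Fin n → M)
    (hx : ∀ i, SetLike.IsHomogeneousElem ℳ (x i))
    (h : Submodule.span S (Set.range x) ⊔
      (HomogeneousIdeal.irrelevant 𝒜).toIdeal • (⊤ : Submodule S M) = ⊤) :
    Submodule.span S (Set.range x) = ⊤ := by
  classical
  set N := Submodule.span S (Set.range x) with hNdef
  -- all homogeneous pieces are in N
  have key : ∀ d : ℕ, ∀ m ∈ ℳ d, m ∈ N := by
    intro d
    induction d using Nat.strong_induction_on with
    | _ d ih =>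
    intro m hm
    -- the additive subgroup T of elements whose d-component lies in N
    have hT : ∀ y : M, comp ℳ d y ∈ N := by
      intro y
      have hy : y ∈ N ⊔ (HomogeneousIdeal.irrelevant 𝒜).toIdeal • (⊤ : Submodule S M) := by
        rw [h]; trivial
      obtain ⟨y1, hy1, y2, hy2, rfl⟩ := Submodule.mem_sup.mp hy
      clear hy
      rw [map_add]
      refine N.add_mem ?_ ?_
      · -- y1 in N
        induction hy1 using Submodule.closure_induction with
        | zero => rw [map_zero]; exact N.zero_mem
        | add u v _ _ hu hv => rw [map_add]; exact N.add_mem hu hv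
        | smul_mem r u hu =>
          obtain ⟨i, rfl⟩ := hu
          obtain ⟨e, he⟩ := hx i
          refine comp_smul_mem 𝒜 ℳ N d r (x i) fun a b _ => ?_
          refine N.smul_mem _ ?_
          by_cases hbe : e = b
          · subst hbe
            rw [decompose_of_mem_same ℳ he]
            exact Submodule.subset_span ⟨i, rfl⟩
          · rw [decompose_of_mem_ne ℳ he hbe]
            exact N.zero_mem
      · refine Submodule.smul_induction_on hy2 ?_ ?_
        · intro r hr u _
          refine comp_smul_mem 𝒜 ℳ N d r u fun a b hab => ?_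
          rcases Nat.eq_zero_or_pos a with ha | ha
          · subst ha
            have : (decompose 𝒜 r 0 : S) = 0 := (HomogeneousIdeal.mem_irrelevant_iff 𝒜 r).mp hr
            rw [this, zero_smul]
            exact N.zero_mem
          · exact N.smul_mem _ (ih b (by omega) _ (decompose ℳ u b).2)
        · intro u v hu hv
          rw [map_add]; exact N.add_mem hu hv
    have := hT m
    rwa [comp_of_mem ℳ hm, if_pos rfl] at this
  rw [eq_top_iff]
  intro m _
  rw [← sum_support_decompose ℳ m]
  exact Submodule.sum_mem _ fun d _ => key d _ (decompose ℳ m d).2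

end

end Groth.Agent.Lib.Helper28
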