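import Mathlib
import Groth.Agent.Lib.Helper28.GradedNak

/-! Graded pieces of finitely generated graded modules over finite type graded algebras. -/

namespace Groth.Agent.Lib.Helper28

open DirectSum

section Ring
variable {A S : Type*} [CommRing A] [CommRing S] [Algebra A S]
  (𝒜 : ℕ → Submodule A S) [GradedAlgebra 𝒜]

/-- finitely many homogeneous generators of positive degree -/
theorem exists_homogeneous_generators
    (h0 : ∀ s ∈ 𝒜 0, s ∈ Set.range (algebraMap A S)) [Algebra.FiniteType A S] :
    ∃ G : Finset S, (∀ f ∈ G, ∃ d : ℕ, 0 < d ∧ f ∈ 𝒜 d) ∧ Algebra.adjoin A (G : Set S) = ⊤ := by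
  classical
  obtain ⟨t, ht⟩ := (Algebra.FiniteType.out : (⊤ : Subalgebra A S).FG)
  refine ⟨t.biUnion (fun s => ((decompose 𝒜 s).support.filter (0 < ·)).image
    (fun i => (decompose 𝒜 s i : S))), ?_, ?_⟩
  · intro f hf
    simp only [Finset.mem_biUnion, Finset.mem_image, Finset.mem_filter] at hf
    obtain ⟨s, -, i, ⟨-, hi⟩, rfl⟩ := hf
    exact ⟨i, hi, (decompose 𝒜 s i).2⟩
  · rw [eq_top_iff, ← ht]
    refine Algebra.adjoin_le ?_
    intro s hs
    rw [← sum_support_decompose 𝒜 s]
    refine Subalgebra.sum_mem _ fun i hi => ?_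
    rcases Nat.eq_zero_or_pos i with h | h
    · subst h
      obtain ⟨a, ha⟩ := h0 _ (decompose 𝒜 s 0).2
      rw [← ha]
      exact Subalgebra.algebraMap_mem _ a
    · refine Algebra.subset_adjoin ?_
      simp only [Finset.coe_biUnion, Finset.coe_image, Set.mem_iUnion, Set.mem_image,
        Finset.mem_coe, Finset.mem_filter]
      exact ⟨s, hs, i, ⟨hi, h⟩, rfl⟩

theorem fg_gradedPiece
    (h0 : ∀ s ∈ 𝒜 0, s ∈ Set.range (algebraMap A S)) [Algebra.FiniteType A S] (n : ℕ) :
    (𝒜 n).FG := by
  classical
  obtain ⟨G, hG, hGtop⟩ := exists_homogeneous_generators 𝒜 h0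
  choose! deg hdeg_pos hdeg using hG
  -- every element is a constant plus an element of the ideal generated by G
  have hdecomp : ∀ s : S, ∃ a : A, s - algebraMap A S a ∈ Ideal.span (G : Set S) := by
    intro s
    have hs : s ∈ Algebra.adjoin A (G : Set S) := by rw [hGtop]; trivial
    induction hs using Algebra.adjoin_induction with
    | mem x hx => exact ⟨0, by simpa using Ideal.subset_span hx⟩
    | algebraMap r => exact ⟨r, by simp⟩
    | add x y _ _ hx hy =>
      obtain ⟨a, ha⟩ := hx
      obtain ⟨b, hb⟩ := hy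
      refine ⟨a + b, ?_⟩
      have : x + y - algebraMap A S (a + b) = (x - algebraMap A S a) + (y - algebraMap A S b) := by
        rw [map_add]; ring
      rw [this]
      exact add_mem ha hb
    | mul x y _ _ hx hy =>
      obtain ⟨a, ha⟩ := hx
      obtain ⟨b, hb⟩ := hy
      refine ⟨a * b, ?_⟩
      have : x * y - algebraMap A S (a * b) =
          (x - algebraMap A S a) * y + algebraMap A S a * (y - algebraMap A S b) := by
        rw [map_mul]; ring
      rw [this]
      exact add_mem (Ideal.mul_mem_right _ _ ha) (Ideal.mul_mem_left _ _ hb)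
  induction n using Nat.strong_induction_on with
  | _ n ih =>
  rcases Nat.eq_zero_or_pos n with hn | hn
  · subst hn
    have : 𝒜 0 = (⊤ : Submodule A A).map (Algebra.linearMap A S) := by
      apply le_antisymm
      · intro s hs
        obtain ⟨a, rfl⟩ := h0 s hs
        exact ⟨a, trivial, rfl⟩
      · rintro _ ⟨a, -, rfl⟩
        exact SetLike.algebraMap_mem_graded 𝒜 a
    rw [this]
    exact (Module.Finite.fg_top).map _
  · have hX : (⨆ f ∈ G.filter (fun f => deg f ≤ n),
        (𝒜 (n - deg f)).map (LinearMap.mulLeft A f)).FG := by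
      refine Submodule.fg_biSup _ _ fun f hf => ?_
      rw [Finset.mem_filter] at hf
      exact (ih _ (Nat.sub_lt hn (hdeg_pos f hf.1))).map _
    have heq : 𝒜 n = ⨆ f ∈ G.filter (fun f => deg f ≤ n),
        (𝒜 (n - deg f)).map (LinearMap.mulLeft A f) := by
      apply le_antisymm
      · intro s hs
        obtain ⟨a, ha⟩ := hdecomp s
        obtain ⟨c, -, hc⟩ := Submodule.mem_span_finset.mp ha
        have hs' : s = algebraMap A S a + ∑ f ∈ G, c f • f := by rw [hc]; ring
        have h1 : (decompose 𝒜 s n : S) = s := decompose_of_mem_same 𝒜 hs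
        rw [← h1, hs', decompose_add, DirectSum.add_apply, Submodule.coe_add, decompose_sum,
          DFinsupp.finsetSum_apply, AddSubmonoidClass.coe_finsetSum]
        refine add_mem ?_ (sum_mem fun f hf => ?_)
        · rw [decompose_of_mem_ne 𝒜 (SetLike.algebraMap_mem_graded 𝒜 a) hn.ne]
          exact zero_mem _
        · rw [smul_eq_mul, mul_comm]
          by_cases hfn : deg f ≤ n
          · rw [coe_decompose_mul_of_left_mem_of_le 𝒜 (hdeg f hf) hfn]
            refine Submodule.mem_iSup_of_mem f (Submodule.mem_iSup_of_mem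
              (Finset.mem_filter.mpr ⟨hf, hfn⟩) ?_)
            exact ⟨_, (decompose 𝒜 (c f) (n - deg f)).2, rfl⟩
          · rw [coe_decompose_mul_of_left_mem_of_not_le 𝒜 (hdeg f hf) hfn]
            exact zero_mem _
      · refine iSup₂_le fun f hf => ?_
        rw [Finset.mem_filter] at hf
        rintro _ ⟨s, hs, rfl⟩
        have := SetLike.mul_mem_graded (hdeg f hf.1) hs
        rwa [Nat.add_sub_cancel' hf.2] at this
    rw [heq]
    exact hX

end Ring

section Module
variable {A S M : Type*} [CommRing A] [CommRing S] [Algebra A S]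
  (𝒜 : ℕ → Submodule A S) [GradedAlgebra 𝒜]
  [AddCommGroup M] [Module A M] [Module S M] [IsScalarTower A S M]
  (ℳ : ℕ → Submodule A M) [DirectSum.Decomposition ℳ] [SetLike.GradedSMul 𝒜 ℳ]

include 𝒜 in
theorem fg_gradedPiece_module
    (h0 : ∀ s ∈ 𝒜 0, s ∈ Set.range (algebraMap A S)) [Algebra.FiniteType A S]
    [Module.Finite S M] (n : ℕ) : (ℳ n).FG := by
  classical
  obtain ⟨T, hT⟩ := (Module.Finite.fg_top : (⊤ : Submodule S M).FG)
  -- homogeneous generators
  obtain ⟨T', hT'hom, hT'⟩ : ∃ T' : Finset M, (∀ y ∈ T', ∃ e : ℕ, y ∈ ℳ e) ∧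
      Submodule.span S (T' : Set M) = ⊤ := by
    refine ⟨T.biUnion (fun m => (decompose ℳ m).support.image
      (fun i => (decompose ℳ m i : M))), ?_, ?_⟩
    · intro y hy
      simp only [Finset.mem_biUnion, Finset.mem_image] at hy
      obtain ⟨m, -, i, -, rfl⟩ := hy
      exact ⟨i, (decompose ℳ m i).2⟩
    · rw [eq_top_iff, ← hT]
      refine Submodule.span_le.mpr ?_
      intro m hm
      rw [← sum_support_decompose ℳ m]
      refine Submodule.sum_mem _ fun i hi => Submodule.subset_span ?_
      simp only [Finset.coe_biUnion, Finset.coe_image, Set.mem_iUnion, Set.mem_image,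
        Finset.mem_coe]
      exact ⟨m, hm, i, hi, rfl⟩
  choose! e he using hT'hom
  have hX : (⨆ y ∈ T'.filter (fun y => e y ≤ n), (𝒜 (n - e y)).map
      ((LinearMap.toSpanSingleton S M y).restrictScalars A)).FG := by
    refine Submodule.fg_biSup _ _ fun y _ => ?_
    exact (fg_gradedPiece 𝒜 h0 _).map _
  have heq : ℳ n = ⨆ y ∈ T'.filter (fun y => e y ≤ n), (𝒜 (n - e y)).map
      ((LinearMap.toSpanSingleton S M y).restrictScalars A) := by
    apply le_antisymm
    · intro m hm
      have hm' : m ∈ Submodule.span S (T' : Set M) := by rw [hT']; trivial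
      have key : comp ℳ n m ∈ ⨆ y ∈ T'.filter (fun y => e y ≤ n), (𝒜 (n - e y)).map
          ((LinearMap.toSpanSingleton S M y).restrictScalars A) := by
        clear hm
        induction hm' using Submodule.closure_induction with
        | zero => rw [map_zero]; exact zero_mem _
        | add u v _ _ hu hv => rw [map_add]; exact add_mem hu hv
        | smul_mem r y hy =>
          refine comp_smul_mem 𝒜 ℳ _ n r y fun a b hab => ?_
          by_cases hb : e y = b
          · subst hb
            rw [decompose_of_mem_same ℳ (he y hy)]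
            have hle : e y ≤ n := by omega
            refine Submodule.mem_iSup_of_mem y (Submodule.mem_iSup_of_mem
              (Finset.mem_filter.mpr ⟨hy, hle⟩) ?_)
            have ha : a = n - e y := by omega
            subst ha
            exact ⟨_, (decompose 𝒜 r (n - e y)).2, rfl⟩
          · rw [decompose_of_mem_ne ℳ (he y hy) hb, smul_zero]
            exact zero_mem _
      rwa [comp_of_mem ℳ hm, if_pos rfl] at key
    · refine iSup₂_le fun y hy => ?_
      rw [Finset.mem_filter] at hy
      rintro _ ⟨s, hs, rfl⟩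
      have : s • y ∈ ℳ ((n - e y) + e y) := SetLike.GradedSMul.smul_mem hs (he y hy.1)
      rwa [Nat.sub_add_cancel hy.2] at this
  rw [heq]
  exact hX

end Module

end Groth.Agent.Lib.Helper28
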