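import Mathlib

/-! Homogeneous components of integral elements are integral (ℕ-graded case). -/

namespace Groth.Agent.Lib.Helper28

open DirectSum Polynomial

attribute [local instance] Polynomial.algebra

section
variable {S : Type*} [CommRing S] (𝒮 : ℕ → AddSubgroup S) [GradedRing 𝒮]

/-- The ring hom `⨁ Sᵢ → S[X]`, `(sᵢ) ↦ ∑ sᵢ Xⁱ`. -/
noncomputable def dsToPoly : (⨁ i, 𝒮 i) →+* S[X] :=
  DirectSum.toSemiring (A := fun i => 𝒮 i)
    (fun i => (monomial i).toAddMonoidHom.comp (𝒮 i).subtype)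
    (by simp [SetLike.coe_gOne])
    (by
      intro i j ai aj
      simp [SetLike.coe_gMul, monomial_mul_monomial])

theorem dsToPoly_of (i : ℕ) (x : 𝒮 i) :
    dsToPoly 𝒮 (DirectSum.of (fun i => 𝒮 i) i x) = monomial i (x : S) := by
  unfold dsToPoly
  rw [toSemiring_of]
  rfl

/-- The ring hom `S → S[X]`, `s ↦ ∑ sᵢ Xⁱ`. -/
noncomputable def gradedToPoly : S →+* S[X] :=
  (dsToPoly 𝒮).comp (DirectSum.decomposeRingEquiv 𝒮 : S ≃+* ⨁ i, 𝒮 i).toRingHom

theorem gradedToPoly_of_mem {i : ℕ} {s : S} (hs : s ∈ 𝒮 i) :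
    gradedToPoly 𝒮 s = monomial i s := by
  have h : (DirectSum.decomposeRingEquiv 𝒮) s = DirectSum.of (fun i => 𝒮 i) i ⟨s, hs⟩ :=
    decompose_of_mem 𝒮 hs
  show dsToPoly 𝒮 ((DirectSum.decomposeRingEquiv 𝒮) s) = _
  rw [h, dsToPoly_of]

theorem gradedToPoly_coeff (s : S) (i : ℕ) :
    (gradedToPoly 𝒮 s).coeff i = (decompose 𝒮 s i : S) := by
  induction s using DirectSum.Decomposition.inductionOn 𝒮 with
  | zero => simp
  | @homogeneous e m =>
    rw [gradedToPoly_of_mem 𝒮 m.2, coeff_monomial]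
    split_ifs with h
    · subst h; rw [decompose_of_mem_same 𝒮 m.2]
    · rw [decompose_of_mem_ne 𝒮 m.2 h]
  | add m m' h h' =>
    rw [map_add, coeff_add, h, h', decompose_add, DirectSum.add_apply, AddSubgroup.coe_add]

end

theorem isIntegral_decompose {R S : Type*} [CommRing R] [CommRing S] [Algebra R S]
    (ℛ : ℕ → AddSubgroup R) [GradedRing ℛ] (𝒮 : ℕ → AddSubgroup S) [GradedRing 𝒮]
    (hmap : ∀ i : ℕ, ∀ r ∈ ℛ i, algebraMap R S r ∈ 𝒮 i) (s : S) (hs : IsIntegral R s) (i : ℕ) :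
    IsIntegral R ((DirectSum.decompose 𝒮 s i : 𝒮 i) : S) := by
  have hcompat : ∀ r : R, gradedToPoly 𝒮 (algebraMap R S r) =
      algebraMap R[X] S[X] (gradedToPoly ℛ r) := by
    intro r
    induction r using DirectSum.Decomposition.inductionOn ℛ with
    | zero => simp
    | @homogeneous e m =>
      rw [gradedToPoly_of_mem ℛ m.2, gradedToPoly_of_mem 𝒮 (hmap e _ m.2),
        Polynomial.algebraMap_def, coe_mapRingHom, map_monomial]
    | add m m' h h' => simp only [map_add, h, h']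
  have hcompat' : (gradedToPoly 𝒮).comp (algebraMap R S) =
      (algebraMap R[X] S[X]).comp (gradedToPoly ℛ) := RingHom.ext hcompat
  obtain ⟨p, hpm, hp⟩ := hs
  have hint : IsIntegral R[X] (gradedToPoly 𝒮 s) := by
    refine ⟨p.map (gradedToPoly ℛ), hpm.map _, ?_⟩
    rw [eval₂_map, ← hcompat', ← hom_eval₂, hp, map_zero]
  rw [← gradedToPoly_coeff]
  exact (Polynomial.isIntegral_iff_isIntegral_coeff.mp hint) i

end Groth.Agent.Lib.Helper28
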