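import Mathlib
import Groth.Agent.Lib.Helper28.KFlatAbs

/-!
# Abstract K-flat calculus VI: factoring a map through a cone over a resolution of the fibre (helper28)
-/

open CategoryTheory Limits HomologicalComplex Pretriangulated

namespace Groth.Agent.Lib.Helper28.KFlatAbs

universe v u

variable {A : Type u} [Category.{v} A] [Abelian A]

/-- Given `a : K ⟶ L` and a quasi-isomorphism `r : M ⟶ (cone a)[-1]`, there is `ψ : M ⟶ K` and a
quasi-isomorphism `c : cone ψ ⟶ L` with `a` homotopic to `K ⟶ cone ψ ⟶ L`. -/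
theorem exists_factorization_of_resolution {K L : CochainComplex A ℤ} (a : K ⟶ L)
    (M : CochainComplex A ℤ) (r : M ⟶ (CochainComplex.mappingCone a)⟦(-1 : ℤ)⟧) (hr : QuasiIso r) :
    ∃ (ψ : M ⟶ K) (c : CochainComplex.mappingCone ψ ⟶ L), QuasiIso c ∧
      Nonempty (Homotopy a (CochainComplex.mappingCone.inr ψ ≫ c)) := by
  let Qh := HomotopyCategory.quotient A (ComplexShape.up ℤ)
  let W := (HomotopyCategory.subcategoryAcyclic A).trW
  have hW : HomotopyCategory.quasiIso A (ComplexShape.up ℤ) = W :=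
    HomotopyCategory.quasiIso_eq_trW_subcategoryAcyclic A
  let T₂ := (CochainComplex.mappingCone.triangleh a).invRotate
  have hT₂ : T₂ ∈ distTriang _ :=
    inv_rot_of_distTriang _ (HomotopyCategory.mappingCone_triangleh_distinguished a)
  let u : Qh.obj M ⟶ T₂.obj₁ :=
    Qh.map r ≫ ((Qh.commShiftIso (-1 : ℤ)).app (CochainComplex.mappingCone a)).hom
  have hu : W u := by
    refine W.comp_mem _ _ ?_ (ObjectProperty.trW_of_isIso _ _)
    rw [← hW]
    exact (HomotopyCategory.quotient_map_mem_quasiIso_iff r).2 hr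
  obtain ⟨ψ, hψ⟩ := Qh.map_surjective (u ≫ T₂.mor₁)
  let T₁ := CochainComplex.mappingCone.triangleh ψ
  have hT₁ : T₁ ∈ distTriang _ := HomotopyCategory.mappingCone_triangleh_distinguished ψ
  have comm : T₁.mor₁ ≫ 𝟙 T₂.obj₂ = u ≫ T₂.mor₁ :=
    (Category.comp_id _).trans hψ
  obtain ⟨f₃, hf₃, h2, _⟩ := MorphismProperty.compatible_with_triangulation T₁ T₂ hT₁ hT₂ u
    (𝟙 _) hu (W.id_mem _) comm
  obtain ⟨c, hc⟩ := Qh.map_surjective f₃
  refine ⟨ψ, c, ?_, ⟨?_⟩⟩
  · rw [← HomologicalComplex.mem_quasiIso_iff, ← HomotopyCategory.quotient_map_mem_quasiIso_iff, hW]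
    change W (Qh.map c)
    rw [hc]
    exact hf₃
  · apply HomotopyCategory.homotopyOfEq
    rw [Functor.map_comp]
    have h3 : T₁.mor₂ ≫ f₃ = T₂.mor₂ := h2.trans (Category.id_comp _)
    have h4 : Qh.map (CochainComplex.mappingCone.inr ψ) ≫ Qh.map c = Qh.map a := by
      refine Eq.trans ?_ h3
      exact congrArg (fun t => T₁.mor₂ ≫ t) hc
    exact h4.symm

end Groth.Agent.Lib.Helper28.KFlatAbs
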