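import Mathlib
import Groth.Agent.Lib.Helper28.KFlatAbs2
import Groth.Agent.Lib.Helper28.KFlatAbs5
import Groth.Agent.Lib.Helper17.FlatCalc
import Groth.Agent.Lib.Helper17.CyclesSES

/-!
# Abstract K-flat calculus VII: cycles of an acyclic K-flat complex with flat terms (helper28)
-/

open CategoryTheory Limits HomologicalComplex

namespace Groth.Agent.Lib.Helper28.KFlatAbs

open Groth.Agent.Lib.Helper17.FlatCalc Groth.Agent.Lib.Helper17.CyclesSES

universe v u v' u'

variable {A : Type u} [Category.{v} A] [Abelian A]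

/-- the target of a quasi-isomorphism with acyclic source is acyclic -/
theorem acyclic_of_quasiIso {K L : CochainComplex A ℤ} (φ : K ⟶ L) [QuasiIso φ]
    (hK : K.Acyclic) : L.Acyclic := by
  intro n
  rw [exactAt_iff_isZero_homology]
  have h1 := hK n
  rw [exactAt_iff_isZero_homology] at h1
  exact h1.of_iso (asIso (homologyMap φ n)).symm

section MonoCycles

variable {B : Type u'} [Category.{v'} B] [Abelian B]

/-- If `K` is acyclic, `G` right exact, and `G(K)` is exact at `n`, then `G(Z^{n+1}) → G(K^{n+1})`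
is a monomorphism. -/
theorem mono_map_iCycles (K : CochainComplex A ℤ) (hac : K.Acyclic) (G : A ⥤ B) [G.Additive]
    [PreservesFiniteColimits G] (n : ℤ)
    (h : ((K.sc' (n - 1) n (n + 1)).map G).Exact) : Mono (G.map (K.iCycles (n + 1))) := by
  have hS := cyclesSC_shortExact K (show (ComplexShape.up ℤ).Rel n (n + 1) from rfl) (hac (n + 1))
  have hepi : Epi (K.toCycles (n - 1) n) := epi_toCycles K (by simp) (hac n)
  have hepi2 : Epi (K.toCycles n (n + 1)) := hS.epi_g
  have hS' : ((cyclesSC K n (n + 1)).map G).Exact :=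
    hS.exact.map_of_epi_of_preservesCokernel G hS.epi_g inferInstance
  let S₁ : ShortComplex B := ShortComplex.mk (G.map (K.d (n - 1) n))
    (G.map (K.toCycles n (n + 1))) (by rw [← G.map_comp, K.d_toCycles, G.map_zero])
  let φ : S₁ ⟶ (cyclesSC K n (n + 1)).map G :=
    { τ₁ := G.map (K.toCycles (n - 1) n)
      τ₂ := 𝟙 _
      τ₃ := 𝟙 _
      comm₁₂ := by
        change G.map (K.toCycles (n - 1) n) ≫ G.map (K.iCycles n) = G.map (K.d (n - 1) n) ≫ 𝟙 _
        rw [← G.map_comp, K.toCycles_i, Category.comp_id]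
      comm₂₃ := by
        change 𝟙 _ ≫ G.map (K.toCycles n (n + 1)) = G.map (K.toCycles n (n + 1)) ≫ 𝟙 _
        simp }
  have : Epi φ.τ₁ := inferInstanceAs (Epi (G.map (K.toCycles (n - 1) n)))
  have : IsIso φ.τ₂ := inferInstanceAs (IsIso (𝟙 _))
  have : Mono φ.τ₃ := inferInstanceAs (Mono (𝟙 _))
  have h1 : S₁.Exact := (ShortComplex.exact_iff_of_epi_of_isIso_of_mono φ).2 hS'
  rw [ShortComplex.exact_iff_mono_cokernel_desc] at h h1
  have w0 : G.map (K.d (n - 1) n) ≫ G.map (K.d n (n + 1)) = 0 := by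
    rw [← G.map_comp, K.d_comp_d, G.map_zero]
  have w1 : G.map (K.d (n - 1) n) ≫ G.map (K.toCycles n (n + 1)) = 0 := by
    rw [← G.map_comp, K.d_toCycles, G.map_zero]
  have h' : Mono (cokernel.desc (G.map (K.d (n - 1) n)) (G.map (K.d n (n + 1))) w0) := h
  have h1' : Mono (cokernel.desc (G.map (K.d (n - 1) n)) (G.map (K.toCycles n (n + 1))) w1) := h1
  have hp : Epi (G.map (K.toCycles n (n + 1))) := inferInstance
  have hc : Epi (cokernel.desc (G.map (K.d (n - 1) n)) (G.map (K.toCycles n (n + 1))) w1) :=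
    epi_of_epi_fac (cokernel.π_desc _ _ w1)
  have hi : IsIso (cokernel.desc (G.map (K.d (n - 1) n)) (G.map (K.toCycles n (n + 1))) w1) :=
    isIso_of_mono_of_epi _
  have e : cokernel.desc (G.map (K.d (n - 1) n)) (G.map (K.toCycles n (n + 1))) w1 ≫
      G.map (K.iCycles (n + 1)) =
      cokernel.desc (G.map (K.d (n - 1) n)) (G.map (K.d n (n + 1))) w0 := by
    apply coequalizer.hom_ext
    change cokernel.π _ ≫ _ = cokernel.π _ ≫ _
    rw [cokernel.π_desc_assoc, cokernel.π_desc, ← G.map_comp, K.toCycles_i]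
  have hm : Mono (cokernel.desc (G.map (K.d (n - 1) n)) (G.map (K.toCycles n (n + 1))) w1 ≫
      G.map (K.iCycles (n + 1))) := by
    rw [e]; exact h'
  have e2 : G.map (K.iCycles (n + 1)) =
      inv (cokernel.desc (G.map (K.d (n - 1) n)) (G.map (K.toCycles n (n + 1))) w1) ≫
      (cokernel.desc (G.map (K.d (n - 1) n)) (G.map (K.toCycles n (n + 1))) w1 ≫
        G.map (K.iCycles (n + 1))) := by
    rw [IsIso.inv_hom_id_assoc]
  rw [e2]
  infer_instance

end MonoCycles

section Snake

variable (T : A ⥤ A ⥤ A) [RightExactBi T]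

instance rightExactBi_flip : RightExactBi T.flip where
  obj_add := fun X => RightExactBi.flip_add (T := T) X
  obj_colim := fun X => RightExactBi.flip_colim (T := T) X
  flip_add := fun Y => inferInstanceAs ((T.obj Y).Additive)
  flip_colim := fun Y => inferInstanceAs (PreservesFiniteColimits (T.obj Y))

/-- In a short exact sequence `0 → X₁ → X₂ → X₃ → 0` with `X₂` flat such that
`X₁ ⊗ G → X₂ ⊗ G` is a monomorphism for every `G`, the object `X₃` is flat. -/
theorem preservesMono_right_of_mono (S : ShortComplex A) (hS : S.ShortExact)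
    (h₂ : (T.obj S.X₂).PreservesMonomorphisms)
    (hm : ∀ G : A, Mono ((T.flip.obj G).map S.f)) :
    (T.obj S.X₃).PreservesMonomorphisms := by
  constructor
  intro G' G f hf
  have := hS.epi_g
  let S' : ShortComplex A := ShortComplex.mk f (cokernel.π f) (cokernel.condition f)
  have hS' : S'.ShortExact :=
    { exact := ShortComplex.exact_of_g_is_cokernel _ (cokernelIsCokernel f)
      mono_f := hf
      epi_g := inferInstanceAs (Epi (cokernel.π f)) }
  have hπ : IsColimit (CokernelCofork.ofπ S.g S.zero) := hS.gIsCokernel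
  have : (T.flip.flip.obj S.X₂).PreservesMonomorphisms := h₂
  exact mono_of_snake T.flip S' hS' S.f S.g S.zero hπ (hm (cokernel f))

end Snake

section Cycles

variable (T : A ⥤ A ⥤ A) [T.Additive] [∀ X, (T.obj X).Additive]
  [∀ K L : CochainComplex A ℤ, HasMapBifunctor K L T (.up ℤ)]

variable {T}

/-- For an acyclic K-flat complex `K`, `Tot(F ⊗ K)` is acyclic for every `F`. -/
theorem acyclic_mapBifunctor_of_isKFlat_of_acyclic [HasCoproducts.{0} A] [AB4OfSize.{0} A]
    (τ : T ≅ T.flip)
    (hres : ∀ F : CochainComplex A ℤ, ∃ (L : CochainComplex A ℤ) (q : L ⟶ F),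
      IsKFlat T L ∧ QuasiIso q)
    {K : CochainComplex A ℤ} (hK : IsKFlat T K) (hac : K.Acyclic) (F : CochainComplex A ℤ) :
    (mapBifunctor F K T (.up ℤ)).Acyclic := by
  obtain ⟨L, q, hL, hq⟩ := hres F
  have h1 : QuasiIso (mapBifunctorMap q (𝟙 K) T (.up ℤ)) :=
    quasiIso_mapBifunctorMap_of_isKFlat hK q
  exact acyclic_of_quasiIso (mapBifunctorMap q (𝟙 K) T (.up ℤ)) (isKFlatL_of_isKFlat τ hL K hac)

/-- If `Tot(K ⊗ M[-a])` is acyclic then `K ⊗ M` is exact in each degree. -/
theorem exact_sc'_map_flip_of_acyclic (K : CochainComplex A ℤ) (M : A) (a : ℤ)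
    (h : (mapBifunctor K ((HomologicalComplex.single A (ComplexShape.up ℤ) a).obj M) T
      (.up ℤ)).Acyclic) (n : ℤ) :
    ((K.sc' (n - 1) n (n + 1)).map (T.flip.obj M)).Exact := by
  have hp := h (n + a)
  rw [HomologicalComplex.exactAt_iff' _ (n + a - 1) (n + a) (n + a + 1) (by simp) (by simp)] at hp
  refine (ShortComplex.exact_iff_of_iso ?_).2 hp
  have i1 : IsIso (θ T K M a (n - 1) (n + a - 1) (by omega)) := inferInstance
  have i2 : IsIso (θ T K M a n (n + a) (by omega)) := inferInstance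
  have i3 : IsIso (θ T K M a (n + 1) (n + a + 1) (by omega)) := inferInstance
  refine ShortComplex.isoMk (@asIso _ _ _ _ _ i1) (@asIso _ _ _ _ _ i2) (@asIso _ _ _ _ _ i3)
    ?_ ?_
  · exact θ_d T K M a (n - 1) (n + a - 1) n (n + a) (by omega) (by omega) (by omega)
  · exact θ_d T K M a n (n + a) (n + 1) (n + a + 1) (by omega) (by omega) (by omega)

/-- The cycles of an acyclic K-flat complex with flat terms are flat. -/
theorem preservesMono_cycles [HasCoproducts.{0} A] [AB4OfSize.{0} A] [RightExactBi T]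
    (τ : T ≅ T.flip)
    (hres : ∀ F : CochainComplex A ℤ, ∃ (L : CochainComplex A ℤ) (q : L ⟶ F),
      IsKFlat T L ∧ QuasiIso q)
    {K : CochainComplex A ℤ} (hK : IsKFlat T K) (hac : K.Acyclic)
    (hfl : ∀ i, (T.obj (K.X i)).PreservesMonomorphisms) (n : ℤ) :
    (T.obj (K.cycles n)).PreservesMonomorphisms := by
  have key : ∀ (G : A) (m : ℤ), Mono ((T.flip.obj G).map (K.iCycles (m + 1))) := by
    intro G m
    have h1 : (mapBifunctor ((HomologicalComplex.single A (ComplexShape.up ℤ) 0).obj G) K T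
        (.up ℤ)).Acyclic := acyclic_mapBifunctor_of_isKFlat_of_acyclic τ hres hK hac _
    have h2 : (mapBifunctor K ((HomologicalComplex.single A (ComplexShape.up ℤ) 0).obj G) T
        (.up ℤ)).Acyclic := acyclic_of_iso (symmIso T τ _ _) h1
    exact mono_map_iCycles K hac (T.flip.obj G) m (exact_sc'_map_flip_of_acyclic K G 0 h2 m)
  have hS := cyclesSC_shortExact K (show (ComplexShape.up ℤ).Rel (n - 1) n by simp) (hac n)
  have hm : ∀ G : A, Mono ((T.flip.obj G).map (cyclesSC K (n - 1) n).f) := by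
    intro G
    have := key G (n - 1 - 1)
    have e : n - 1 - 1 + 1 = n - 1 := by omega
    rw [e] at this
    exact this
  exact preservesMono_right_of_mono T (cyclesSC K (n - 1) n) hS (hfl (n - 1)) hm

end Cycles

end Groth.Agent.Lib.Helper28.KFlatAbs
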