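import Mathlib
import Groth.Prelude.Def_KFlatSite
import Groth.Agent.Lib.Helper28.KFlatSite
import Groth.Agent.Lib.Helper28.TotMap
import Groth.Agent.Lib.Helper17.ProjFormula
import Groth.Agent.Lib.Helper17.ExtZero

/-!
# K-flat complexes on a ringed site XVI: restriction to `C/U` preserves K-flatness (helper28)
-/

open CategoryTheory Limits HomologicalComplex

namespace Groth.Agent.Lib.Helper28.KFlatSite

open Groth.Agent.Lib.Helper17 Groth.Agent.Lib.Helper17.ExtZero

universe u

variable {C : Type u} [SmallCategory C] {J : GrothendieckTopology C} (O : Sheaf J CommRingCat.{u})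
  (U : C)

/-- the bifunctor `(P, N) ↦ P ⊗ N|_U` -/
noncomputable def tensorRestrBi :
    ModSite.Mod (O.over U) ⥤ ModSite.Mod O ⥤ ModSite.Mod (O.over U) :=
  ModSite.tensorBi (O.over U) ⋙ (Functor.whiskeringLeft _ _ _).obj (ModSite.restr O U)

instance : (tensorRestrBi O U).Additive := by
  unfold tensorRestrBi
  infer_instance

instance (P : ModSite.Mod (O.over U)) : ((tensorRestrBi O U).obj P).Additive :=
  inferInstanceAs (ModSite.restr O U ⋙ (ModSite.tensorBi (O.over U)).obj P).Additive

instance (F : CochainComplex (ModSite.Mod (O.over U)) ℤ) (K : CochainComplex (ModSite.Mod O) ℤ) :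
    HasMapBifunctor F K (tensorRestrBi O U) (ComplexShape.up ℤ) := fun _ => inferInstance

instance (J' : Type) : PreservesColimitsOfShape (Discrete J') (ModSite.extZero O U) :=
  (ModSite.extZeroAdj O U).leftAdjoint_preservesColimits.preservesColimitsOfShape

/-- `Tot(F ⊗ K|_U)` written with the bifunctor `(P, N) ↦ P ⊗ N|_U` -/
noncomputable def totRestrIso (F : CochainComplex (ModSite.Mod (O.over U)) ℤ)
    (K : CochainComplex (ModSite.Mod O) ℤ) :
    mapBifunctor F K (tensorRestrBi O U) (ComplexShape.up ℤ) ≅
      ((ModSite.tensorCx (O.over U)).obj F).obj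
        (((ModSite.restr O U).mapHomologicalComplex (ComplexShape.up ℤ)).obj K) :=
  Iso.refl _

/-- the projection formula for total complexes: `j_!(Tot(F ⊗ K|_U)) ≅ Tot(j_!F ⊗ K)` -/
noncomputable def extZeroTotIso (F : CochainComplex (ModSite.Mod (O.over U)) ℤ)
    (K : CochainComplex (ModSite.Mod O) ℤ) :
    ((ModSite.extZero O U).mapHomologicalComplex (ComplexShape.up ℤ)).obj
      (mapBifunctor F K (tensorRestrBi O U) (ComplexShape.up ℤ)) ≅
      mapBifunctor (((ModSite.extZero O U).mapHomologicalComplex (ComplexShape.up ℤ)).obj F)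
        (((𝟭 (ModSite.Mod O)).mapHomologicalComplex (ComplexShape.up ℤ)).obj K)
        (ModSite.tensorBi O) (ComplexShape.up ℤ) :=
  TotMap.mapTotIso (tensorRestrBi O U) (ModSite.tensorBi O) (ModSite.extZero O U)
    (𝟭 (ModSite.Mod O)) (ModSite.extZero O U)
    (fun P N => (ProjFormula.pf N U).app P) F K
    (fun {P P'} f N => (ProjFormula.pf N U).hom.naturality f)
    (fun P {N N'} g => congrArg (fun t => t.app P) (ProjFormula.pf_naturality g U))

/-- restriction to `C/U` preserves K-flatness -/
theorem isKFlat_restr (K : CochainComplex (ModSite.Mod O) ℤ) (hK : ModSite.IsKFlat K) :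
    ModSite.IsKFlat (((ModSite.restr O U).mapHomologicalComplex (ComplexShape.up ℤ)).obj K) := by
  intro F hF
  let G := ModSite.extZero O U
  let GF := (G.mapHomologicalComplex (ComplexShape.up ℤ)).obj F
  let X := mapBifunctor F K (tensorRestrBi O U) (ComplexShape.up ℤ)
  have hGF : ∀ i : ℤ, IsZero (GF.homology i) := by
    intro i
    have h := hF i
    rw [← HomologicalComplex.exactAt_iff_isZero_homology,
      HomologicalComplex.exactAt_iff' _ (i - 1) i (i + 1) (by simp) (by simp)] at h ⊢
    exact h.map G
  have h1 := hK GF hGF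
  have h2 : ∀ i : ℤ, IsZero ((mapBifunctor GF
      (((𝟭 (ModSite.Mod O)).mapHomologicalComplex (ComplexShape.up ℤ)).obj K)
      (ModSite.tensorBi O) (ComplexShape.up ℤ)).homology i) := by
    intro i
    refine (h1 i).of_iso ((HomologicalComplex.homologyFunctor _ _ i).mapIso
      (((ModSite.tensorCx O).obj GF).mapIso
        ((Functor.mapHomologicalComplexIdIso (ModSite.Mod O) (ComplexShape.up ℤ)).app K)))
  have h3 : ∀ i : ℤ, IsZero (((G.mapHomologicalComplex (ComplexShape.up ℤ)).obj X).homology i) := by
    intro i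
    exact (h2 i).of_iso ((HomologicalComplex.homologyFunctor _ _ i).mapIso
      (extZeroTotIso O U F K))
  intro i
  have h4 := h3 i
  change IsZero (X.homology i)
  rw [← HomologicalComplex.exactAt_iff_isZero_homology,
    HomologicalComplex.exactAt_iff' _ (i - 1) i (i + 1) (by simp) (by simp)] at h4 ⊢
  exact exact_of_exact_map_extZero O U _ h4

end Groth.Agent.Lib.Helper28.KFlatSite
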