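import Mathlib
import Groth.Prelude.Def_KFlatSite
import Groth.Agent.Lib.Helper28.KFlatSite5
import Groth.Agent.Lib.Helper28.KFlatAbs6

/-!
# K-flat complexes on a ringed site VI: factorization through a K-flat complex (helper28)
-/

open CategoryTheory Limits HomologicalComplex

namespace Groth.Agent.Lib.Helper28.KFlatSite

open Groth.Agent.Lib.Helper28.KFlatAbs Groth.Agent.Lib.Helper17

universe u

variable {C : Type u} [SmallCategory C] {J : GrothendieckTopology C} {O : Sheaf J CommRingCat.{u}}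

/-- a binary biproduct of flat modules is flat -/
theorem isFlat_biprod (X Y : ModSite.Mod O) (hX : ModSite.IsFlat X) (hY : ModSite.IsFlat Y) :
    ModSite.IsFlat (X ⊞ Y) :=
  FlatSES.isFlat_mid _ (ShortComplex.Splitting.ofHasBinaryBiproduct X Y).shortExact hX hY

/-- Factorization of a map out of a K-flat complex through a K-flat complex quasi-isomorphic to the
target. -/
theorem exists_kflat_factorization {K L : CochainComplex (ModSite.Mod O) ℤ} (a : K ⟶ L)
    (hK : ModSite.IsKFlat K) :
    ∃ (N : CochainComplex (ModSite.Mod O) ℤ) (b : K ⟶ N) (c : N ⟶ L), ModSite.IsKFlat N ∧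
      QuasiIso c ∧ Nonempty (Homotopy a (b ≫ c)) ∧
      ((∀ n : ℤ, ModSite.IsFlat (K.X n)) → ∀ n : ℤ, ModSite.IsFlat (N.X n)) := by
  obtain ⟨M, r, hM, hMfl, hr, _⟩ :=
    exists_kflat_resolution ((CochainComplex.mappingCone a)⟦(-1 : ℤ)⟧)
  obtain ⟨ψ, c, hc, hh⟩ := exists_factorization_of_resolution a M r hr
  refine ⟨CochainComplex.mappingCone ψ, CochainComplex.mappingCone.inr ψ, c, ?_, hc, hh, ?_⟩
  · rw [isKFlat_iff]
    exact (isKFlat_mappingCone ψ).1 ((isKFlat_iff M).1 hM) ((isKFlat_iff K).1 hK)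
  · intro hKfl n
    exact isFlat_of_iso (HomologicalComplex.homotopyCofiber.XIsoBiprod ψ n (n + 1) rfl).symm
      (isFlat_biprod _ _ (hMfl (n + 1)) (hKfl n))

end Groth.Agent.Lib.Helper28.KFlatSite
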