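import Mathlib
set_option autoImplicit false

universe v u

open CategoryTheory Limits

namespace Groth.Agent.Lib.Helper28.LocSplit

noncomputable section

variable {C : Type u} [Category.{v} C] [Abelian C]

/-- the exact sequence `K^i → Z^j → H^j → 0` -/
lemma exact_toCycles_homologyπ (K : CochainComplex C ℤ) (i j : ℤ) (hij : i + 1 = j) :
    (ShortComplex.mk (K.toCycles i j) (K.homologyπ j) (K.toCycles_comp_homologyπ i j)).Exact :=
  ShortComplex.exact_of_g_is_cokernel _ (K.homologyIsCokernel i j (by simp; omega))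

/-- **generalized inverse, one step down**: if `d^j` has a generalized inverse `s`, `K^j` is
projective and `H^j` is projective, then `d^{j-1}` has a generalized inverse `t`; if moreover
`H^j = 0`, then `(t, s)` is a contracting homotopy at `j`. -/
theorem exists_ginv (K : CochainComplex C ℤ) (i j k : ℤ) (hij : i + 1 = j) (hjk : j + 1 = k)
    [Projective (K.X j)] [Projective (K.homology j)]
    (s : K.X k ⟶ K.X j) (hs : K.d j k ≫ s ≫ K.d j k = K.d j k) :
    ∃ t : K.X j ⟶ K.X i, K.d i j ≫ t ≫ K.d i j = K.d i j ∧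
      (IsZero (K.homology j) → t ≫ K.d i j + K.d j k ≫ s = 𝟙 (K.X j)) := by
  let p : K.X j ⟶ K.cycles j := K.liftCycles (𝟙 _ - K.d j k ≫ s) k (by simp [hjk]) (by
    rw [Preadditive.sub_comp, Category.id_comp, Category.assoc, hs, sub_self])
  have hp : p ≫ K.iCycles j = 𝟙 _ - K.d j k ≫ s := K.liftCycles_i _ _ _ _
  have hp' : K.iCycles j ≫ p = 𝟙 _ := by
    rw [← cancel_mono (K.iCycles j), Category.assoc, hp, Preadditive.comp_sub, Category.comp_id,
      K.iCycles_d_assoc, zero_comp, sub_zero, Category.id_comp]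
  let σ : K.homology j ⟶ K.cycles j := Projective.factorThru (𝟙 _) (K.homologyπ j)
  have hσ : σ ≫ K.homologyπ j = 𝟙 _ := Projective.factorThru_comp _ _
  let w : K.X j ⟶ K.cycles j := p ≫ (𝟙 _ - K.homologyπ j ≫ σ)
  have hw : w ≫ K.homologyπ j = 0 := by
    simp only [w, Category.assoc, Preadditive.sub_comp, Category.id_comp, hσ, Category.comp_id,
      sub_self, comp_zero]
  have hex := exact_toCycles_homologyπ K i j hij
  let t : K.X j ⟶ K.X i := hex.liftFromProjective w hw
  have ht : t ≫ K.toCycles i j = w := hex.liftFromProjective_comp w hw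
  have ht' : t ≫ K.d i j = w ≫ K.iCycles j := by
    rw [← K.toCycles_i i j, ← Category.assoc, ht]
  refine ⟨t, ?_, fun hz => ?_⟩
  · rw [ht']
    simp only [w, Category.assoc]
    rw [← K.toCycles_i i j, Category.assoc, reassoc_of% hp', Preadditive.sub_comp,
      Category.id_comp, Preadditive.comp_sub, Category.assoc, K.toCycles_comp_homologyπ_assoc,
      zero_comp, sub_zero]
  · have h0 : K.homologyπ j ≫ σ = 0 := by
      rw [show σ = 0 from hz.eq_of_src _ _, comp_zero]
    rw [ht']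
    simp only [w, h0, sub_zero, Category.comp_id]
    rw [hp]
    abel

/-- in a bounded above complex of projectives with projective cohomology, every differential
has a generalized inverse -/
theorem exists_ginv_of_bounded (K : CochainComplex C ℤ) (b : ℤ) (hb : ∀ j, b < j → IsZero (K.X j))
    [∀ j, Projective (K.X j)] [∀ j, Projective (K.homology j)] (j k : ℤ) (hjk : j + 1 = k) :
    ∃ s : K.X k ⟶ K.X j, K.d j k ≫ s ≫ K.d j k = K.d j k := by
  have key : ∀ (n : ℕ) (j k : ℤ) (hjk : j + 1 = k), b ≤ j + n →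
      ∃ s : K.X k ⟶ K.X j, K.d j k ≫ s ≫ K.d j k = K.d j k := by
    intro n
    induction n with
    | zero =>
      intro j k hjk hj
      have hz : IsZero (K.X k) := hb k (by push_cast at hj; omega)
      exact ⟨0, by rw [zero_comp, comp_zero]; exact (hz.eq_of_tgt _ _)⟩
    | succ n ih =>
      intro j k hjk hj
      obtain ⟨s, hs⟩ := ih k (k + 1) rfl (by push_cast at hj ⊢; omega)
      obtain ⟨t, ht, -⟩ := exists_ginv K j k (k + 1) hjk rfl s hs
      exact ⟨t, ht⟩
  exact key (b - j).toNat j k hjk (by omega)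

/-- contracting homotopy at a place of vanishing cohomology -/
theorem exists_contracting_of_bounded (K : CochainComplex C ℤ) (b : ℤ)
    (hb : ∀ j, b < j → IsZero (K.X j))
    [∀ j, Projective (K.X j)] [∀ j, Projective (K.homology j)] (i j k : ℤ) (hij : i + 1 = j)
    (hjk : j + 1 = k) (hz : IsZero (K.homology j)) :
    ∃ (s : K.X j ⟶ K.X i) (t : K.X k ⟶ K.X j), s ≫ K.d i j + K.d j k ≫ t = 𝟙 (K.X j) := by
  obtain ⟨s, hs⟩ := exists_ginv_of_bounded K b hb j k hjk
  obtain ⟨t, -, ht⟩ := exists_ginv K i j k hij hjk s hs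
  exact ⟨t, s, ht hz⟩

/-! ### The cohomology as a retract -/

section Retract

/-- the projection `K^j → H^j` -/
def retρ (K : CochainComplex C ℤ) (j k : ℤ) (hjk : j + 1 = k)
    (s : K.X k ⟶ K.X j) (hs : K.d j k ≫ s ≫ K.d j k = K.d j k) : K.X j ⟶ K.homology j :=
  K.liftCycles (𝟙 _ - K.d j k ≫ s) k (by simp; omega) (by
    rw [Preadditive.sub_comp, Category.id_comp, Category.assoc, hs, sub_self]) ≫ K.homologyπ j

/-- the inclusion `H^j → K^j` -/
def retι (K : CochainComplex C ℤ) (i j : ℤ) (hij : i + 1 = j)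
    (t : K.X j ⟶ K.X i) (ht : K.d i j ≫ t ≫ K.d i j = K.d i j) : K.homology j ⟶ K.X j :=
  (K.homologyIsCokernel i j (by simp; omega)).desc
    (CokernelCofork.ofπ (K.iCycles j ≫ (𝟙 _ - t ≫ K.d i j)) (by
      rw [K.toCycles_i_assoc, Preadditive.comp_sub, Category.comp_id, ht, sub_self]))

variable (K : CochainComplex C ℤ) (i j k : ℤ) (hij : i + 1 = j) (hjk : j + 1 = k)
  (s : K.X k ⟶ K.X j) (hs : K.d j k ≫ s ≫ K.d j k = K.d j k)
  (t : K.X j ⟶ K.X i) (ht : K.d i j ≫ t ≫ K.d i j = K.d i j)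

lemma π_retι : K.homologyπ j ≫ retι K i j hij t ht = K.iCycles j ≫ (𝟙 _ - t ≫ K.d i j) :=
  (K.homologyIsCokernel i j (by simp; omega)).fac _ WalkingParallelPair.one

lemma retρ_retι : retρ K j k hjk s hs ≫ retι K i j hij t ht =
    (𝟙 _ - K.d j k ≫ s) ≫ (𝟙 _ - t ≫ K.d i j) := by
  rw [retρ, Category.assoc, π_retι, K.liftCycles_i_assoc]

lemma retι_retρ : retι K i j hij t ht ≫ retρ K j k hjk s hs = 𝟙 _ := by
  rw [← cancel_epi (K.homologyπ j), reassoc_of% (π_retι K i j hij t ht), Category.comp_id, retρ]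
  have h1 : (K.iCycles j ≫ (𝟙 _ - t ≫ K.d i j)) ≫ K.liftCycles (𝟙 _ - K.d j k ≫ s) k
      (by simp; omega) (by
        rw [Preadditive.sub_comp, Category.id_comp, Category.assoc, hs, sub_self]) =
      𝟙 _ - (K.iCycles j ≫ t) ≫ K.toCycles i j := by
    rw [← cancel_mono (K.iCycles j), Category.assoc, K.liftCycles_i]
    simp only [Preadditive.sub_comp, Preadditive.comp_sub, Category.id_comp, Category.comp_id,
      Category.assoc, K.toCycles_i, K.d_comp_d_assoc, zero_comp, comp_zero, sub_zero,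
      K.iCycles_d_assoc]
  rw [← Category.assoc, ← Category.assoc, h1, Preadditive.sub_comp, Category.id_comp,
    Category.assoc, K.toCycles_comp_homologyπ, comp_zero, sub_zero]

end Retract

/-- two splittings of the same idempotent are isomorphic -/
def isoOfSplittings {D : Type*} [Category D] {X A B : D} (ιA : A ⟶ X) (ρA : X ⟶ A)
    (ιB : B ⟶ X) (ρB : X ⟶ B) (hA : ιA ≫ ρA = 𝟙 A) (hB : ιB ≫ ρB = 𝟙 B)
    (h : ρA ≫ ιA = ρB ≫ ιB) : A ≅ B where
  hom := ιA ≫ ρB
  inv := ιB ≫ ρA
  hom_inv_id := by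
    rw [Category.assoc, ← Category.assoc ρB, ← h, Category.assoc, hA, Category.comp_id, hA]
  inv_hom_id := by
    rw [Category.assoc, ← Category.assoc ρA, h, Category.assoc, hB, Category.comp_id, hB]

/-- **the cohomology at a split place commutes with every additive functor** -/
theorem nonempty_map_homology_iso {D : Type*} [Category D] [Abelian D] (Φ : C ⥤ D) [Φ.Additive]
    (K : CochainComplex C ℤ) (i j k : ℤ) (hij : i + 1 = j) (hjk : j + 1 = k)
    (s : K.X k ⟶ K.X j) (hs : K.d j k ≫ s ≫ K.d j k = K.d j k)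
    (t : K.X j ⟶ K.X i) (ht : K.d i j ≫ t ≫ K.d i j = K.d i j) :
    Nonempty (((Φ.mapHomologicalComplex (ComplexShape.up ℤ)).obj K).homology j ≅
      Φ.obj (K.homology j)) := by
  let K' := (Φ.mapHomologicalComplex (ComplexShape.up ℤ)).obj K
  have hs' : K'.d j k ≫ Φ.map s ≫ K'.d j k = K'.d j k := by
    show Φ.map (K.d j k) ≫ Φ.map s ≫ Φ.map (K.d j k) = Φ.map (K.d j k)
    rw [← Φ.map_comp, ← Φ.map_comp, hs]
  have ht' : K'.d i j ≫ Φ.map t ≫ K'.d i j = K'.d i j := by
    show Φ.map (K.d i j) ≫ Φ.map t ≫ Φ.map (K.d i j) = Φ.map (K.d i j)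
    rw [← Φ.map_comp, ← Φ.map_comp, ht]
  refine ⟨isoOfSplittings (retι K' i j hij (Φ.map t) ht') (retρ K' j k hjk (Φ.map s) hs')
    (Φ.map (retι K i j hij t ht)) (Φ.map (retρ K j k hjk s hs))
    (retι_retρ K' i j k hij hjk _ hs' _ ht') ?_ ?_⟩
  · exact (Φ.map_comp _ _).symm.trans (by rw [retι_retρ, Φ.map_id])
  · refine (retρ_retι K' i j k hij hjk _ hs' _ ht').trans ?_
    refine Eq.trans ?_ ((Φ.map_comp _ _).symm.trans
      (congrArg Φ.map (retρ_retι K i j k hij hjk s hs t ht))).symm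
    simp only [Φ.map_comp, Φ.map_sub, Φ.map_id]
    rfl

end

end Groth.Agent.Lib.Helper28.LocSplit
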