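import Mathlib
import Groth.Agent.Lib.Helper28.LocSplit1
import Groth.Agent.Lib.Helper13.DRingLocalSplit
import Groth.Agent.Lib.Helper13.FFlatTor
set_option autoImplicit false

universe u

open CategoryTheory Limits

namespace Groth.Agent.Lib.Helper28.LocSplit

noncomputable section

open Groth.Agent.Lib.Helper13 Groth.Agent.Lib.Helper13.DR Groth.Agent.Lib.Helper13.PC

variable {R S : Type u} [CommRing R] [CommRing S] [IsLocalRing R] [IsLocalRing S]
  (φ : R →+* S) [IsLocalHom φ]

/-- a contracting homotopy of `G ⊗_R S` at `j` forces exactness of `G ⊗_R κ(R)` at `j` -/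
theorem exactAt_residue_of_contracting (G : DRing.Cx R) (i j k : ℤ) (hij : i + 1 = j)
    (hjk : j + 1 = k) (s : ((DTen.extCx φ).obj G).X j ⟶ ((DTen.extCx φ).obj G).X i)
    (t : ((DTen.extCx φ).obj G).X k ⟶ ((DTen.extCx φ).obj G).X j)
    (hst : s ≫ ((DTen.extCx φ).obj G).d i j + ((DTen.extCx φ).obj G).d j k ≫ t = 𝟙 _) :
    ((DTen.extCx (IsLocalRing.residue R)).obj G).ExactAt j := by
  let ψ := IsLocalRing.residue S
  let χ := IsLocalRing.ResidueField.map φ
  let ρ := IsLocalRing.residue R
  have h1 : ((DTen.extCx ψ).obj ((DTen.extCx φ).obj G)).ExactAt j :=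
    exactAt_map_of_contracting (ModuleCat.extendScalars.{u, u, u} ψ) _ i j k hij hjk s t hst
  have h2 : ((DTen.extCx (ψ.comp φ)).obj G).ExactAt j := by
    let e := (NatIso.mapHomologicalComplex (ModuleCat.extendScalarsComp.{u} φ ψ)
      (ComplexShape.up ℤ)).app G
    rw [HomologicalComplex.exactAt_iff_isZero_homology] at h1 ⊢
    exact h1.of_iso ((HomologicalComplex.homologyFunctor _ _ j).mapIso e)
  have h3 : ((DTen.extCx (χ.comp ρ)).obj G).ExactAt j := h2
  have h4 : ((DTen.extCx χ).obj ((DTen.extCx ρ).obj G)).ExactAt j := by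
    let e := (NatIso.mapHomologicalComplex (ModuleCat.extendScalarsComp.{u} ρ χ)
      (ComplexShape.up ℤ)).app G
    rw [HomologicalComplex.exactAt_iff_isZero_homology] at h3 ⊢
    exact h3.of_iso ((HomologicalComplex.homologyFunctor _ _ j).mapIso e.symm)
  letI : Algebra (IsLocalRing.ResidueField R) (IsLocalRing.ResidueField S) := χ.toAlgebra
  haveI : Module.FaithfullyFlat (IsLocalRing.ResidueField R) (IsLocalRing.ResidueField S) :=
    inferInstance
  rw [HomologicalComplex.exactAt_iff_isZero_homology] at h4 ⊢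
  have h5 := h4.of_iso (extendCxHomologyIso (IsLocalRing.ResidueField R)
    (IsLocalRing.ResidueField S) ((DTen.extCx ρ).obj G) j).symm
  exact (Groth.Agent.Lib.Helper13.DV.isZero_extendScalars_iff (IsLocalRing.ResidueField R) (IsLocalRing.ResidueField S) _).1 h5

lemma projective_of_isZero {C : Type*} [Category C] [HasZeroMorphisms C] {X : C} (h : IsZero X) :
    Projective X :=
  ⟨fun {E Y} f e _ => ⟨0, h.eq_of_src _ _⟩⟩

/-- **Local splitting lemma.** Let `R → S` be a local homomorphism of local rings and `G` a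
bounded above complex of finite free `R`-modules.  If `G ⊗_R S` has cohomology only in degree `i`,
and this cohomology is projective, then `G` has cohomology only in degree `i`, this cohomology is
finite free, and its base change to `S` is the cohomology of `G ⊗_R S`. -/
theorem local_split (G : DRing.Cx R) (b : ℤ) (hb : ∀ j, b < j → IsZero (G.X j))
    (hff : ∀ j, Module.Finite R (G.X j) ∧ Module.Free R (G.X j)) (i : ℤ)
    (h0 : ∀ j, j ≠ i → IsZero (((DTen.extCx φ).obj G).homology j))
    (hi : Module.Projective S (((DTen.extCx φ).obj G).homology i)) :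
    (∀ j, j ≠ i → IsZero (G.homology j)) ∧ Module.Finite R (G.homology i) ∧
      Module.Free R (G.homology i) ∧
      Nonempty (((DTen.extCx φ).obj G).homology i ≅
        (ModuleCat.extendScalars.{u, u, u} φ).obj (G.homology i)) := by
  letI : Algebra R S := φ.toAlgebra
  let GS := (DTen.extCx φ).obj G
  have hbS : ∀ j, b < j → IsZero (GS.X j) := fun j hj =>
    (ModuleCat.extendScalars.{u, u, u} φ).map_isZero (hb j hj)
  haveI : ∀ j, Projective (GS.X j) := fun j => by
    have h1 : Module.Projective S ((ModuleCat.extendScalars.{u, u, u} (algebraMap R S)).obj (G.X j)) :=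
      (Pfp_extendScalars S (Pff_le_Pfp (hff j))).2
    exact ModuleCat.projective_of_categoryTheory_projective (P := (ModuleCat.extendScalars.{u, u, u} (algebraMap R S)).obj (G.X j))
  haveI : ∀ j, Projective (GS.homology j) := fun j => by
    by_cases hj : j = i
    · subst hj
      exact ModuleCat.projective_of_categoryTheory_projective (P := ((DTen.extCx φ).obj G).homology j)
    · exact projective_of_isZero (h0 j hj)
  -- contracting homotopies of `G` away from `i`
  have hc : ∀ (i' j k : ℤ) (_ : i' + 1 = j) (_ : j + 1 = k), j ≠ i →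
      ∃ (s : G.X j ⟶ G.X i') (t : G.X k ⟶ G.X j),
      s ≫ G.d i' j + G.d j k ≫ t = 𝟙 (G.X j) := by
    intro i' j k hij hjk hj
    obtain ⟨s, t, hst⟩ := exists_contracting_of_bounded GS b hbS i' j k hij hjk (h0 j hj)
    have h1 := exactAt_residue_of_contracting φ G i' j k hij hjk s t hst
    exact exists_contracting_of_exactAt_residue R G i' j k hij hjk
      (Pff_le_Pfp (hff j)) (hff k) h1
  refine ⟨fun j hj => ?_, ?_⟩
  · obtain ⟨s, t, hst⟩ := hc (j - 1) j (j + 1) (by ring) rfl hj
    rw [← HomologicalComplex.exactAt_iff_isZero_homology]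
    exact exactAt_of_contracting G (j - 1) j (j + 1) (by ring) rfl s t hst
  · obtain ⟨s₁, t₁, h₁⟩ := hc i (i + 1) (i + 2) rfl (by ring) (by omega)
    obtain ⟨s₀, t₀, h₀⟩ := hc (i - 2) (i - 1) i (by ring) (by ring) (by omega)
    have hs₁ : G.d i (i + 1) ≫ s₁ ≫ G.d i (i + 1) = G.d i (i + 1) := by
      have : s₁ ≫ G.d i (i + 1) = 𝟙 _ - G.d (i + 1) (i + 2) ≫ t₁ := eq_sub_of_add_eq h₁
      rw [this, Preadditive.comp_sub, Category.comp_id, G.d_comp_d_assoc, zero_comp, sub_zero]
    have ht₀ : G.d (i - 1) i ≫ t₀ ≫ G.d (i - 1) i = G.d (i - 1) i := by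
      have : G.d (i - 1) i ≫ t₀ = 𝟙 _ - s₀ ≫ G.d (i - 2) (i - 1) := eq_sub_of_add_eq' h₀
      rw [← Category.assoc, this, Preadditive.sub_comp, Category.id_comp, Category.assoc,
        G.d_comp_d, comp_zero, sub_zero]
    let ι := retι G (i - 1) i (by ring) t₀ ht₀
    let ρ := retρ G i (i + 1) rfl s₁ hs₁
    have hιρ : ι ≫ ρ = 𝟙 _ := retι_retρ G (i - 1) i (i + 1) (by ring) rfl s₁ hs₁ t₀ ht₀
    have hιρ' : ρ.hom ∘ₗ ι.hom = LinearMap.id := by
      rw [← ModuleCat.hom_comp, hιρ]; rfl
    haveI := (hff i).1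
    haveI := (hff i).2
    have hfin : Module.Finite R (G.homology i) :=
      Module.Finite.of_surjective ρ.hom (fun y => ⟨ι.hom y, LinearMap.congr_fun hιρ' y⟩)
    have hproj : Module.Projective R (G.homology i) :=
      Module.Projective.of_split ι.hom ρ.hom hιρ'
    refine ⟨hfin, Module.free_of_flat_of_isLocalRing, ?_⟩
    exact nonempty_map_homology_iso (ModuleCat.extendScalars.{u, u, u} φ) G (i - 1) i (i + 1)
      (by ring) rfl s₁ hs₁ t₀ ht₀

end

end Groth.Agent.Lib.Helper28.LocSplit
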