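import Mathlib
import Groth.Agent.Lib.Helper28.LocSplit2
import Groth.Agent.Lib.Helper13.DRingGlobalSplit
import Groth.Agent.Lib.Helper28.Betti1
set_option autoImplicit false

universe u

open CategoryTheory Limits

namespace Groth.Agent.Lib.Helper28.KL

noncomputable section

open Groth.Agent.Lib.Helper13 Groth.Agent.Lib.Helper13.DR Groth.Agent.Lib.Helper13.PC
open Groth.Agent.Lib.Helper28.LocSplit

/-- a contracting homotopy at `j` makes the opcycles a retract of the term -/
lemma exists_retract_opcycles {C : Type*} [Category C] [Abelian C] (K : CochainComplex C ℤ)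
    (i j k : ℤ) (hij : i + 1 = j) (_hjk : j + 1 = k)
    (s : K.X j ⟶ K.X i) (t : K.X k ⟶ K.X j) (hst : s ≫ K.d i j + K.d j k ≫ t = 𝟙 (K.X j)) :
    ∃ σ : K.opcycles j ⟶ K.X j, σ ≫ K.pOpcycles j = 𝟙 _ := by
  have h0 : K.d i j ≫ K.d j k ≫ t = 0 := by rw [K.d_comp_d_assoc, zero_comp]
  refine ⟨K.descOpcycles (K.d j k ≫ t) i (by simp; omega) h0, ?_⟩
  rw [← cancel_epi (K.pOpcycles j), K.p_descOpcycles_assoc, Category.comp_id]
  have h1 : K.d j k ≫ t = 𝟙 _ - s ≫ K.d i j := eq_sub_of_add_eq' hst
  rw [h1, Preadditive.sub_comp, Category.id_comp, Category.assoc, K.d_pOpcycles, comp_zero,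
    sub_zero]

variable {A : Type u} [CommRing A]

/-- the local step: contracting homotopy over the localization -/
theorem exists_contracting_localization (M : DRing.Cx A) (b : ℤ)
    (hb : ∀ j, b < j → IsZero (M.X j)) (hff : ∀ j, Pff A (M.X j)) (i j k : ℤ) (hij : i + 1 = j)
    (hjk : j + 1 = k) (𝔮 : Ideal A) [𝔮.IsPrime] {K : Type u} [Field K] (ψ : A →+* K)
    (hker : RingHom.ker ψ = 𝔮) (hex : ((DTen.extCx ψ).obj M).ExactAt j) :
    ∃ (s : ((DTen.extCx (algebraMap A (Localization.AtPrime 𝔮))).obj M).X j ⟶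
          ((DTen.extCx (algebraMap A (Localization.AtPrime 𝔮))).obj M).X i)
      (t : ((DTen.extCx (algebraMap A (Localization.AtPrime 𝔮))).obj M).X k ⟶
          ((DTen.extCx (algebraMap A (Localization.AtPrime 𝔮))).obj M).X j),
      s ≫ ((DTen.extCx (algebraMap A (Localization.AtPrime 𝔮))).obj M).d i j +
        ((DTen.extCx (algebraMap A (Localization.AtPrime 𝔮))).obj M).d j k ≫ t = 𝟙 _ := by
  let R := Localization.AtPrime 𝔮
  let φ : A →+* R := algebraMap A R
  let G := (DTen.extCx φ).obj M
  have hunit : ∀ y : 𝔮.primeCompl, IsUnit (ψ y) := by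
    intro y
    rw [isUnit_iff_ne_zero]
    intro h0
    have : (y : A) ∈ RingHom.ker ψ := h0
    rw [hker] at this
    exact y.2 this
  let χ : R →+* K := IsLocalization.lift (M := 𝔮.primeCompl) (g := ψ) hunit
  have hχ : χ.comp φ = ψ := IsLocalization.lift_comp _
  haveI : IsLocalHom χ := by
    constructor
    intro a ha
    by_contra hna
    have hmem : a ∈ IsLocalRing.maximalIdeal R := (IsLocalRing.mem_maximalIdeal a).2 hna
    obtain ⟨x, s, rfl⟩ := IsLocalization.exists_mk'_eq 𝔮.primeCompl a
    rw [IsLocalization.AtPrime.mk'_mem_maximal_iff R 𝔮 x s] at hmem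
    have hx0 : ψ x = 0 := by
      have : x ∈ RingHom.ker ψ := by rw [hker]; exact hmem
      exact this
    have : χ (IsLocalization.mk' R x s) = 0 := by
      rw [IsLocalization.lift_mk', hx0, zero_mul]
    rw [this] at ha
    exact not_isUnit_zero ha
  let GK := (DTen.extCx χ).obj G
  have hGK : GK.ExactAt j :=
    exactAt_extendScalars_comp φ χ ψ (RingHom.id K) (by rw [hχ]; rfl) (RingHom.Flat.id K) M j hex
  have hbK : ∀ j, b < j → IsZero (GK.X j) := fun j hj =>
    (ModuleCat.extendScalars.{u, u, u} χ).map_isZero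
      ((ModuleCat.extendScalars.{u, u, u} φ).map_isZero (hb j hj))
  haveI : ∀ j, Projective (GK.X j) := fun j => by
    haveI : Module.Projective K (GK.X j) := Module.Projective.of_free
    exact ModuleCat.projective_of_categoryTheory_projective (P := GK.X j)
  haveI : ∀ j, Projective (GK.homology j) := fun j => by
    haveI : Module.Projective K (GK.homology j) := Module.Projective.of_free
    exact ModuleCat.projective_of_categoryTheory_projective (P := GK.homology j)
  obtain ⟨s, t, hst⟩ := exists_contracting_of_bounded GK b hbK i j k hij hjk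
    ((HomologicalComplex.exactAt_iff_isZero_homology _ _).1 hGK)
  have h1 := exactAt_residue_of_contracting χ G i j k hij hjk s t hst
  have hffG : ∀ j, Pff R (G.X j) := fun j => Pff_extendScalars R (hff j)
  exact exists_contracting_of_exactAt_residue R G i j k hij hjk (Pff_le_Pfp (hffG j)) (hffG k) h1

open TensorProduct in
/-- **Ring-level flatness of the cokernel.** If for every maximal ideal the reduction of `M` to
some field with that kernel is exact at `j`, then `M.opcycles j = coker (d : M^i → M^j)` is flat. -/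
theorem flat_opcycles (M : DRing.Cx A) (b : ℤ)
    (hb : ∀ j, b < j → IsZero (M.X j)) (hff : ∀ j, Pff A (M.X j)) (i j k : ℤ) (hij : i + 1 = j)
    (hjk : j + 1 = k)
    (h : ∀ (𝔮 : Ideal A) [𝔮.IsMaximal], ∃ (K : Type u) (_ : Field K) (ψ : A →+* K),
      RingHom.ker ψ = 𝔮 ∧ ((DTen.extCx ψ).obj M).ExactAt j) :
    Module.Flat A (M.opcycles j) := by
  refine Module.flat_of_isLocalized_maximal A (M.opcycles j)
    (fun P _ => Localization.AtPrime P ⊗[A] (M.opcycles j))
    (fun P _ => TensorProduct.mk A (Localization.AtPrime P) (M.opcycles j) 1) (fun P hP => ?_)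
  obtain ⟨K, _, ψ, hker, hex⟩ := h P
  let R := Localization.AtPrime P
  let φ : A →+* R := algebraMap A R
  let G := (DTen.extCx φ).obj M
  obtain ⟨s, t, hst⟩ := exists_contracting_localization M b hb hff i j k hij hjk P ψ hker hex
  obtain ⟨σ, hσ⟩ := exists_retract_opcycles G i j k hij hjk s t hst
  have hσ' : (G.pOpcycles j).hom ∘ₗ σ.hom = LinearMap.id := by
    rw [← ModuleCat.hom_comp, hσ]; rfl
  haveI hGp : Module.Projective R (G.X j) := (Pff_le_Pfp (Pff_extendScalars R (hff j))).2
  have hproj : Module.Projective R (G.opcycles j) :=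
    Module.Projective.of_split σ.hom (G.pOpcycles j).hom hσ'
  have hφ : φ.Flat := by
    rw [RingHom.flat_algebraMap_iff]
    infer_instance
  haveI : PreservesFiniteLimits (ModuleCat.extendScalars.{u, u, u} φ) :=
    ModuleCat.preservesFiniteLimits_extendScalars_of_flat hφ
  haveI : PreservesFiniteColimits (ModuleCat.extendScalars.{u, u, u} φ) := by
    have : PreservesColimitsOfSize.{0, 0} (ModuleCat.extendScalars.{u, u, u} φ) :=
      (ModuleCat.extendRestrictScalarsAdj φ).leftAdjoint_preservesColimits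
    exact ⟨fun _ _ _ => inferInstance⟩
  let e1 : G.opcycles j ≅ (ModuleCat.extendScalars.{u, u, u} φ).obj (M.opcycles j) :=
    (M.sc j).mapOpcyclesIso (ModuleCat.extendScalars.{u, u, u} φ)
  let e2 := extendScalarsEquiv R (M.opcycles j)
  haveI : Module.Projective R (R ⊗[A] (M.opcycles j)) :=
    Module.Projective.of_equiv (e1.toLinearEquiv ≪≫ₗ e2)
  haveI : Module.Flat R (R ⊗[A] (M.opcycles j)) := Module.Flat.of_projective
  exact Module.Flat.trans A R _

end

end Groth.Agent.Lib.Helper28.KL
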