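import Mathlib
import Groth.Agent.Lib.Helper28.Betti2
import Groth.Agent.Lib.Helper28.DCohRes23
import Groth.Agent.Lib.Helper28.KL1
set_option autoImplicit false

universe u

open CategoryTheory Limits AlgebraicGeometry Functor Opposite

attribute [local instance] HasDerivedCategory.standard

namespace Groth.Agent.Lib.Helper28.KL

open Groth.Agent.Lib.Helper28.StalkTensor Groth.Agent.Lib.Helper28.DCohRes
  Groth.Agent.Lib.Helper28.Lpull Groth.Agent.Lib.Helper28.DCohTilde Groth.Agent.Lib.Helper29.QCoh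
  Groth.Agent.Lib.Helper28.Betti

noncomputable section

variable {X : Scheme.{u}}

/-- **Lemma T** (derived truncation): if `α : P ⟶ K` is an isomorphism on `H^i` for `i ≥ a`, an
epimorphism on `H^{a-1}`, and `K` has no cohomology below `a`, then `K ≅ τ_{≥ a} P`. -/
theorem nonempty_iso_truncGE_D {P : CochainComplex X.Modules ℤ} {K : DCoh.D X} (a : ℤ)
    (α : DerivedCategory.Q.obj P ⟶ K) (hα : IsApprox (a - 1) α)
    (hK : ∀ i, i < a → IsZero (DCoh.HD K i)) :
    Nonempty (K ≅ DerivedCategory.Q.obj (P.truncGE a)) := by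
  let L := DerivedCategory.Q.objPreimage K
  let e : DerivedCategory.Q.obj L ≅ K := DerivedCategory.Q.objObjPreimageIso K
  obtain ⟨L', g, s, hs, fac⟩ := DerivedCategory.left_fac (α ≫ e.inv)
  let e' : K ≅ DerivedCategory.Q.obj L' := e.symm ≪≫ asIso (DerivedCategory.Q.map s)
  have hg : DerivedCategory.Q.map g = α ≫ e'.hom := by
    have : DerivedCategory.Q.map g = (α ≫ e.inv) ≫ DerivedCategory.Q.map s := by
      rw [fac, Category.assoc, IsIso.inv_hom_id, Category.comp_id]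
    rw [this, Category.assoc]
    rfl
  have hg' : IsApprox (a - 1) (DerivedCategory.Q.map g) := by
    rw [hg]
    exact hα.comp_iso e'
  have hL' : ∀ i, i < a → L'.ExactAt i := by
    intro i hi
    rw [HomologicalComplex.exactAt_iff_isZero_homology]
    exact (hK i hi).of_iso (((DerivedCategory.homologyFunctorFactors _ i).app L').symm ≪≫
      (DerivedCategory.homologyFunctor _ i).mapIso e'.symm)
  obtain ⟨e''⟩ := nonempty_iso_truncGE a g hg' hL'
  exact ⟨e' ≪≫ e''⟩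

/-- derived pullbacks exist -/
local instance hasLpull'' {Y Z : Scheme.{u}} (f : Y ⟶ Z) : DCoh.HasLpull f := hasLpull f

/-- a local model by a bounded complex of finite free modules over an affine open inside a given
open neighbourhood -/
theorem exists_local_model' (K : DCoh.D X) (x₀ : X) (V₀ : X.Opens) (hx₀ : x₀ ∈ V₀)
    (Ω : X.Opens) (hxΩ : x₀ ∈ Ω)
    (G : CochainComplex X.Modules ℤ) (hG : DCoh.IsKFlat G) (eG : DCoh.toD X G ≅ K)
    (E₀ : CochainComplex (V₀ : Scheme.{u}).Modules ℤ) (hE₀ : DCoh.IsStrictlyPerfect E₀)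
    (α : DerivedCategory.Q.obj E₀ ⟶ DerivedCategory.Q.obj ((DCoh.restrictCx V₀).obj G)) :
    ∃ (V : X.Opens) (hV : IsAffineOpen V) (_ : x₀ ∈ V) (_ : V ≤ Ω)
      (M : CochainComplex (ModuleCat.{u} Γ(X, V)) ℤ)
      (_ : ∀ i, Module.Finite Γ(X, V) (M.X i)) (_ : ∀ i, Module.Free Γ(X, V) (M.X i))
      (a b : ℤ) (_ : ∀ i : ℤ, (i < a ∨ b < i) → IsZero (M.X i))
      (_ : DCoh.IsKFlat
        (((tilde.functor Γ(X, V)).mapHomologicalComplex (ComplexShape.up ℤ)).obj M))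
      (α' : DerivedCategory.Q.obj
        (((tilde.functor Γ(X, V)).mapHomologicalComplex (ComplexShape.up ℤ)).obj M) ⟶
        (DCoh.Lpull hV.fromSpec).obj K),
      ∀ m : ℤ, IsApprox m α → IsApprox m α' := by
  obtain ⟨W, hxW, hW⟩ := exists_free_nbhd hE₀ ⟨x₀, hx₀⟩
  have hx' : x₀ ∈ V₀.ι ''ᵁ W ⊓ Ω := ⟨⟨⟨x₀, hx₀⟩, hxW, rfl⟩, hxΩ⟩
  obtain ⟨V, hV, hxV, hVW'⟩ :=
    exists_isAffineOpen_mem_and_subset (x := x₀) (U := V₀.ι ''ᵁ W ⊓ Ω) hx'
  have hVW : (V : Set X) ⊆ V₀.ι ''ᵁ W := fun y hy => (hVW' hy).1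
  have hVΩ : V ≤ Ω := fun y hy => (hVW' hy).2
  have hr : Set.range hV.fromSpec.base ⊆ Set.range V₀.ι.base := by
    rw [hV.range_fromSpec, Scheme.Opens.range_ι]
    intro y hy
    obtain ⟨z, -, rfl⟩ := hVW hy
    exact z.2
  let k : Spec Γ(X, V) ⟶ V₀ := IsOpenImmersion.lift V₀.ι hV.fromSpec hr
  have hk : k ≫ V₀.ι = hV.fromSpec := IsOpenImmersion.lift_fac _ _ _
  haveI : IsOpenImmersion (k ≫ V₀.ι) := by rw [hk]; infer_instance
  haveI : IsOpenImmersion k := IsOpenImmersion.of_comp k V₀.ι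
  have hkW : Set.range k.base ⊆ Set.range W.ι.base := by
    rintro _ ⟨z, rfl⟩
    rw [Scheme.Opens.range_ι]
    have h1 : hV.fromSpec.base z ∈ (V : Set X) := by
      rw [← hV.range_fromSpec]
      exact ⟨z, rfl⟩
    obtain ⟨w, hw, hw'⟩ := hVW h1
    have h2 : V₀.ι.base (k.base z) = hV.fromSpec.base z := by
      rw [← hk]
      rfl
    have h3 : w = k.base z := V₀.ι.isOpenEmbedding.injective (hw'.trans h2.symm)
    exact h3 ▸ hw
  have hE₀' := hE₀
  obtain ⟨⟨a, b, hab⟩, -⟩ := hE₀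
  have hfree : ∀ i : ℤ, ∃ n : ℕ, Nonempty (((resCx k).obj E₀).X i ≅
      (tilde.functor Γ(X, V)).obj (ModuleCat.of Γ(X, V) (ULift.{u} (Fin n) →₀ Γ(X, V)))) := by
    intro i
    obtain ⟨n, hn⟩ := hW i
    have h1 := (isFreeAlong_iff_restrict _ _ _).1 (hn.of_range_subset k hkW)
    obtain ⟨e⟩ := h1
    exact ⟨n, ⟨e ≪≫ freeModIso _ n ≪≫ (tildeFinsupp _).symm⟩⟩
  choose n hn using hfree
  obtain ⟨M, hMX, ⟨eM⟩⟩ := exists_mapHomologicalComplex_iso (tilde.functor Γ(X, V))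
    ((resCx k).obj E₀) (fun i => ModuleCat.of Γ(X, V) (ULift.{u} (Fin (n i)) →₀ Γ(X, V)))
    (fun i => (hn i).some)
  obtain ⟨α₁, hα₁⟩ := exists_approx_comp K V₀ G hG eG E₀ α hV.fromSpec k hk
  refine ⟨V, hV, hxV, hVΩ, M, fun i => ?_, fun i => ?_, a, b, fun i hi => ?_, ?_,
    DerivedCategory.Q.map eM.inv ≫ α₁, fun m hm => ?_⟩
  · rw [hMX i]
    infer_instance
  · rw [hMX i]
    infer_instance
  · haveI : PreservesFiniteLimits (tilde.functor Γ(X, V)) :=
      Groth.Agent.Lib.Helper17.KProjAff.preservesFiniteLimits_tilde _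
    have h1 : IsZero (((resCx k).obj E₀).X i) :=
      (Scheme.Modules.restrictFunctor k).map_isZero (hab i hi)
    exact isZero_of_isZero_tilde _
      (h1.of_iso ((HomologicalComplex.eval _ _ i).mapIso eM).symm)
  · exact isKFlat_of_iso eM (isKFlat_of_isStrictlyPerfect _ (isStrictlyPerfect_resCx k hE₀'))
  · exact (hα₁ m hm).iso_comp (DerivedCategory.Q.mapIso eM.symm)

lemma isZero_HD_resD_of_fac {U W : Scheme.{u}} (j : U ⟶ X) (w : W ⟶ X) (k : U ⟶ W)
    [IsOpenImmersion j] [IsOpenImmersion w] [IsOpenImmersion k] (hk : k ≫ w = j) (K : DCoh.D X)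
    (i : ℤ) (h : IsZero (DCoh.HD ((resD w).obj K) i)) : IsZero (DCoh.HD ((resD j).obj K) i) := by
  subst hk
  have h1 : IsZero ((DCoh.HD ((resD w).obj K) i).restrict k) :=
    (Scheme.Modules.restrictFunctor k).map_isZero h
  exact h1.of_iso ((DerivedCategory.homologyFunctor _ i).mapIso ((resDComp k w).app K) ≪≫
    HDresDIso k ((resD w).obj K) i)

/-- finite-dimensional homology with zero `finrank` vanishes -/
lemma isZero_homology_of_finrank_eq_zero {K : Type u} [Field K]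
    (N : CochainComplex (ModuleCat.{u} K) ℤ) (p : ℤ) [Module.Finite K (N.X p)]
    (h : Module.finrank K (N.homology p) = 0) : IsZero (N.homology p) := by
  haveI : Module.Finite K (N.cycles p) :=
    Module.Finite.of_injective (N.iCycles p).hom ((ModuleCat.mono_iff_injective _).1 inferInstance)
  haveI : Module.Finite K (N.homology p) :=
    Module.Finite.of_surjective (N.homologyπ p).hom
      ((ModuleCat.epi_iff_surjective _).1 inferInstance)
  haveI : Subsingleton (N.homology p) := Module.finrank_zero_iff.1 h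
  exact ModuleCat.isZero_of_subsingleton _

/-- **(KL)**: a `(i₀-1)`-pseudo-coherent object with no cohomology below `i₀` near `x₀` and with
`β_{i₀}(x₀) = 0` is perfect near `x₀`. -/
theorem exists_perfAlong_of_betti_zero (E : DCoh.D X)
    [∀ x : X, DCoh.HasLpull (X.fromSpecResidueField x)]
    (x₀ : X) (i₀ : ℤ) (hpc : DCoh.IsPseudoCoherentD (i₀ - 1) E)
    (V₁ : X.Opens) (hxV₁ : x₀ ∈ V₁)
    (hGE : ∀ i, i < i₀ → IsZero (DCoh.HD ((resD V₁.ι).obj E) i))
    (hbetti : PerfD.betti E x₀ i₀ = 0) :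
    ∃ (U : Scheme.{u}) (j : U ⟶ X) (_ : IsOpenImmersion j),
      x₀ ∈ Set.range j.base ∧ PerfAlong E j := by
  have hopen := isOpen_betti_lt E i₀ hpc 1
  let U₀ : X.Opens := ⟨{x | PerfD.betti E x i₀ < 1}, hopen⟩
  have hxU₀ : x₀ ∈ U₀ := by
    show PerfD.betti E x₀ i₀ < 1
    omega
  obtain ⟨G, hG, ⟨eG⟩⟩ := exists_kflat_rep E
  obtain ⟨V₀, hxV₀, hV₀⟩ := hpc x₀
  obtain ⟨E₀, α, hE₀, hα1, hα2⟩ := hV₀ G ⟨eG⟩
  obtain ⟨V, hV, hxV, hVΩ, M, hfin, hfree, a, b, hab, hMK, α', hα'⟩ :=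
    exists_local_model' E x₀ V₀ hxV₀ (U₀ ⊓ V₁) ⟨hxU₀, hxV₁⟩ G hG eG E₀ hE₀ α
  have hα'' := hα' (i₀ - 1) ⟨hα1, hα2⟩
  haveI := hfin
  haveI := hfree
  let P : CochainComplex (Spec Γ(X, V)).Modules ℤ :=
    ((tilde.functor Γ(X, V)).mapHomologicalComplex (ComplexShape.up ℤ)).obj M
  -- flatness of the cokernel
  have hflatM : Module.Flat Γ(X, V) (M.opcycles i₀) := by
    refine flat_opcycles M b (fun j hj => hab j (Or.inr hj)) (fun j => ⟨hfin j, hfree j⟩)
      (i₀ - 1) i₀ (i₀ + 1) (by ring) rfl (fun 𝔮 h𝔮 => ?_)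
    let z : Spec Γ(X, V) := ⟨𝔮, h𝔮.isPrime⟩
    let y : X := hV.fromSpec.base z
    have hy : y ∈ V := by
      have : y ∈ Set.range hV.fromSpec.base := ⟨z, rfl⟩
      rw [hV.range_fromSpec] at this
      exact this
    refine ⟨X.residueField y, inferInstance, (X.evaluation V y hy).hom, ?_, ?_⟩
    · ext f
      rw [RingHom.mem_ker]
      have h1 := X.evaluation_ne_zero_iff_mem_basicOpen y hy f
      have h2 : y ∈ X.basicOpen f ↔ z ∈ PrimeSpectrum.basicOpen f := by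
        rw [← hV.fromSpec_preimage_basicOpen f]
        rfl
      have h3 : z ∈ PrimeSpectrum.basicOpen f ↔ f ∉ 𝔮 := Iff.rfl
      constructor
      · intro h0
        by_contra hf
        exact (h1.2 (h2.2 (h3.2 hf))) h0
      · intro hf
        by_contra h0
        exact (h3.1 (h2.1 (h1.1 h0))) hf
    · have hyU : PerfD.betti E y i₀ < 1 := (hVΩ hy).1
      have h3 := betti_eq_of_local_model E hV M hMK (i₀ - 1) α' hα'' y hy i₀ (by omega)
      rw [HomologicalComplex.exactAt_iff_isZero_homology]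
      haveI : Module.Finite (X.residueField y) ((ext M (X.evaluation V y hy).hom).X i₀) :=
        finite_ext_X M _ i₀
      exact isZero_homology_of_finrank_eq_zero (ext M (X.evaluation V y hy).hom) i₀ (by omega)
  have hP : DCoh.IsStrictlyPerfect P :=
    ⟨⟨a, b, fun i hi => (tilde.functor Γ(X, V)).map_isZero (hab i hi)⟩,
      fun i => (isFinLocFree_tilde_iff (M.X i)).2 ⟨hfin i, inferInstance⟩⟩
  haveI : PreservesFiniteLimits (tilde.functor Γ(X, V)) :=
    Groth.Agent.Lib.Helper17.KProjAff.preservesFiniteLimits_tilde _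
  have hflatP : FlatMod.IsFlat ((CochainComplex.truncGE P i₀).X i₀) :=
    isFlat_of_iso (((M.sc i₀).mapOpcyclesIso (tilde.functor Γ(X, V))).symm ≪≫
      (CochainComplex.truncGEXIsoOpcycles P i₀).symm) ((isFlat_tilde_obj_iff (M.opcycles i₀)).2 hflatM)
  have hP' := isStrictlyPerfect_truncGE i₀ hP hflatP
  -- the restriction of `E` to `Spec Γ(X, V)`
  let K := (DCoh.Lpull hV.fromSpec).obj E
  let eK : K ≅ (resD hV.fromSpec).obj E :=
    (DCoh.Lpull hV.fromSpec).mapIso eG.symm ≪≫ (LpullResDIso hV.fromSpec G hG).symm ≪≫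
      (resD hV.fromSpec).mapIso eG
  have hr : Set.range hV.fromSpec.base ⊆ Set.range V₁.ι.base := by
    rw [hV.range_fromSpec, Scheme.Opens.range_ι]
    exact fun y hy => (hVΩ hy).2
  let k₁ : Spec Γ(X, V) ⟶ V₁ := IsOpenImmersion.lift V₁.ι hV.fromSpec hr
  have hk₁ : k₁ ≫ V₁.ι = hV.fromSpec := IsOpenImmersion.lift_fac _ _ _
  haveI : IsOpenImmersion (k₁ ≫ V₁.ι) := by rw [hk₁]; infer_instance
  haveI : IsOpenImmersion k₁ := IsOpenImmersion.of_comp k₁ V₁.ι
  have hK : ∀ i, i < i₀ → IsZero (DCoh.HD K i) := fun i hi =>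
    (isZero_HD_resD_of_fac hV.fromSpec V₁.ι k₁ hk₁ E i (hGE i hi)).of_iso
      ((DerivedCategory.homologyFunctor _ i).mapIso eK)
  obtain ⟨e⟩ := nonempty_iso_truncGE_D i₀ α' hα'' hK
  refine ⟨Spec Γ(X, V), hV.fromSpec, inferInstance, ?_, CochainComplex.truncGE P i₀, hP', ⟨eK.symm ≪≫ e⟩⟩
  rw [hV.range_fromSpec]
  exact hxV

end

end Groth.Agent.Lib.Helper28.KL
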