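import Mathlib
import Groth.Agent.Lib.Helper28.KL2
import Groth.Agent.Lib.Helper28.DCohRes27
import Groth.Agent.Lib.Helper28.LpullComp
import Groth.Agent.Lib.Helper28.LpullPerfect
set_option autoImplicit false

universe u

open CategoryTheory Limits AlgebraicGeometry Functor Opposite

attribute [local instance] HasDerivedCategory.standard

namespace Groth.Agent.Lib.Helper28.KL

open Groth.Agent.Lib.Helper28.StalkTensor Groth.Agent.Lib.Helper28.DCohRes
  Groth.Agent.Lib.Helper28.Lpull Groth.Agent.Lib.Helper28.DCohTilde Groth.Agent.Lib.Helper29.QCoh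
  Groth.Agent.Lib.Helper28.Betti

noncomputable section

variable {X S : Scheme.{u}}

/-- a vanishing cohomology sheaf of the fibre gives a vanishing Betti number -/
lemma betti_eq_zero_of_isZero (E : DCoh.D X) (x : X) [DCoh.HasLpull (X.fromSpecResidueField x)]
    (i : ℤ) (h : IsZero (DCoh.HD ((DCoh.Lpull (X.fromSpecResidueField x)).obj E) i)) :
    PerfD.betti E x i = 0 := by
  unfold PerfD.betti
  have h1 : IsZero ((SheafOfModules.forget _ ⋙ PresheafOfModules.evaluation _ (op ⊤)).obj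
      (DCoh.HD ((DCoh.Lpull (X.fromSpecResidueField x)).obj E) i)) :=
    (SheafOfModules.forget _ ⋙ PresheafOfModules.evaluation _ (op ⊤)).map_isZero h
  haveI : Subsingleton ((DCoh.HD ((DCoh.Lpull (X.fromSpecResidueField x)).obj E) i).val.obj
      (op ⊤)) := ModuleCat.subsingleton_of_isZero h1
  haveI : Nontrivial (Coh.Γtop (Spec (X.residueField x))) :=
    (ΓSpecRingEquiv (X.residueField x)).symm.injective.nontrivial
  exact Module.finrank_zero_of_subsingleton

lemma isZero_HD_Lpull_of_fac {Y Z : Scheme.{u}} (i : Y ⟶ X) (g : Y ⟶ Z) (w : Z ⟶ X)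
    (hg : g ≫ w = i) [DCoh.HasLpull i] [DCoh.HasLpull g] [DCoh.HasLpull w] (E : DCoh.D X) (n : ℤ)
    (h : IsZero (DCoh.HD ((DCoh.Lpull g).obj ((DCoh.Lpull w).obj E)) n)) :
    IsZero (DCoh.HD ((DCoh.Lpull i).obj E) n) := by
  subst hg
  exact h.of_iso ((DerivedCategory.homologyFunctor _ n).mapIso ((LpullCompIso g w).app E).symm)

/-- if the derived pullback of `E` to the fibre through `x` is perfect, the Betti numbers of `E`
at `x` vanish in low degrees -/
theorem exists_betti_eq_zero (f : X ⟶ S) (E : DCoh.D X) (x : X)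
    [DCoh.HasLpull (f.fiberι (f.base x))] [DCoh.HasLpull (X.fromSpecResidueField x)]
    (hE : DCoh.IsPerfect ((DCoh.Lpull (f.fiberι (f.base x))).obj E)) :
    ∃ a' : ℤ, ∀ i, i < a' → PerfD.betti E x i = 0 := by
  let g : Spec (X.residueField x) ⟶ f.fiber (f.base x) :=
    pullback.lift (X.fromSpecResidueField x) (Spec.map (f.residueFieldMap x))
      (Scheme.Hom.SpecMap_residueFieldMap_fromSpecResidueField f x).symm
  have hg : g ≫ f.fiberι (f.base x) = X.fromSpecResidueField x := pullback.lift_fst _ _ _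
  haveI : DCoh.HasLpull g := hasLpull g
  have hP := isPerfect_Lpull g _ hE
  obtain ⟨a', b', ha', -⟩ := exists_bounds_of_isPerfect _ hP
  refine ⟨a', fun i hi => betti_eq_zero_of_isZero E x i ?_⟩
  exact isZero_HD_Lpull_of_fac _ g _ hg E i (DerivedCategory.isZero_of_isGE _ a' i hi)

/-- a perfect object is locally of finite tor dimension relative to a flat morphism -/
theorem locHasFiniteRelTorDim_of_isPerfect (f : X ⟶ S) [Flat f] (E : DCoh.D X)
    (hE : DCoh.IsPerfect E) : DCoh.LocHasFiniteRelTorDim f E := by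
  intro x
  obtain ⟨V, hxV, hV⟩ := hE x
  obtain ⟨E₀, ⟨⟨a, b, hab⟩, hfl⟩, ⟨e₀⟩⟩ := hV (DerivedCategory.Q.objPreimage E)
    ⟨DerivedCategory.Q.objObjPreimageIso E⟩
  refine ⟨V, a, b, hxV, fun F' ⟨eF'⟩ => ⟨E₀, hab, fun i => ?_, ⟨?_⟩⟩⟩
  · exact isFlatOver_of_isFinLocFree (V.ι ≫ f) (hfl i)
  · exact e₀.symm ≪≫ ((resDQ V.ι).app _).symm ≪≫
      (resD V.ι).mapIso (DerivedCategory.Q.objObjPreimageIso E ≪≫ eF'.symm) ≪≫ (resDQ V.ι).app F'

/-- **criterion of perfection by fibres** (`⇐`) -/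
theorem isPerfect_of_fibres (f : X ⟶ S) [∀ s : S, DCoh.HasLpull (f.fiberι s)] (E : DCoh.D X)
    (hpc : ∀ m : ℤ, DCoh.IsPseudoCoherentD m E) (hrel : DCoh.LocHasFiniteRelTorDim f E)
    (hfib : ∀ s : S, DCoh.IsPerfect ((DCoh.Lpull (f.fiberι s)).obj E)) : DCoh.IsPerfect E := by
  rw [isPerfect_iff]
  intro x
  haveI : ∀ x : X, DCoh.HasLpull (X.fromSpecResidueField x) := fun x => hasLpull _
  obtain ⟨V₁, a, b, hxV₁, hV₁⟩ := hrel x
  obtain ⟨E₁, hE₁, -, ⟨e₁⟩⟩ := hV₁ (DerivedCategory.Q.objPreimage E)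
    ⟨DerivedCategory.Q.objObjPreimageIso E⟩
  obtain ⟨a', ha'⟩ := exists_betti_eq_zero f E x (hfib (f.base x))
  have h1 : min a (a' - 1) ≤ a := min_le_left _ _
  have h2 : min a (a' - 1) ≤ a' - 1 := min_le_right _ _
  refine exists_perfAlong_of_betti_zero E x (min a (a' - 1)) (hpc _) V₁ hxV₁ (fun i hi => ?_)
    (ha' _ (by omega))
  have e : (resD V₁.ι).obj E ≅ DerivedCategory.Q.obj E₁ :=
    (resD V₁.ι).mapIso (DerivedCategory.Q.objObjPreimageIso E).symm ≪≫ (resDQ V₁.ι).app _ ≪≫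
      e₁.symm
  exact (isZero_homology_Q_of_isZero_X E₁ i (hE₁ i (Or.inl (by omega)))).of_iso
    ((DerivedCategory.homologyFunctor _ i).mapIso e)

end

end Groth.Agent.Lib.Helper28.KL
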