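import Mathlib
import Groth.Prelude.Def_DTor2
import Groth.Prelude.Def_DCoh4
import Groth.Agent.Lib.Helper28.LTensorModComp
import Groth.Agent.Lib.Helper28.KFlatSite6

/-!
# Derived tensor product with a module and distinguished triangles (helper28)
-/

open CategoryTheory Limits HomologicalComplex AlgebraicGeometry Pretriangulated

attribute [local instance] HasDerivedCategory.standard

namespace Groth.Agent.Lib.Helper28.LTensorModTri

section abstract

universe v₁ u₁ v₂ u₂

variable {A : Type u₁} [Category.{v₁} A] [Abelian A] {B : Type u₂} [Category.{v₂} B] [Abelian B]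

/-- the long exact sequence of the mapping cone after applying an additive functor termwise:
vanishing of the two outer terms gives vanishing of the middle one -/
theorem isZero_homology_map_mappingCone (H : A ⥤ B) [H.Additive] {K L : CochainComplex A ℤ}
    (g : K ⟶ L) (i : ℤ)
    (hL : IsZero (((H.mapHomologicalComplex (ComplexShape.up ℤ)).obj L).homology i))
    (hK : IsZero (((H.mapHomologicalComplex (ComplexShape.up ℤ)).obj K).homology (i + 1))) :
    IsZero (((H.mapHomologicalComplex (ComplexShape.up ℤ)).obj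
      (CochainComplex.mappingCone g)).homology i) := by
  let S := CochainComplex.mappingCone.triangleRotateShortComplex g
  let Φ := H.mapHomologicalComplex (ComplexShape.up ℤ)
  have hS : (S.map Φ).ShortExact := by
    apply HomologicalComplex.shortExact_of_degreewise_shortExact
    intro n
    exact ((CochainComplex.mappingCone.triangleRotateShortComplexSplitting g n).map H).shortExact
  have hex := hS.homology_exact₂ i
  have e1 : Φ.obj (K⟦(1 : ℤ)⟧) ≅ (Φ.obj K)⟦(1 : ℤ)⟧ := (Φ.commShiftIso (1 : ℤ)).app K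
  have e2 : ((Φ.obj K)⟦(1 : ℤ)⟧).homology i ≅ (Φ.obj K).homology (i + 1) :=
    ((HomologicalComplex.homologyFunctor B _ (0 : ℤ)).shiftIso 1 i (i + 1) (by omega)).app (Φ.obj K)
  have hz : IsZero ((Φ.obj (K⟦(1 : ℤ)⟧)).homology i) :=
    hK.of_iso ((HomologicalComplex.homologyFunctor B _ i).mapIso e1 ≪≫ e2)
  exact hex.isZero_X₂ (hL.eq_of_src _ _) (hz.eq_of_tgt _ _)

end abstract

universe u

variable {X : Scheme.{u}}

open Groth.Agent.Lib.Helper28.KFlatSite

/-- the third vertex of a distinguished triangle whose first two vertices are represented by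
K-flat complexes is represented by the cone of a map of K-flat complexes -/
theorem exists_cone_rep (T : Triangle (DCoh.D X)) (hT : T ∈ distTriang (DCoh.D X))
    (P₁ P₂ : CochainComplex X.Modules ℤ) (hP₁ : DCoh.IsKFlat P₁)
    (e₁ : DCoh.toD X P₁ ≅ T.obj₁) (e₂ : DCoh.toD X P₂ ≅ T.obj₂) :
    ∃ (P' : CochainComplex X.Modules ℤ) (s : P' ⟶ P₁) (g : P' ⟶ P₂), DCoh.IsKFlat P' ∧
      QuasiIso s ∧ Nonempty (DCoh.toD X (CochainComplex.mappingCone g) ≅ T.obj₃) := by
  obtain ⟨R, s₀, hs₀, g₀, hfac⟩ := DerivedCategory.right_fac (e₁.hom ≫ T.mor₁ ≫ e₂.inv)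
  obtain ⟨P0, r0, hP0, -, hr0, -⟩ := exists_kflat_resolution (O := X.sheaf) R
  let P' : CochainComplex X.Modules ℤ := P0
  let r : P' ⟶ R := r0
  have hr : QuasiIso r := hr0
  have hs₀' : QuasiIso s₀ := by
    rw [← DerivedCategory.isIso_Q_map_iff_quasiIso]
    exact hs₀
  have hi : IsIso (DerivedCategory.Q.map r) := by
    rw [DerivedCategory.isIso_Q_map_iff_quasiIso]
    exact hr
  refine ⟨P', r ≫ s₀, r ≫ g₀, hP0, inferInstance, ?_⟩
  have hi2 : IsIso (DerivedCategory.Q.map (r ≫ s₀)) := by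
    rw [Functor.map_comp]
    infer_instance
  let T' := DerivedCategory.Q.mapTriangle.obj (CochainComplex.mappingCone.triangle (r ≫ g₀))
  have hT' : T' ∈ distTriang (DCoh.D X) := DerivedCategory.mappingCone_triangle_distinguished _
  let eS : DCoh.toD X P' ≅ DCoh.toD X P₁ := @asIso _ _ _ _ (DerivedCategory.Q.map (r ≫ s₀)) hi2
  have heS : eS.hom = DerivedCategory.Q.map r ≫ DerivedCategory.Q.map s₀ :=
    DerivedCategory.Q.map_comp r s₀
  have comm : T'.mor₁ ≫ e₂.hom = (eS ≪≫ e₁).hom ≫ T.mor₁ := by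
    have h1 : DerivedCategory.Q.map g₀ = DerivedCategory.Q.map s₀ ≫ e₁.hom ≫ T.mor₁ ≫ e₂.inv := by
      rw [hfac, IsIso.hom_inv_id_assoc]
    change DerivedCategory.Q.map (r ≫ g₀) ≫ e₂.hom = _
    rw [Functor.map_comp, h1, Iso.trans_hom, heS]
    simp
  exact ⟨(Triangle.π₃.mapIso (isoTriangleOfIso₁₂ T' T hT' hT (eS ≪≫ e₁) e₂ comm))⟩

/-- vanishing of `H^i(T₃ ⊗^L G)` for a distinguished triangle `T₁ → T₂ → T₃ →` from vanishing
of `H^{i+1}(T₁ ⊗^L G)` and `H^i(T₂ ⊗^L G)`, for K-flat representatives of `T₁`, `T₂` -/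
theorem isZero_HD_obj₃ (T : Triangle (DCoh.D X)) (hT : T ∈ distTriang (DCoh.D X))
    (P₁ P₂ : CochainComplex X.Modules ℤ) (hP₁ : DCoh.IsKFlat P₁) (hP₂ : DCoh.IsKFlat P₂)
    (e₁ : DCoh.toD X P₁ ≅ T.obj₁) (e₂ : DCoh.toD X P₂ ≅ T.obj₂)
    (G : X.Modules) [DCoh.HasLTensorMod G] (i : ℤ)
    (h₁ : IsZero ((((DCoh.tensorRightMod G).mapHomologicalComplex (ComplexShape.up ℤ)).obj
      P₁).homology (i + 1)))
    (h₂ : IsZero ((((DCoh.tensorRightMod G).mapHomologicalComplex (ComplexShape.up ℤ)).obj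
      P₂).homology i)) :
    IsZero (DCoh.HD ((DCoh.LTensorMod G).obj T.obj₃) i) := by
  obtain ⟨P', s, g, hP', hs, ⟨e₃⟩⟩ := exists_cone_rep T hT P₁ P₂ hP₁ e₁ e₂
  have hC : DCoh.IsKFlat (CochainComplex.mappingCone g) := by
    have := (KFlatAbs.isKFlat_mappingCone (T := ModSite.tensorBi X.sheaf) g).1
      ((isKFlat_iff (O := X.sheaf) P').1 hP') ((isKFlat_iff (O := X.sheaf) P₂).1 hP₂)
    exact (isKFlat_iff (O := X.sheaf) _).2 this
  have hi : IsIso (DerivedCategory.Q.map s) := by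
    rw [DerivedCategory.isIso_Q_map_iff_quasiIso]
    exact hs
  have h₁' : IsZero ((((DCoh.tensorRightMod G).mapHomologicalComplex (ComplexShape.up ℤ)).obj
      P').homology (i + 1)) :=
    h₁.of_iso ((LTensorModComp.HDLTensorModIso G P' hP' (i + 1)).symm ≪≫
      (DerivedCategory.homologyFunctor X.Modules (i + 1)).mapIso
        ((DCoh.LTensorMod G).mapIso (@asIso _ _ _ _ (DerivedCategory.Q.map s) hi)) ≪≫
      LTensorModComp.HDLTensorModIso G P₁ hP₁ (i + 1))
  have hz := isZero_homology_map_mappingCone (DCoh.tensorRightMod G) g i h₂ h₁'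
  exact hz.of_iso ((DerivedCategory.homologyFunctor X.Modules i).mapIso
    ((DCoh.LTensorMod G).mapIso e₃.symm) ≪≫
    LTensorModComp.HDLTensorModIso G _ hC i)

end Groth.Agent.Lib.Helper28.LTensorModTri
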