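import Mathlib
import Groth.Agent.Lib.Helper18.PushStalk
import Groth.Agent.Lib.Helper28.RelPerf2
import Groth.Agent.Lib.Helper28.FibreTor3
set_option autoImplicit false

universe u

open CategoryTheory Limits AlgebraicGeometry Opposite

attribute [local instance] HasDerivedCategory.standard

namespace Groth.Agent.Lib.Helper28.PushStalkCx

open Groth.Agent.Lib.Helper18.PushStalk

noncomputable section

variable {X X' : Scheme.{u}} (i : X ⟶ X') (hi : Topology.IsInducing i.base) (x : X)
  {R : Type u} [CommRing R] (φ : R →+* X.presheaf.stalk x) (φ' : R →+* X'.presheaf.stalk (i.base x))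
  (h : φ = (i.stalkMap x).hom.comp φ')

/-- the stalk of a direct image along a topological embedding, as a module over a base ring -/
def pushStalkLinearMap (M : X.Modules) :
    (ModuleCat.restrictScalars φ').obj
        ((DerSch.stalkFunctor X' (i.base x)).obj ((Scheme.Modules.pushforward i).obj M)) →ₗ[R]
      (ModuleCat.restrictScalars φ).obj ((DerSch.stalkFunctor X x).obj M) where
  toFun := pushStalkMap i M x
  map_add' := map_add _
  map_smul' r m := by
    change pushStalkMap i M x (φ' r • (show ((Scheme.Modules.pushforward i).obj M).presheaf.stalk (i.base x) from m)) =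
      (φ r) • pushStalkMap i M x m
    rw [pushStalkMap_smul, h]
    rfl

include hi in
lemma pushStalkLinearMap_bijective (M : X.Modules) :
    Function.Bijective (pushStalkLinearMap i x φ φ' h M) :=
  pushStalkMap_bijective i M hi x

/-- the isomorphism `(i_* M)_{i x} ≅ M_x` of modules over the base ring -/
def pushStalkIso (M : X.Modules) :
    (ModuleCat.restrictScalars φ').obj
        ((DerSch.stalkFunctor X' (i.base x)).obj ((Scheme.Modules.pushforward i).obj M)) ≅
      (ModuleCat.restrictScalars φ).obj ((DerSch.stalkFunctor X x).obj M) :=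
  (LinearEquiv.ofBijective (pushStalkLinearMap i x φ φ' h M)
    (pushStalkLinearMap_bijective i hi x φ φ' h M)).toModuleIso

lemma pushStalkIso_naturality {M N : X.Modules} (ψ : M ⟶ N) :
    (ModuleCat.restrictScalars φ').map
        ((DerSch.stalkFunctor X' (i.base x)).map ((Scheme.Modules.pushforward i).map ψ)) ≫
        (pushStalkIso i hi x φ φ' h N).hom =
      (pushStalkIso i hi x φ φ' h M).hom ≫
        (ModuleCat.restrictScalars φ).map ((DerSch.stalkFunctor X x).map ψ) := by
  ext m
  obtain ⟨U, hxU, s, rfl⟩ :=
    ((Scheme.Modules.pushforward i).obj M).presheaf.exists_germ_eq (x := i.base x)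
      (show ((Scheme.Modules.pushforward i).obj M).presheaf.stalk (i.base x) from m)
  change pushStalkMap i N x ((DerSch.stalkFunctor X' (i.base x)).map
      ((Scheme.Modules.pushforward i).map ψ)
      (((Scheme.Modules.pushforward i).obj M).presheaf.germ U (i.base x) hxU s)) =
    (DerSch.stalkFunctor X x).map ψ (pushStalkMap i M x
      (((Scheme.Modules.pushforward i).obj M).presheaf.germ U (i.base x) hxU s))
  rw [DerSch.stalkFunctor_map_germ, pushStalkMap_germ, pushStalkMap_germ,
    DerSch.stalkFunctor_map_germ]
  rfl

/-- the natural isomorphism `(i_* -)_{i x} ≅ (-)_x` -/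
def pushStalkNatIso :
    Scheme.Modules.pushforward i ⋙ DerSch.stalkFunctor X' (i.base x) ⋙
        ModuleCat.restrictScalars φ' ≅
      DerSch.stalkFunctor X x ⋙ ModuleCat.restrictScalars φ :=
  NatIso.ofComponents (fun M => pushStalkIso i hi x φ φ' h M)
    (fun ψ => pushStalkIso_naturality i hi x φ φ' h ψ)

/-- the isomorphism of stalk complexes `(i_* F)_{i x} ≅ F_x` over the base ring -/
def pushStalkCxIso (F : CochainComplex X.Modules ℤ) :
    ((DerSch.stalkFunctor X' (i.base x) ⋙ ModuleCat.restrictScalars φ').mapHomologicalComplex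
        (ComplexShape.up ℤ)).obj
        (((Scheme.Modules.pushforward i).mapHomologicalComplex (ComplexShape.up ℤ)).obj F) ≅
      ((DerSch.stalkFunctor X x ⋙ ModuleCat.restrictScalars φ).mapHomologicalComplex
        (ComplexShape.up ℤ)).obj F :=
  (NatIso.mapHomologicalComplex (pushStalkNatIso i hi x φ φ' h) (ComplexShape.up ℤ)).app F

include hi in
/-- tor amplitude of the direct image along a topological embedding -/
theorem hasTorAmplitudeAt_push_iff {Y : Scheme.{u}} (f' : X' ⟶ Y)
    (F : CochainComplex X.Modules ℤ) (a b : ℤ) :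
    DerSch.HasTorAmplitudeAt f' a b
        (((Scheme.Modules.pushforward i).mapHomologicalComplex (ComplexShape.up ℤ)).obj F)
        (i.base x) ↔
      DerSch.HasTorAmplitudeAt (i ≫ f') a b F x := by
  have hcomp : ((i ≫ f').stalkMap x).hom =
      (i.stalkMap x).hom.comp (f'.stalkMap (i.base x)).hom := by
    rw [Scheme.Hom.stalkMap_comp]
    rfl
  let e := pushStalkCxIso i hi x ((i ≫ f').stalkMap x).hom (f'.stalkMap (i.base x)).hom hcomp F
  constructor
  · intro hh
    exact Groth.Agent.Lib.Helper13.DR.hasTorAmplitudeIn_of_iso (DerivedCategory.Q.mapIso e) hh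
  · intro hh
    exact Groth.Agent.Lib.Helper13.DR.hasTorAmplitudeIn_of_iso (DerivedCategory.Q.mapIso e).symm hh

end

end Groth.Agent.Lib.Helper28.PushStalkCx
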