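import Mathlib
import Groth.Agent.Lib.Helper11.PCFlatBC
import Groth.Agent.Lib.Helper13.DRingRelPC
set_option autoImplicit false
set_option linter.unusedSectionVars false
set_option linter.unusedVariables false
universe u
open CategoryTheory CategoryTheory.Limits TensorProduct

attribute [local instance] HasDerivedCategory.standard

namespace Groth.Agent.Lib.Helper28.ModPC

open Groth.Agent.Lib.Helper13.DR Groth.Agent.Lib.Helper13.PC PCoh
  Groth.Agent.Lib.Helper11.PCFlatBC

attribute [local instance] MvPolynomial.algebraMvPolynomial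

/-- If `A → S` is the base change of `R₀ → S₀` (`R₀` Noetherian, `S₀` of finite type), and the
`S`-module `N` is the base change of a finite `S₀`-module `M₀` flat over `R₀`, then `N` is
pseudo-coherent over a polynomial ring over `A` surjecting onto `S`. -/
theorem exists_isNPC_of_model (R₀ A S₀ S : Type u) [CommRing R₀] [CommRing A] [CommRing S₀]
    [CommRing S] [Algebra R₀ A] [Algebra R₀ S₀] [Algebra S₀ S] [Algebra A S] [Algebra R₀ S]
    [IsScalarTower R₀ A S] [IsScalarTower R₀ S₀ S] [Algebra.IsPushout R₀ A S₀ S]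
    [IsNoetherianRing R₀] [Algebra.FiniteType R₀ S₀]
    (M₀ : Type u) [AddCommGroup M₀] [Module S₀ M₀] [Module R₀ M₀] [IsScalarTower R₀ S₀ M₀]
    [Module.Finite S₀ M₀] [Module.Flat R₀ M₀]
    (N : Type u) [AddCommGroup N] [Module S N] [Module S₀ N] [IsScalarTower S₀ S N]
    (f : M₀ →ₗ[S₀] N) (hf : IsBaseChange S f) :
    ∃ (n : ℕ) (φ : MvPolynomial (Fin n) A →ₐ[A] S), Function.Surjective φ ∧
      ∀ m : ℤ, IsNPC (Pff (MvPolynomial (Fin n) A)) m
        ((DerivedCategory.singleFunctor (ModuleCat.{u} (MvPolynomial (Fin n) A)) 0).obj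
          ((ModuleCat.restrictScalars (φ : MvPolynomial (Fin n) A →+* S)).obj
            (ModuleCat.of S N))) := by
  obtain ⟨n, ψ₀, hψ₀⟩ :=
    (Algebra.FiniteType.iff_quotient_mvPolynomial'' (R := R₀) (S := S₀)).1 inferInstance
  let φ : MvPolynomial (Fin n) A →ₐ[A] S :=
    MvPolynomial.aeval (fun i => algebraMap S₀ S (ψ₀ (MvPolynomial.X i)))
  have hcomp : (φ : MvPolynomial (Fin n) A →+* S).comp (MvPolynomial.map (algebraMap R₀ A)) =
      (algebraMap S₀ S).comp (ψ₀ : MvPolynomial (Fin n) R₀ →+* S₀) := by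
    apply MvPolynomial.ringHom_ext
    · intro a
      simp only [RingHom.comp_apply, MvPolynomial.map_C]
      change φ (MvPolynomial.C (algebraMap R₀ A a)) = algebraMap S₀ S (ψ₀ (MvPolynomial.C a))
      rw [← MvPolynomial.algebraMap_eq, ← MvPolynomial.algebraMap_eq, φ.commutes, ψ₀.commutes,
        ← IsScalarTower.algebraMap_apply, ← IsScalarTower.algebraMap_apply]
    · intro i
      simp only [RingHom.comp_apply, MvPolynomial.map_X]
      change φ (MvPolynomial.X i) = _
      simp [φ]
  have hφ : Function.Surjective φ := by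
    intro z
    have hz : z ∈ (φ.range : Subalgebra A S) := by
      refine (Algebra.IsPushout.out (R := R₀) (S := A) (R' := S₀) (S' := S)).inductionOn z
        (fun z => z ∈ (φ.range : Subalgebra A S)) (zero_mem _) ?_ ?_ ?_
      · intro b
        obtain ⟨p, rfl⟩ := hψ₀ b
        exact ⟨MvPolynomial.map (algebraMap R₀ A) p, RingHom.congr_fun hcomp p⟩
      · intro a y hy
        exact Subalgebra.smul_mem _ hy a
      · intro y₁ y₂ h₁ h₂
        exact add_mem h₁ h₂
    exact hz
  refine ⟨n, φ, hφ, ?_⟩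
  -- `N` as a module over the polynomial ring over `A`
  let NP : ModuleCat.{u} (MvPolynomial (Fin n) A) :=
    (ModuleCat.restrictScalars (φ : MvPolynomial (Fin n) A →+* S)).obj (ModuleCat.of S N)
  letI : Module (MvPolynomial (Fin n) R₀) M₀ :=
    Module.compHom M₀ (ψ₀ : MvPolynomial (Fin n) R₀ →+* S₀)
  haveI : IsScalarTower R₀ (MvPolynomial (Fin n) R₀) M₀ := ⟨fun r p m => by
    change ψ₀ (r • p) • m = r • (ψ₀ p • m)
    rw [map_smul, smul_assoc]⟩
  letI : Algebra (MvPolynomial (Fin n) R₀) S₀ := (ψ₀ : MvPolynomial (Fin n) R₀ →+* S₀).toAlgebra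
  haveI : IsScalarTower (MvPolynomial (Fin n) R₀) S₀ M₀ := ⟨fun p s m => by
    change (ψ₀ p * s) • m = ψ₀ p • (s • m)
    rw [mul_smul]⟩
  haveI : Module.Finite (MvPolynomial (Fin n) R₀) S₀ :=
    Module.Finite.of_surjective (Algebra.linearMap (MvPolynomial (Fin n) R₀) S₀) hψ₀
  haveI : Module.Finite (MvPolynomial (Fin n) R₀) M₀ :=
    Module.Finite.trans S₀ M₀
  letI : Module (MvPolynomial (Fin n) R₀) NP :=
    Module.compHom NP (algebraMap (MvPolynomial (Fin n) R₀) (MvPolynomial (Fin n) A))
  haveI : IsScalarTower (MvPolynomial (Fin n) R₀) (MvPolynomial (Fin n) A) NP :=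
    IsScalarTower.of_algebraMap_smul (fun x m => rfl)
  have hsm : ∀ (s₀ : S₀) (x : N), s₀ • x = algebraMap S₀ S s₀ • x := fun s₀ x => by
    rw [algebraMap_smul]
  let f' : M₀ →ₗ[MvPolynomial (Fin n) R₀] NP :=
    { toFun := f
      map_add' := f.map_add
      map_smul' := fun p m => by
        change f (ψ₀ p • m) = (φ (MvPolynomial.map (algebraMap R₀ A) p)) • f m
        rw [f.map_smul, hsm]
        congr 1
        exact (RingHom.congr_fun hcomp p).symm }
  let g : MvPolynomial (Fin n) A ⊗[MvPolynomial (Fin n) R₀] M₀ →ₗ[MvPolynomial (Fin n) A] NP :=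
    LinearMap.liftBaseChange (MvPolynomial (Fin n) A) f'
  let c₁ := Algebra.IsPushout.cancelBaseChange R₀ A (MvPolynomial (Fin n) R₀)
    (MvPolynomial (Fin n) A) M₀
  let c₂ := Algebra.IsPushout.cancelBaseChange R₀ A S₀ S M₀
  have key : ∀ x, (g (c₁.symm x) : N) = hf.equiv (c₂.symm x) := by
    intro x
    induction x with
    | zero =>
      rw [map_zero, map_zero, map_zero, map_zero]
      rfl
    | add x y hx hy =>
      rw [map_add, map_add, map_add, map_add, ← hx, ← hy]
      rfl
    | tmul a m =>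
      simp only [c₁, c₂, Algebra.IsPushout.cancelBaseChange_symm_tmul, g,
        LinearMap.liftBaseChange_tmul, IsBaseChange.equiv_tmul]
      change (φ (algebraMap A (MvPolynomial (Fin n) A) a)) • f m = algebraMap A S a • f m
      congr 1
      exact φ.commutes a
  have hg : Function.Bijective g := by
    have : (g : _ → NP) = (hf.equiv ∘ c₂.symm) ∘ c₁ := by
      funext x
      obtain ⟨y, rfl⟩ := c₁.symm.surjective x
      rw [Function.comp_apply, Function.comp_apply, LinearEquiv.apply_symm_apply]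
      exact key y
    rw [this]
    exact (hf.equiv.bijective.comp c₂.symm.bijective).comp c₁.bijective
  let eqv : (MvPolynomial (Fin n) A ⊗[MvPolynomial (Fin n) R₀] M₀) ≃ₗ[MvPolynomial (Fin n) A] NP :=
    LinearEquiv.ofBijective g hg
  haveI : IsNoetherianRing (MvPolynomial (Fin n) R₀) := inferInstance
  haveI : Module.Flat R₀ (MvPolynomial (Fin n) R₀) := inferInstance
  intro m
  exact (isNPC_tensor R₀ A (MvPolynomial (Fin n) R₀) (MvPolynomial (Fin n) A) (1 - m).toNat m
    (by lia) M₀).of_iso ((DerivedCategory.singleFunctor (ModuleCat.{u} (MvPolynomial (Fin n) A)) 0).mapIso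
      (LinearEquiv.toModuleIso eqv))

end Groth.Agent.Lib.Helper28.ModPC
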