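import Mathlib
import Groth.Agent.Lib.Helper28.ModPC1
import Groth.Agent.S7068
import Groth.Agent.Lib.Helper13.PCMor1
set_option autoImplicit false
set_option linter.unusedSectionVars false
set_option linter.unusedVariables false
universe u
open CategoryTheory CategoryTheory.Limits TensorProduct

attribute [local instance] HasDerivedCategory.standard

namespace Groth.Agent.Lib.Helper28.ModPC

open Groth.Agent.Lib.Helper13.DR Groth.Agent.Lib.Helper13.PC PCoh
  Groth.Agent.Lib.Helper11.PCFlatBC

/-- A finitely presented module over a polynomial ring `B[x₁..x_k]` which is flat over `B` is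
pseudo-coherent over `B[x₁..x_k]`. -/
theorem isNPC_of_flat_fp (B : Type u) [CommRing B] (k : ℕ) (N : Type u) [AddCommGroup N]
    [Module (MvPolynomial (Fin k) B) N] [Module B N] [IsScalarTower B (MvPolynomial (Fin k) B) N]
    [Module.FinitePresentation (MvPolynomial (Fin k) B) N] [Module.Flat B N] (m : ℤ) :
    IsNPC (Pff (MvPolynomial (Fin k) B)) m
      ((DerivedCategory.singleFunctor (ModuleCat.{u} (MvPolynomial (Fin k) B)) 0).obj
        (ModuleCat.of (MvPolynomial (Fin k) B) N)) := by
  obtain ⟨R₀, _, _, S₀, _, _, _, _, _, _, M₀, _, _, _, _, instSB, hT, f, hR₀, hS₀, hM₀, hfl, hpo, hf⟩ :=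
    Groth.Agent.S9456.result B (MvPolynomial (Fin k) B) N
  haveI : IsNoetherianRing R₀ := Algebra.FiniteType.isNoetherianRing ℤ R₀
  obtain ⟨n, φ, hφ, h⟩ := exists_isNPC_of_model R₀ B S₀ (MvPolynomial (Fin k) B) M₀ N f hf
  have h1 := (Groth.Agent.S7068.result B (MvPolynomial (Fin k) B)).1
  have h2 := (Groth.Agent.Lib.Helper13.PM.isPseudoCoherentHom_iff_relPC _ _).1 h1
  have h3 := isPCHom_of_isRelPseudoCoherentModuleAll φ hφ h2
  rw [isNPC_restrictD_iff h3 m]
  exact (h m).of_iso (restrictDSingleIso _ _).symm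

end Groth.Agent.Lib.Helper28.ModPC
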