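import Mathlib
import Groth.Agent.Lib.Helper28.FinPush
import Groth.Agent.Lib.Helper28.ClPush4
import Groth.Agent.Lib.Helper29.QCohOmega
import Groth.Prelude.Def_DerSch2

/-!
# Relative pseudo-coherence: generalized chart immersions and change of presentation (helper28)
-/

set_option autoImplicit false

universe u

open CategoryTheory Limits AlgebraicGeometry

namespace Groth.Agent.Lib.Helper28.RelPC

noncomputable section

attribute [local instance] HasDerivedCategory.standard

open Groth.Agent.Lib.Helper29.QCoh Groth.Agent.Lib.Helper28.DCohRes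
  Groth.Agent.Lib.Helper13.PC Groth.Agent.Lib.Helper13.DR Groth.Agent.Lib.Helper28.FinPush
  Groth.Agent.Lib.Helper28.ClPush

variable {X : Scheme.{u}} (U : X.Opens)

/-- the morphism `U ⟶ Spec B` attached to a ring map `B → Γ(X, U)` -/
def gImm {B : Type u} [CommRing B] (θ : B →+* Γ(X, U)) :
    (U : Scheme.{u}) ⟶ Spec (CommRingCat.of B) :=
  U.toSpecΓ ≫ Spec.map (CommRingCat.ofHom θ)

lemma gImm_comp {B B' : Type u} [CommRing B] [CommRing B'] (θ : B →+* Γ(X, U)) (π : B' →+* B) :
    gImm U (θ.comp π) = gImm U θ ≫ Spec.map (CommRingCat.ofHom π) := by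
  unfold gImm
  rw [Category.assoc, ← Spec.map_comp]
  rfl

lemma isClosedImmersion_gImm (hU : IsAffineOpen U) {B : Type u} [CommRing B]
    (θ : B →+* Γ(X, U)) (hθ : Function.Surjective θ) : IsClosedImmersion (gImm U θ) := by
  haveI : IsIso U.toSpecΓ := by
    rw [← hU.isoSpec_hom]
    infer_instance
  haveI : IsClosedImmersion (Spec.map (CommRingCat.ofHom θ)) :=
    IsClosedImmersion.spec_of_surjective _ hθ
  unfold gImm
  infer_instance

/-- the structure sheaf of an affine scheme is the tilde of the ring -/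
lemma nonempty_unitM_iso_tilde (B : CommRingCat.{u}) :
    Nonempty (unitM (Spec B) ≅ tilde (ModuleCat.of B B)) :=
  nonempty_iso_tilde_of_addEquiv (unitM (Spec B)) (ModuleCat.of B B)
    (ΓSpecRingEquiv B).toAddEquiv (fun c s => map_mul (ΓSpecRingEquiv B) c s)

/-- a surjective ring map making the target a pseudo-coherent module gives closed immersion
data -/
theorem cDat_spec {B B' : Type u} [CommRing B] [CommRing B'] (π : B' →+* B)
    (hπ : Function.Surjective π) (hπ' : IsPCHom π) :
    CDat (Spec.map (CommRingCat.ofHom π)) := by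
  refine ⟨IsClosedImmersion.spec_of_surjective _ hπ, fun m => ?_⟩
  haveI : PreservesFiniteLimits (tilde.functor (CommRingCat.of B')) :=
    Groth.Agent.Lib.Helper17.KProjAff.preservesFiniteLimits_tilde _
  obtain ⟨e0⟩ := nonempty_unitM_iso_tilde (CommRingCat.of B)
  let W : ModuleCat.{u} B' := (ModuleCat.restrictScalars π).obj (ModuleCat.of B B)
  have e1 : (Scheme.Modules.pushforward (Spec.map (CommRingCat.ofHom π))).obj
      (unitM (Spec (CommRingCat.of B))) ≅ tilde W :=
    (Scheme.Modules.pushforward (Spec.map (CommRingCat.ofHom π))).mapIso e0 ≪≫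
      (Groth.Agent.Lib.Helper17.TildePush.tildePushIso (CommRingCat.ofHom π)).app
        (ModuleCat.of B B)
  have e2 : DCoh.inD (Spec (CommRingCat.of B'))
      ((Scheme.Modules.pushforward (Spec.map (CommRingCat.ofHom π))).obj
        (unitM (Spec (CommRingCat.of B)))) ≅
      (DCoh.tildeD (CommRingCat.of B')).obj ((DerivedCategory.singleFunctor _ 0).obj W) :=
    (DerivedCategory.singleFunctor _ 0).mapIso e1 ≪≫
      (((tilde.functor (CommRingCat.of B')).mapDerivedCategorySingleFunctor 0).app _).symm
  exact isPseudoCoherentD_of_iso e2.symm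
    ((isPseudoCoherentD_tildeD_iff (CommRingCat.of B') _ m).2 (hπ' m))

/-- pseudo-coherence of the push-forward along a generalized chart -/
def PushPCx (m : ℤ) (L : CochainComplex (U : Scheme.{u}).Modules ℤ) {B : Type u} [CommRing B]
    (θ : B →+* Γ(X, U)) : Prop :=
  DCoh.IsPseudoCoherentD m (DerivedCategory.Q.obj ((DerSch.pushCx (gImm U θ)).obj L))

/-- push-forward of complexes along a composition -/
def pushCxComp {X₁ X₂ X₃ : Scheme.{u}} (f : X₁ ⟶ X₂) (g : X₂ ⟶ X₃) :
    DerSch.pushCx f ⋙ DerSch.pushCx g ≅ DerSch.pushCx (f ≫ g) :=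
  Functor.mapHomologicalComplexCompIso (Scheme.Modules.pushforwardComp f g) (ComplexShape.up ℤ)

lemma pushPCx_of_eq (m : ℤ) (L : CochainComplex (U : Scheme.{u}).Modules ℤ) {B : Type u}
    [CommRing B] {θ θ' : B →+* Γ(X, U)} (h : θ = θ') (hL : PushPCx U m L θ) :
    PushPCx U m L θ' := h ▸ hL

/-- **change of presentation** -/
theorem pushPCx_comp_iff (hU : IsAffineOpen U) {B B' : Type u} [CommRing B] [CommRing B']
    (θ : B →+* Γ(X, U)) (hθ : Function.Surjective θ) (π : B' →+* B)
    (hπ : Function.Surjective π) (hπ' : IsPCHom π) (m : ℤ)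
    (L : CochainComplex (U : Scheme.{u}).Modules ℤ) :
    PushPCx U m L θ ↔ PushPCx U m L (θ.comp π) := by
  haveI := isClosedImmersion_gImm U hU θ hθ
  have hC := cDat_spec π hπ hπ'
  haveI := hC.cl
  set p := Spec.map (CommRingCat.ofHom π) with hp
  set i := gImm U θ with hi
  have e : DerivedCategory.Q.obj ((DerSch.pushCx (gImm U (θ.comp π))).obj L) ≅
      (Scheme.Modules.pushforward p).mapDerivedCategory.obj
        (DerivedCategory.Q.obj ((DerSch.pushCx i).obj L)) := by
    rw [gImm_comp]
    exact DerivedCategory.Q.mapIso ((pushCxComp i p).app L).symm ≪≫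
      ((Scheme.Modules.pushforward p).mapDerivedCategoryFactors.app _).symm
  unfold PushPCx
  rw [isPseudoCoherentD_pushforward_iff p hC.hO _ m]
  exact ⟨fun h => isPseudoCoherentD_of_iso e.symm h, fun h => isPseudoCoherentD_of_iso e h⟩

end

end Groth.Agent.Lib.Helper28.RelPC
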