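import Mathlib
import Groth.Agent.Lib.Helper28.RelPC1

/-!
# Relative pseudo-coherence: independence of the chart (helper28)
-/

set_option autoImplicit false

universe u

open CategoryTheory Limits AlgebraicGeometry

namespace Groth.Agent.Lib.Helper28.RelPC

noncomputable section

attribute [local instance] HasDerivedCategory.standard

open Groth.Agent.Lib.Helper29.QCoh Groth.Agent.Lib.Helper28.DCohRes
  Groth.Agent.Lib.Helper13.PC Groth.Agent.Lib.Helper13.DR Groth.Agent.Lib.Helper28.FinPush
  Groth.Agent.Lib.Helper28.ClPush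

section Alg

variable {R A : Type u} [CommRing R] [CommRing A]

lemma eval_surjective {B : Type u} [CommRing B] {k : ℕ} (g : Fin k → B) :
    Function.Surjective (MvPolynomial.eval g) := fun b => ⟨MvPolynomial.C b, by simp⟩

/-- the two extended presentations agree up to swapping the variables -/
lemma comp_eval_comm {n k : ℕ} (φ : MvPolynomial (Fin n) R →+* A) (ψ : MvPolynomial (Fin k) R →+* A)
    (hC : φ.comp MvPolynomial.C = ψ.comp MvPolynomial.C)
    (g : Fin k → MvPolynomial (Fin n) R) (hg : ∀ j, φ (g j) = ψ (MvPolynomial.X j))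
    (g' : Fin n → MvPolynomial (Fin k) R) (hg' : ∀ i, ψ (g' i) = φ (MvPolynomial.X i)) :
    ((ψ.comp (MvPolynomial.eval g')).comp
      ((MvPolynomial.commAlgEquiv R (Fin k) (Fin n)).toRingEquiv :
        MvPolynomial (Fin k) (MvPolynomial (Fin n) R) →+*
          MvPolynomial (Fin n) (MvPolynomial (Fin k) R))) =
      φ.comp (MvPolynomial.eval g) := by
  apply MvPolynomial.ringHom_ext
  · intro p
    change ψ (MvPolynomial.eval g' (MvPolynomial.commAlgEquiv R (Fin k) (Fin n) (MvPolynomial.C p))) =
      φ (MvPolynomial.eval g (MvPolynomial.C p))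
    rw [MvPolynomial.eval_C]
    induction p using MvPolynomial.induction_on with
    | C r =>
      rw [MvPolynomial.commAlgEquiv_C, MvPolynomial.map_C, MvPolynomial.eval_C]
      exact (congrArg (fun t => t r) (congrArg DFunLike.coe hC)).symm
    | add p q hp hq =>
      rw [map_add, map_add, map_add, map_add, map_add, hp, hq]
    | mul_X p i hp =>
      rw [map_mul, map_mul, map_mul, map_mul, map_mul, hp, MvPolynomial.commAlgEquiv_C_X,
        MvPolynomial.eval_X, hg']
  · intro j
    change ψ (MvPolynomial.eval g' (MvPolynomial.commAlgEquiv R (Fin k) (Fin n) (MvPolynomial.X j))) =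
      φ (MvPolynomial.eval g (MvPolynomial.X j))
    rw [MvPolynomial.commAlgEquiv_X, MvPolynomial.eval_C, MvPolynomial.eval_X, hg]

end Alg

variable {X : Scheme.{u}} (U : X.Opens)

/-- **independence of the presentation**, for complexes on `U` -/
theorem pushPCx_indep (hU : IsAffineOpen U) {R : Type u} [CommRing R] {n k : ℕ}
    (φ : MvPolynomial (Fin n) R →+* Γ(X, U)) (hφ : Function.Surjective φ)
    (ψ : MvPolynomial (Fin k) R →+* Γ(X, U)) (hψ : Function.Surjective ψ)
    (hC : φ.comp MvPolynomial.C = ψ.comp MvPolynomial.C) (m : ℤ)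
    (L : CochainComplex (U : Scheme.{u}).Modules ℤ) (h : PushPCx U m L φ) :
    PushPCx U m L ψ := by
  choose g hg using fun j : Fin k => hφ (ψ (MvPolynomial.X j))
  choose g' hg' using fun i : Fin n => hψ (φ (MvPolynomial.X i))
  have h1 := (pushPCx_comp_iff U hU φ hφ (MvPolynomial.eval g) (eval_surjective g)
    (isPCHom_mvEval k _ g) m L).1 h
  have h2 := pushPCx_of_eq U m L (comp_eval_comm φ ψ hC g hg g' hg').symm h1
  have hsurj : Function.Surjective (ψ.comp (MvPolynomial.eval g')) :=
    hψ.comp (eval_surjective g')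
  have h3 := (pushPCx_comp_iff U hU (ψ.comp (MvPolynomial.eval g')) hsurj
    ((MvPolynomial.commAlgEquiv R (Fin k) (Fin n)).toRingEquiv :
        MvPolynomial (Fin k) (MvPolynomial (Fin n) R) →+*
          MvPolynomial (Fin n) (MvPolynomial (Fin k) R))
    (MvPolynomial.commAlgEquiv R (Fin k) (Fin n)).toRingEquiv.surjective
    (isPCHom_of_ringEquiv _) m L).2 h2
  exact (pushPCx_comp_iff U hU ψ hψ (MvPolynomial.eval g') (eval_surjective g')
    (isPCHom_mvEval n _ g') m L).2 h3

/-- **S7207**: chart independence -/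
theorem chartPC_indep {S : Scheme.{u}} (f : X ⟶ S) (hU : IsAffineOpen U)
    (V : S.Opens) (h : U ≤ f ⁻¹ᵁ V) (m : ℤ) (E : DCoh.D X)
    {n : ℕ} (φ : MvPolynomial (Fin n) Γ(S, V) →+* Γ(X, U)) (hφ : DerSch.IsChart f U V h φ)
    (hE : DerSch.ChartPC m E U V φ)
    {k : ℕ} (ψ : MvPolynomial (Fin k) Γ(S, V) →+* Γ(X, U)) (hψ : DerSch.IsChart f U V h ψ) :
    DerSch.ChartPC m E U V ψ := by
  intro G hG
  exact pushPCx_indep U hU φ hφ.1 ψ hψ.1 (hφ.2.trans hψ.2.symm) m _ (hE G hG)

end

end Groth.Agent.Lib.Helper28.RelPC
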