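import Mathlib
import Groth.Agent.Lib.Helper28.RelPC2


/-!
# Base change of the direct image along open immersions (helper28)
-/

set_option autoImplicit false

universe u

open CategoryTheory Limits AlgebraicGeometry

namespace Groth.Agent.Lib.Helper28.RelPC

noncomputable section

open Groth.Agent.Lib.Helper17

/-- for an isomorphism, restriction is the direct image along the inverse -/
def restrictIsoPush {A B : Scheme.{u}} (a : A ≅ B) :
    Scheme.Modules.restrictFunctor a.hom ≅ Scheme.Modules.pushforward a.inv :=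
  (Functor.leftUnitor _).symm ≪≫
    Functor.isoWhiskerRight ((Scheme.Modules.pushforwardId B).symm ≪≫
      Scheme.Modules.pushforwardCongr a.inv_hom_id.symm ≪≫
      (Scheme.Modules.pushforwardComp a.inv a.hom).symm) (Scheme.Modules.restrictFunctor a.hom) ≪≫
    Functor.associator _ _ _ ≪≫
    Functor.isoWhiskerLeft (Scheme.Modules.pushforward a.inv)
      (Scheme.Modules.restrictFunctorAdjCounitIso a.hom) ≪≫ Functor.rightUnitor _

variable {Z T Z' T' : Scheme.{u}} (i : Z ⟶ T) (o : T' ⟶ T) [IsOpenImmersion o] (ι' : Z' ⟶ Z)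
  [IsOpenImmersion ι'] (i' : Z' ⟶ T')

/-- base change: `(i_* M)|_{T'} ≅ i'_* (M|_{Z'})` for a square that is cartesian on points,
with `T' → T` and `Z' → Z` open immersions -/
def bcIso (hsq : i' ≫ o = ι' ≫ i)
    (hr : Set.range ι' = i ⁻¹' Set.range o) :
    Scheme.Modules.pushforward i ⋙ Scheme.Modules.restrictFunctor o ≅
      Scheme.Modules.restrictFunctor ι' ⋙ Scheme.Modules.pushforward i' := by
  let V : T.Opens := o.opensRange
  let a : T' ≅ (V : Scheme.{u}) := o.isoOpensRange
  have ha : a.hom ≫ V.ι = o := Scheme.Hom.isoOpensRange_hom_ι o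
  let W : Z.Opens := i ⁻¹ᵁ V
  have hW : Set.range ι' = Set.range W.ι := by
    rw [Scheme.Opens.range_ι, hr]
    rfl
  let e : Z' ≅ (W : Scheme.{u}) := IsOpenImmersion.isoOfRangeEq ι' W.ι hW
  have he : e.hom ≫ W.ι = ι' := IsOpenImmersion.isoOfRangeEq_hom_fac ι' W.ι hW
  have hi' : e.inv ≫ i' = (i ∣_ V) ≫ a.inv := by
    rw [Iso.inv_comp_eq, ← Category.assoc, Iso.eq_comp_inv, ← cancel_mono V.ι, Category.assoc,
      Category.assoc, ha, hsq, morphismRestrict_ι, ← Category.assoc, he]
  exact
    Functor.isoWhiskerLeft (Scheme.Modules.pushforward i)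
      (Scheme.Modules.restrictFunctorCongr ha.symm ≪≫ Scheme.Modules.restrictFunctorComp a.hom V.ι) ≪≫
    (Functor.associator _ _ _).symm ≪≫
    Functor.isoWhiskerRight (RpushRes.θ i V) (Scheme.Modules.restrictFunctor a.hom) ≪≫
    Functor.associator _ _ _ ≪≫
    Functor.isoWhiskerLeft (Scheme.Modules.restrictFunctor W.ι)
      (Functor.isoWhiskerLeft (Scheme.Modules.pushforward (i ∣_ V)) (restrictIsoPush a) ≪≫
        Scheme.Modules.pushforwardComp (i ∣_ V) a.inv ≪≫
        Scheme.Modules.pushforwardCongr hi'.symm ≪≫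
        (Scheme.Modules.pushforwardComp e.inv i').symm ≪≫
        Functor.isoWhiskerRight (restrictIsoPush e).symm (Scheme.Modules.pushforward i')) ≪≫
    (Functor.associator _ _ _).symm ≪≫
    Functor.isoWhiskerRight ((Scheme.Modules.restrictFunctorComp e.hom W.ι).symm ≪≫
      Scheme.Modules.restrictFunctorCongr he) (Scheme.Modules.pushforward i')

end

end Groth.Agent.Lib.Helper28.RelPC
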