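import Mathlib
import Groth.Agent.Lib.Helper28.RelPC5


/-!
# Localizing a generalized chart (helper28)
-/

set_option autoImplicit false

universe u

open CategoryTheory Limits AlgebraicGeometry

namespace Groth.Agent.Lib.Helper28.RelPC

noncomputable section

attribute [local instance] HasDerivedCategory.standard

open Groth.Agent.Lib.Helper29.QCoh Groth.Agent.Lib.Helper28.DCohRes
  Groth.Agent.Lib.Helper13.PC Groth.Agent.Lib.Helper13.DR Groth.Agent.Lib.Helper28.FinPush
  Groth.Agent.Lib.Helper28.ClPush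

variable {X : Scheme.{u}}

lemma range_homOfLE {U' U : X.Opens} (hle : U' ≤ U) :
    Set.range (X.homOfLE hle) = U.ι ⁻¹' (U' : Set X) := by
  ext x
  constructor
  · rintro ⟨y, rfl⟩
    change (U.ι (X.homOfLE hle y)) ∈ U'
    have : X.homOfLE hle ≫ U.ι = U'.ι := X.homOfLE_ι hle
    rw [← Scheme.Hom.comp_apply, this]
    exact y.2
  · intro hx
    refine ⟨⟨x.1, hx⟩, ?_⟩
    exact Subtype.ext (X.homOfLE_apply hle ⟨x.1, hx⟩)

section Sq

variable (U : X.Opens) {B : Type u} [CommRing B] (θ : B →+* Γ(X, U))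
  (U' : X.Opens) (hle : U' ≤ U) {B' : Type u} [CommRing B'] (ρ : B →+* B')
  (θ' : B' →+* Γ(X, U'))

lemma gImm_square (hθ' : θ'.comp ρ = (X.presheaf.map (homOfLE hle).op).hom.comp θ) :
    gImm U' θ' ≫ Spec.map (CommRingCat.ofHom ρ) = X.homOfLE hle ≫ gImm U θ := by
  unfold gImm
  rw [Category.assoc, ← Spec.map_comp, ← CommRingCat.ofHom_comp, hθ', CommRingCat.ofHom_comp,
    Spec.map_comp, CommRingCat.ofHom_hom, Scheme.Opens.toSpecΓ_SpecMap_presheaf_map_assoc]

end Sq

section Loc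

variable (U : X.Opens) {B : Type u} [CommRing B] (θ : B →+* Γ(X, U)) (b : B)
  (U' : X.Opens) (hU' : U' = X.basicOpen (θ b)) {B' : Type u} [CommRing B'] [Algebra B B']
  [IsLocalization.Away b B']

include hU' in
lemma le_of_eq_basicOpen : U' ≤ U := hU' ▸ X.basicOpen_le _

lemma gImm_cartesian :
    Set.range (X.homOfLE (le_of_eq_basicOpen U θ b U' hU')) =
      (gImm U θ) ⁻¹' Set.range (Spec.map (CommRingCat.ofHom (algebraMap B B'))) := by
  rw [range_homOfLE]
  have h1 : Set.range (Spec.map (CommRingCat.ofHom (algebraMap B B'))) =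
      (PrimeSpectrum.basicOpen b : Set (PrimeSpectrum B)) :=
    PrimeSpectrum.localization_away_comap_range B' b
  rw [h1]
  have h2 := Scheme.Opens.toSpecΓ_preimage_basicOpen U (θ b)
  have h3 : (gImm U θ) ⁻¹' (PrimeSpectrum.basicOpen b : Set (PrimeSpectrum B)) =
      ((U.toSpecΓ ⁻¹ᵁ PrimeSpectrum.basicOpen (θ b) : U.toScheme.Opens) : Set U) := by
    ext x
    rfl
  rw [h3, h2, hU']
  rfl

end Loc

end

end Groth.Agent.Lib.Helper28.RelPC
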