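import Mathlib
import Groth.Agent.Lib.Helper28.RelPC6


/-!
# Localizing a generalized chart: pseudo-coherence (helper28)
-/

set_option autoImplicit false

universe u

open CategoryTheory Limits AlgebraicGeometry

namespace Groth.Agent.Lib.Helper28.RelPC

noncomputable section

attribute [local instance] HasDerivedCategory.standard

open Groth.Agent.Lib.Helper29.QCoh Groth.Agent.Lib.Helper28.DCohRes
  Groth.Agent.Lib.Helper13.PC Groth.Agent.Lib.Helper13.DR Groth.Agent.Lib.Helper28.FinPush
  Groth.Agent.Lib.Helper28.ClPush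

variable {X : Scheme.{u}}

section Loc

variable (U : X.Opens) {B : Type u} [CommRing B] (θ : B →+* Γ(X, U)) (b : B)
  (U' : X.Opens) (hU' : U' = X.basicOpen (θ b)) {B' : Type u} [CommRing B'] [Algebra B B']
  [IsLocalization.Away b B'] (θ' : B' →+* Γ(X, U'))
  (hθ' : θ'.comp (algebraMap B B') =
    (X.presheaf.map (homOfLE (le_of_eq_basicOpen U θ b U' hU')).op).hom.comp θ)

include hθ' in
/-- functor level base change for a localized chart -/
def locNatIso :
    haveI : IsOpenImmersion (Spec.map (CommRingCat.ofHom (algebraMap B B'))) :=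
      IsOpenImmersion.of_isLocalization b
    Scheme.Modules.restrictFunctor U.ι ⋙ Scheme.Modules.pushforward (gImm U θ) ⋙
      Scheme.Modules.restrictFunctor (Spec.map (CommRingCat.ofHom (algebraMap B B'))) ≅
    Scheme.Modules.restrictFunctor U'.ι ⋙ Scheme.Modules.pushforward (gImm U' θ') :=
  haveI : IsOpenImmersion (Spec.map (CommRingCat.ofHom (algebraMap B B'))) :=
    IsOpenImmersion.of_isLocalization b
  Functor.isoWhiskerLeft (Scheme.Modules.restrictFunctor U.ι)
    (bcIso (gImm U θ) (Spec.map (CommRingCat.ofHom (algebraMap B B')))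
      (X.homOfLE (le_of_eq_basicOpen U θ b U' hU')) (gImm U' θ')
      (gImm_square U θ U' _ (algebraMap B B') θ' hθ') (gImm_cartesian U θ b U' hU')) ≪≫
  (Functor.associator _ _ _).symm ≪≫
  Functor.isoWhiskerRight ((Scheme.Modules.restrictFunctorComp
      (X.homOfLE (le_of_eq_basicOpen U θ b U' hU')) U.ι).symm ≪≫
    Scheme.Modules.restrictFunctorCongr (X.homOfLE_ι _)) (Scheme.Modules.pushforward (gImm U' θ'))

/-- complex level base change for a localized chart -/
def locCxIso (G : CochainComplex X.Modules ℤ) :
    haveI : IsOpenImmersion (Spec.map (CommRingCat.ofHom (algebraMap B B'))) :=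
      IsOpenImmersion.of_isLocalization b
    (resCx (Spec.map (CommRingCat.ofHom (algebraMap B B')))).obj
      ((DerSch.pushCx (gImm U θ)).obj ((DCoh.restrictCx U).obj G)) ≅
    (DerSch.pushCx (gImm U' θ')).obj ((DCoh.restrictCx U').obj G) :=
  HomologicalComplex.Hom.isoOfComponents
    (fun n => (locNatIso U θ b U' hU' θ' hθ').app (G.X n))
    (fun n k _ => ((locNatIso U θ b U' hU' θ' hθ').hom.naturality (G.d n k)).symm)

include hU' hθ' in
/-- pseudo-coherence of the restriction to the basic open is pseudo-coherence along the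
localized chart -/
theorem isPC_resD_iff (m : ℤ) (G : CochainComplex X.Modules ℤ) :
    haveI : IsOpenImmersion (Spec.map (CommRingCat.ofHom (algebraMap B B'))) :=
      IsOpenImmersion.of_isLocalization b
    DCoh.IsPseudoCoherentD m ((resD (Spec.map (CommRingCat.ofHom (algebraMap B B')))).obj
      (DerivedCategory.Q.obj ((DerSch.pushCx (gImm U θ)).obj ((DCoh.restrictCx U).obj G)))) ↔
    PushPCx U' m ((DCoh.restrictCx U').obj G) θ' := by
  haveI : IsOpenImmersion (Spec.map (CommRingCat.ofHom (algebraMap B B'))) :=
    IsOpenImmersion.of_isLocalization b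
  have e := (resDQ (Spec.map (CommRingCat.ofHom (algebraMap B B')))).app
      ((DerSch.pushCx (gImm U θ)).obj ((DCoh.restrictCx U).obj G)) ≪≫
    DerivedCategory.Q.mapIso (locCxIso U θ b U' hU' θ' hθ' G)
  exact ⟨fun h => isPseudoCoherentD_of_iso e h, fun h => isPseudoCoherentD_of_iso e.symm h⟩

include hU' hθ' in
/-- pseudo-coherence along a chart passes to the localized chart -/
theorem pushPCx_localize (m : ℤ) (G : CochainComplex X.Modules ℤ)
    (h : PushPCx U m ((DCoh.restrictCx U).obj G) θ) :
    PushPCx U' m ((DCoh.restrictCx U').obj G) θ' := by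
  haveI : IsOpenImmersion (Spec.map (CommRingCat.ofHom (algebraMap B B'))) :=
    IsOpenImmersion.of_isLocalization b
  exact (isPC_resD_iff U θ b U' hU' θ' hθ' m G).1
    (isPseudoCoherentD_resD h (Spec.map (CommRingCat.ofHom (algebraMap B B'))))

end Loc

end

end Groth.Agent.Lib.Helper28.RelPC
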