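import Mathlib
import Groth.Agent.Lib.Helper28.RelPC7
import Groth.Agent.Lib.Helper13.RelPCLoc3


/-!
# The standard chart of a basic open (helper28)
-/

set_option autoImplicit false

universe u

open CategoryTheory Limits AlgebraicGeometry

namespace Groth.Agent.Lib.Helper28.RelPC

noncomputable section

attribute [local instance] HasDerivedCategory.standard

open Groth.Agent.Lib.Helper29.QCoh Groth.Agent.Lib.Helper28.DCohRes
  Groth.Agent.Lib.Helper13.PC Groth.Agent.Lib.Helper13.DR Groth.Agent.Lib.Helper28.FinPush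
  Groth.Agent.Lib.Helper28.ClPush

variable {X : Scheme.{u}}

section LocChart

variable (U : X.Opens) {B : Type u} [CommRing B] (θ : B →+* Γ(X, U)) (b : B)
  (U' : X.Opens) (hU' : U' = X.basicOpen (θ b))

lemma isUnit_res_comp :
    IsUnit (((X.presheaf.map (homOfLE (le_of_eq_basicOpen U θ b U' hU')).op).hom.comp θ) b) := by
  subst hU'
  exact X.toRingedSpace.isUnit_res_basicOpen (θ b)

/-- the localized chart map `B_b → Γ(X, D(θ b))` -/
def locθ : Localization.Away b →+* Γ(X, U') :=
  IsLocalization.Away.lift b (isUnit_res_comp U θ b U' hU')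

lemma locθ_comp : (locθ U θ b U' hU').comp (algebraMap B (Localization.Away b)) =
    (X.presheaf.map (homOfLE (le_of_eq_basicOpen U θ b U' hU')).op).hom.comp θ :=
  IsLocalization.Away.lift_comp b (isUnit_res_comp U θ b U' hU')

lemma locθ_surjective (hU : IsAffineOpen U) (hθ : Function.Surjective θ) :
    Function.Surjective (locθ U θ b U' hU') := by
  letI : Algebra Γ(X, U) Γ(X, U') :=
    (X.presheaf.map (homOfLE (le_of_eq_basicOpen U θ b U' hU')).op).hom.toAlgebra
  haveI : IsLocalization.Away (θ b) Γ(X, U') :=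
    hU.isLocalization_of_eq_basicOpen (θ b) (homOfLE (le_of_eq_basicOpen U θ b U' hU')) hU'
  intro z
  obtain ⟨k, a, hz⟩ := IsLocalization.Away.surj (θ b) z
  obtain ⟨p, rfl⟩ := hθ a
  have hc : ∀ q : B, locθ U θ b U' hU' (algebraMap B (Localization.Away b) q) =
      algebraMap Γ(X, U) Γ(X, U') (θ q) := fun q =>
    congrArg (fun t => t q) (congrArg DFunLike.coe (locθ_comp U θ b U' hU'))
  have h1 : algebraMap Γ(X, U) Γ(X, U') (θ b) *
      locθ U θ b U' hU' (IsLocalization.Away.invSelf (S := Localization.Away b) b) = 1 := by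
    rw [← hc, ← map_mul, IsLocalization.Away.mul_invSelf, map_one]
  refine ⟨algebraMap B (Localization.Away b) p *
    (IsLocalization.Away.invSelf (S := Localization.Away b) b) ^ k, ?_⟩
  rw [map_mul, map_pow, hc, ← hz, mul_assoc, ← mul_pow, h1, one_pow, mul_one]

end LocChart

section Std

variable (U : X.Opens) {R : Type u} [CommRing R] {n : ℕ} (φ : MvPolynomial (Fin n) R →+* Γ(X, U))
  (b : MvPolynomial (Fin n) R) (U' : X.Opens) (hU' : U' = X.basicOpen (φ b))

/-- the standard chart of a basic open -/
def stdChart : MvPolynomial (Fin (n + 1)) R →+* Γ(X, U') :=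
  (locθ U φ b U' hU').comp (awayPres b : MvPolynomial (Fin (n + 1)) R →+* Localization.Away b)

lemma stdChart_surjective (hU : IsAffineOpen U) (hφ : Function.Surjective φ) :
    Function.Surjective (stdChart U φ b U' hU') :=
  (locθ_surjective U φ b U' hU' hU hφ).comp (awayPres_surjective b)

lemma stdChart_comp_C : (stdChart U φ b U' hU').comp MvPolynomial.C =
    (X.presheaf.map (homOfLE (le_of_eq_basicOpen U φ b U' hU')).op).hom.comp
      (φ.comp MvPolynomial.C) := by
  rw [← RingHom.comp_assoc, ← locθ_comp U φ b U' hU', RingHom.comp_assoc]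
  unfold stdChart
  rw [RingHom.comp_assoc]
  congr 1
  ext r
  have := (awayPres b).commutes r
  rw [MvPolynomial.algebraMap_eq] at this
  rw [RingHom.comp_apply, RingHom.comp_apply]
  refine this.trans ?_
  rw [IsScalarTower.algebraMap_apply R (MvPolynomial (Fin n) R) (Localization.Away b),
    MvPolynomial.algebraMap_eq]

theorem pushPCx_stdChart_iff (hU : IsAffineOpen U) (hφ : Function.Surjective φ) (m : ℤ)
    (L : CochainComplex (U' : Scheme.{u}).Modules ℤ) :
    PushPCx U' m L (locθ U φ b U' hU') ↔ PushPCx U' m L (stdChart U φ b U' hU') := by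
  have hU'a : IsAffineOpen U' := hU' ▸ hU.basicOpen (φ b)
  exact pushPCx_comp_iff U' hU'a (locθ U φ b U' hU') (locθ_surjective U φ b U' hU' hU hφ)
    (awayPres b : MvPolynomial (Fin (n + 1)) R →+* Localization.Away b) (awayPres_surjective b)
    (isPCHom_awayPres b) m L

end Std

end

end Groth.Agent.Lib.Helper28.RelPC
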