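import Mathlib
import Groth.Agent.Lib.Helper28.RelPC8


/-!
# Relative pseudo-coherence: basic opens of the source (helper28)
-/

set_option autoImplicit false

universe u

open CategoryTheory Limits AlgebraicGeometry

namespace Groth.Agent.Lib.Helper28.RelPC

noncomputable section

attribute [local instance] HasDerivedCategory.standard

open Groth.Agent.Lib.Helper29.QCoh Groth.Agent.Lib.Helper28.DCohRes
  Groth.Agent.Lib.Helper13.PC Groth.Agent.Lib.Helper13.DR Groth.Agent.Lib.Helper28.FinPush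
  Groth.Agent.Lib.Helper28.ClPush

variable {X : Scheme.{u}}

lemma isZero_of_isEmpty {Z : Scheme.{u}} [IsEmpty Z] (M : Z.Modules) : IsZero M :=
  (isZero_iff_stalk_subsingleton M).2 fun x => (IsEmpty.false x).elim

lemma isZero_cx_of_forall_isZero {A : Type*} [Category A] [Preadditive A]
    (K : CochainComplex A ℤ) (h : ∀ n, IsZero (K.X n)) : IsZero K := by
  rw [IsZero.iff_id_eq_zero]
  ext n
  exact (h n).eq_of_src _ _

/-- on an empty open every complex is pseudo-coherent along every chart -/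
lemma pushPCx_of_isEmpty (U' : X.Opens) (hemp : IsEmpty U') (m : ℤ)
    (L : CochainComplex (U' : Scheme.{u}).Modules ℤ) {B : Type u} [CommRing B]
    (θ : B →+* Γ(X, U')) : PushPCx U' m L θ := by
  haveI : IsEmpty (U' : Scheme.{u}) := hemp
  have hz : IsZero ((DerSch.pushCx (gImm U' θ)).obj L) :=
    isZero_cx_of_forall_isZero _ fun n =>
      (Scheme.Modules.pushforward (gImm U' θ)).map_isZero (isZero_of_isEmpty (L.X n))
  exact isPseudoCoherentD_of_isZero_homology fun i _ =>
    (DerivedCategory.homologyFunctor _ i).map_isZero (DerivedCategory.Q.map_isZero hz)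

variable {S : Scheme.{u}} (f : X ⟶ S)

/-- **P1'**: a chart of `(U, V)` along which `E` is pseudo-coherent gives one for `(D(g), V)` -/
theorem exists_chartPC_basicOpen (U : X.Opens) (hU : IsAffineOpen U) (V : S.Opens)
    (h : U ≤ f ⁻¹ᵁ V) (m : ℤ) (E : DCoh.D X) {n : ℕ}
    (φ : MvPolynomial (Fin n) Γ(S, V) →+* Γ(X, U)) (hφ : DerSch.IsChart f U V h φ)
    (hE : DerSch.ChartPC m E U V φ) (g : Γ(X, U)) (h' : X.basicOpen g ≤ f ⁻¹ᵁ V) :
    ∃ (k : ℕ) (ψ : MvPolynomial (Fin k) Γ(S, V) →+* Γ(X, X.basicOpen g)),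
      DerSch.IsChart f (X.basicOpen g) V h' ψ ∧ DerSch.ChartPC m E (X.basicOpen g) V ψ := by
  obtain ⟨b, hb⟩ := hφ.1 g
  have hU' : X.basicOpen g = X.basicOpen (φ b) := by rw [hb]
  refine ⟨n + 1, stdChart U φ b _ hU', ⟨stdChart_surjective U φ b _ hU' hU hφ.1, ?_⟩, ?_⟩
  · rw [stdChart_comp_C, hφ.2, ← CommRingCat.hom_comp, Scheme.Hom.appLE_map]
  · intro G hG
    exact (pushPCx_stdChart_iff U φ b _ hU' hU hφ.1 m _).1
      (pushPCx_localize U φ b _ hU' (locθ U φ b _ hU') (locθ_comp U φ b _ hU') m G (hE G hG))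

/-- **P4''**: gluing along basic opens of the source -/
theorem chartPC_of_basicOpen_cover (U : X.Opens) (hU : IsAffineOpen U) (V : S.Opens)
    (h : U ≤ f ⁻¹ᵁ V) (m : ℤ) (E : DCoh.D X) {n : ℕ}
    (φ : MvPolynomial (Fin n) Γ(S, V) →+* Γ(X, U)) (hφ : DerSch.IsChart f U V h φ)
    (hcov : ∀ u : X, u ∈ U → ∃ g : Γ(X, U), u ∈ X.basicOpen g ∧
      ∃ (h' : X.basicOpen g ≤ f ⁻¹ᵁ V) (k : ℕ)
        (ψ : MvPolynomial (Fin k) Γ(S, V) →+* Γ(X, X.basicOpen g)),
        DerSch.IsChart f (X.basicOpen g) V h' ψ ∧ DerSch.ChartPC m E (X.basicOpen g) V ψ) :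
    DerSch.ChartPC m E U V φ := by
  intro G hG
  haveI := isClosedImmersion_gImm U hU φ hφ.1
  refine isPseudoCoherentD_of_locally fun t => ?_
  by_cases ht : t ∈ Set.range (gImm U φ)
  · obtain ⟨u, rfl⟩ := ht
    obtain ⟨g, hug, h', k, ψ, hψ, hψE⟩ := hcov u.1 u.2
    obtain ⟨b, hb⟩ := hφ.1 g
    have hU' : X.basicOpen g = X.basicOpen (φ b) := by rw [hb]
    have hU'a : IsAffineOpen (X.basicOpen g) := hU.basicOpen g
    haveI : IsOpenImmersion (Spec.map (CommRingCat.ofHom
        (algebraMap (MvPolynomial (Fin n) Γ(S, V)) (Localization.Away b)))) :=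
      IsOpenImmersion.of_isLocalization b
    refine ⟨_, Spec.map (CommRingCat.ofHom
      (algebraMap (MvPolynomial (Fin n) Γ(S, V)) (Localization.Away b))), inferInstance, ?_, ?_⟩
    · have h1 := gImm_cartesian U φ b (X.basicOpen g) hU' (B' := Localization.Away b)
      have h2 : u ∈ Set.range (X.homOfLE (le_of_eq_basicOpen U φ b _ hU')) := by
        rw [range_homOfLE]
        exact hug
      rw [h1] at h2
      exact h2
    · refine (isPC_resD_iff U φ b _ hU' (locθ U φ b _ hU') (locθ_comp U φ b _ hU') m G).2 ?_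
      refine (pushPCx_stdChart_iff U φ b _ hU' hU hφ.1 m _).2 ?_
      refine pushPCx_indep _ hU'a ψ hψ.1 _ (stdChart_surjective U φ b _ hU' hU hφ.1) ?_ m _
        (hψE G hG)
      rw [stdChart_comp_C, hφ.2, hψ.2, ← CommRingCat.hom_comp, Scheme.Hom.appLE_map]
  · have hopen : IsOpen (Set.range (gImm U φ))ᶜ :=
      (gImm U φ).isClosedEmbedding.isClosed_range.isOpen_compl
    obtain ⟨_, ⟨_, ⟨b, rfl⟩, rfl⟩, htb, hbsub⟩ :=
      PrimeSpectrum.isBasis_basic_opens.exists_subset_of_mem_open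
        (show t ∈ (Set.range (gImm U φ))ᶜ from ht) hopen
    haveI : IsOpenImmersion (Spec.map (CommRingCat.ofHom
        (algebraMap (MvPolynomial (Fin n) Γ(S, V)) (Localization.Away b)))) :=
      IsOpenImmersion.of_isLocalization b
    have hr : Set.range (Spec.map (CommRingCat.ofHom
        (algebraMap (MvPolynomial (Fin n) Γ(S, V)) (Localization.Away b)))) =
        (PrimeSpectrum.basicOpen b : Set (PrimeSpectrum (MvPolynomial (Fin n) Γ(S, V)))) :=
      PrimeSpectrum.localization_away_comap_range (Localization.Away b) b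
    refine ⟨_, Spec.map (CommRingCat.ofHom
      (algebraMap (MvPolynomial (Fin n) Γ(S, V)) (Localization.Away b))), inferInstance, ?_, ?_⟩
    · rw [hr]
      exact htb
    · refine (isPC_resD_iff U φ b (X.basicOpen (φ b)) rfl (locθ U φ b _ rfl)
        (locθ_comp U φ b _ rfl) m G).2 (pushPCx_of_isEmpty _ ?_ m _ _)
      have h1 := gImm_cartesian U φ b (X.basicOpen (φ b)) rfl (B' := Localization.Away b)
      rw [range_homOfLE, hr] at h1
      refine ⟨fun x => ?_⟩
      have hxU : x.1 ∈ U := X.basicOpen_le _ x.2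
      have h2 : (⟨x.1, hxU⟩ : U) ∈ U.ι ⁻¹' (X.basicOpen (φ b) : Set X) := x.2
      rw [h1] at h2
      exact hbsub h2 ⟨_, rfl⟩

end

end Groth.Agent.Lib.Helper28.RelPC
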