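import Mathlib
import Groth.Agent.Lib.Helper28.RelPC9


/-!
# Relative pseudo-coherence: change of the base open (helper28)
-/

set_option autoImplicit false

universe u

open CategoryTheory Limits AlgebraicGeometry

namespace Groth.Agent.Lib.Helper28.RelPC

noncomputable section

attribute [local instance] HasDerivedCategory.standard

open Groth.Agent.Lib.Helper29.QCoh Groth.Agent.Lib.Helper28.DCohRes
  Groth.Agent.Lib.Helper13.PC Groth.Agent.Lib.Helper13.DR Groth.Agent.Lib.Helper28.FinPush
  Groth.Agent.Lib.Helper28.ClPush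

lemma exists_chart_of_finiteType {R A : Type u} [CommRing R] [CommRing A] (ρ : R →+* A)
    (hρ : ρ.FiniteType) :
    ∃ (n : ℕ) (φ : MvPolynomial (Fin n) R →+* A), Function.Surjective φ ∧
      φ.comp MvPolynomial.C = ρ := by
  letI := ρ.toAlgebra
  have h1 : Algebra.FiniteType R A := hρ
  obtain ⟨n, φ, hφ⟩ := Algebra.FiniteType.iff_quotient_mvPolynomial''.1 h1
  refine ⟨n, φ.toRingHom, hφ, ?_⟩
  ext r
  have := φ.commutes r
  rw [MvPolynomial.algebraMap_eq] at this
  exact this

section AlgBase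

attribute [local instance] MvPolynomial.algebraMvPolynomial

variable {R R' : Type u} [CommRing R] [CommRing R'] [Algebra R R'] (r : R)
  [IsLocalization.Away r R'] (n : ℕ)

instance isScalarTower_mvPolynomial :
    IsScalarTower R (MvPolynomial (Fin n) R) (MvPolynomial (Fin n) R') :=
  IsScalarTower.of_algebraMap_eq (fun x => by
    change _ = MvPolynomial.map _ (algebraMap R (MvPolynomial (Fin n) R) x)
    rw [MvPolynomial.algebraMap_eq, MvPolynomial.map_C]
    rfl)

include r in
lemma isLocalization_away_C :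
    IsLocalization.Away (MvPolynomial.C r : MvPolynomial (Fin n) R)
      (MvPolynomial (Fin n) R') := by
  have h1 : IsLocalization ((Submonoid.powers r).map (MvPolynomial.C (σ := Fin n)))
      (MvPolynomial (Fin n) R') := inferInstance
  rw [Submonoid.map_powers] at h1
  exact h1

/-- the presentation `R[x_1..x_n, y] → R_r[x_1..x_n]` -/
def basePres : MvPolynomial (Fin (n + 1)) R →+* MvPolynomial (Fin n) R' :=
  haveI := isLocalization_away_C (R' := R') r n
  (awayPresG (R := R) (MvPolynomial.C r : MvPolynomial (Fin n) R) (MvPolynomial (Fin n) R') :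
    MvPolynomial (Fin (n + 1)) R →+* MvPolynomial (Fin n) R')

lemma basePres_surjective : Function.Surjective (basePres (R' := R') r n) := by
  haveI := isLocalization_away_C (R' := R') r n
  exact awayPresG_surjective _ _

lemma isPCHom_basePres : IsPCHom (basePres (R' := R') r n) := by
  haveI := isLocalization_away_C (R' := R') r n
  exact isPCHom_awayPresG _ _

lemma basePres_comp_C : (basePres (R' := R') r n).comp MvPolynomial.C =
    (MvPolynomial.C : R' →+* MvPolynomial (Fin n) R').comp (algebraMap R R') := by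
  haveI := isLocalization_away_C (R' := R') r n
  refine RingHom.ext fun x => ?_
  have := (awayPresG (R := R) (MvPolynomial.C r : MvPolynomial (Fin n) R)
    (MvPolynomial (Fin n) R')).commutes x
  rw [MvPolynomial.algebraMap_eq] at this
  refine this.trans ?_
  rw [MvPolynomial.algebraMap_apply]
  rfl

end AlgBase

section Base

variable {X S : Scheme.{u}} (f : X ⟶ S)

/-- **P2''**: enlarge the base from `D(r)` to `V` -/
theorem exists_chartPC_enlarge_base (V : S.Opens) (hV : IsAffineOpen V) (r : Γ(S, V))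
    (V' : S.Opens) (hV' : V' = S.basicOpen r) (U : X.Opens) (hU : IsAffineOpen U)
    (hUV' : U ≤ f ⁻¹ᵁ V') (hUV : U ≤ f ⁻¹ᵁ V) (m : ℤ) (E : DCoh.D X) {n : ℕ}
    (φ' : MvPolynomial (Fin n) Γ(S, V') →+* Γ(X, U)) (hφ' : DerSch.IsChart f U V' hUV' φ')
    (hE : DerSch.ChartPC m E U V' φ') :
    ∃ (k : ℕ) (ψ : MvPolynomial (Fin k) Γ(S, V) →+* Γ(X, U)),
      DerSch.IsChart f U V hUV ψ ∧ DerSch.ChartPC m E U V ψ := by
  have hle : V' ≤ V := hV' ▸ S.basicOpen_le r
  letI : Algebra Γ(S, V) Γ(S, V') := (S.presheaf.map (homOfLE hle).op).hom.toAlgebra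
  haveI : IsLocalization.Away r Γ(S, V') :=
    hV.isLocalization_of_eq_basicOpen r (homOfLE hle) hV'
  refine ⟨n + 1, φ'.comp (basePres r n), ⟨hφ'.1.comp (basePres_surjective r n), ?_⟩, ?_⟩
  · rw [RingHom.comp_assoc, basePres_comp_C, ← RingHom.comp_assoc, hφ'.2,
      RingHom.algebraMap_toAlgebra, ← CommRingCat.hom_comp, Scheme.Hom.map_appLE]
  · intro G hG
    exact (pushPCx_comp_iff U hU φ' hφ'.1 (basePres r n) (basePres_surjective r n)
      (isPCHom_basePres r n) m _).1 (hE G hG)

attribute [local instance] MvPolynomial.algebraMvPolynomial in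
/-- **P3''**: shrink the base from `V` to `D(r)` -/
theorem exists_chartPC_shrink_base (V : S.Opens) (hV : IsAffineOpen V) (r : Γ(S, V))
    (V' : S.Opens) (hV' : V' = S.basicOpen r) (U : X.Opens)
    (hUV' : U ≤ f ⁻¹ᵁ V') (hUV : U ≤ f ⁻¹ᵁ V) (m : ℤ) (E : DCoh.D X) {n : ℕ}
    (φ : MvPolynomial (Fin n) Γ(S, V) →+* Γ(X, U)) (hφ : DerSch.IsChart f U V hUV φ)
    (hE : DerSch.ChartPC m E U V φ) :
    ∃ (k : ℕ) (ψ : MvPolynomial (Fin k) Γ(S, V') →+* Γ(X, U)),
      DerSch.IsChart f U V' hUV' ψ ∧ DerSch.ChartPC m E U V' ψ := by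
  have hle : V' ≤ V := hV' ▸ S.basicOpen_le r
  letI : Algebra Γ(S, V) Γ(S, V') := (S.presheaf.map (homOfLE hle).op).hom.toAlgebra
  haveI : IsLocalization.Away r Γ(S, V') :=
    hV.isLocalization_of_eq_basicOpen r (homOfLE hle) hV'
  let ψ : MvPolynomial (Fin n) Γ(S, V') →+* Γ(X, U) :=
    MvPolynomial.eval₂Hom (f.appLE V' U hUV').hom (fun i => φ (MvPolynomial.X i))
  have hψC : ψ.comp MvPolynomial.C = (f.appLE V' U hUV').hom := by
    refine RingHom.ext fun a => ?_
    exact MvPolynomial.eval₂Hom_C _ _ a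
  have hφC : ∀ a, φ (MvPolynomial.C a) = (f.appLE V U hUV).hom a := fun a =>
    congrArg (fun t => t a) (congrArg DFunLike.coe hφ.2)
  have hψφ : ψ.comp (MvPolynomial.map (algebraMap Γ(S, V) Γ(S, V'))) = φ := by
    apply MvPolynomial.ringHom_ext
    · intro a
      rw [RingHom.comp_apply, MvPolynomial.map_C]
      refine (MvPolynomial.eval₂Hom_C _ _ _).trans ?_
      rw [hφC, RingHom.algebraMap_toAlgebra, ← RingHom.comp_apply, ← CommRingCat.hom_comp,
        Scheme.Hom.map_appLE]
    · intro i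
      rw [RingHom.comp_apply, MvPolynomial.map_X]
      exact MvPolynomial.eval₂Hom_X' _ _ i
  have hψs : Function.Surjective ψ := fun a => by
    obtain ⟨p, rfl⟩ := hφ.1 a
    exact ⟨MvPolynomial.map (algebraMap Γ(S, V) Γ(S, V')) p, by rw [← hψφ]; rfl⟩
  refine ⟨n, ψ, ⟨hψs, hψC⟩, ?_⟩
  intro G hG
  haveI := isLocalization_away_C (R' := Γ(S, V')) r n
  have hUeq : U = X.basicOpen (φ (MvPolynomial.C r)) := by
    rw [hφC]
    change U = X.basicOpen (f.appLE V U hUV r)
    rw [Scheme.basicOpen_appLE, ← hV']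
    exact (inf_eq_left.2 hUV').symm
  refine pushPCx_localize U φ (MvPolynomial.C r) U hUeq ψ ?_ m G (hE G hG)
  rw [show (homOfLE (le_of_eq_basicOpen U φ (MvPolynomial.C r) U hUeq)) = 𝟙 U from
    Subsingleton.elim _ _, op_id, X.presheaf.map_id, CommRingCat.hom_id, RingHom.id_comp]
  exact hψφ

end Base

end

end Groth.Agent.Lib.Helper28.RelPC
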