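import Mathlib
import Groth.Agent.Lib.Helper28.RelPC10


/-!
# Relative pseudo-coherence is local: all pairs of affine opens (helper28)
-/

set_option autoImplicit false

universe u

open CategoryTheory Limits AlgebraicGeometry

namespace Groth.Agent.Lib.Helper28.RelPC

noncomputable section

attribute [local instance] HasDerivedCategory.standard

variable {X S : Scheme.{u}} (f : X ⟶ S)

/-- the chart predicate for a pair of opens -/
def HasChartPC (m : ℤ) (E : DCoh.D X) (W : X.Opens) (V : S.Opens) : Prop :=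
  ∃ (h' : W ≤ f ⁻¹ᵁ V) (k : ℕ) (ψ : MvPolynomial (Fin k) Γ(S, V) →+* Γ(X, W)),
    DerSch.IsChart f W V h' ψ ∧ DerSch.ChartPC m E W V ψ

/-- transfer from `(U₁, V₁)` to `(D(c), V)` -/
theorem hasChartPC_transfer (m : ℤ) (E : DCoh.D X) (U₁ : X.Opens) (hU₁ : IsAffineOpen U₁)
    (V₁ : S.Opens) (hV₁ : IsAffineOpen V₁) (h₁ : HasChartPC f m E U₁ V₁)
    (V : S.Opens) (hV : IsAffineOpen V) (r : Γ(S, V)) (r₁ : Γ(S, V₁))
    (hr : S.basicOpen r₁ = S.basicOpen r) (c : Γ(X, U₁))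
    (hc : X.basicOpen c ≤ f ⁻¹ᵁ (S.basicOpen r₁)) :
    HasChartPC f m E (X.basicOpen c) V := by
  obtain ⟨h₁', n, φ, hφ, hφE⟩ := h₁
  have hc₁ : X.basicOpen c ≤ f ⁻¹ᵁ V₁ := (X.basicOpen_le c).trans h₁'
  obtain ⟨k, ψ, hψ, hψE⟩ := exists_chartPC_basicOpen f U₁ hU₁ V₁ h₁' m E φ hφ hφE c hc₁
  obtain ⟨k', ψ', hψ', hψE'⟩ := exists_chartPC_shrink_base f V₁ hV₁ r₁ _ rfl (X.basicOpen c)
    hc hc₁ m E ψ hψ hψE
  have hcV : X.basicOpen c ≤ f ⁻¹ᵁ V :=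
    hc.trans (f.preimage_mono (hr ▸ S.basicOpen_le r))
  obtain ⟨k'', ψ'', hψ'', hψE''⟩ := exists_chartPC_enlarge_base f V hV r _ hr (X.basicOpen c)
    (hU₁.basicOpen c) hc hcV m E ψ' hψ' hψE'
  exact ⟨hcV, k'', ψ'', hψ'', hψE''⟩

/-- **(Loc)**: relative pseudo-coherence can be tested on all pairs of affine opens -/
theorem isPseudoCoherentRel_iff_forall [LocallyOfFiniteType f] (m : ℤ) (E : DCoh.D X) :
    DerSch.IsPseudoCoherentRel f m E ↔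
      ∀ (U : X.affineOpens) (V : S.affineOpens) (h : (U : X.Opens) ≤ f ⁻¹ᵁ (V : S.Opens)),
        ∃ (n : ℕ) (φ : MvPolynomial (Fin n) Γ(S, (V : S.Opens)) →+* Γ(X, (U : X.Opens))),
          DerSch.IsChart f (U : X.Opens) (V : S.Opens) h φ ∧
            DerSch.ChartPC m E (U : X.Opens) (V : S.Opens) φ := by
  constructor
  · rintro ⟨-, 𝒱, h𝒱, H⟩ U V h
    obtain ⟨n, φ, hφs, hφC⟩ := exists_chart_of_finiteType _
      (LocallyOfFiniteType.finiteType_appLE f V.2 U.2 h)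
    refine ⟨n, φ, ⟨hφs, hφC⟩, ?_⟩
    refine chartPC_of_basicOpen_cover f (U : X.Opens) U.2 (V : S.Opens) h m E φ ⟨hφs, hφC⟩ ?_
    intro u hu
    -- a member of the cover of `S` containing `f u`
    have h1 : f u ∈ (⨆ V ∈ 𝒱, (V : S.Opens)) := by rw [h𝒱]; trivial
    simp only [TopologicalSpace.Opens.mem_iSup] at h1
    obtain ⟨V₁, hV₁𝒱, hfu⟩ := h1
    obtain ⟨𝒰, h𝒰, H'⟩ := H V₁ hV₁𝒱
    have h2 : u ∈ (⨆ U ∈ 𝒰, (U : X.Opens)) := by rw [h𝒰]; exact hfu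
    simp only [TopologicalSpace.Opens.mem_iSup] at h2
    obtain ⟨U₁, hU₁𝒰, huU₁⟩ := h2
    have hU₁V₁ : (U₁ : X.Opens) ≤ f ⁻¹ᵁ (V₁ : S.Opens) := by
      rw [← h𝒰]
      exact le_iSup₂ (f := fun (U : X.affineOpens) (_ : U ∈ 𝒰) => (U : X.Opens)) U₁ hU₁𝒰
    obtain ⟨n₁, φ₁, hφ₁, hφ₁E⟩ := H' U₁ hU₁𝒰 hU₁V₁
    -- a common basic open of `V` and `V₁` around `f u`
    obtain ⟨r, r₁, hrr₁, hfur⟩ := exists_basicOpen_le_affine_inter V.2 V₁.2 (f u) ⟨h hu, hfu⟩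
    -- the preimages in `U` and `U₁`
    have hUa : IsAffineOpen (X.basicOpen (f.appLE (V : S.Opens) (U : X.Opens) h r)) :=
      U.2.basicOpen _
    have hU₁a : IsAffineOpen (X.basicOpen (f.appLE (V₁ : S.Opens) (U₁ : X.Opens) hU₁V₁ r₁)) :=
      U₁.2.basicOpen _
    have hu1 : u ∈ X.basicOpen (f.appLE (V : S.Opens) (U : X.Opens) h r) := by
      rw [Scheme.basicOpen_appLE]
      exact ⟨hu, hfur⟩
    have hu2 : u ∈ X.basicOpen (f.appLE (V₁ : S.Opens) (U₁ : X.Opens) hU₁V₁ r₁) := by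
      rw [Scheme.basicOpen_appLE, ← hrr₁]
      exact ⟨huU₁, hfur⟩
    obtain ⟨a₁, c₁, hac₁, hua₁⟩ := exists_basicOpen_le_affine_inter hUa hU₁a u ⟨hu1, hu2⟩
    obtain ⟨a, ha⟩ := U.2.basicOpen_basicOpen_is_basicOpen _ a₁
    obtain ⟨c, hc⟩ := U₁.2.basicOpen_basicOpen_is_basicOpen _ c₁
    have hW : X.basicOpen c = X.basicOpen a := by rw [hc, ha, hac₁]
    have hcle : X.basicOpen c ≤ f ⁻¹ᵁ (S.basicOpen r₁) := by
      rw [hc]
      refine (X.basicOpen_le c₁).trans ?_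
      rw [Scheme.basicOpen_appLE]
      exact inf_le_right
    have key : HasChartPC f m E (X.basicOpen c) (V : S.Opens) :=
      hasChartPC_transfer f m E (U₁ : X.Opens) U₁.2 (V₁ : S.Opens) V₁.2
        ⟨hU₁V₁, n₁, φ₁, hφ₁, hφ₁E⟩ (V : S.Opens) V.2 r r₁ hrr₁.symm c hcle
    rw [hW] at key
    exact ⟨a, by rw [ha]; exact hua₁, key⟩
  · intro H
    refine ⟨inferInstance, Set.univ, ?_, fun V _ => ⟨{U | (U : X.Opens) ≤ f ⁻¹ᵁ (V : S.Opens)},
      ?_, fun U _ h => H U V h⟩⟩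
    · rw [← iSup_affineOpens_eq_top S]
      simp
    · apply le_antisymm
      · exact iSup₂_le fun U hU => hU
      · intro x hx
        obtain ⟨W, hW, hxW, hWle⟩ := exists_isAffineOpen_mem_and_subset (x := x)
          (U := f ⁻¹ᵁ (V : S.Opens)) hx
        simp only [TopologicalSpace.Opens.mem_iSup]
        exact ⟨⟨W, hW⟩, hWle, hxW⟩

/-- relative pseudo-coherence gives pseudo-coherence along every chart of every pair of affine
opens -/
theorem chartPC_of_isPseudoCoherentRel [LocallyOfFiniteType f] (m : ℤ) (E : DCoh.D X)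
    (hE : DerSch.IsPseudoCoherentRel f m E) (U : X.Opens) (hU : IsAffineOpen U) (V : S.Opens)
    (hV : IsAffineOpen V) (h : U ≤ f ⁻¹ᵁ V) {n : ℕ}
    (φ : MvPolynomial (Fin n) Γ(S, V) →+* Γ(X, U)) (hφ : DerSch.IsChart f U V h φ) :
    DerSch.ChartPC m E U V φ := by
  obtain ⟨k, ψ, hψ, hψE⟩ := (isPseudoCoherentRel_iff_forall f m E).1 hE ⟨U, hU⟩ ⟨V, hV⟩ h
  exact chartPC_indep U f hU V h m E ψ hψ hψE φ hφ

end

end Groth.Agent.Lib.Helper28.RelPC
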