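import Mathlib
import Groth.Agent.Lib.Helper28.RelPC11


/-!
# Relative pseudo-coherence: the derived chart functor, triangles and summands (helper28)
-/

set_option autoImplicit false

universe u

open CategoryTheory Limits AlgebraicGeometry Pretriangulated

namespace Groth.Agent.Lib.Helper28.RelPC

noncomputable section

attribute [local instance] HasDerivedCategory.standard

open Groth.Agent.Lib.Helper29.QCoh Groth.Agent.Lib.Helper28.DCohRes
  Groth.Agent.Lib.Helper13.PC Groth.Agent.Lib.Helper13.DR Groth.Agent.Lib.Helper28.FinPush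
  Groth.Agent.Lib.Helper28.ClPush

variable {X : Scheme.{u}}

section ChartD

variable {Z T : Scheme.{u}} (j : Z ⟶ X) [IsOpenImmersion j] (i : Z ⟶ T) [IsClosedImmersion i]

/-- restriction to an open followed by the (exact) direct image along a closed immersion, on
derived categories -/
def chartD : DCoh.D X ⥤ DCoh.D T :=
  resD j ⋙ (Scheme.Modules.pushforward i).mapDerivedCategory

instance : (chartD j i).CommShift ℤ := by unfold chartD; infer_instance

instance : (chartD j i).IsTriangulated := by unfold chartD; infer_instance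

instance : (chartD j i).Additive := by unfold chartD; infer_instance

instance : PreservesBinaryBiproducts (chartD j i) :=
  preservesBinaryBiproducts_of_preservesBiproducts _

/-- on representatives -/
def chartDQ (G : CochainComplex X.Modules ℤ) :
    (chartD j i).obj (DerivedCategory.Q.obj G) ≅
      DerivedCategory.Q.obj ((DerSch.pushCx i).obj ((resCx j).obj G)) :=
  (Scheme.Modules.pushforward i).mapDerivedCategory.mapIso ((resDQ j).app G) ≪≫
    (Scheme.Modules.pushforward i).mapDerivedCategoryFactors.app _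

end ChartD

section Chart

variable (U : X.Opens) {B : Type u} [CommRing B] (θ : B →+* Γ(X, U))

/-- pseudo-coherence along a chart, for all representatives, is pseudo-coherence of the image
under the derived chart functor -/
theorem forall_pushPCx_iff (hU : IsAffineOpen U) (hθ : Function.Surjective θ) (m : ℤ)
    (K : DCoh.D X) :
    haveI := isClosedImmersion_gImm U hU θ hθ
    (∀ G : CochainComplex X.Modules ℤ, Nonempty (DCoh.toD X G ≅ K) →
      PushPCx U m ((DCoh.restrictCx U).obj G) θ) ↔
    DCoh.IsPseudoCoherentD m ((chartD U.ι (gImm U θ)).obj K) := by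
  haveI := isClosedImmersion_gImm U hU θ hθ
  constructor
  · intro h
    have h1 := h (DerivedCategory.Q.objPreimage K) ⟨DerivedCategory.Q.objObjPreimageIso K⟩
    exact isPseudoCoherentD_of_iso ((chartDQ U.ι (gImm U θ) _).symm ≪≫
      (chartD U.ι (gImm U θ)).mapIso (DerivedCategory.Q.objObjPreimageIso K)) h1
  · rintro h G ⟨e⟩
    exact isPseudoCoherentD_of_iso ((chartD U.ι (gImm U θ)).mapIso e.symm ≪≫
      chartDQ U.ι (gImm U θ) G) h

end Chart

section Rel

variable {S : Scheme.{u}} (f : X ⟶ S)

/-- relative pseudo-coherence through the derived chart functors of all charts of all pairs of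
affine opens -/
theorem isPseudoCoherentRel_iff_chartD [LocallyOfFiniteType f] (m : ℤ) (K : DCoh.D X) :
    DerSch.IsPseudoCoherentRel f m K ↔
      ∀ (U : X.Opens) (_ : IsAffineOpen U) (V : S.Opens) (_ : IsAffineOpen V)
        (h : U ≤ f ⁻¹ᵁ V) {n : ℕ} (φ : MvPolynomial (Fin n) Γ(S, V) →+* Γ(X, U))
        (_ : DerSch.IsChart f U V h φ) [IsClosedImmersion (gImm U φ)],
        DCoh.IsPseudoCoherentD m ((chartD U.ι (gImm U φ)).obj K) := by
  constructor
  · intro hK U hU V hV h n φ hφ _
    exact (forall_pushPCx_iff U φ hU hφ.1 m K).1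
      (chartPC_of_isPseudoCoherentRel f m K hK U hU V hV h φ hφ)
  · intro H
    refine (isPseudoCoherentRel_iff_forall f m K).2 fun U V h => ?_
    obtain ⟨n, φ, hφs, hφC⟩ := exists_chart_of_finiteType _
      (LocallyOfFiniteType.finiteType_appLE f V.2 U.2 h)
    haveI := isClosedImmersion_gImm (U : X.Opens) U.2 φ hφs
    exact ⟨n, φ, ⟨hφs, hφC⟩, (forall_pushPCx_iff (U : X.Opens) φ U.2 hφs m K).2
      (H U U.2 V V.2 h φ ⟨hφs, hφC⟩)⟩

/-- **S6204**: two out of three in distinguished triangles -/
theorem isPseudoCoherentRel_triangle [LocallyOfFiniteType f] (n : ℤ)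
    (T : Triangle (DCoh.D X)) (hT : T ∈ distTriang _) :
    (DerSch.IsPseudoCoherentRel f (n + 1) T.obj₁ → DerSch.IsPseudoCoherentRel f n T.obj₂ →
        DerSch.IsPseudoCoherentRel f n T.obj₃) ∧
      (DerSch.IsPseudoCoherentRel f n T.obj₁ → DerSch.IsPseudoCoherentRel f n T.obj₃ →
        DerSch.IsPseudoCoherentRel f n T.obj₂) ∧
      (DerSch.IsPseudoCoherentRel f n T.obj₂ → DerSch.IsPseudoCoherentRel f (n - 1) T.obj₃ →
        DerSch.IsPseudoCoherentRel f n T.obj₁) := by
  refine ⟨fun h₁ h₂ => ?_, fun h₁ h₃ => ?_, fun h₂ h₃ => ?_⟩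
  · rw [isPseudoCoherentRel_iff_chartD] at h₁ h₂ ⊢
    intro U hU V hV h k φ hφ _
    exact (isPseudoCoherentD_triangle n _
      ((chartD U.ι (gImm U φ)).map_distinguished T hT)).1 (h₁ U hU V hV h φ hφ)
      (h₂ U hU V hV h φ hφ)
  · rw [isPseudoCoherentRel_iff_chartD] at h₁ h₃ ⊢
    intro U hU V hV h k φ hφ _
    exact (isPseudoCoherentD_triangle n _
      ((chartD U.ι (gImm U φ)).map_distinguished T hT)).2.1 (h₁ U hU V hV h φ hφ)
      (h₃ U hU V hV h φ hφ)
  · rw [isPseudoCoherentRel_iff_chartD] at h₂ h₃ ⊢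
    intro U hU V hV h k φ hφ _
    have h2 := h₂ U hU V hV h φ hφ
    have h3 := h₃ U hU V hV h φ hφ
    have e : n - 1 + 1 = n := by omega
    have key := (isPseudoCoherentD_triangle (n - 1) _
      ((chartD U.ι (gImm U φ)).map_distinguished T hT)).2.2
    rw [e] at key
    exact key h2 h3

/-- **S7214**: direct summands -/
theorem isPseudoCoherentRel_of_biprod (m : ℤ) (E K : DCoh.D X) [HasBinaryBiproduct E K]
    (h : DerSch.IsPseudoCoherentRel f m (E ⊞ K)) :
    DerSch.IsPseudoCoherentRel f m E ∧ DerSch.IsPseudoCoherentRel f m K := by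
  haveI := h.1
  rw [isPseudoCoherentRel_iff_chartD] at h
  constructor
  · rw [isPseudoCoherentRel_iff_chartD]
    intro U hU V hV hle k φ hφ _
    have h1 := h U hU V hV hle φ hφ
    exact (isPseudoCoherentD_of_biprod m _ _ (isPseudoCoherentD_of_iso
      ((chartD U.ι (gImm U φ)).mapBiprod E K) h1)).1
  · rw [isPseudoCoherentRel_iff_chartD]
    intro U hU V hV hle k φ hφ _
    have h1 := h U hU V hV hle φ hφ
    exact (isPseudoCoherentD_of_biprod m _ _ (isPseudoCoherentD_of_iso
      ((chartD U.ι (gImm U φ)).mapBiprod E K) h1)).2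

end Rel

end

end Groth.Agent.Lib.Helper28.RelPC
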