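import Mathlib
import Groth.Agent.Lib.Helper28.RelPC12
import Groth.Agent.Lib.Helper2.DerTrunc


/-!
# Pseudo-coherence from the cohomology sheaves (helper28)
-/

set_option autoImplicit false

universe u

open CategoryTheory Limits AlgebraicGeometry Pretriangulated

namespace Groth.Agent.Lib.Helper28.RelPC

noncomputable section

attribute [local instance] HasDerivedCategory.standard

open Groth.Agent.Lib.Helper29.QCoh Groth.Agent.Lib.Helper28.DCohRes
  Groth.Agent.Lib.Helper13.PC Groth.Agent.Lib.Helper13.DR Groth.Agent.Lib.Helper28.FinPush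
  Groth.Agent.Lib.Helper28.ClPush Groth.Agent.Lib.Helper2.DerTrunc

lemma isPseudoCoherentD_inD_of_isZero {T : Scheme.{u}} (m : ℤ) (M : T.Modules) (hM : IsZero M) :
    DCoh.IsPseudoCoherentD m (DCoh.inD T M) :=
  isPseudoCoherentD_of_isZero_homology fun j _ =>
    (DerivedCategory.homologyFunctor _ j).map_isZero
      ((DerivedCategory.singleFunctor _ 0).map_isZero hM)

/-- an object bounded above whose cohomology sheaves `H^i` are `(m - i)`-pseudo-coherent is
`m`-pseudo-coherent -/
theorem isPseudoCoherentD_of_homology {T : Scheme.{u}} (m : ℤ) :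
    ∀ (k : ℕ) (K : DCoh.D T) (b : ℤ), K.IsLE b → b - m < k →
      (∀ i : ℤ, DCoh.IsPseudoCoherentD (m - i) (DCoh.inD T (DCoh.HD K i))) →
      DCoh.IsPseudoCoherentD m K
  | 0 => fun K b hb hk _ =>
      isPseudoCoherentD_of_isZero_homology fun i hi => K.isZero_of_isLE b i (by omega)
  | (k + 1) => fun K b hb hk h => by
      by_cases hbm : b < m
      · exact isPseudoCoherentD_of_isZero_homology fun i hi => K.isZero_of_isLE b i (by omega)
      · have hT := (tt (A := T.Modules)).triangleLTGE_distinguished b K
        refine (isPseudoCoherentD_triangle m _ hT).2.1 ?_ ?_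
        · have h2 : (((tt (A := T.Modules)).truncLT b).obj K).IsLE (b - 1) := inferInstance
          refine isPseudoCoherentD_of_homology m k _ (b - 1) h2 (by push_cast at hk; omega)
            fun i => ?_
          by_cases hi : i < b
          · haveI := isIso_homology_truncLTι K b i hi
            exact isPseudoCoherentD_of_iso ((DerivedCategory.singleFunctor _ 0).mapIso
              (asIso ((DerivedCategory.homologyFunctor _ i).map
                (((tt (A := T.Modules)).truncLTι b).app K))).symm) (h i)
          · exact isPseudoCoherentD_inD_of_isZero _ _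
              (isZero_homology_truncLT K b i (by omega))
        · obtain ⟨Y, ⟨e⟩⟩ := DerivedCategory.exists_iso_singleFunctor_obj_of_isGE_of_isLE
            (((tt (A := T.Modules)).truncGE b).obj K) b
          haveI := isIso_homology_truncGEπ K b b le_rfl
          have e' : DCoh.HD K b ≅ Y :=
            asIso ((DerivedCategory.homologyFunctor _ b).map
              (((tt (A := T.Modules)).truncGEπ b).app K)) ≪≫
            (DerivedCategory.homologyFunctor _ b).mapIso e ≪≫
            (DerivedCategory.singleFunctorCompHomologyFunctorIso _ b).app Y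
          have h1 : DCoh.IsPseudoCoherentD (m - b) (DCoh.inD T Y) :=
            isPseudoCoherentD_of_iso ((DerivedCategory.singleFunctor _ 0).mapIso e') (h b)
          have h2 := isPseudoCoherentD_shift h1 (-b) m (by omega)
          have e2 : (DCoh.inD T Y)⟦-b⟧ ≅ (DerivedCategory.singleFunctor _ b).obj Y :=
            ((DerivedCategory.singleFunctors T.Modules).shiftIso (-b) b 0 (by omega)).app Y
          exact isPseudoCoherentD_of_iso (e2 ≪≫ e.symm) h2

section ChartDH

variable {X : Scheme.{u}} {Z T : Scheme.{u}} (j : Z ⟶ X) [IsOpenImmersion j] (i : Z ⟶ T)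
  [IsClosedImmersion i]

/-- the derived chart functor on a module placed in degree `0` -/
def chartDinD (M : X.Modules) :
    (chartD j i).obj (DCoh.inD X M) ≅
      DCoh.inD T ((Scheme.Modules.pushforward i).obj (M.restrict j)) :=
  (Scheme.Modules.pushforward i).mapDerivedCategory.mapIso (resDinDIso j M) ≪≫
    ((Scheme.Modules.pushforward i).mapDerivedCategorySingleFunctor 0).app _

/-- the derived chart functor commutes with cohomology sheaves -/
def chartDHD (K : DCoh.D X) (n : ℤ) :
    DCoh.HD ((chartD j i).obj K) n ≅
      (Scheme.Modules.pushforward i).obj ((DCoh.HD K n).restrict j) :=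
  (mapDHomologyIso (Scheme.Modules.pushforward i) n).app ((resD j).obj K) ≪≫
    (Scheme.Modules.pushforward i).mapIso (HDresDIso j K n)

lemma isLE_chartD (K : DCoh.D X) (b : ℤ) [K.IsLE b] : ((chartD j i).obj K).IsLE b := by
  rw [DerivedCategory.isLE_iff]
  intro n hn
  exact ((Scheme.Modules.pushforward i).map_isZero
    ((Scheme.Modules.restrictFunctor j).map_isZero (K.isZero_of_isLE b n hn))).of_iso
    (chartDHD j i K n)

end ChartDH

/-- **S7216**: an object bounded above whose cohomology sheaves `H^i` are `(m - i)`-pseudo-coherent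
relative to `f` is `m`-pseudo-coherent relative to `f` -/
theorem isPseudoCoherentRel_of_homology {X S : Scheme.{u}} (f : X ⟶ S) (m : ℤ) (E : DCoh.D X)
    (b : ℤ) [E.IsLE b]
    (h : ∀ i : ℤ, DerSch.IsPseudoCoherentRel f (m - i) (DCoh.inD X (DCoh.HD E i))) :
    DerSch.IsPseudoCoherentRel f m E := by
  haveI := (h 0).1
  rw [isPseudoCoherentRel_iff_chartD]
  intro U hU V hV hle k φ hφ _
  haveI := isLE_chartD U.ι (gImm U φ) E b
  refine isPseudoCoherentD_of_homology m (b - m + 1).toNat _ b inferInstance (by omega)
    fun i => ?_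
  have h1 := (isPseudoCoherentRel_iff_chartD f (m - i) _).1 (h i) U hU V hV hle φ hφ
  exact isPseudoCoherentD_of_iso (chartDinD U.ι (gImm U φ) _ ≪≫
    (DerivedCategory.singleFunctor _ 0).mapIso (chartDHD U.ι (gImm U φ) E i).symm) h1

end

end Groth.Agent.Lib.Helper28.RelPC
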