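import Mathlib
import Groth.Agent.Lib.Helper28.RelPC13


/-!
# Pseudo-coherent morphisms: absolute versus relative pseudo-coherence (helper28)
-/

set_option autoImplicit false

universe u

open CategoryTheory Limits AlgebraicGeometry Pretriangulated

namespace Groth.Agent.Lib.Helper28.RelPC

noncomputable section

attribute [local instance] HasDerivedCategory.standard

open Groth.Agent.Lib.Helper29.QCoh Groth.Agent.Lib.Helper28.DCohRes
  Groth.Agent.Lib.Helper13.PC Groth.Agent.Lib.Helper13.DR Groth.Agent.Lib.Helper28.FinPush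
  Groth.Agent.Lib.Helper28.ClPush

variable {Y Z : Scheme.{u}} (g : Y ⟶ Z)

/-- for a pseudo-coherent morphism, the direct image of the structure sheaf along every chart
is pseudo-coherent -/
theorem isPC_pushforward_unit_of_isNPseudoCoherent [LocallyOfFiniteType g]
    (hg : ∀ n : ℤ, DerSch.IsNPseudoCoherent g n) (U : Y.Opens) (hU : IsAffineOpen U)
    (V : Z.Opens) (hV : IsAffineOpen V) (h : U ≤ g ⁻¹ᵁ V) {n : ℕ}
    (φ : MvPolynomial (Fin n) Γ(Z, V) →+* Γ(Y, U)) (hφ : DerSch.IsChart g U V h φ) (m : ℤ) :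
    DCoh.IsPseudoCoherentD m (DCoh.inD _ ((Scheme.Modules.pushforward (gImm U φ)).obj
      (Coh.structureModule (U : Scheme.{u})))) := by
  haveI := isClosedImmersion_gImm U hU φ hφ.1
  have h1 := (isPseudoCoherentRel_iff_chartD g m _).1 (hg m) U hU V hV h φ hφ
  exact isPseudoCoherentD_of_iso (chartDinD U.ι (gImm U φ) (Coh.structureModule Y) ≪≫
    (DerivedCategory.singleFunctor _ 0).mapIso ((Scheme.Modules.pushforward (gImm U φ)).mapIso
      (Scheme.Modules.restrictUnitIso U.ι))) h1

/-- **S6207**: for a pseudo-coherent morphism, relative and absolute pseudo-coherence agree -/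
theorem isPseudoCoherentD_iff_isPseudoCoherentRel [LocallyOfFiniteType g]
    (hg : ∀ n : ℤ, DerSch.IsNPseudoCoherent g n) (r : ℤ) (E : DCoh.D Y) :
    DCoh.IsPseudoCoherentD r E ↔ DerSch.IsPseudoCoherentRel g r E := by
  constructor
  · intro hE
    rw [isPseudoCoherentRel_iff_chartD]
    intro U hU V hV h n φ hφ _
    exact (isPseudoCoherentD_pushforward_iff (gImm U φ)
      (isPC_pushforward_unit_of_isNPseudoCoherent g hg U hU V hV h φ hφ) _ r).1
      (isPseudoCoherentD_resD hE U.ι)
  · intro hE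
    rw [isPseudoCoherentRel_iff_chartD] at hE
    refine isPseudoCoherentD_of_locally fun y => ?_
    obtain ⟨V, hV, hyV, -⟩ := exists_isAffineOpen_mem_and_subset (x := g y) (U := ⊤) trivial
    obtain ⟨U, hU, hyU, hUV⟩ := exists_isAffineOpen_mem_and_subset (x := y) (U := g ⁻¹ᵁ V) hyV
    obtain ⟨n, φ, hφs, hφC⟩ := exists_chart_of_finiteType _
      (LocallyOfFiniteType.finiteType_appLE g hV hU hUV)
    haveI := isClosedImmersion_gImm U hU φ hφs
    refine ⟨U, U.ι, inferInstance, by rw [Scheme.Opens.range_ι]; exact hyU, ?_⟩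
    exact (isPseudoCoherentD_pushforward_iff (gImm U φ)
      (isPC_pushforward_unit_of_isNPseudoCoherent g hg U hU V hV hUV φ ⟨hφs, hφC⟩) _ r).2
      (hE U hU V hV hUV φ ⟨hφs, hφC⟩)

end

end Groth.Agent.Lib.Helper28.RelPC
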