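import Mathlib
import Groth.Agent.Lib.Helper28.RelPC14


/-!
# Relative pseudo-coherence: charts of an open subscheme versus charts of the scheme (helper28)
-/

set_option autoImplicit false

universe u

open CategoryTheory Limits AlgebraicGeometry Pretriangulated

namespace Groth.Agent.Lib.Helper28.RelPC

noncomputable section

attribute [local instance] HasDerivedCategory.standard

open Groth.Agent.Lib.Helper29.QCoh Groth.Agent.Lib.Helper28.DCohRes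
  Groth.Agent.Lib.Helper13.PC Groth.Agent.Lib.Helper13.DR Groth.Agent.Lib.Helper28.FinPush
  Groth.Agent.Lib.Helper28.ClPush

variable {X : Scheme.{u}} (U : X.Opens) (W : (U : Scheme.{u}).Opens)

lemma presheaf_map_eq {V₁ V₂ : X.Opens} (a b : Opposite.op V₁ ⟶ Opposite.op V₂) :
    X.presheaf.map a = X.presheaf.map b := by
  congr 1
  exact Quiver.Hom.unop_inj (Subsingleton.elim _ _)

lemma presheaf_map_comp_eq {V₁ V₂ V₃ : X.Opens} (a : Opposite.op V₁ ⟶ Opposite.op V₂)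
    (b : Opposite.op V₂ ⟶ Opposite.op V₃) (c : Opposite.op V₁ ⟶ Opposite.op V₃) :
    X.presheaf.map a ≫ X.presheaf.map b = X.presheaf.map c := by
  rw [← X.presheaf.map_comp]
  exact presheaf_map_eq _ _

lemma topIso_isoImage :
    (W.topIso.inv : Γ(X, U.ι ''ᵁ W) ⟶ Γ(W, ⊤)) =
      (U.ι ''ᵁ W).topIso.inv ≫ (U.ι.isoImage W).hom.appTop := by
  have h : ((U.ι.isoImage W).hom ≫ (U.ι ''ᵁ W).ι).appLE (U.ι ''ᵁ W) ⊤
      (by rw [U.ι.isoImage_hom_ι W]; intro x _; exact ⟨x.1, x.2, rfl⟩) =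
      (W.ι ≫ U.ι).appLE (U.ι ''ᵁ W) ⊤ (by intro x _; exact ⟨x.1, x.2, rfl⟩) := by
    congr 1
    exact U.ι.isoImage_hom_ι W
  rw [Scheme.Hom.comp_appLE, Scheme.Hom.comp_appLE] at h
  simp only [Scheme.Opens.ι_app, Scheme.Opens.ι_appLE] at h
  have e1 : (U.ι ''ᵁ W).topIso.inv ≫ (U.ι.isoImage W).hom.appTop =
      (U.ι ''ᵁ W).topIso.inv ≫ ((↑(U.ι ''ᵁ W) : Scheme.{u}).presheaf.map
        (homOfLE (le_top : (U.ι ''ᵁ W).ι ⁻¹ᵁ U.ι ''ᵁ W ≤ ⊤)).op ≫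
        (U.ι.isoImage W).hom.appLE ((U.ι ''ᵁ W).ι ⁻¹ᵁ U.ι ''ᵁ W) ⊤
          (fun x _ => ((U.ι.isoImage W).hom x).2)) := by
    rw [Scheme.Hom.map_appLE]
    congr 1
    exact ((U.ι.isoImage W).hom.appLE_eq_app (U := ⊤)).symm
  rw [e1, ← Category.assoc]
  have e2 : (U.ι ''ᵁ W).topIso.inv ≫ (↑(U.ι ''ᵁ W) : Scheme.{u}).presheaf.map
        (homOfLE (le_top : (U.ι ''ᵁ W).ι ⁻¹ᵁ U.ι ''ᵁ W ≤ ⊤)).op =
      X.presheaf.map (homOfLE (by
        rintro _ ⟨x, -, rfl⟩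
        exact x.2 : (U.ι ''ᵁ W).ι ''ᵁ ((U.ι ''ᵁ W).ι ⁻¹ᵁ U.ι ''ᵁ W) ≤ U.ι ''ᵁ W)).op :=
    presheaf_map_comp_eq _ _ _
  rw [e2]
  refine Eq.trans ?_ h.symm
  exact (presheaf_map_comp_eq _ _ _).symm

lemma toSpecΓ_isoImage :
    (W.toSpecΓ : (W : Scheme.{u}) ⟶ Spec Γ(X, U.ι ''ᵁ W)) =
      (U.ι.isoImage W).hom ≫ (U.ι ''ᵁ W).toSpecΓ := by
  unfold Scheme.Opens.toSpecΓ
  rw [Scheme.toSpecΓ_naturality_assoc, ← Spec.map_comp, ← topIso_isoImage]
  rfl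

lemma gImm_isoImage {B : Type u} [CommRing B] (φ : B →+* Γ(X, U.ι ''ᵁ W)) :
    gImm W (φ : B →+* Γ((U : Scheme.{u}), W)) = (U.ι.isoImage W).hom ≫ gImm (U.ι ''ᵁ W) φ := by
  unfold gImm
  rw [← Category.assoc, ← toSpecΓ_isoImage]
  rfl

/-- functor level comparison of the charts of `W ⊆ U` and of `U.ι ''ᵁ W ⊆ X` -/
def imageNatIso {B : Type u} [CommRing B] (φ : B →+* Γ(X, U.ι ''ᵁ W)) :
    Scheme.Modules.restrictFunctor U.ι ⋙ Scheme.Modules.restrictFunctor W.ι ⋙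
      Scheme.Modules.pushforward (gImm W (φ : B →+* Γ((U : Scheme.{u}), W))) ≅
    Scheme.Modules.restrictFunctor (U.ι ''ᵁ W).ι ⋙
      Scheme.Modules.pushforward (gImm (U.ι ''ᵁ W) φ) :=
  Functor.isoWhiskerLeft (Scheme.Modules.restrictFunctor U.ι)
    (Functor.isoWhiskerLeft (Scheme.Modules.restrictFunctor W.ι)
      (Scheme.Modules.pushforwardCongr (gImm_isoImage U W φ) ≪≫
        (Scheme.Modules.pushforwardComp (U.ι.isoImage W).hom (gImm (U.ι ''ᵁ W) φ)).symm ≪≫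
        Functor.isoWhiskerRight (restrictIsoPush (U.ι.isoImage W).symm).symm
          (Scheme.Modules.pushforward (gImm (U.ι ''ᵁ W) φ)))) ≪≫
  (Functor.associator _ _ _).symm ≪≫ (Functor.associator _ _ _).symm ≪≫
  Functor.isoWhiskerRight
    (Functor.isoWhiskerRight (Scheme.Modules.restrictFunctorComp W.ι U.ι).symm
        (Scheme.Modules.restrictFunctor (U.ι.isoImage W).inv) ≪≫
      (Scheme.Modules.restrictFunctorComp (U.ι.isoImage W).inv (W.ι ≫ U.ι)).symm ≪≫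
      Scheme.Modules.restrictFunctorCongr (U.ι.isoImage_inv_ι W))
    (Scheme.Modules.pushforward (gImm (U.ι ''ᵁ W) φ))

/-- complex level comparison -/
def imageCxIso {B : Type u} [CommRing B] (φ : B →+* Γ(X, U.ι ''ᵁ W))
    (G : CochainComplex X.Modules ℤ) :
    (DerSch.pushCx (gImm W (φ : B →+* Γ((U : Scheme.{u}), W)))).obj
      ((DCoh.restrictCx W).obj ((DCoh.restrictCx U).obj G)) ≅
    (DerSch.pushCx (gImm (U.ι ''ᵁ W) φ)).obj ((DCoh.restrictCx (U.ι ''ᵁ W)).obj G) :=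
  HomologicalComplex.Hom.isoOfComponents
    (fun n => (imageNatIso U W φ).app (G.X n))
    (fun n k _ => ((imageNatIso U W φ).hom.naturality (G.d n k)).symm)

lemma pushPCx_image_iff {B : Type u} [CommRing B] (φ : B →+* Γ(X, U.ι ''ᵁ W)) (m : ℤ)
    (G : CochainComplex X.Modules ℤ) :
    PushPCx W m ((DCoh.restrictCx W).obj ((DCoh.restrictCx U).obj G))
      (φ : B →+* Γ((U : Scheme.{u}), W)) ↔
    PushPCx (U.ι ''ᵁ W) m ((DCoh.restrictCx (U.ι ''ᵁ W)).obj G) φ :=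
  ⟨fun h => isPseudoCoherentD_of_iso (DerivedCategory.Q.mapIso (imageCxIso U W φ G)) h,
    fun h => isPseudoCoherentD_of_iso (DerivedCategory.Q.mapIso (imageCxIso U W φ G)).symm h⟩

end

end Groth.Agent.Lib.Helper28.RelPC
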