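import Mathlib
import Groth.Agent.Lib.Helper28.RelPC15


set_option autoImplicit false

universe u

open CategoryTheory Limits AlgebraicGeometry Pretriangulated

namespace Groth.Agent.Lib.Helper28.RelPC

noncomputable section

attribute [local instance] HasDerivedCategory.standard

open Groth.Agent.Lib.Helper29.QCoh Groth.Agent.Lib.Helper28.DCohRes
  Groth.Agent.Lib.Helper13.PC Groth.Agent.Lib.Helper13.DR Groth.Agent.Lib.Helper28.FinPush
  Groth.Agent.Lib.Helper28.ClPush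

variable {X Y : Scheme.{u}} (f : X ⟶ Y)

/-- for a class given by a representative, the chart test can be made on that representative -/
lemma chartPC_toD_iff (U : X.Opens) (hU : IsAffineOpen U) (V : Y.Opens) {n : ℕ}
    (φ : MvPolynomial (Fin n) Γ(Y, V) →+* Γ(X, U)) (hφ : Function.Surjective φ) (m : ℤ)
    (G₀ : CochainComplex X.Modules ℤ) :
    DerSch.ChartPC m (DCoh.toD X G₀) U V φ ↔ PushPCx U m ((DCoh.restrictCx U).obj G₀) φ := by
  haveI := isClosedImmersion_gImm U hU φ hφ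
  refine (forall_pushPCx_iff U φ hU hφ m (DCoh.toD X G₀)).trans ?_
  exact ⟨fun h => isPseudoCoherentD_of_iso (chartDQ U.ι (gImm U φ) G₀) h,
    fun h => isPseudoCoherentD_of_iso (chartDQ U.ι (gImm U φ) G₀).symm h⟩

variable (U : X.Opens) (W : (U : Scheme.{u}).Opens)

lemma isChart_image_iff (V : Y.Opens) (hle : W ≤ (U.ι ≫ f) ⁻¹ᵁ V) (hle' : U.ι ''ᵁ W ≤ f ⁻¹ᵁ V)
    {k : ℕ} (φ : MvPolynomial (Fin k) Γ(Y, V) →+* Γ(X, U.ι ''ᵁ W)) :
    DerSch.IsChart (U.ι ≫ f) W V hle (φ : MvPolynomial (Fin k) Γ(Y, V) →+* Γ((U : Scheme.{u}), W)) ↔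
      DerSch.IsChart f (U.ι ''ᵁ W) V hle' φ := by
  have h : (U.ι ≫ f).appLE V W hle = f.appLE V (U.ι ''ᵁ W) hle' := by
    rw [Scheme.Hom.comp_appLE, Scheme.Opens.ι_appLE]
    rfl
  unfold DerSch.IsChart
  rw [h]
  rfl

lemma chartPC_image_iff (hW : IsAffineOpen W) (V : Y.Opens) {k : ℕ}
    (φ : MvPolynomial (Fin k) Γ(Y, V) →+* Γ(X, U.ι ''ᵁ W)) (hφ : Function.Surjective φ) (m : ℤ)
    (E : CochainComplex X.Modules ℤ) :
    DerSch.ChartPC m (DCoh.toD (U : Scheme.{u}) ((DCoh.restrictCx U).obj E)) W V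
        (φ : MvPolynomial (Fin k) Γ(Y, V) →+* Γ((U : Scheme.{u}), W)) ↔
      DerSch.ChartPC m (DCoh.toD X E) (U.ι ''ᵁ W) V φ := by
  rw [chartPC_toD_iff W hW V _ hφ, chartPC_toD_iff (U.ι ''ᵁ W) (hW.image_of_isOpenImmersion U.ι) V
    φ hφ]
  exact pushPCx_image_iff U W φ m E

end

end Groth.Agent.Lib.Helper28.RelPC
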