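import Mathlib
import Groth.Agent.Lib.Helper28.RelPC16


set_option autoImplicit false

universe u

open CategoryTheory Limits AlgebraicGeometry Pretriangulated

namespace Groth.Agent.Lib.Helper28.RelPC

noncomputable section

attribute [local instance] HasDerivedCategory.standard

variable {X Y : Scheme.{u}} (f : X ⟶ Y)

lemma hasChartPC_of_eq {m : ℤ} {K : DCoh.D X} {W₁ W₂ : X.Opens} {V : Y.Opens} (e : W₁ = W₂)
    (h : HasChartPC f m K W₁ V) : HasChartPC f m K W₂ V := by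
  subst e
  exact h

variable (U : X.Opens)

/-- from the scheme to the open subscheme -/
lemma hasChartPC_restrict (W : (U : Scheme.{u}).Opens) (hW : IsAffineOpen W) (V : Y.Opens)
    (n : ℤ) (E : CochainComplex X.Modules ℤ)
    (h : HasChartPC f n (DCoh.toD X E) (U.ι ''ᵁ W) V) :
    HasChartPC (U.ι ≫ f) n (DCoh.toD (U : Scheme.{u}) ((DCoh.restrictCx U).obj E)) W V := by
  obtain ⟨hle', k, φ, hφ, hφE⟩ := h
  have hle : W ≤ (U.ι ≫ f) ⁻¹ᵁ V := fun x hx => hle' ⟨x, hx, rfl⟩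
  have h1 := (isChart_image_iff f U W V hle hle' φ).2 hφ
  have h2 := (chartPC_image_iff U W hW V φ hφ.1 n E).2 hφE
  exact ⟨hle, k, _, h1, h2⟩

/-- from the open subscheme to the scheme -/
lemma hasChartPC_image (W : (U : Scheme.{u}).Opens) (hW : IsAffineOpen W) (V : Y.Opens)
    (n : ℤ) (E : CochainComplex X.Modules ℤ)
    (h : HasChartPC (U.ι ≫ f) n (DCoh.toD (U : Scheme.{u}) ((DCoh.restrictCx U).obj E)) W V) :
    HasChartPC f n (DCoh.toD X E) (U.ι ''ᵁ W) V := by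
  obtain ⟨hle, k, φ, hφ, hφE⟩ := h
  have hle' : U.ι ''ᵁ W ≤ f ⁻¹ᵁ V := by
    rintro _ ⟨x, hx, rfl⟩
    exact hle hx
  have h1 := (isChart_image_iff f U W V hle hle' φ).1 hφ
  have h2 := (chartPC_image_iff U W hW V φ hφ.1 n E).1 hφE
  exact ⟨hle', k, _, h1, h2⟩

lemma isPseudoCoherentRel_iff_hasChartPC [LocallyOfFiniteType f] (m : ℤ) (K : DCoh.D X) :
    DerSch.IsPseudoCoherentRel f m K ↔
      ∀ (W : X.Opens) (_ : IsAffineOpen W) (V : Y.Opens) (_ : IsAffineOpen V),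
        W ≤ f ⁻¹ᵁ V → HasChartPC f m K W V := by
  rw [isPseudoCoherentRel_iff_forall]
  constructor
  · intro h W hW V hV hle
    obtain ⟨k, φ, hφ, hφE⟩ := h ⟨W, hW⟩ ⟨V, hV⟩ hle
    exact ⟨hle, k, φ, hφ, hφE⟩
  · intro h W V hle
    obtain ⟨_, k, φ, hφ, hφE⟩ := h W W.2 V V.2 hle
    exact ⟨k, φ, hφ, hφE⟩

/-- **S6202**: relative pseudo-coherence restricts to opens of the source -/
theorem isPseudoCoherentRel_restrict (n : ℤ) (E : CochainComplex X.Modules ℤ)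
    (hE : DerSch.IsPseudoCoherentRel f n (DCoh.toD X E)) :
    DerSch.IsPseudoCoherentRel (U.ι ≫ f) n
      (DCoh.toD (U : Scheme.{u}) ((DCoh.restrictCx U).obj E)) := by
  haveI := hE.1
  rw [isPseudoCoherentRel_iff_hasChartPC] at hE ⊢
  intro W hW V hV hle
  refine hasChartPC_restrict f U W hW V n E (hE _ (hW.image_of_isOpenImmersion U.ι) V hV ?_)
  rintro _ ⟨x, hx, rfl⟩
  exact hle hx

/-- **S6203**: relative pseudo-coherence can be tested on an open cover of the source -/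
theorem isPseudoCoherentRel_of_openCover [LocallyOfFiniteType f] (n : ℤ)
    (E : CochainComplex X.Modules ℤ) {ι : Type u} (U : ι → X.Opens) (hU : ⨆ i, U i = ⊤)
    (h : ∀ i : ι, DerSch.IsPseudoCoherentRel ((U i).ι ≫ f) n
      (DCoh.toD (U i : Scheme.{u}) ((DCoh.restrictCx (U i)).obj E))) :
    DerSch.IsPseudoCoherentRel f n (DCoh.toD X E) := by
  refine ⟨inferInstance, Set.univ, ?_, fun V _ =>
    ⟨{W' | (W' : X.Opens) ≤ f ⁻¹ᵁ (V : Y.Opens) ∧ ∃ i, (W' : X.Opens) ≤ U i}, ?_, ?_⟩⟩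
  · rw [← iSup_affineOpens_eq_top Y]
    simp
  · apply le_antisymm
    · exact iSup₂_le fun W' hW' => hW'.1
    · intro x hx
      have hx' : x ∈ (⨆ i, U i) := by rw [hU]; trivial
      obtain ⟨i, hxi⟩ := TopologicalSpace.Opens.mem_iSup.1 hx'
      obtain ⟨W', hW', hxW', hW'le⟩ := exists_isAffineOpen_mem_and_subset (x := x)
        (U := f ⁻¹ᵁ (V : Y.Opens) ⊓ U i) ⟨hx, hxi⟩
      simp only [TopologicalSpace.Opens.mem_iSup]
      exact ⟨⟨W', hW'⟩, ⟨fun y hy => (hW'le hy).1, i, fun y hy => (hW'le hy).2⟩, hxW'⟩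
  · rintro W' ⟨hW'V, i, hW'i⟩ hle
    have himg : (U i).ι ''ᵁ ((U i).ι ⁻¹ᵁ (W' : X.Opens)) = (W' : X.Opens) := by
      rw [Scheme.Hom.image_preimage_eq_opensRange_inf, Scheme.Opens.opensRange_ι]
      exact inf_eq_right.2 hW'i
    have hWaff : IsAffineOpen ((U i).ι ⁻¹ᵁ (W' : X.Opens)) :=
      W'.2.preimage_of_isOpenImmersion (U i).ι (by rw [Scheme.Opens.opensRange_ι]; exact hW'i)
    have hleW : (U i).ι ⁻¹ᵁ (W' : X.Opens) ≤ ((U i).ι ≫ f) ⁻¹ᵁ (V : Y.Opens) :=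
      fun y hy => hW'V hy
    haveI : LocallyOfFiniteType ((U i).ι ≫ f) := inferInstance
    have h1 := (isPseudoCoherentRel_iff_hasChartPC ((U i).ι ≫ f) n _).1 (h i) _ hWaff
      (V : Y.Opens) V.2 hleW
    obtain ⟨_, k', ψ, hψ, hψE⟩ := hasChartPC_of_eq f himg
      (hasChartPC_image f (U i) _ hWaff (V : Y.Opens) n E h1)
    exact ⟨k', ψ, hψ, hψE⟩

end

end Groth.Agent.Lib.Helper28.RelPC
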