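import Mathlib
import Groth.Agent.Lib.Helper28.RelPC17


/-!
# Pseudo-coherence from the terms of a complex (helper28)
-/

set_option autoImplicit false

universe u

open CategoryTheory Limits AlgebraicGeometry Pretriangulated

namespace Groth.Agent.Lib.Helper28.RelPC

noncomputable section

attribute [local instance] HasDerivedCategory.standard

open Groth.Agent.Lib.Helper29.QCoh Groth.Agent.Lib.Helper28.DCohRes
  Groth.Agent.Lib.Helper13.PC Groth.Agent.Lib.Helper13.DR Groth.Agent.Lib.Helper28.FinPush
  Groth.Agent.Lib.Helper28.ClPush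

section SES

universe v' u'

variable {C : Type u'} [Category.{v'} C] [Abelian C]

/-- the projection of a complex vanishing below `a` onto its term of degree `a` -/
def toSingleOfBelow (F : CochainComplex C ℤ) (a : ℤ) (hF : ∀ i, i < a → IsZero (F.X i)) :
    F ⟶ (HomologicalComplex.single C (ComplexShape.up ℤ) a).obj (F.X a) :=
  HomologicalComplex.mkHomToSingle (𝟙 _) (fun i hi => by
    change i + 1 = a at hi
    exact (hF i (by omega)).eq_of_src _ _)

/-- the stupid short exact sequence `0 → σ≥(a+1) F → F → F^a[-a] → 0` -/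
def sigmaSC (F : CochainComplex C ℤ) (a : ℤ) (hF : ∀ i, i < a → IsZero (F.X i)) :
    ShortComplex (CochainComplex C ℤ) :=
  ShortComplex.mk (sigmaGEι F (a + 1)) (toSingleOfBelow F a hF) (by
    apply HomologicalComplex.to_single_hom_ext
    rw [HomologicalComplex.comp_f, HomologicalComplex.zero_f]
    exact (isZero_sigmaGE_X F (a + 1) a (by omega)).eq_of_src _ _)

lemma sigmaSC_shortExact (F : CochainComplex C ℤ) (a : ℤ) (hF : ∀ i, i < a → IsZero (F.X i)) :
    (sigmaSC F a hF).ShortExact := by
  apply HomologicalComplex.shortExact_of_degreewise_shortExact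
  intro n
  by_cases hn : n = a
  · subst hn
    have hz : IsZero ((sigmaGE F (n + 1)).X n) := isZero_sigmaGE_X F (n + 1) n (by omega)
    have hg : IsIso ((toSingleOfBelow F n hF).f n) := by
      unfold toSingleOfBelow
      rw [HomologicalComplex.mkHomToSingle_f]
      infer_instance
    have hf0 : ((sigmaSC F n hF).map (HomologicalComplex.eval C _ n)).f = 0 := hz.eq_of_src _ _
    haveI : Mono ((sigmaSC F n hF).map (HomologicalComplex.eval C _ n)).f :=
      ⟨fun _ _ _ => hz.eq_of_tgt _ _⟩
    haveI : Epi ((sigmaSC F n hF).map (HomologicalComplex.eval C _ n)).g := by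
      change Epi ((toSingleOfBelow F n hF).f n)
      infer_instance
    refine ⟨?_⟩
    rw [ShortComplex.exact_iff_mono _ hf0]
    change Mono ((toSingleOfBelow F n hF).f n)
    infer_instance
  · have hz : IsZero (((HomologicalComplex.single C (ComplexShape.up ℤ) a).obj (F.X a)).X n) :=
      HomologicalComplex.isZero_single_obj_X _ _ _ _ hn
    have hf : IsIso ((sigmaGEι F (a + 1)).f n) := by
      by_cases h1 : a + 1 ≤ n
      · exact isIso_sigmaGEι_f F (a + 1) n h1
      · have h2 : IsZero (F.X n) := hF n (by omega)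
        have h3 : IsZero ((sigmaGE F (a + 1)).X n) := isZero_sigmaGE_X F (a + 1) n (by omega)
        exact ⟨0, h3.eq_of_src _ _, h2.eq_of_src _ _⟩
    have hg0 : ((sigmaSC F a hF).map (HomologicalComplex.eval C _ n)).g = 0 := hz.eq_of_tgt _ _
    haveI : Mono ((sigmaSC F a hF).map (HomologicalComplex.eval C _ n)).f := by
      change Mono ((sigmaGEι F (a + 1)).f n)
      infer_instance
    haveI : Epi ((sigmaSC F a hF).map (HomologicalComplex.eval C _ n)).g :=
      ⟨fun _ _ _ => hz.eq_of_src _ _⟩
    refine ⟨?_⟩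
    rw [ShortComplex.exact_iff_epi _ hg0]
    change Epi ((sigmaGEι F (a + 1)).f n)
    infer_instance

end SES

section Abs

variable {T : Scheme.{u}}

lemma isPseudoCoherentD_Q_of_isZero (m : ℤ) (G : CochainComplex T.Modules ℤ)
    (h : ∀ n, IsZero (G.X n)) : DCoh.IsPseudoCoherentD m (DerivedCategory.Q.obj G) :=
  isPseudoCoherentD_of_isZero_homology fun i _ =>
    (DerivedCategory.homologyFunctor _ i).map_isZero
      (DerivedCategory.Q.map_isZero (isZero_cx_of_forall_isZero G h))

lemma isPseudoCoherentD_single (m a : ℤ) (M : T.Modules)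
    (h : DCoh.IsPseudoCoherentD (m - a) (DCoh.inD T M)) :
    DCoh.IsPseudoCoherentD m (DerivedCategory.Q.obj
      ((HomologicalComplex.single T.Modules (ComplexShape.up ℤ) a).obj M)) := by
  have h2 := isPseudoCoherentD_shift h (-a) m (by omega)
  have e2 : (DCoh.inD T M)⟦-a⟧ ≅ (DerivedCategory.singleFunctor _ a).obj M :=
    ((DerivedCategory.singleFunctors T.Modules).shiftIso (-a) a 0 (by omega)).app M
  exact isPseudoCoherentD_of_iso (e2 ≪≫ (DerivedCategory.singleFunctorIsoCompQ _ a).app M) h2

/-- bounded complexes whose terms `F^i` are `(m - i)`-pseudo-coherent are `m`-pseudo-coherent -/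
theorem isPseudoCoherentD_of_terms_bdd (m : ℤ) :
    ∀ (k : ℕ) (F : CochainComplex T.Modules ℤ) (a b : ℤ), (∀ i, i < a → IsZero (F.X i)) →
      (∀ i, b < i → IsZero (F.X i)) → b + 1 - a ≤ k →
      (∀ i : ℤ, DCoh.IsPseudoCoherentD (m - i) (DCoh.inD T (F.X i))) →
      DCoh.IsPseudoCoherentD m (DerivedCategory.Q.obj F)
  | 0 => fun F a b ha hb hk _ => isPseudoCoherentD_Q_of_isZero m F fun n => by
      by_cases hn : n < a
      · exact ha n hn
      · exact hb n (by push_cast at hk; omega)
  | (k + 1) => fun F a b ha hb hk h => by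
      have hS := sigmaSC_shortExact F a ha
      have hT := DerivedCategory.triangleOfSES_distinguished hS
      refine (isPseudoCoherentD_triangle m _ hT).2.1 ?_ ?_
      · refine isPseudoCoherentD_of_terms_bdd m k (sigmaGE F (a + 1)) (a + 1) b
          (fun i hi => isZero_sigmaGE_X F (a + 1) i hi) (fun i hi => ?_)
          (by push_cast at hk; omega) (fun i => ?_)
        · by_cases h1 : a + 1 ≤ i
          · exact (hb i hi).of_iso (sigmaGEXIso F (a + 1) i h1)
          · exact isZero_sigmaGE_X F (a + 1) i (by omega)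
        · by_cases h1 : a + 1 ≤ i
          · exact isPseudoCoherentD_of_iso ((DerivedCategory.singleFunctor _ 0).mapIso
              (sigmaGEXIso F (a + 1) i h1).symm) (h i)
          · exact isPseudoCoherentD_inD_of_isZero _ _ (isZero_sigmaGE_X F (a + 1) i (by omega))
      · exact isPseudoCoherentD_single m a (F.X a) (h a)

/-- complexes bounded above whose terms `G^i` are `(m - i)`-pseudo-coherent are
`m`-pseudo-coherent -/
theorem isPseudoCoherentD_of_terms (m : ℤ) (G : CochainComplex T.Modules ℤ) (b : ℤ)
    (hb : ∀ i, b < i → IsZero (G.X i))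
    (h : ∀ i : ℤ, DCoh.IsPseudoCoherentD (m - i) (DCoh.inD T (G.X i))) :
    DCoh.IsPseudoCoherentD m (DerivedCategory.Q.obj G) := by
  have hT := DerivedCategory.mappingCone_triangle_distinguished (sigmaGEι G m)
  refine (isPseudoCoherentD_triangle m _ hT).2.1 ?_ ?_
  · refine isPseudoCoherentD_of_terms_bdd m (b + 1 - m).toNat (sigmaGE G m) m b
      (fun i hi => isZero_sigmaGE_X G m i hi) (fun i hi => ?_) (by omega) (fun i => ?_)
    · by_cases h1 : m ≤ i
      · exact (hb i hi).of_iso (sigmaGEXIso G m i h1)
      · exact isZero_sigmaGE_X G m i (by omega)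
    · by_cases h1 : m ≤ i
      · exact isPseudoCoherentD_of_iso ((DerivedCategory.singleFunctor _ 0).mapIso
          (sigmaGEXIso G m i h1).symm) (h i)
      · exact isPseudoCoherentD_inD_of_isZero _ _ (isZero_sigmaGE_X G m i (by omega))
  · refine isPseudoCoherentD_of_isZero_homology fun i hi => ?_
    have hex := exactAt_mappingCone_of_isApprox (sigmaGEι G m) m (isApprox_Q_sigmaGEι G m) i hi
    rw [HomologicalComplex.exactAt_iff_isZero_homology] at hex
    exact hex.of_iso ((DerivedCategory.homologyFunctorFactors _ i).app _)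

end Abs

/-- **S7215**: a complex bounded above whose terms `F^i` are `(m - i)`-pseudo-coherent relative to
`f` is `m`-pseudo-coherent relative to `f` -/
theorem isPseudoCoherentRel_of_terms {X S : Scheme.{u}} (f : X ⟶ S) (m : ℤ)
    (F : CochainComplex X.Modules ℤ) (b : ℤ) (hb : ∀ i : ℤ, b < i → IsZero (F.X i))
    (h : ∀ i : ℤ, DerSch.IsPseudoCoherentRel f (m - i) (DCoh.inD X (F.X i))) :
    DerSch.IsPseudoCoherentRel f m (DCoh.toD X F) := by
  haveI := (h 0).1
  rw [isPseudoCoherentRel_iff_chartD]
  intro U hU V hV hle k φ hφ _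
  refine isPseudoCoherentD_of_iso (chartDQ U.ι (gImm U φ) F).symm ?_
  refine isPseudoCoherentD_of_terms m _ b (fun i hi => ?_) (fun i => ?_)
  · exact (Scheme.Modules.pushforward (gImm U φ)).map_isZero
      ((Scheme.Modules.restrictFunctor U.ι).map_isZero (hb i hi))
  · have h1 := (isPseudoCoherentRel_iff_chartD f (m - i) _).1 (h i) U hU V hV hle φ hφ
    exact isPseudoCoherentD_of_iso (chartDinD U.ι (gImm U φ) _) h1

end

end Groth.Agent.Lib.Helper28.RelPC
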