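import Mathlib
import Groth.Agent.Lib.Helper28.RelPC18


/-!
# Bridge: the direct image of the structure sheaf along a chart and ring-level pseudo-coherence
(helper28)
-/

set_option autoImplicit false

universe u

open CategoryTheory Limits AlgebraicGeometry Pretriangulated

namespace Groth.Agent.Lib.Helper28.RelPC

noncomputable section

attribute [local instance] HasDerivedCategory.standard

open Groth.Agent.Lib.Helper29.QCoh Groth.Agent.Lib.Helper28.DCohRes
  Groth.Agent.Lib.Helper13.PC Groth.Agent.Lib.Helper13.DR Groth.Agent.Lib.Helper28.FinPush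
  Groth.Agent.Lib.Helper28.ClPush

/-- the direct image of the structure sheaf along `Spec π` is the tilde of the target ring -/
def pushUnitSpecIso {B B' : Type u} [CommRing B] [CommRing B'] (π : B' →+* B) :
    (Scheme.Modules.pushforward (Spec.map (CommRingCat.ofHom π))).obj
      (unitM (Spec (CommRingCat.of B))) ≅
    tilde ((ModuleCat.restrictScalars π).obj (ModuleCat.of B B)) :=
  (Scheme.Modules.pushforward (Spec.map (CommRingCat.ofHom π))).mapIso
      (nonempty_unitM_iso_tilde (CommRingCat.of B)).some ≪≫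
    (Groth.Agent.Lib.Helper17.TildePush.tildePushIso (CommRingCat.ofHom π)).app
      (ModuleCat.of B B)

/-- direct image along an isomorphism preserves the structure sheaf -/
def pushUnitIsoOfIso {A₁ A₂ : Scheme.{u}} (e : A₁ ≅ A₂) :
    (Scheme.Modules.pushforward e.hom).obj (unitM A₁) ≅ unitM A₂ :=
  (restrictIsoPush e.symm).symm.app (unitM A₁) ≪≫ Scheme.Modules.restrictUnitIso e.inv

variable {X : Scheme.{u}} (U : X.Opens)

/-- the direct image of the structure sheaf along a generalized chart of an affine open -/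
def pushUnitGImmIso (hU : IsAffineOpen U) {B' : Type u} [CommRing B'] (θ : B' →+* Γ(X, U)) :
    (Scheme.Modules.pushforward (gImm U θ)).obj (unitM (U : Scheme.{u})) ≅
      tilde ((ModuleCat.restrictScalars θ).obj (ModuleCat.of Γ(X, U) Γ(X, U))) :=
  ((Scheme.Modules.pushforwardComp U.toSpecΓ (Spec.map (CommRingCat.ofHom θ))).symm.app _ : _) ≪≫
    (Scheme.Modules.pushforward (Spec.map (CommRingCat.ofHom θ))).mapIso
      (pushUnitIsoOfIso hU.isoSpec) ≪≫ pushUnitSpecIso θ

/-- **bridge** -/
theorem isPC_pushforward_unit_gImm_iff (hU : IsAffineOpen U) {B' : Type u} [CommRing B']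
    (θ : B' →+* Γ(X, U)) (m : ℤ) :
    DCoh.IsPseudoCoherentD m (DCoh.inD _ ((Scheme.Modules.pushforward (gImm U θ)).obj
      (Coh.structureModule (U : Scheme.{u})))) ↔
    IsNPC (Pff B') m ((resSingle θ).obj (ModuleCat.of Γ(X, U) Γ(X, U))) := by
  haveI : PreservesFiniteLimits (tilde.functor (CommRingCat.of B')) :=
    Groth.Agent.Lib.Helper17.KProjAff.preservesFiniteLimits_tilde _
  have e2 : DCoh.inD (Spec (CommRingCat.of B'))
      ((Scheme.Modules.pushforward (gImm U θ)).obj (Coh.structureModule (U : Scheme.{u}))) ≅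
      (DCoh.tildeD (CommRingCat.of B')).obj ((resSingle θ).obj (ModuleCat.of Γ(X, U) Γ(X, U))) :=
    (DerivedCategory.singleFunctor _ 0).mapIso (pushUnitGImmIso U hU θ) ≪≫
      (((tilde.functor (CommRingCat.of B')).mapDerivedCategorySingleFunctor 0).app _).symm
  rw [← isPseudoCoherentD_tildeD_iff (CommRingCat.of B') _ m]
  exact ⟨fun h => isPseudoCoherentD_of_iso e2 h, fun h => isPseudoCoherentD_of_iso e2.symm h⟩

end

end Groth.Agent.Lib.Helper28.RelPC
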