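import Mathlib
import Groth.Agent.Lib.Helper28.RelPC19
import Groth.Agent.Lib.Helper13.RelPCBC


/-!
# Relative pseudo-coherence and composition with a pseudo-coherent morphism (helper28)
-/

set_option autoImplicit false

universe u

open CategoryTheory Limits AlgebraicGeometry Pretriangulated

namespace Groth.Agent.Lib.Helper28.RelPC

noncomputable section

attribute [local instance] HasDerivedCategory.standard

open Groth.Agent.Lib.Helper29.QCoh Groth.Agent.Lib.Helper28.DCohRes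
  Groth.Agent.Lib.Helper13.PC Groth.Agent.Lib.Helper13.DR Groth.Agent.Lib.Helper28.FinPush
  Groth.Agent.Lib.Helper28.ClPush

section Alg

variable {R B A : Type u} [CommRing R] [CommRing B] [CommRing A] {n k : ℕ}

/-- `R[x_1..x_{n+k}] ≃ R[y_1..y_k][x_1..x_n]` -/
def sumEquiv (R : Type u) [CommRing R] (n k : ℕ) :
    MvPolynomial (Fin (n + k)) R ≃ₐ[R] MvPolynomial (Fin n) (MvPolynomial (Fin k) R) :=
  (MvPolynomial.renameEquiv R finSumFinEquiv.symm).trans (MvPolynomial.sumAlgEquiv R (Fin n) (Fin k))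

/-- the composite presentation -/
def combChart (α : MvPolynomial (Fin n) B →+* A) (β : MvPolynomial (Fin k) R →+* B) :
    MvPolynomial (Fin (n + k)) R →+* A :=
  (α.comp (MvPolynomial.map β)).comp ((sumEquiv R n k).toRingEquiv : _ →+* _)

lemma combChart_surjective (α : MvPolynomial (Fin n) B →+* A) (hα : Function.Surjective α)
    (β : MvPolynomial (Fin k) R →+* B) (hβ : Function.Surjective β) :
    Function.Surjective (combChart α β) :=
  (hα.comp (MvPolynomial.map_surjective β hβ)).comp (sumEquiv R n k).toRingEquiv.surjective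

lemma combChart_comp_C (α : MvPolynomial (Fin n) B →+* A) (β : MvPolynomial (Fin k) R →+* B) :
    (combChart α β).comp MvPolynomial.C = (α.comp MvPolynomial.C).comp (β.comp MvPolynomial.C) := by
  refine RingHom.ext fun r => ?_
  have h1 : (sumEquiv R n k) (MvPolynomial.C r) = MvPolynomial.C (MvPolynomial.C r) := by
    have := (sumEquiv R n k).commutes r
    rw [MvPolynomial.algebraMap_eq] at this
    refine this.trans ?_
    rw [MvPolynomial.algebraMap_apply, MvPolynomial.algebraMap_eq]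
  change α (MvPolynomial.map β ((sumEquiv R n k) (MvPolynomial.C r))) = _
  rw [h1, MvPolynomial.map_C]
  rfl

end Alg

variable {X : Scheme.{u}} (U : X.Opens)

theorem pushPCx_combChart_iff (hU : IsAffineOpen U) {R B : Type u} [CommRing R] [CommRing B]
    {n k : ℕ} (α : MvPolynomial (Fin n) B →+* Γ(X, U)) (hα : Function.Surjective α)
    (β : MvPolynomial (Fin k) R →+* B) (hβ : Function.Surjective β) (hβ' : IsPCHom β) (m : ℤ)
    (L : CochainComplex (U : Scheme.{u}).Modules ℤ) :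
    PushPCx U m L α ↔ PushPCx U m L (combChart α β) := by
  have h1 := pushPCx_comp_iff U hU α hα (MvPolynomial.map β) (MvPolynomial.map_surjective β hβ)
    (isPCHom_mvPolynomial_map β hβ' n) m L
  have h2 := pushPCx_comp_iff U hU (α.comp (MvPolynomial.map β))
    (hα.comp (MvPolynomial.map_surjective β hβ))
    ((sumEquiv R n k).toRingEquiv : MvPolynomial (Fin (n + k)) R →+*
      MvPolynomial (Fin n) (MvPolynomial (Fin k) R)) (sumEquiv R n k).toRingEquiv.surjective
    (isPCHom_of_ringEquiv (sumEquiv R n k).toRingEquiv) m L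
  exact h1.trans h2

section Comp

variable {X Y S : Scheme.{u}} (f : X ⟶ Y) (g : Y ⟶ S)

/-- charts of a pseudo-coherent morphism are pseudo-coherent ring maps -/
lemma isPCHom_of_isNPseudoCoherent [LocallyOfFiniteType g]
    (hg : ∀ n : ℤ, DerSch.IsNPseudoCoherent g n) (V : Y.Opens) (hV : IsAffineOpen V)
    (W : S.Opens) (hW : IsAffineOpen W) (h : V ≤ g ⁻¹ᵁ W) {k : ℕ}
    (β : MvPolynomial (Fin k) Γ(S, W) →+* Γ(Y, V)) (hβ : DerSch.IsChart g V W h β) :
    IsPCHom β := fun m =>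
  (isPC_pushforward_unit_gImm_iff V hV β m).1
    (isPC_pushforward_unit_of_isNPseudoCoherent g hg V hV W hW h β hβ m)

lemma isChart_combChart (U : X.Opens) (V : Y.Opens) (W : S.Opens) (hUV : U ≤ f ⁻¹ᵁ V)
    (hVW : V ≤ g ⁻¹ᵁ W) (hUW : U ≤ (f ≫ g) ⁻¹ᵁ W) {n k : ℕ}
    (α : MvPolynomial (Fin n) Γ(Y, V) →+* Γ(X, U)) (β : MvPolynomial (Fin k) Γ(S, W) →+* Γ(Y, V))
    (hα : DerSch.IsChart f U V hUV α) (hβ : DerSch.IsChart g V W hVW β) :
    DerSch.IsChart (f ≫ g) U W hUW (combChart α β) :=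
  ⟨combChart_surjective α hα.1 β hβ.1, by
    rw [combChart_comp_C, hα.2, hβ.2, ← CommRingCat.hom_comp, Scheme.Hom.appLE_comp_appLE]⟩

theorem chartPC_combChart_iff (U : X.Opens) (hU : IsAffineOpen U) (V : Y.Opens) (W : S.Opens)
    {n k : ℕ} (α : MvPolynomial (Fin n) Γ(Y, V) →+* Γ(X, U)) (hα : Function.Surjective α)
    (β : MvPolynomial (Fin k) Γ(S, W) →+* Γ(Y, V)) (hβ : Function.Surjective β)
    (hβ' : IsPCHom β) (m : ℤ) (E : DCoh.D X) :
    DerSch.ChartPC m E U V α ↔ DerSch.ChartPC m E U W (combChart α β) :=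
  ⟨fun h G hG => (pushPCx_combChart_iff U hU α hα β hβ hβ' m _).1 (h G hG),
    fun h G hG => (pushPCx_combChart_iff U hU α hα β hβ hβ' m _).2 (h G hG)⟩

/-- **S12088**: composition with a pseudo-coherent morphism does not change relative
pseudo-coherence -/
theorem isPseudoCoherentRel_comp_iff [LocallyOfFiniteType f] [LocallyOfFiniteType g]
    (hg : ∀ n : ℤ, DerSch.IsNPseudoCoherent g n) (m : ℤ) (E : DCoh.D X) :
    DerSch.IsPseudoCoherentRel f m E ↔ DerSch.IsPseudoCoherentRel (f ≫ g) m E := by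
  constructor
  · intro hE
    refine ⟨inferInstance, Set.univ, ?_, fun W _ =>
      ⟨{U | ∃ V : Y.affineOpens, (U : X.Opens) ≤ f ⁻¹ᵁ (V : Y.Opens) ∧
        (V : Y.Opens) ≤ g ⁻¹ᵁ (W : S.Opens)}, ?_, ?_⟩⟩
    · rw [← iSup_affineOpens_eq_top S]
      simp
    · apply le_antisymm
      · refine iSup₂_le fun U hU => ?_
        obtain ⟨V, hUV, hVW⟩ := hU
        exact fun x hx => hVW (hUV hx)
      · intro x hx
        obtain ⟨V, hV, hxV, hVle⟩ := exists_isAffineOpen_mem_and_subset (x := f x)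
          (U := g ⁻¹ᵁ (W : S.Opens)) hx
        obtain ⟨U, hU, hxU, hUle⟩ := exists_isAffineOpen_mem_and_subset (x := x)
          (U := f ⁻¹ᵁ V) hxV
        simp only [TopologicalSpace.Opens.mem_iSup]
        exact ⟨⟨U, hU⟩, ⟨⟨V, hV⟩, hUle, hVle⟩, hxU⟩
    · rintro U ⟨V, hUV, hVW⟩ hUW
      obtain ⟨n, α, hαs, hαC⟩ := exists_chart_of_finiteType _
        (LocallyOfFiniteType.finiteType_appLE f V.2 U.2 hUV)
      obtain ⟨k, β, hβs, hβC⟩ := exists_chart_of_finiteType _
        (LocallyOfFiniteType.finiteType_appLE g W.2 V.2 hVW)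
      have hβ' := isPCHom_of_isNPseudoCoherent g hg (V : Y.Opens) V.2 (W : S.Opens) W.2 hVW β
        ⟨hβs, hβC⟩
      have hαE := chartPC_of_isPseudoCoherentRel f m E hE (U : X.Opens) U.2 (V : Y.Opens) V.2 hUV α
        ⟨hαs, hαC⟩
      exact ⟨n + k, combChart α β,
        isChart_combChart f g _ _ _ hUV hVW hUW α β ⟨hαs, hαC⟩ ⟨hβs, hβC⟩,
        (chartPC_combChart_iff (U : X.Opens) U.2 (V : Y.Opens) (W : S.Opens) α hαs β hβs hβ' m
          E).1 hαE⟩
  · intro hE
    refine ⟨inferInstance, {V | ∃ W : S.affineOpens, (V : Y.Opens) ≤ g ⁻¹ᵁ (W : S.Opens)}, ?_,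
      fun V hV => ⟨{U | (U : X.Opens) ≤ f ⁻¹ᵁ (V : Y.Opens)}, ?_, ?_⟩⟩
    · apply le_antisymm le_top
      intro y _
      obtain ⟨W, hW, hyW, -⟩ := exists_isAffineOpen_mem_and_subset (x := g y) (U := ⊤) trivial
      obtain ⟨V, hV, hyV, hVle⟩ := exists_isAffineOpen_mem_and_subset (x := y)
        (U := g ⁻¹ᵁ W) hyW
      simp only [TopologicalSpace.Opens.mem_iSup]
      exact ⟨⟨V, hV⟩, ⟨⟨W, hW⟩, hVle⟩, hyV⟩
    · apply le_antisymm
      · exact iSup₂_le fun U hU => hU
      · intro x hx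
        obtain ⟨U, hU, hxU, hUle⟩ := exists_isAffineOpen_mem_and_subset (x := x)
          (U := f ⁻¹ᵁ (V : Y.Opens)) hx
        simp only [TopologicalSpace.Opens.mem_iSup]
        exact ⟨⟨U, hU⟩, hUle, hxU⟩
    · obtain ⟨W, hVW⟩ := hV
      intro U _ hUV
      obtain ⟨n, α, hαs, hαC⟩ := exists_chart_of_finiteType _
        (LocallyOfFiniteType.finiteType_appLE f V.2 U.2 hUV)
      obtain ⟨k, β, hβs, hβC⟩ := exists_chart_of_finiteType _
        (LocallyOfFiniteType.finiteType_appLE g W.2 V.2 hVW)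
      have hβ' := isPCHom_of_isNPseudoCoherent g hg (V : Y.Opens) V.2 (W : S.Opens) W.2 hVW β
        ⟨hβs, hβC⟩
      have hUW : (U : X.Opens) ≤ (f ≫ g) ⁻¹ᵁ (W : S.Opens) := fun x hx => hVW (hUV hx)
      have hγE := chartPC_of_isPseudoCoherentRel (f ≫ g) m E hE (U : X.Opens) U.2 (W : S.Opens)
        W.2 hUW (combChart α β)
        (isChart_combChart f g _ _ _ hUV hVW hUW α β ⟨hαs, hαC⟩ ⟨hβs, hβC⟩)
      exact ⟨n, α, ⟨hαs, hαC⟩,
        (chartPC_combChart_iff (U : X.Opens) U.2 (V : Y.Opens) (W : S.Opens) α hαs β hβs hβ' m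
          E).2 hγE⟩

end Comp

end

end Groth.Agent.Lib.Helper28.RelPC
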