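import Mathlib
import Groth.Agent.Lib.Helper28.RelPC20


/-!
# `n`-pseudo-coherent morphisms through ring-level pseudo-coherence; `(-1)` is finite presentation
(helper28)
-/

set_option autoImplicit false

universe u

open CategoryTheory Limits AlgebraicGeometry Pretriangulated

namespace Groth.Agent.Lib.Helper28.RelPC

noncomputable section

attribute [local instance] HasDerivedCategory.standard

open Groth.Agent.Lib.Helper29.QCoh Groth.Agent.Lib.Helper28.DCohRes
  Groth.Agent.Lib.Helper13.PC Groth.Agent.Lib.Helper13.DR Groth.Agent.Lib.Helper28.FinPush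
  Groth.Agent.Lib.Helper28.ClPush

section Alg

variable {R A : Type u} [CommRing R] [CommRing A]

lemma finitePresentation_iff_ker_fg (ρ : R →+* A) {n : ℕ} (φ : MvPolynomial (Fin n) R →+* A)
    (hφ : Function.Surjective φ) (hC : φ.comp MvPolynomial.C = ρ) :
    ρ.FinitePresentation ↔ (RingHom.ker φ).FG := by
  letI := ρ.toAlgebra
  let φ' : MvPolynomial (Fin n) R →ₐ[R] A :=
    { φ with
      commutes' := fun r => by
        rw [MvPolynomial.algebraMap_eq]
        exact congrArg (fun t => t r) (congrArg DFunLike.coe hC) }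
  constructor
  · intro h
    haveI : Algebra.FinitePresentation R A := h
    exact Algebra.FinitePresentation.ker_fG_of_surjective φ' hφ
  · intro h
    exact Algebra.FinitePresentation.of_surjective (f := φ') hφ h

lemma finitePresentation_restrictScalars_iff {B : Type u} [CommRing B] (φ : B →+* A)
    (hφ : Function.Surjective φ) :
    Module.FinitePresentation B ((ModuleCat.restrictScalars φ).obj (ModuleCat.of A A)) ↔
      (RingHom.ker φ).FG := by
  let M : ModuleCat.{u} B := (ModuleCat.restrictScalars φ).obj (ModuleCat.of A A)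
  let l : B →ₗ[B] M := LinearMap.toSpanSingleton B M (1 : A)
  have hl : ∀ b, l b = φ b := fun b => by
    change φ b * (1 : A) = φ b
    rw [mul_one]
  have hls : Function.Surjective l := fun a => by
    obtain ⟨b, hb⟩ := hφ a
    exact ⟨b, (hl b).trans hb⟩
  have hk : LinearMap.ker l = (RingHom.ker φ : Ideal B) := by
    ext b
    rw [LinearMap.mem_ker, RingHom.mem_ker, hl]
    rfl
  rw [← Module.FinitePresentation.fg_ker_iff l hls, hk]
  exact Iff.rfl

end Alg

variable {Y Z : Scheme.{u}} (g : Y ⟶ Z)

/-- `n`-pseudo-coherence of a morphism in terms of ring-level pseudo-coherence along all charts -/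
theorem isNPseudoCoherent_iff_forall_isNPC [LocallyOfFiniteType g] (m : ℤ) :
    DerSch.IsNPseudoCoherent g m ↔
      ∀ (U : Y.Opens) (_ : IsAffineOpen U) (V : Z.Opens) (_ : IsAffineOpen V) (h : U ≤ g ⁻¹ᵁ V)
        {n : ℕ} (φ : MvPolynomial (Fin n) Γ(Z, V) →+* Γ(Y, U)) (_ : DerSch.IsChart g U V h φ),
        IsNPC (Pff (MvPolynomial (Fin n) Γ(Z, V))) m
          ((resSingle φ).obj (ModuleCat.of Γ(Y, U) Γ(Y, U))) := by
  have key : ∀ (U : Y.Opens) (hU : IsAffineOpen U) (V : Z.Opens) {n : ℕ}
      (φ : MvPolynomial (Fin n) Γ(Z, V) →+* Γ(Y, U)) [IsClosedImmersion (gImm U φ)],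
      DCoh.IsPseudoCoherentD m ((chartD U.ι (gImm U φ)).obj (DCoh.toD Y (DerSch.unitCx Y))) ↔
      IsNPC (Pff (MvPolynomial (Fin n) Γ(Z, V))) m
          ((resSingle φ).obj (ModuleCat.of Γ(Y, U) Γ(Y, U))) := by
    intro U hU V n φ _
    rw [← isPC_pushforward_unit_gImm_iff U hU φ m]
    have e := chartDinD U.ι (gImm U φ) (Coh.structureModule Y) ≪≫
      (DerivedCategory.singleFunctor _ 0).mapIso ((Scheme.Modules.pushforward (gImm U φ)).mapIso
        (Scheme.Modules.restrictUnitIso U.ι))
    exact ⟨fun h => isPseudoCoherentD_of_iso e h, fun h => isPseudoCoherentD_of_iso e.symm h⟩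
  unfold DerSch.IsNPseudoCoherent
  rw [isPseudoCoherentRel_iff_chartD]
  constructor
  · intro H U hU V hV h n φ hφ
    haveI := isClosedImmersion_gImm U hU φ hφ.1
    exact (key U hU V φ).1 (H U hU V hV h φ hφ)
  · intro H U hU V hV h n φ hφ _
    exact (key U hU V φ).2 (H U hU V hV h φ hφ)

/-- **S6225**: `(-1)`-pseudo-coherent morphisms are the morphisms locally of finite presentation -/
theorem isNPseudoCoherent_neg_one_iff [LocallyOfFiniteType g] :
    DerSch.IsNPseudoCoherent g (-1) ↔ LocallyOfFinitePresentation g := by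
  rw [isNPseudoCoherent_iff_forall_isNPC]
  constructor
  · intro H
    refine ⟨fun {V} hV {U} hU h => ?_⟩
    obtain ⟨n, φ, hφs, hφC⟩ := exists_chart_of_finiteType _
      (LocallyOfFiniteType.finiteType_appLE g hV hU h)
    have h1 := (isNPC_single_neg_one_iff
      ((ModuleCat.restrictScalars φ).obj (ModuleCat.of Γ(Y, U) Γ(Y, U)))).1
      (H U hU V hV h φ ⟨hφs, hφC⟩)
    rw [finitePresentation_restrictScalars_iff φ hφs] at h1
    exact (finitePresentation_iff_ker_fg _ φ hφs hφC).2 h1
  · intro H U hU V hV h n φ hφ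
    refine (isNPC_single_neg_one_iff
      ((ModuleCat.restrictScalars φ).obj (ModuleCat.of Γ(Y, U) Γ(Y, U)))).2 ?_
    rw [finitePresentation_restrictScalars_iff φ hφ.1]
    exact (finitePresentation_iff_ker_fg _ φ hφ.1 hφ.2).1
      (LocallyOfFinitePresentation.finitePresentation_appLE g hV hU h)

end

end Groth.Agent.Lib.Helper28.RelPC
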