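import Mathlib
import Groth.Agent.Lib.Helper28.RelPC21

/-!
# Closed immersions whose structure sheaf pushes forward to an `s`-pseudo-coherent module:
transfer of `m`-pseudo-coherence at finite level (helper28)
-/

set_option autoImplicit false

universe u

open CategoryTheory Limits AlgebraicGeometry TopologicalSpace

attribute [local instance] HasDerivedCategory.standard

namespace Groth.Agent.Lib.Helper28.ClPushN

open Groth.Agent.Lib.Helper29.QCoh Groth.Agent.Lib.Helper18.PushStalk
open Groth.Agent.Lib.Helper28.DCohRes Groth.Agent.Lib.Helper17 Groth.Agent.Lib.Helper28.Thick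
open Groth.Agent.Lib.Helper28.DescPC Groth.Agent.Lib.Helper28.ClPush

noncomputable section

variable {Z X : Scheme.{u}}

/-- data: a closed immersion with `s`-pseudo-coherent direct image of the structure sheaf -/
structure CDatN (i : Z ⟶ X) (s : ℤ) : Prop where
  cl : IsClosedImmersion i
  hO : DCoh.IsPseudoCoherentD s
    (DCoh.inD X ((Scheme.Modules.pushforward i).obj (Coh.structureModule Z)))

variable {i : Z ⟶ X} {s : ℤ}

theorem CDatN.restrict (h : CDatN i s) (V : X.Opens) : CDatN (i ∣_ V) s := by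
  haveI := h.cl
  refine ⟨inferInstance, ?_⟩
  have h1 := isPseudoCoherentD_resD h.hO V.ι
  refine isPseudoCoherentD_of_iso (resDinDIso V.ι _ ≪≫
    (DerivedCategory.singleFunctor _ 0).mapIso ((RpushRes.θ i V).app _ ≪≫
      (Scheme.Modules.pushforward (i ∣_ V)).mapIso
        (Scheme.Modules.restrictUnitIso (i ⁻¹ᵁ V).ι))) h1

variable (i s)

/-- the direct image of `P`, placed in degree `0`, is `s`-pseudo-coherent -/
def PushPCN (P : Z.Modules) : Prop :=
  DCoh.IsPseudoCoherentD s (DCoh.inD X ((Scheme.Modules.pushforward i).obj P))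

variable {i s}

lemma PushPCN.of_iso {P P' : Z.Modules} (e : P ≅ P') (h : PushPCN i s P) : PushPCN i s P' :=
  isPseudoCoherentD_of_iso ((DerivedCategory.singleFunctor _ 0).mapIso
    ((Scheme.Modules.pushforward i).mapIso e)) h

lemma PushPCN.biprod {A B : Z.Modules} (hA : PushPCN i s A) (hB : PushPCN i s B) :
    PushPCN i s (A ⊞ B) := by
  haveI : PreservesBinaryBiproducts
      (Scheme.Modules.pushforward i ⋙ DerivedCategory.singleFunctor X.Modules 0) :=
    preservesBinaryBiproducts_of_preservesBiproducts _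
  exact isPseudoCoherentD_of_iso
    ((Scheme.Modules.pushforward i ⋙ DerivedCategory.singleFunctor X.Modules 0).mapBiprod A B).symm
    (isPseudoCoherentD_biprod' _ _ hA hB)

lemma pushPCN_of_isZero {P : Z.Modules} (h : IsZero P) : PushPCN i s P :=
  isPseudoCoherentD_of_isZero_homology fun n _ =>
    (DerivedCategory.homologyFunctor X.Modules n).map_isZero
      ((DerivedCategory.singleFunctor X.Modules 0).map_isZero
        ((Scheme.Modules.pushforward i).map_isZero h))

lemma pushPCN_freeMod (hC : CDatN i s) (n : ℕ) : PushPCN i s (FlatMod.freeMod Z n) := by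
  induction n with
  | zero =>
    apply pushPCN_of_isZero
    rw [IsZero.iff_id_eq_zero]
    apply Sigma.hom_ext
    intro k
    exact k.elim0
  | succ n ih =>
    exact PushPCN.of_iso (freeModSuccIso' Z n).symm (PushPCN.biprod hC.hO ih)

theorem pushPCN_of_isFinLocFree (hC : CDatN i s) {P : Z.Modules} (hP : FlatMod.IsFinLocFree P) :
    PushPCN i s P := by
  haveI := hC.cl
  refine isPseudoCoherentD_of_locally fun x => ?_
  by_cases hx : x ∈ Set.range i.base
  · obtain ⟨z, rfl⟩ := hx
    obtain ⟨W, n, hzW, ⟨e⟩⟩ := hP z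
    obtain ⟨V, rfl⟩ := exists_opens_preimage_eq i W
    refine ⟨V, V.ι, inferInstance, by rw [Scheme.Opens.range_ι]; exact hzW, ?_⟩
    exact isPseudoCoherentD_of_iso (resDinDIso V.ι _ ≪≫
      (DerivedCategory.singleFunctor _ 0).mapIso ((RpushRes.θ i V).app _ ≪≫
        (Scheme.Modules.pushforward (i ∣_ V)).mapIso e)).symm
      (pushPCN_freeMod (hC.restrict V) n)
  · let V : X.Opens := ⟨(Set.range i.base)ᶜ, i.isClosedEmbedding.isClosed_range.isOpen_compl⟩
    refine ⟨V, V.ι, inferInstance, by rw [Scheme.Opens.range_ι]; exact hx, ?_⟩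
    have hz : IsZero (((Scheme.Modules.pushforward i).obj P).restrict V.ι) :=
      isZero_restrict_of_stalk _ V fun v =>
        subsingleton_stalk_of_notMem_range i P i.isClosedEmbedding.isClosed_range _ v.2
    refine isPseudoCoherentD_of_iso (resDinDIso V.ι _).symm ?_
    exact isPseudoCoherentD_of_isZero_homology fun n _ =>
      (DerivedCategory.homologyFunctor _ n).map_isZero
        ((DerivedCategory.singleFunctor _ 0).map_isZero hz)

/-- `PushPCN` in any degree -/
lemma PushPCN.single {P : Z.Modules} (h : PushPCN i s P) (b m : ℤ) (hm : s + b ≤ m) :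
    DCoh.IsPseudoCoherentD m (DerivedCategory.Q.obj ((pushCx i).obj
      ((HomologicalComplex.single Z.Modules (ComplexShape.up ℤ) b).obj P))) := by
  have e1 := DerivedCategory.Q.mapIso ((HomologicalComplex.singleMapHomologicalComplex
    (Scheme.Modules.pushforward i) (ComplexShape.up ℤ) b).app P)
  have e2 := ((DerivedCategory.singleFunctors X.Modules).shiftIso (-b) b 0 (by omega)).app
    ((Scheme.Modules.pushforward i).obj P)
  have h0 : DCoh.IsPseudoCoherentD (m - b)
      (DCoh.inD X ((Scheme.Modules.pushforward i).obj P)) :=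
    isPseudoCoherentD_mono h (by omega)
  have h1 := isPseudoCoherentD_shift h0 (-b) m (by omega)
  exact isPseudoCoherentD_of_iso (e2 ≪≫ e1.symm) h1

variable (i s)

/-- the two transfer statements for a complex acyclic above `b` -/
def Stmt (m b : ℤ) (L : CochainComplex Z.Modules ℤ) : Prop :=
  (s + b ≤ m → DCoh.IsPseudoCoherentD m (DerivedCategory.Q.obj L) →
    DCoh.IsPseudoCoherentD m (DerivedCategory.Q.obj ((pushCx i).obj L))) ∧
  (s + b ≤ m + 1 → DCoh.IsPseudoCoherentD m (DerivedCategory.Q.obj ((pushCx i).obj L)) →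
    DCoh.IsPseudoCoherentD m (DerivedCategory.Q.obj L))

variable {i s}

/-- **Lemma A**: global cone step -/
theorem stmt_of_singleToCx (hC : CDatN i s) {m b : ℤ} {L : CochainComplex Z.Modules ℤ}
    {P : Z.Modules} (hP : FlatMod.IsFinLocFree P)
    (φ : P ⟶ L.cycles b) (hφ : IsApprox b (DerivedCategory.Q.map (singleToCx L b φ)))
    (IH : ∀ C : CochainComplex Z.Modules ℤ, (∀ n : ℤ, b - 1 < n → IsZero (C.homology n)) →
      Stmt i s m (b - 1) C) :
    Stmt i s m b L := by
  haveI := hC.cl
  let s' := singleToCx L b φ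
  have hSP := isStrictlyPerfect_single' hP b
  let T := DerivedCategory.Q.mapTriangle.obj (CochainComplex.mappingCone.triangle s')
  have hT : T ∈ distTriang _ := DerivedCategory.mappingCone_triangle_distinguished s'
  let s'' := (pushCx i).map s'
  let T' := DerivedCategory.Q.mapTriangle.obj (CochainComplex.mappingCone.triangle s'')
  have hT' : T' ∈ distTriang _ := DerivedCategory.mappingCone_triangle_distinguished s''
  have hCacyc : ∀ n : ℤ, b - 1 < n → IsZero ((CochainComplex.mappingCone s').homology n) := by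
    intro n hn
    have hex := exactAt_mappingCone_of_isApprox s' b hφ n (by omega)
    rwa [HomologicalComplex.exactAt_iff_isZero_homology] at hex
  have h₁ : ∀ m' : ℤ, DCoh.IsPseudoCoherentD m' T.obj₁ := fun m' =>
    isPseudoCoherentD_of_glob _ (𝟙 _) hSP (isApprox_id m' _)
  have h₁' : ∀ m' : ℤ, s + b ≤ m' → DCoh.IsPseudoCoherentD m' T'.obj₁ := fun m' hm' =>
    (pushPCN_of_isFinLocFree hC hP).single b m' hm'
  have eC : DerivedCategory.Q.obj ((pushCx i).obj (CochainComplex.mappingCone s')) ≅ T'.obj₃ :=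
    DerivedCategory.Q.mapIso
      (CochainComplex.mappingCone.mapHomologicalComplexIso s' (Scheme.Modules.pushforward i))
  have a1 : DCoh.IsPseudoCoherentD m (DerivedCategory.Q.obj L) ↔
      DCoh.IsPseudoCoherentD m (DerivedCategory.Q.obj (CochainComplex.mappingCone s')) :=
    ⟨fun h => (isPseudoCoherentD_triangle m T hT).1 (h₁ _) h,
      fun h => (isPseudoCoherentD_triangle m T hT).2.1 (h₁ _) h⟩
  obtain ⟨IH1, IH2⟩ := IH _ hCacyc
  constructor
  · intro hm hL
    have h3 := isPseudoCoherentD_of_iso eC (IH1 (by omega) (a1.1 hL))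
    exact (isPseudoCoherentD_triangle m T' hT').2.1 (h₁' m hm) h3
  · intro hm hL
    have h3 : DCoh.IsPseudoCoherentD m T'.obj₃ :=
      (isPseudoCoherentD_triangle m T' hT').1 (h₁' (m + 1) hm) hL
    exact a1.2 (IH2 (by omega) (isPseudoCoherentD_of_iso eC.symm h3))

/-- local-to-global, forward direction -/
theorem pc_push_of_locally [IsClosedImmersion i] {m : ℤ} {L : CochainComplex Z.Modules ℤ}
    (hL : DCoh.IsPseudoCoherentD m (DerivedCategory.Q.obj L))
    (h : ∀ z : Z, ∃ V : X.Opens, i.base z ∈ V ∧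
      (DCoh.IsPseudoCoherentD m (DerivedCategory.Q.obj ((resCx (i ⁻¹ᵁ V).ι).obj L)) →
        DCoh.IsPseudoCoherentD m (DerivedCategory.Q.obj
          ((pushCx (i ∣_ V)).obj ((resCx (i ⁻¹ᵁ V).ι).obj L))))) :
    DCoh.IsPseudoCoherentD m (DerivedCategory.Q.obj ((pushCx i).obj L)) := by
  refine isPseudoCoherentD_of_locally fun x => ?_
  by_cases hx : x ∈ Set.range i.base
  · obtain ⟨z, rfl⟩ := hx
    obtain ⟨V, hzV, himp⟩ := h z
    refine ⟨V, V.ι, inferInstance, by rw [Scheme.Opens.range_ι]; exact hzV, ?_⟩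
    have h1 : DCoh.IsPseudoCoherentD m (DerivedCategory.Q.obj ((resCx (i ⁻¹ᵁ V).ι).obj L)) :=
      isPseudoCoherentD_of_iso ((resDQ (i ⁻¹ᵁ V).ι).app L)
        (isPseudoCoherentD_resD hL (i ⁻¹ᵁ V).ι)
    exact isPseudoCoherentD_of_iso
      ((resDQ V.ι).app _ ≪≫ DerivedCategory.Q.mapIso (pushResIso i V L)).symm (himp h1)
  · let V : X.Opens := ⟨(Set.range i.base)ᶜ, i.isClosedEmbedding.isClosed_range.isOpen_compl⟩
    refine ⟨V, V.ι, inferInstance, by rw [Scheme.Opens.range_ι]; exact hx, ?_⟩
    refine isPseudoCoherentD_of_iso ((resDQ V.ι).app _).symm ?_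
    refine isPseudoCoherentD_of_isZero_homology fun n _ => ?_
    refine IsZero.of_iso ?_ ((DerivedCategory.homologyFunctorFactors _ n).app _)
    have hz : IsZero (((resCx V.ι).obj ((pushCx i).obj L)).X n) :=
      isZero_restrict_of_stalk _ V fun v =>
        subsingleton_stalk_of_notMem_range i (L.X n) i.isClosedEmbedding.isClosed_range _ v.2
    exact (HomologicalComplex.ExactAt.of_isZero hz).isZero_homology

/-- local-to-global, backward direction -/
theorem pc_of_push_locally [IsClosedImmersion i] {m : ℤ} {L : CochainComplex Z.Modules ℤ}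
    (hP : DCoh.IsPseudoCoherentD m (DerivedCategory.Q.obj ((pushCx i).obj L)))
    (h : ∀ z : Z, ∃ V : X.Opens, i.base z ∈ V ∧
      (DCoh.IsPseudoCoherentD m (DerivedCategory.Q.obj
          ((pushCx (i ∣_ V)).obj ((resCx (i ⁻¹ᵁ V).ι).obj L))) →
        DCoh.IsPseudoCoherentD m (DerivedCategory.Q.obj ((resCx (i ⁻¹ᵁ V).ι).obj L)))) :
    DCoh.IsPseudoCoherentD m (DerivedCategory.Q.obj L) := by
  refine isPseudoCoherentD_of_locally fun z => ?_
  obtain ⟨V, hzV, himp⟩ := h z
  refine ⟨i ⁻¹ᵁ V, (i ⁻¹ᵁ V).ι, inferInstance, by rw [Scheme.Opens.range_ι]; exact hzV, ?_⟩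
  have h1 : DCoh.IsPseudoCoherentD m (DerivedCategory.Q.obj
      ((pushCx (i ∣_ V)).obj ((resCx (i ⁻¹ᵁ V).ι).obj L))) :=
    isPseudoCoherentD_of_iso ((resDQ V.ι).app _ ≪≫ DerivedCategory.Q.mapIso (pushResIso i V L))
      (isPseudoCoherentD_resD hP V.ι)
  exact isPseudoCoherentD_of_iso ((resDQ (i ⁻¹ᵁ V).ι).app L).symm (himp h1)

theorem stmt_of_locally [IsClosedImmersion i] {m b : ℤ} {L : CochainComplex Z.Modules ℤ}
    (h : ∀ z : Z, ∃ V : X.Opens, i.base z ∈ V ∧
      Stmt (i ∣_ V) s m b ((resCx (i ⁻¹ᵁ V).ι).obj L)) :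
    Stmt i s m b L :=
  ⟨fun hm hL => pc_push_of_locally hL fun z => by
      obtain ⟨V, hzV, hst⟩ := h z
      exact ⟨V, hzV, hst.1 hm⟩,
    fun hm hP => pc_of_push_locally hP fun z => by
      obtain ⟨V, hzV, hst⟩ := h z
      exact ⟨V, hzV, hst.2 hm⟩⟩

/-- **Lemma B**: step with a global epimorphism onto the top cohomology -/
theorem stmt_of_epi_top (hC : CDatN i s) {m b : ℤ} {L : CochainComplex Z.Modules ℤ}
    (hac : ∀ n : ℤ, b < n → IsZero (L.homology n))
    {P : Z.Modules} (hP : FlatMod.IsFinLocFree P) (π : P ⟶ L.homology b) [Epi π]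
    (IH : ∀ {Z' X' : Scheme.{u}} (i' : Z' ⟶ X') (_ : CDatN i' s)
      (C : CochainComplex Z'.Modules ℤ),
      (∀ n : ℤ, b - 1 < n → IsZero (C.homology n)) → Stmt i' s m (b - 1) C) :
    Stmt i s m b L := by
  haveI := hC.cl
  have hex : ∀ n, b < n → L.ExactAt n := fun n hn => by
    rw [HomologicalComplex.exactAt_iff_isZero_homology]
    exact hac n hn
  refine stmt_of_locally fun z => ?_
  obtain ⟨W, hzW, φ, hφ⟩ := exists_local_singleToCx L b hex hP π z
  obtain ⟨V, rfl⟩ := exists_opens_preimage_eq i W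
  exact ⟨V, hzW, stmt_of_singleToCx (hC.restrict V) (isFinLocFree_restrict _ hP) φ hφ
    (fun C hCz => IH _ (hC.restrict V) C hCz)⟩

/-- **Lemma C**: step when the top cohomology is of finite type -/
theorem stmt_of_isFiniteType (hC : CDatN i s) {m b : ℤ} {L : CochainComplex Z.Modules ℤ}
    (hac : ∀ n : ℤ, b < n → IsZero (L.homology n)) [(L.homology b).IsFiniteType]
    (IH : ∀ {Z' X' : Scheme.{u}} (i' : Z' ⟶ X') (_ : CDatN i' s)
      (C : CochainComplex Z'.Modules ℤ),
      (∀ n : ℤ, b - 1 < n → IsZero (C.homology n)) → Stmt i' s m (b - 1) C) :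
    Stmt i s m b L := by
  haveI := hC.cl
  refine stmt_of_locally fun z => ?_
  obtain ⟨W, hzW, P, π, hP, hπ⟩ := exists_epi_of_isFiniteType (L.homology b) z
  obtain ⟨V, rfl⟩ := exists_opens_preimage_eq i W
  let ε := ((mapHCHomologyIso (Scheme.Modules.restrictFunctor (i ⁻¹ᵁ V).ι) b).app L).symm
  haveI : Epi (π ≫ ε.hom) := epi_comp _ _
  exact ⟨V, hzW, stmt_of_epi_top (hC.restrict V)
    (fun n hn => isZero_homology_resCx _ (hac n hn)) hP (π ≫ ε.hom) IH⟩

/-- **The induction.** -/
theorem stmt_all (s m : ℤ) : ∀ (k : ℕ) {Z X : Scheme.{u}} (i : Z ⟶ X) (_ : CDatN i s)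
    (L : CochainComplex Z.Modules ℤ) (b : ℤ), b + 1 ≤ m + k →
    (∀ n : ℤ, b < n → IsZero (L.homology n)) → Stmt i s m b L := by
  have base : ∀ {Z X : Scheme.{u}} (i : Z ⟶ X) (_ : CDatN i s) (L : CochainComplex Z.Modules ℤ)
      (b : ℤ), b + 1 ≤ m → (∀ n : ℤ, b < n → IsZero (L.homology n)) → Stmt i s m b L := by
    intro Z X i hC L b hb hac
    haveI := hC.cl
    refine ⟨fun _ _ => ?_, fun _ _ => ?_⟩
    · refine isPseudoCoherentD_of_isZero_homology fun n hn => IsZero.of_iso ?_
        ((DerivedCategory.homologyFunctorFactors X.Modules n).app _)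
      exact ((Scheme.Modules.pushforward i).map_isZero (hac n (by omega))).of_iso
        ((mapHCHomologyIso (Scheme.Modules.pushforward i) n).app L)
    · exact isPseudoCoherentD_of_isZero_homology fun n hn => IsZero.of_iso (hac n (by omega))
        ((DerivedCategory.homologyFunctorFactors Z.Modules n).app L)
  intro k
  induction k with
  | zero =>
    intro Z X i hC L b hb hac
    exact base i hC L b (by simpa using hb) hac
  | succ k ih =>
    intro Z X i hC L b hb hac
    by_cases hbm : b + 1 ≤ m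
    · exact base i hC L b hbm hac
    · haveI := hC.cl
      have hmb : m ≤ b := by omega
      have IH : ∀ {Z' X' : Scheme.{u}} (i' : Z' ⟶ X') (_ : CDatN i' s)
          (C : CochainComplex Z'.Modules ℤ),
          (∀ n : ℤ, b - 1 < n → IsZero (C.homology n)) → Stmt i' s m (b - 1) C :=
        fun i' hC' C hCz => ih i' hC' C (b - 1) (by push_cast at hb; omega) hCz
      have hz : ∀ n : ℤ, b < n → IsZero (DCoh.HD (DerivedCategory.Q.obj L) n) := fun n hn =>
        IsZero.of_iso (hac n hn) ((DerivedCategory.homologyFunctorFactors Z.Modules n).app L)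
      have hz' : ∀ n : ℤ, b < n →
          IsZero (DCoh.HD (DerivedCategory.Q.obj ((pushCx i).obj L)) n) := fun n hn =>
        IsZero.of_iso (((Scheme.Modules.pushforward i).map_isZero (hac n hn)).of_iso
          ((mapHCHomologyIso (Scheme.Modules.pushforward i) n).app L))
          ((DerivedCategory.homologyFunctorFactors X.Modules n).app _)
      have ft1 : DCoh.IsPseudoCoherentD m (DerivedCategory.Q.obj L) →
          (L.homology b).IsFiniteType := fun h =>
        isFiniteType_of_isPseudoCoherentD (isPseudoCoherentD_mono h hmb) hz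
          ((DerivedCategory.homologyFunctorFactors Z.Modules b).app L)
      have ft2 : DCoh.IsPseudoCoherentD m (DerivedCategory.Q.obj ((pushCx i).obj L)) →
          (L.homology b).IsFiniteType := fun h => by
        haveI h1 : ((Scheme.Modules.pushforward i).obj (L.homology b)).IsFiniteType :=
          isFiniteType_of_isPseudoCoherentD (isPseudoCoherentD_mono h hmb) hz'
            ((DerivedCategory.homologyFunctorFactors X.Modules b).app _ ≪≫
              (mapHCHomologyIso (Scheme.Modules.pushforward i) b).app L)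
        exact isFiniteType_of_pushforward i _
      constructor
      · intro hm h
        haveI := ft1 h
        exact (stmt_of_isFiniteType hC hac IH).1 hm h
      · intro hm h
        haveI := ft2 h
        exact (stmt_of_isFiniteType hC hac IH).2 hm h

/-- Transfer of `m`-pseudo-coherence along a closed immersion with `s`-pseudo-coherent
`i_* O_Z`, for complexes acyclic above `b` (locally-bounded version not needed: the bound is
global here). -/
theorem stmt_of_acyclic (i : Z ⟶ X) (hC : CDatN i s) (m b : ℤ) (L : CochainComplex Z.Modules ℤ)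
    (hac : ∀ n : ℤ, b < n → IsZero (L.homology n)) : Stmt i s m b L :=
  stmt_all s m (b + 1 - m).toNat i hC L b (by omega) hac

end

end Groth.Agent.Lib.Helper28.ClPushN
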