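import Mathlib
import Groth.Agent.Lib.Helper28.RelPC22

/-!
# Relative pseudo-coherence at finite level under composition (helper28)
-/

set_option autoImplicit false

universe u

open CategoryTheory Limits AlgebraicGeometry Pretriangulated

namespace Groth.Agent.Lib.Helper28.RelPC

noncomputable section

attribute [local instance] HasDerivedCategory.standard

open Groth.Agent.Lib.Helper29.QCoh Groth.Agent.Lib.Helper28.DCohRes
  Groth.Agent.Lib.Helper13.PC Groth.Agent.Lib.Helper13.DR Groth.Agent.Lib.Helper28.FinPush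
  Groth.Agent.Lib.Helper28.ClPush Groth.Agent.Lib.Helper28.ClPushN Groth.Agent.Lib.Helper13.BS

section Pushout

variable (R A R' A' : Type u) [CommRing R] [CommRing A] [Algebra R A] [CommRing R'] [Algebra R R']
  [CommRing A'] [Algebra R A'] [Algebra A A'] [Algebra R' A'] [IsScalarTower R A A']
  [IsScalarTower R R' A'] [Algebra.IsPushout R R' A A']

/-- Flat base change of an `n`-pseudo-coherent ring map along a pushout square. -/
theorem isNPC_of_isPushout_flat [Module.Flat R R'] (n : ℤ)
    (h : IsNPC (Pff R) n ((resSingle (algebraMap R A)).obj (ModuleCat.of A A))) :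
    IsNPC (Pff R') n ((resSingle (algebraMap R' A')).obj (ModuleCat.of A' A')) := by
  obtain ⟨E₀, hE₀, ⟨e⟩⟩ := h
  have e1 : (flatBC R R').obj ((resSingle (algebraMap R A)).obj (ModuleCat.of A A)) ≅
      (DerivedCategory.singleFunctor (ModuleCat.{u} R') 0).obj
        ((ModuleCat.extendScalars.{u, u, u} (algebraMap R R')).obj
          ((ModuleCat.restrictScalars.{u} (algebraMap R A)).obj (ModuleCat.of A A))) :=
    ((ModuleCat.extendScalars.{u, u, u} (algebraMap R R')).mapDerivedCategorySingleFunctor 0).app _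
  have e2 : (ModuleCat.extendScalars.{u, u, u} (algebraMap R R')).obj
      ((ModuleCat.restrictScalars.{u} (algebraMap R A)).obj (ModuleCat.of A A)) ≅
      (ModuleCat.restrictScalars.{u} (algebraMap R' A')).obj (ModuleCat.of A' A') :=
    pbcIso R A R' A' (ModuleCat.of A A) ≪≫
      (ModuleCat.restrictScalars.{u} (algebraMap R' A')).mapIso (extendSelfIso A A')
  refine ⟨(extendCx R R').obj E₀, ?_,
    ⟨(flatBCQIso R R' E₀).symm ≪≫ (flatBC R R').mapIso e ≪≫ e1 ≪≫
      (DerivedCategory.singleFunctor (ModuleCat.{u} R') 0).mapIso e2⟩⟩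
  obtain ⟨⟨b, hb⟩, hP⟩ := hE₀
  exact ⟨⟨b, fun i hi => Functor.map_isZero
    (ModuleCat.extendScalars.{u, u, u} (algebraMap R R')) (hb i hi)⟩,
    fun i hi => Pff_extendScalars R' (hP i hi)⟩

end Pushout

section PolyExt

attribute [local instance] MvPolynomial.algebraMvPolynomial

lemma isNPC_mvPolynomial_map {P A : Type u} [CommRing P] [CommRing A] (α : P →+* A) (s : ℤ)
    (hα : IsNPC (Pff P) s ((resSingle α).obj (ModuleCat.of A A))) (k : ℕ) :
    IsNPC (Pff (MvPolynomial (Fin k) P)) s
      ((resSingle (MvPolynomial.map (σ := Fin k) α)).obj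
        (ModuleCat.of (MvPolynomial (Fin k) A) (MvPolynomial (Fin k) A))) := by
  let _ : Algebra P A := α.toAlgebra
  exact isNPC_of_isPushout_flat P A (MvPolynomial (Fin k) P) (MvPolynomial (Fin k) A) s hα

end PolyExt

/-- a surjective ring map making the target an `s`-pseudo-coherent module gives level-`s` closed
immersion data -/
theorem cDatN_spec {B B' : Type u} [CommRing B] [CommRing B'] (π : B' →+* B)
    (hπ : Function.Surjective π) (s : ℤ)
    (hπ' : IsNPC (Pff B') s ((resSingle π).obj (ModuleCat.of B B))) :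
    CDatN (Spec.map (CommRingCat.ofHom π)) s := by
  refine ⟨IsClosedImmersion.spec_of_surjective _ hπ, ?_⟩
  haveI : PreservesFiniteLimits (tilde.functor (CommRingCat.of B')) :=
    Groth.Agent.Lib.Helper17.KProjAff.preservesFiniteLimits_tilde _
  obtain ⟨e0⟩ := nonempty_unitM_iso_tilde (CommRingCat.of B)
  let W : ModuleCat.{u} B' := (ModuleCat.restrictScalars π).obj (ModuleCat.of B B)
  have e1 : (Scheme.Modules.pushforward (Spec.map (CommRingCat.ofHom π))).obj
      (unitM (Spec (CommRingCat.of B))) ≅ tilde W :=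
    (Scheme.Modules.pushforward (Spec.map (CommRingCat.ofHom π))).mapIso e0 ≪≫
      (Groth.Agent.Lib.Helper17.TildePush.tildePushIso (CommRingCat.ofHom π)).app
        (ModuleCat.of B B)
  have e2 : DCoh.inD (Spec (CommRingCat.of B'))
      ((Scheme.Modules.pushforward (Spec.map (CommRingCat.ofHom π))).obj
        (unitM (Spec (CommRingCat.of B)))) ≅
      (DCoh.tildeD (CommRingCat.of B')).obj ((DerivedCategory.singleFunctor _ 0).obj W) :=
    (DerivedCategory.singleFunctor _ 0).mapIso e1 ≪≫
      (((tilde.functor (CommRingCat.of B')).mapDerivedCategorySingleFunctor 0).app _).symm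
  exact isPseudoCoherentD_of_iso e2.symm
    ((isPseudoCoherentD_tildeD_iff (CommRingCat.of B') _ s).2 hπ')

variable {X : Scheme.{u}} (U : X.Opens)

/-- **change of presentation at finite level** -/
theorem pushPCx_comp_level (hU : IsAffineOpen U) {B B' : Type u} [CommRing B] [CommRing B']
    (θ : B →+* Γ(X, U)) (hθ : Function.Surjective θ) (π : B' →+* B)
    (hπ : Function.Surjective π) (s : ℤ)
    (hπ' : IsNPC (Pff B') s ((resSingle π).obj (ModuleCat.of B B))) (m b : ℤ)
    (L : CochainComplex (U : Scheme.{u}).Modules ℤ)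
    (hac : ∀ n : ℤ, b < n → IsZero (L.homology n)) :
    (s + b ≤ m → PushPCx U m L θ → PushPCx U m L (θ.comp π)) ∧
      (s + b ≤ m + 1 → PushPCx U m L (θ.comp π) → PushPCx U m L θ) := by
  haveI := isClosedImmersion_gImm U hU θ hθ
  have hC := cDatN_spec π hπ s hπ'
  haveI := hC.cl
  set p := Spec.map (CommRingCat.ofHom π) with hp
  set i := gImm U θ with hi
  have e : DerivedCategory.Q.obj ((DerSch.pushCx (gImm U (θ.comp π))).obj L) ≅
      DerivedCategory.Q.obj ((ClPush.pushCx p).obj ((DerSch.pushCx i).obj L)) := by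
    rw [gImm_comp]
    exact DerivedCategory.Q.mapIso ((pushCxComp i p).app L).symm
  have hac' : ∀ n : ℤ, b < n → IsZero (((DerSch.pushCx i).obj L).homology n) := fun n hn =>
    ((Scheme.Modules.pushforward i).map_isZero (hac n hn)).of_iso
      ((mapHCHomologyIso (Scheme.Modules.pushforward i) n).app L)
  obtain ⟨h1, h2⟩ := stmt_of_acyclic p hC m b _ hac'
  unfold PushPCx
  exact ⟨fun hm h => isPseudoCoherentD_of_iso e.symm (h1 hm h),
    fun hm h => h2 hm (isPseudoCoherentD_of_iso e h)⟩

theorem pushPCx_combChart_level (hU : IsAffineOpen U) {R B : Type u} [CommRing R] [CommRing B]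
    {n k : ℕ} (α : MvPolynomial (Fin n) B →+* Γ(X, U)) (hα : Function.Surjective α)
    (β : MvPolynomial (Fin k) R →+* B) (hβ : Function.Surjective β) (s : ℤ)
    (hβ' : IsNPC (Pff (MvPolynomial (Fin k) R)) s ((resSingle β).obj (ModuleCat.of B B)))
    (m b : ℤ) (L : CochainComplex (U : Scheme.{u}).Modules ℤ)
    (hac : ∀ n : ℤ, b < n → IsZero (L.homology n)) :
    (s + b ≤ m → PushPCx U m L α → PushPCx U m L (combChart α β)) ∧
      (s + b ≤ m + 1 → PushPCx U m L (combChart α β) → PushPCx U m L α) := by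
  have h1 := pushPCx_comp_level U hU α hα (MvPolynomial.map β)
    (MvPolynomial.map_surjective β hβ) s (isNPC_mvPolynomial_map β s hβ' n) m b L hac
  have h2 := pushPCx_comp_iff U hU (α.comp (MvPolynomial.map β))
    (hα.comp (MvPolynomial.map_surjective β hβ))
    ((sumEquiv R n k).toRingEquiv : MvPolynomial (Fin (n + k)) R →+*
      MvPolynomial (Fin n) (MvPolynomial (Fin k) R)) (sumEquiv R n k).toRingEquiv.surjective
    (isPCHom_of_ringEquiv (sumEquiv R n k).toRingEquiv) m L
  exact ⟨fun hm h => h2.1 (h1.1 hm h), fun hm h => h1.2 hm (h2.2 h)⟩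

end

end Groth.Agent.Lib.Helper28.RelPC
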