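import Mathlib
import Groth.Agent.Lib.Helper28.RelPC23

/-!
# Relative pseudo-coherence at finite level under composition: the scheme statements (helper28)
-/

set_option autoImplicit false

universe u

open CategoryTheory Limits AlgebraicGeometry Pretriangulated

namespace Groth.Agent.Lib.Helper28.RelPC

noncomputable section

attribute [local instance] HasDerivedCategory.standard

open Groth.Agent.Lib.Helper29.QCoh Groth.Agent.Lib.Helper28.DCohRes
  Groth.Agent.Lib.Helper13.PC Groth.Agent.Lib.Helper13.DR Groth.Agent.Lib.Helper28.FinPush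
  Groth.Agent.Lib.Helper28.ClPush Groth.Agent.Lib.Helper28.ClPushN

variable {X Y S : Scheme.{u}}

lemma isZero_homology_restrictCx_of_isLE (E : DCoh.D X) (b : ℤ) [E.IsLE b]
    (G : CochainComplex X.Modules ℤ) (hG : Nonempty (DCoh.toD X G ≅ E)) (U : X.Opens) (n : ℤ)
    (hn : b < n) : IsZero (((DCoh.restrictCx U).obj G).homology n) := by
  obtain ⟨e⟩ := hG
  have h1 : IsZero ((DerivedCategory.homologyFunctor X.Modules n).obj E) :=
    E.isZero_of_isLE b n hn
  have h2 : IsZero (G.homology n) :=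
    (h1.of_iso ((DerivedCategory.homologyFunctor X.Modules n).mapIso e)).of_iso
      ((DerivedCategory.homologyFunctorFactors X.Modules n).app G).symm
  exact isZero_homology_resCx U h2

lemma isPseudoCoherentRel_mono (f : X ⟶ S) [LocallyOfFiniteType f] {m m' : ℤ} (h : m ≤ m')
    (E : DCoh.D X) (hE : DerSch.IsPseudoCoherentRel f m E) : DerSch.IsPseudoCoherentRel f m' E := by
  rw [isPseudoCoherentRel_iff_chartD] at hE ⊢
  intro U hU V hV hUV n φ hφ _
  exact isPseudoCoherentD_mono (hE U hU V hV hUV φ hφ) h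

variable (f : X ⟶ Y) (g : Y ⟶ S)

/-- relative `m`-pseudo-coherence passes to the composition with an `s`-pseudo-coherent
morphism, for objects of `D^{≤ b}` with `s + b ≤ m` -/
theorem isPseudoCoherentRel_comp_level [LocallyOfFiniteType f] [LocallyOfFiniteType g]
    (m s b : ℤ) (E : DCoh.D X) [E.IsLE b] (hs : s + b ≤ m) (hg : DerSch.IsNPseudoCoherent g s)
    (hE : DerSch.IsPseudoCoherentRel f m E) : DerSch.IsPseudoCoherentRel (f ≫ g) m E := by
  have hg' := (isNPseudoCoherent_iff_forall_isNPC g s).1 hg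
  refine ⟨inferInstance, Set.univ, ?_, fun W _ =>
    ⟨{U | ∃ V : Y.affineOpens, (U : X.Opens) ≤ f ⁻¹ᵁ (V : Y.Opens) ∧
      (V : Y.Opens) ≤ g ⁻¹ᵁ (W : S.Opens)}, ?_, ?_⟩⟩
  · rw [← iSup_affineOpens_eq_top S]
    simp
  · apply le_antisymm
    · refine iSup₂_le fun U hU => ?_
      obtain ⟨V, hUV, hVW⟩ := hU
      exact fun x hx => hVW (hUV hx)
    · intro x hx
      obtain ⟨V, hV, hxV, hVle⟩ := exists_isAffineOpen_mem_and_subset (x := f x)
        (U := g ⁻¹ᵁ (W : S.Opens)) hx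
      obtain ⟨U, hU, hxU, hUle⟩ := exists_isAffineOpen_mem_and_subset (x := x)
        (U := f ⁻¹ᵁ V) hxV
      simp only [TopologicalSpace.Opens.mem_iSup]
      exact ⟨⟨U, hU⟩, ⟨⟨V, hV⟩, hUle, hVle⟩, hxU⟩
  · rintro U ⟨V, hUV, hVW⟩ hUW
    obtain ⟨n, α, hαs, hαC⟩ := exists_chart_of_finiteType _
      (LocallyOfFiniteType.finiteType_appLE f V.2 U.2 hUV)
    obtain ⟨k, β, hβs, hβC⟩ := exists_chart_of_finiteType _
      (LocallyOfFiniteType.finiteType_appLE g W.2 V.2 hVW)
    have hβ' := hg' (V : Y.Opens) V.2 (W : S.Opens) W.2 hVW β ⟨hβs, hβC⟩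
    have hαE := chartPC_of_isPseudoCoherentRel f m E hE (U : X.Opens) U.2 (V : Y.Opens) V.2 hUV α
      ⟨hαs, hαC⟩
    refine ⟨n + k, combChart α β,
      isChart_combChart f g _ _ _ hUV hVW hUW α β ⟨hαs, hαC⟩ ⟨hβs, hβC⟩, fun G hG => ?_⟩
    exact (pushPCx_combChart_level (U : X.Opens) U.2 α hαs β hβs s hβ' m b _
      (fun n hn => isZero_homology_restrictCx_of_isLE E b G hG _ n hn)).1 hs (hαE G hG)

/-- relative `m`-pseudo-coherence descends from the composition with an `s`-pseudo-coherent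
morphism, for objects of `D^{≤ b}` with `s + b ≤ m + 1` -/
theorem isPseudoCoherentRel_of_comp_level [LocallyOfFiniteType f] [LocallyOfFiniteType g]
    (m s b : ℤ) (E : DCoh.D X) [E.IsLE b] (hs : s + b ≤ m + 1)
    (hg : DerSch.IsNPseudoCoherent g s)
    (hE : DerSch.IsPseudoCoherentRel (f ≫ g) m E) : DerSch.IsPseudoCoherentRel f m E := by
  have hg' := (isNPseudoCoherent_iff_forall_isNPC g s).1 hg
  refine ⟨inferInstance, {V | ∃ W : S.affineOpens, (V : Y.Opens) ≤ g ⁻¹ᵁ (W : S.Opens)}, ?_,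
    fun V hV => ⟨{U | (U : X.Opens) ≤ f ⁻¹ᵁ (V : Y.Opens)}, ?_, ?_⟩⟩
  · apply le_antisymm le_top
    intro y _
    obtain ⟨W, hW, hyW, -⟩ := exists_isAffineOpen_mem_and_subset (x := g y) (U := ⊤) trivial
    obtain ⟨V, hV, hyV, hVle⟩ := exists_isAffineOpen_mem_and_subset (x := y)
      (U := g ⁻¹ᵁ W) hyW
    simp only [TopologicalSpace.Opens.mem_iSup]
    exact ⟨⟨V, hV⟩, ⟨⟨W, hW⟩, hVle⟩, hyV⟩
  · apply le_antisymm
    · exact iSup₂_le fun U hU => hU
    · intro x hx
      obtain ⟨U, hU, hxU, hUle⟩ := exists_isAffineOpen_mem_and_subset (x := x)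
        (U := f ⁻¹ᵁ (V : Y.Opens)) hx
      simp only [TopologicalSpace.Opens.mem_iSup]
      exact ⟨⟨U, hU⟩, hUle, hxU⟩
  · obtain ⟨W, hVW⟩ := hV
    intro U _ hUV
    obtain ⟨n, α, hαs, hαC⟩ := exists_chart_of_finiteType _
      (LocallyOfFiniteType.finiteType_appLE f V.2 U.2 hUV)
    obtain ⟨k, β, hβs, hβC⟩ := exists_chart_of_finiteType _
      (LocallyOfFiniteType.finiteType_appLE g W.2 V.2 hVW)
    have hβ' := hg' (V : Y.Opens) V.2 (W : S.Opens) W.2 hVW β ⟨hβs, hβC⟩
    have hUW : (U : X.Opens) ≤ (f ≫ g) ⁻¹ᵁ (W : S.Opens) := fun x hx => hVW (hUV hx)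
    have hγE := chartPC_of_isPseudoCoherentRel (f ≫ g) m E hE (U : X.Opens) U.2 (W : S.Opens)
      W.2 hUW (combChart α β)
      (isChart_combChart f g _ _ _ hUV hVW hUW α β ⟨hαs, hαC⟩ ⟨hβs, hβC⟩)
    refine ⟨n, α, ⟨hαs, hαC⟩, fun G hG => ?_⟩
    exact (pushPCx_combChart_level (U : X.Opens) U.2 α hαs β hβs s hβ' m b _
      (fun n hn => isZero_homology_restrictCx_of_isLE E b G hG _ n hn)).2 hs (hγE G hG)

/-- **S6209**: composition of an `r`- and an `s`-pseudo-coherent morphism is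
`max r s`-pseudo-coherent -/
theorem isNPseudoCoherent_comp [LocallyOfFiniteType f] [LocallyOfFiniteType g] (r s : ℤ)
    (hf : DerSch.IsNPseudoCoherent f r) (hg : DerSch.IsNPseudoCoherent g s) :
    DerSch.IsNPseudoCoherent (f ≫ g) (max r s) := by
  haveI : (DCoh.toD X (DerSch.unitCx X)).IsLE 0 :=
    inferInstanceAs (((DerivedCategory.singleFunctor X.Modules 0).obj
      (Coh.structureModule X)).IsLE 0)
  exact isPseudoCoherentRel_comp_level f g (max r s) s 0 _ (by simp)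
    hg (isPseudoCoherentRel_mono f (le_max_left r s) _ hf)

end

end Groth.Agent.Lib.Helper28.RelPC
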