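import Mathlib
import Groth.Agent.Lib.Helper28.RelPC24
import Groth.Agent.Lib.Helper29.QCohPush
set_option autoImplicit false
universe u
open CategoryTheory Limits AlgebraicGeometry Pretriangulated
namespace Groth.Agent.Lib.Helper28.RelPC
noncomputable section
attribute [local instance] HasDerivedCategory.standard
open Groth.Agent.Lib.Helper29.QCoh Groth.Agent.Lib.Helper28.DCohRes
  Groth.Agent.Lib.Helper13.PC Groth.Agent.Lib.Helper13.DR Groth.Agent.Lib.Helper28.FinPush
  Groth.Agent.Lib.Helper28.ClPush Groth.Agent.Lib.Helper28.ClPushN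

variable {X : Scheme.{u}} (U : X.Opens)

lemma gImm_appTop {B' : Type u} [CommRing B'] (θ : B' →+* Γ(X, U)) :
    (gImm U θ).appTop =
      (Scheme.ΓSpecIso (CommRingCat.of B')).hom ≫ CommRingCat.ofHom θ ≫ U.topIso.inv := by
  unfold gImm
  rw [Scheme.Hom.comp_appTop, Scheme.Opens.toSpecΓ_appTop, ← Category.assoc,
    Scheme.ΓSpecIso_naturality, Category.assoc]

lemma image_preimage_top {B' : Type u} [CommRing B'] (θ : B' →+* Γ(X, U)) :
    U.ι ''ᵁ ((gImm U θ) ⁻¹ᵁ ⊤) = U := by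
  have : (gImm U θ) ⁻¹ᵁ ⊤ = ⊤ := rfl
  rw [this, Scheme.Opens.ι_image_top]

lemma key_scalar {B' : Type u} [CommRing B'] (θ : B' →+* Γ(X, U))
    (c : Γ(Spec (CommRingCat.of B'), ⊤)) :
    X.presheaf.map (homOfLE (image_preimage_top U θ).ge).op
      ((U.ι.appIso ((gImm U θ) ⁻¹ᵁ ⊤)).inv ((gImm U θ).app ⊤ c)) =
    θ (ΓSpecRingEquiv (CommRingCat.of B') c) := by
  have h1 : (gImm U θ).app ⊤ = (gImm U θ).appTop := rfl
  rw [h1, gImm_appTop]
  have h2 : (U.ι.appIso ((gImm U θ) ⁻¹ᵁ ⊤)) = Iso.refl _ := Scheme.Opens.ι_appIso U _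
  rw [h2]
  change (U.topIso.inv ≫ X.presheaf.map (homOfLE (image_preimage_top U θ).ge).op)
    (θ ((Scheme.ΓSpecIso (CommRingCat.of B')).hom c)) = _
  have h3 : U.topIso.inv ≫ X.presheaf.map (homOfLE (image_preimage_top U θ).ge).op = 𝟙 _ := by
    unfold Scheme.Opens.topIso
    simp only [Functor.mapIso_inv, Iso.op_inv, eqToIso.inv, eqToHom_op]
    exact (presheaf_map_comp_eq _ _ (𝟙 _)).trans (X.presheaf.map_id _)
  rw [h3]
  rfl

/-- the direct image of a quasi-coherent module along a generalized chart of an affine open is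
the tilde of the module of sections -/
theorem nonempty_pushforward_gImm_iso_tilde (hU : IsAffineOpen U) {B' : Type u} [CommRing B']
    (θ : B' →+* Γ(X, U)) (M : X.Modules) [M.IsQuasicoherent] :
    Nonempty ((Scheme.Modules.pushforward (gImm U θ)).obj (M.restrict U.ι) ≅
      tilde ((ModuleCat.restrictScalars θ).obj (ModuleCat.of Γ(X, U) Γ(M, U)))) := by
  haveI : IsAffine (U : Scheme.{u}) := hU
  haveI : (M.restrict U.ι).IsQuasicoherent :=
    inferInstanceAs ((Scheme.Modules.restrictFunctor U.ι).obj M).IsQuasicoherent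
  haveI := isQuasicoherent_pushforward_of_isAffineHom (gImm U θ) (M.restrict U.ι)
  have he := image_preimage_top U θ
  let E : Γ((Scheme.Modules.pushforward (gImm U θ)).obj (M.restrict U.ι), ⊤) ≃+ Γ(M, U) :=
    { toFun := fun s => res M he.ge (show Γ(M, U.ι ''ᵁ ((gImm U θ) ⁻¹ᵁ ⊤)) from s)
      invFun := fun t => (res M he.le t : Γ(M, U.ι ''ᵁ ((gImm U θ) ⁻¹ᵁ ⊤)))
      left_inv := fun s => by
        change res M he.le (res M he.ge _) = _
        rw [res_res, res_self]
      right_inv := fun t => by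
        change res M he.ge (res M he.le _) = _
        rw [res_res, res_self]
      map_add' := fun a b => map_add (res M he.ge) _ _ }
  refine nonempty_iso_tilde_of_addEquiv _ _ E ?_
  intro c s
  have h1 : c • s = (show Γ((Scheme.Modules.pushforward (gImm U θ)).obj (M.restrict U.ι), ⊤) from
      ((gImm U θ).app ⊤ c) • (show Γ(M.restrict U.ι, (gImm U θ) ⁻¹ᵁ ⊤) from s)) :=
    pushforward_smul (gImm U θ) (M.restrict U.ι) ⊤ c s
  have h2 : HSMul.hSMul (α := Γ((U : Scheme.{u}), (gImm U θ) ⁻¹ᵁ ⊤))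
      (β := Γ(M.restrict U.ι, (gImm U θ) ⁻¹ᵁ ⊤)) ((gImm U θ).app ⊤ c)
        (show Γ(M, U.ι ''ᵁ ((gImm U θ) ⁻¹ᵁ ⊤)) from s) =
      ((U.ι.appIso ((gImm U θ) ⁻¹ᵁ ⊤)).inv ((gImm U θ).app ⊤ c)) •
        (show Γ(M, U.ι ''ᵁ ((gImm U θ) ⁻¹ᵁ ⊤)) from s) :=
    restrict_smul U.ι M _ _ _
  change res M he.ge (show Γ(M, U.ι ''ᵁ ((gImm U θ) ⁻¹ᵁ ⊤)) from (c • s)) =
    θ (ΓSpecRingEquiv (CommRingCat.of B') c) •
      res M he.ge (show Γ(M, U.ι ''ᵁ ((gImm U θ) ⁻¹ᵁ ⊤)) from s)
  rw [← key_scalar U θ c, ← res_smul, h1]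
  exact congrArg (res M he.ge) h2

/-- **bridge** for quasi-coherent modules -/
theorem isPC_pushforward_gImm_iff (hU : IsAffineOpen U) {B' : Type u} [CommRing B']
    (θ : B' →+* Γ(X, U)) (M : X.Modules) [M.IsQuasicoherent] (m : ℤ) :
    DCoh.IsPseudoCoherentD m (DCoh.inD _ ((Scheme.Modules.pushforward (gImm U θ)).obj
      (M.restrict U.ι))) ↔
    IsNPC (Pff B') m ((resSingle θ).obj (ModuleCat.of Γ(X, U) Γ(M, U))) := by
  haveI : PreservesFiniteLimits (tilde.functor (CommRingCat.of B')) :=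
    Groth.Agent.Lib.Helper17.KProjAff.preservesFiniteLimits_tilde _
  obtain ⟨e1⟩ := nonempty_pushforward_gImm_iso_tilde U hU θ M
  have e2 : DCoh.inD (Spec (CommRingCat.of B'))
      ((Scheme.Modules.pushforward (gImm U θ)).obj (M.restrict U.ι)) ≅
      (DCoh.tildeD (CommRingCat.of B')).obj
        ((resSingle θ).obj (ModuleCat.of Γ(X, U) Γ(M, U))) :=
    (DerivedCategory.singleFunctor _ 0).mapIso e1 ≪≫
      (((tilde.functor (CommRingCat.of B')).mapDerivedCategorySingleFunctor 0).app _).symm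
  rw [← isPseudoCoherentD_tildeD_iff (CommRingCat.of B') _ m]
  exact ⟨fun h => isPseudoCoherentD_of_iso e2 h, fun h => isPseudoCoherentD_of_iso e2.symm h⟩

/-- charts are finite: the direct image of the structure sheaf is `0`-pseudo-coherent -/
theorem cDatN_gImm_zero (hU : IsAffineOpen U) {B' : Type u} [CommRing B']
    (θ : B' →+* Γ(X, U)) (hθ : Function.Surjective θ) : CDatN (gImm U θ) 0 := by
  refine ⟨isClosedImmersion_gImm U hU θ hθ, (isPC_pushforward_unit_gImm_iff U hU θ 0).2 ?_⟩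
  let W : ModuleCat.{u} B' := (ModuleCat.restrictScalars θ).obj (ModuleCat.of Γ(X, U) Γ(X, U))
  refine (isNPC_single_zero_iff W).2 ?_
  let l : B' →ₗ[B'] W := LinearMap.toSpanSingleton B' W (1 : Γ(X, U))
  have hl : ∀ b, l b = θ b := fun b => by
    change θ b * (1 : Γ(X, U)) = θ b
    rw [mul_one]
  have hls : Function.Surjective l := fun a => by
    obtain ⟨b, hb⟩ := hθ a
    exact ⟨b, (hl b).trans hb⟩
  exact Module.Finite.of_surjective l hls

end
end Groth.Agent.Lib.Helper28.RelPC
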