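import Mathlib
import Groth.Agent.Lib.Helper28.RelPC2
import Groth.Agent.Lib.Helper28.DCohRes34

/-!
# Relative pseudo-coherence: boundedness and quasi-coherence of cohomology (helper28)
-/

set_option autoImplicit false

universe u

open CategoryTheory Limits AlgebraicGeometry

namespace Groth.Agent.Lib.Helper28.RelPC

noncomputable section

attribute [local instance] HasDerivedCategory.standard

open Groth.Agent.Lib.Helper29.QCoh Groth.Agent.Lib.Helper28.DCohRes
  Groth.Agent.Lib.Helper13.PC Groth.Agent.Lib.Helper13.DR Groth.Agent.Lib.Helper28.FinPush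
  Groth.Agent.Lib.Helper28.ClPush Groth.Agent.Lib.Helper28.DCohTilde
  Groth.Agent.Lib.Helper28.Thick

variable {X : Scheme.{u}}

/-- a complex whose cohomology is locally bounded above is bounded above on a quasi-compact
scheme -/
lemma exists_isLE_of_locally_bounded [CompactSpace X] (G : CochainComplex X.Modules ℤ)
    (h : ∀ x : X, ∃ (W : X.Opens) (b : ℤ), x ∈ W ∧ ∀ w : X, w ∈ W → ∀ n : ℤ, b < n →
      Subsingleton ((G.homology n).presheaf.stalk w)) :
    ∃ b : ℤ, (DerivedCategory.Q.obj G).IsLE b := by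
  choose W b hxW hW using h
  obtain ⟨s, hs⟩ := isCompact_univ.elim_finite_subcover
    (fun x : X => ((W x : X.Opens) : Set X))
    (fun x => (W x).2) (fun x _ => Set.mem_iUnion.2 ⟨x, hxW x⟩)
  obtain ⟨b₀, hb₀⟩ := (s.image b).exists_le
  refine ⟨b₀, ?_⟩
  rw [DerivedCategory.isLE_iff]
  intro i hi
  refine IsZero.of_iso ?_ ((DerivedCategory.homologyFunctorFactors X.Modules i).app G)
  change IsZero (G.homology i)
  rw [isZero_iff_stalk_subsingleton]
  intro x
  obtain ⟨y, hys, hxy⟩ : ∃ y ∈ s, x ∈ ((W y : X.Opens) : Set X) := by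
    have := hs (Set.mem_univ x)
    simpa using this
  have h3 := hb₀ (b y) (Finset.mem_image_of_mem b hys)
  exact hW y x hxy i (by omega)

variable (U : X.Opens)

/-- the cohomology of a complex on an affine open with pseudo-coherent push-forward along a
generalized chart is bounded above -/
lemma exists_bound_of_pushPCx (hU : IsAffineOpen U) {B : Type u} [CommRing B]
    (θ : B →+* Γ(X, U)) (hθ : Function.Surjective θ) (m : ℤ)
    (L : CochainComplex (U : Scheme.{u}).Modules ℤ) (h : PushPCx U m L θ) :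
    ∃ b : ℤ, ∀ k : ℤ, b < k → IsZero (L.homology k) := by
  haveI := isClosedImmersion_gImm U hU θ hθ
  obtain ⟨b, hb⟩ := exists_isLE_of_isPseudoCoherentD _ m h
  refine ⟨b, fun k hk => ?_⟩
  rw [DerivedCategory.isLE_iff] at hb
  have h1 : IsZero (((DerSch.pushCx (gImm U θ)).obj L).homology k) :=
    (hb k hk).of_iso ((DerivedCategory.homologyFunctorFactors _ k).app _).symm
  apply isZero_of_isZero_pushforward (gImm U θ)
  exact h1.of_iso ((mapHCHomologyIso (Scheme.Modules.pushforward (gImm U θ)) k).app L).symm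

/-- **S6236** -/
theorem exists_isLE_of_isPseudoCoherentRel [CompactSpace X] {Y : Scheme.{u}} (f : X ⟶ Y) (n : ℤ)
    (E : DCoh.D X) (hE : DerSch.IsPseudoCoherentRel f n E) : ∃ b : ℤ, E.IsLE b := by
  obtain ⟨-, 𝒱, h𝒱, hV⟩ := hE
  let G := DerivedCategory.Q.objPreimage E
  let eG : DerivedCategory.Q.obj G ≅ E := DerivedCategory.Q.objObjPreimageIso E
  obtain ⟨b, hb⟩ := exists_isLE_of_locally_bounded G (fun x => by
    have hx : f.base x ∈ (⨆ V ∈ 𝒱, (V : Y.Opens)) := by rw [h𝒱]; trivial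
    simp only [TopologicalSpace.Opens.mem_iSup] at hx
    obtain ⟨V, hV𝒱, hxV⟩ := hx
    obtain ⟨𝒰, h𝒰, hU⟩ := hV V hV𝒱
    have hx' : x ∈ (⨆ U ∈ 𝒰, (U : X.Opens)) := by rw [h𝒰]; exact hxV
    simp only [TopologicalSpace.Opens.mem_iSup] at hx'
    obtain ⟨U, hU𝒰, hxU⟩ := hx'
    have hle : (U : X.Opens) ≤ f ⁻¹ᵁ (V : Y.Opens) := by
      rw [← h𝒰]
      exact le_iSup₂ (f := fun (U : X.affineOpens) (_ : U ∈ 𝒰) => (U : X.Opens)) U hU𝒰
    obtain ⟨k, φ, hφ, hPC⟩ := hU U hU𝒰 hle
    obtain ⟨b, hb⟩ := exists_bound_of_pushPCx (U : X.Opens) U.2 φ hφ.1 n _ (hPC G ⟨eG⟩)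
    refine ⟨U, b, hxU, fun w hw i hi => ?_⟩
    have h1 : IsZero ((G.homology i).restrict (U : X.Opens).ι) :=
      (hb i hi).of_iso
        ((mapHCHomologyIso (Scheme.Modules.restrictFunctor (U : X.Opens).ι) i).app G).symm
    exact stalk_subsingleton_of_isZero_restrict _ (U : X.Opens).ι h1 ⟨w, hw⟩)
  exact ⟨b, DerivedCategory.TStructure.t.isLE_of_iso eG b⟩

end

end Groth.Agent.Lib.Helper28.RelPC
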