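import Mathlib
import Groth.Agent.Lib.Helper28.RelPC3
import Groth.Agent.Lib.Helper29.QCohPush

/-!
# Quasi-coherence descends along closed immersions into affine schemes; quasi-coherence of the
cohomology of relatively pseudo-coherent objects (helper28)
-/

set_option autoImplicit false

universe u

open CategoryTheory Limits AlgebraicGeometry

namespace Groth.Agent.Lib.Helper28.RelPC

noncomputable section

attribute [local instance] HasDerivedCategory.standard

open Groth.Agent.Lib.Helper29.QCoh Groth.Agent.Lib.Helper28.DCohRes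
  Groth.Agent.Lib.Helper13.PC Groth.Agent.Lib.Helper13.DR Groth.Agent.Lib.Helper28.FinPush
  Groth.Agent.Lib.Helper28.ClPush Groth.Agent.Lib.Helper28.DCohTilde
  Groth.Agent.Lib.Helper28.Thick

/-- a module on the source of a closed immersion into an affine scheme whose direct image is
quasi-coherent is quasi-coherent -/
theorem isQuasicoherent_of_pushforward_closedImmersion {Z T : Scheme.{u}} (i : Z ⟶ T)
    [IsClosedImmersion i] [IsAffine T] (N : Z.Modules)
    [((Scheme.Modules.pushforward i).obj N).IsQuasicoherent] : N.IsQuasicoherent := by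
  obtain ⟨hZ, hsurj⟩ := IsClosedImmersion.isAffine_surjective_of_isAffine i
  set M := (Scheme.Modules.pushforward i).obj N with hM
  refine isQuasicoherent_of_localizing N (fun _ : PUnit.{u + 1} => (⊤ : Z.Opens))
    (by rw [TopologicalSpace.IsOpenCover]; simp) (fun _ => isAffineOpen_top Z) ?_ ?_
  · rintro _ g s
    obtain ⟨g', rfl⟩ := hsurj g
    have e : i ⁻¹ᵁ T.basicOpen g' = Z.basicOpen (i.appTop g') := Scheme.preimage_basicOpen_top i g'
    obtain ⟨n, m, hm⟩ := exists_pow_smul_eq_res M (isAffineOpen_top T) g'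
      (show Γ(M, T.basicOpen g') from res N e.le s)
    refine ⟨n, (show Γ(N, ⊤) from m), ?_⟩
    apply res_injective_of_eq N e
    rw [res_smul, res_res, map_pow, map_map_apply]
    rw [pushforward_res, pushforward_smul, map_pow, app_map_apply] at hm
    exact hm
  · rintro _ g m hm
    obtain ⟨g', rfl⟩ := hsurj g
    have e : i ⁻¹ᵁ T.basicOpen g' = Z.basicOpen (i.appTop g') := Scheme.preimage_basicOpen_top i g'
    have h0 : res M (T.basicOpen_le g') (show Γ(M, ⊤) from m) = 0 := by
      rw [pushforward_res]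
      have := congrArg (res N e.le) hm
      rw [res_res, map_zero] at this
      exact this
    obtain ⟨n, hn⟩ := exists_pow_smul_eq_zero M (isAffineOpen_top T) g' _ h0
    refine ⟨n, ?_⟩
    rw [pushforward_smul, map_pow] at hn
    exact hn

variable {X : Scheme.{u}}

/-- the cohomology above `m` of a complex on an affine open with `m`-pseudo-coherent push-forward
along a generalized chart is quasi-coherent -/
lemma isQuasicoherent_homology_of_pushPCx (U : X.Opens) (hU : IsAffineOpen U) {B : Type u}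
    [CommRing B] (θ : B →+* Γ(X, U)) (hθ : Function.Surjective θ) (m : ℤ)
    (L : CochainComplex (U : Scheme.{u}).Modules ℤ) (h : PushPCx U m L θ) (k : ℤ) (hk : m < k) :
    (L.homology k).IsQuasicoherent := by
  haveI := isClosedImmersion_gImm U hU θ hθ
  have h1 := isQuasicoherent_HD_of_isPseudoCoherentD h k hk
  have e : DCoh.HD (DerivedCategory.Q.obj ((DerSch.pushCx (gImm U θ)).obj L)) k ≅
      (Scheme.Modules.pushforward (gImm U θ)).obj (L.homology k) :=
    (DerivedCategory.homologyFunctorFactors _ k).app _ ≪≫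
      (mapHCHomologyIso (Scheme.Modules.pushforward (gImm U θ)) k).app L
  haveI : ((Scheme.Modules.pushforward (gImm U θ)).obj (L.homology k)).IsQuasicoherent :=
    isQuasicoherent_of_iso (hM := h1) e
  exact isQuasicoherent_of_pushforward_closedImmersion (gImm U θ) _

/-- **S7213** -/
theorem isQCoh_HD_of_isPseudoCoherentRel {S : Scheme.{u}} (f : X ⟶ S) (m : ℤ) (E : DCoh.D X)
    (hE : DerSch.IsPseudoCoherentRel f m E) (i : ℤ) (hi : m < i) : Coh.IsQCoh (DCoh.HD E i) := by
  obtain ⟨-, 𝒱, h𝒱, hV⟩ := hE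
  let G := DerivedCategory.Q.objPreimage E
  let eG : DerivedCategory.Q.obj G ≅ E := DerivedCategory.Q.objObjPreimageIso E
  have e0 : G.homology i ≅ DCoh.HD E i :=
    ((DerivedCategory.homologyFunctorFactors X.Modules i).app G).symm ≪≫
      (DerivedCategory.homologyFunctor X.Modules i).mapIso eG
  suffices h : (G.homology i).IsQuasicoherent from isQuasicoherent_of_iso (hM := h) e0
  refine isQuasicoherent_of_locally _ fun x => ?_
  have hx : f.base x ∈ (⨆ V ∈ 𝒱, (V : S.Opens)) := by rw [h𝒱]; trivial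
  simp only [TopologicalSpace.Opens.mem_iSup] at hx
  obtain ⟨V, hV𝒱, hxV⟩ := hx
  obtain ⟨𝒰, h𝒰, hU⟩ := hV V hV𝒱
  have hx' : x ∈ (⨆ U ∈ 𝒰, (U : X.Opens)) := by rw [h𝒰]; exact hxV
  simp only [TopologicalSpace.Opens.mem_iSup] at hx'
  obtain ⟨U, hU𝒰, hxU⟩ := hx'
  have hle : (U : X.Opens) ≤ f ⁻¹ᵁ (V : S.Opens) := by
    rw [← h𝒰]
    exact le_iSup₂ (f := fun (U : X.affineOpens) (_ : U ∈ 𝒰) => (U : X.Opens)) U hU𝒰
  obtain ⟨k, φ, hφ, hPC⟩ := hU U hU𝒰 hle
  have h1 := isQuasicoherent_homology_of_pushPCx (U : X.Opens) U.2 φ hφ.1 m _ (hPC G ⟨eG⟩) i hi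
  refine ⟨(U : X.Opens), (U : X.Opens).ι, inferInstance, by rw [Scheme.Opens.range_ι]; exact hxU, ?_⟩
  exact isQuasicoherent_of_iso (hM := h1)
    ((mapHCHomologyIso (Scheme.Modules.restrictFunctor (U : X.Opens).ι) i).app G)

/-- **S6235** -/
theorem isQCohD_of_isPseudoCoherentRelAll {S : Scheme.{u}} (f : X ⟶ S) (E : DCoh.D X)
    (hE : DerSch.IsPseudoCoherentRelAll f E) : DCoh.IsQCohD E := fun i =>
  isQCoh_HD_of_isPseudoCoherentRel f (i - 1) E (hE (i - 1)) i (by omega)

end

end Groth.Agent.Lib.Helper28.RelPC
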