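import Mathlib
import Groth.Agent.Lib.Helper28.RelPC25
import Groth.Agent.Lib.Helper28.RelPC4
import Groth.Prelude.Def_Flatn
import Groth.Prelude.Def_CohB1
set_option autoImplicit false
universe u
open CategoryTheory Limits AlgebraicGeometry Pretriangulated Opposite
namespace Groth.Agent.Lib.Helper28.RelPC
noncomputable section
attribute [local instance] HasDerivedCategory.standard
open Groth.Agent.Lib.Helper29.QCoh Groth.Agent.Lib.Helper28.DCohRes
  Groth.Agent.Lib.Helper13.PC Groth.Agent.Lib.Helper13.DR Groth.Agent.Lib.Helper28.FinPush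
  Groth.Agent.Lib.Helper28.ClPush Groth.Agent.Lib.Helper28.ClPushN

variable {X S : Scheme.{u}}

/-- along a chart, `m`-pseudo-coherence of the direct image is `m`-pseudo-coherence on the affine
open, for objects of `D^{≤ b}` with `b ≤ m` -/
theorem isPC_chartD_iff_of_isLE (U : X.Opens) (hU : IsAffineOpen U) {B' : Type u} [CommRing B']
    (θ : B' →+* Γ(X, U)) (hθ : Function.Surjective θ) (m b : ℤ) (hb : b ≤ m) (K : DCoh.D X)
    [K.IsLE b] :
    haveI := isClosedImmersion_gImm U hU θ hθ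
    (DCoh.IsPseudoCoherentD m ((chartD U.ι (gImm U θ)).obj K) ↔
      DCoh.IsPseudoCoherentD m ((resD U.ι).obj K)) := by
  haveI := isClosedImmersion_gImm U hU θ hθ
  have hC := cDatN_gImm_zero U hU θ hθ
  let G := DerivedCategory.Q.objPreimage ((resD U.ι).obj K)
  let e : DerivedCategory.Q.obj G ≅ (resD U.ι).obj K := DerivedCategory.Q.objObjPreimageIso _
  have hac : ∀ n : ℤ, b < n → IsZero (G.homology n) := fun n hn => by
    have h1 : IsZero (DCoh.HD ((resD U.ι).obj K) n) :=
      ((Scheme.Modules.restrictFunctor U.ι).map_isZero (K.isZero_of_isLE b n hn)).of_iso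
        (HDresDIso U.ι K n)
    exact (h1.of_iso ((DerivedCategory.homologyFunctor _ n).mapIso e)).of_iso
      ((DerivedCategory.homologyFunctorFactors _ n).app G).symm
  obtain ⟨h1, h2⟩ := stmt_of_acyclic (gImm U θ) hC m b G hac
  have e' : (chartD U.ι (gImm U θ)).obj K ≅
      DerivedCategory.Q.obj ((ClPush.pushCx (gImm U θ)).obj G) :=
    (Scheme.Modules.pushforward (gImm U θ)).mapDerivedCategory.mapIso e.symm ≪≫
      (Scheme.Modules.pushforward (gImm U θ)).mapDerivedCategoryFactors.app G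
  constructor
  · intro h
    exact isPseudoCoherentD_of_iso e (h2 (by omega) (isPseudoCoherentD_of_iso e' h))
  · intro h
    exact isPseudoCoherentD_of_iso e'.symm (h1 (by omega) (isPseudoCoherentD_of_iso e.symm h))

/-- relative and absolute `m`-pseudo-coherence agree on `D^{≤ m}` -/
theorem isPseudoCoherentRel_iff_isPseudoCoherentD_of_isLE (f : X ⟶ S) [LocallyOfFiniteType f]
    (m b : ℤ) (hb : b ≤ m) (K : DCoh.D X) [K.IsLE b] :
    DerSch.IsPseudoCoherentRel f m K ↔ DCoh.IsPseudoCoherentD m K := by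
  rw [isPseudoCoherentRel_iff_chartD]
  constructor
  · intro H
    refine isPseudoCoherentD_of_locally fun x => ?_
    obtain ⟨V, hV, hxV, -⟩ := exists_isAffineOpen_mem_and_subset (x := f x) (U := ⊤) trivial
    obtain ⟨U, hU, hxU, hUV⟩ := exists_isAffineOpen_mem_and_subset (x := x) (U := f ⁻¹ᵁ V) hxV
    obtain ⟨n, φ, hφs, hφC⟩ := exists_chart_of_finiteType _
      (LocallyOfFiniteType.finiteType_appLE f hV hU hUV)
    haveI := isClosedImmersion_gImm U hU φ hφs
    refine ⟨U, U.ι, inferInstance, by rw [Scheme.Opens.range_ι]; exact hxU, ?_⟩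
    exact (isPC_chartD_iff_of_isLE U hU φ hφs m b hb K).1 (H U hU V hV hUV φ ⟨hφs, hφC⟩)
  · intro H U hU V hV h n φ hφ _
    exact (isPC_chartD_iff_of_isLE U hU φ hφ.1 m b hb K).2 (isPseudoCoherentD_resD H U.ι)

/-- the chart test at level `-1` for a quasi-coherent module in degree `0` -/
theorem chartPC_negOne_inD_iff (M : X.Modules) [M.IsQuasicoherent] (U : X.Opens)
    (hU : IsAffineOpen U) (V : S.Opens) {n : ℕ}
    (φ : MvPolynomial (Fin n) Γ(S, V) →+* Γ(X, U)) (hφ : Function.Surjective φ) :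
    DerSch.ChartPC (-1) (DCoh.inD X M) U V φ ↔
      Module.FinitePresentation (MvPolynomial (Fin n) Γ(S, V))
        ((ModuleCat.restrictScalars φ).obj (ModuleCat.of Γ(X, U) Γ(M, U))) := by
  haveI := isClosedImmersion_gImm U hU φ hφ
  rw [← isNPC_single_neg_one_iff]
  refine Iff.trans ?_ (isPC_pushforward_gImm_iff U hU φ M (-1))
  refine (forall_pushPCx_iff U φ hU hφ (-1) (DCoh.inD X M)).trans ?_
  exact ⟨fun h => isPseudoCoherentD_of_iso (chartDinD U.ι (gImm U φ) M) h,
    fun h => isPseudoCoherentD_of_iso (chartDinD U.ι (gImm U φ) M).symm h⟩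

/-- relative finite presentation on a pair of affine opens is the chart test at level `-1` -/
theorem relFPOn_iff_exists_chartPC (f : X ⟶ S) (M : X.Modules) [M.IsQuasicoherent]
    (U : X.affineOpens) (V : S.affineOpens) (h : (U : X.Opens) ≤ f ⁻¹ᵁ (V : S.Opens)) :
    Flatn.RelFPOn f M U V h ↔
      ∃ (n : ℕ) (φ : MvPolynomial (Fin n) Γ(S, (V : S.Opens)) →+* Γ(X, (U : X.Opens))),
        DerSch.IsChart f (U : X.Opens) (V : S.Opens) h φ ∧
          DerSch.ChartPC (-1) (DCoh.inD X M) (U : X.Opens) (V : S.Opens) φ := by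
  letI := (f.appLE (V : S.Opens) (U : X.Opens) h).hom.toAlgebra
  constructor
  · rintro ⟨n, φ, hφs, hfp⟩
    refine ⟨n, φ.toRingHom, ⟨hφs, ?_⟩, ?_⟩
    · refine RingHom.ext fun r => ?_
      have := φ.commutes r
      rw [MvPolynomial.algebraMap_eq] at this
      exact this
    · rw [chartPC_negOne_inD_iff M (U : X.Opens) U.2 (V : S.Opens) φ.toRingHom hφs]
      exact hfp
  · rintro ⟨n, φ, ⟨hφs, hφC⟩, hPC⟩
    let φ' : MvPolynomial (Fin n) Γ(S, (V : S.Opens)) →ₐ[Γ(S, (V : S.Opens))]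
        Γ(X, (U : X.Opens)) :=
      { φ with
        commutes' := fun r => by
          rw [MvPolynomial.algebraMap_eq]
          exact congrArg (fun t => t r) (congrArg DFunLike.coe hφC) }
    refine ⟨n, φ', hφs, ?_⟩
    rw [chartPC_negOne_inD_iff M (U : X.Opens) U.2 (V : S.Opens) φ hφs] at hPC
    exact hPC

/-- **S7212** -/
theorem isPseudoCoherentRel_inD (f : X ⟶ S) [LocallyOfFiniteType f] (M : X.Modules) :
    (∀ m : ℤ, 0 < m → DerSch.IsPseudoCoherentRel f m (DCoh.inD X M)) ∧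
      (DerSch.IsPseudoCoherentRel f 0 (DCoh.inD X M) ↔ CohB1.IsFT M) ∧
      (DerSch.IsPseudoCoherentRel f (-1) (DCoh.inD X M) ↔
        (Coh.IsQCoh M ∧ Flatn.IsRelFP f M)) := by
  haveI : (DCoh.inD X M).IsLE 0 :=
    inferInstanceAs (((DerivedCategory.singleFunctor X.Modules 0).obj M).IsLE 0)
  refine ⟨fun m hm => ?_, ?_, ?_⟩
  · rw [isPseudoCoherentRel_iff_isPseudoCoherentD_of_isLE f m 0 hm.le]
    exact isPseudoCoherentD_of_isZero_homology fun i hi => isZero_HD_inD M i (by omega)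
  · rw [isPseudoCoherentRel_iff_isPseudoCoherentD_of_isLE f 0 0 le_rfl]
    constructor
    · intro h
      exact isFiniteType_of_isPseudoCoherentD h (fun i hi => isZero_HD_inD M i (by omega))
        (HDinDIso M)
    · intro h
      haveI : M.IsFiniteType := h
      exact isPseudoCoherentD_inD_of_isFiniteType M
  · constructor
    · intro hE
      have hq : M.IsQuasicoherent :=
        isQuasicoherent_of_iso (hM := isQCoh_HD_of_isPseudoCoherentRel f (-1) _ hE 0 (by omega))
          (HDinDIso M)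
      refine ⟨hq, ?_⟩
      obtain ⟨-, 𝒱, h𝒱, hV⟩ := hE
      refine ⟨𝒱, h𝒱, fun V hVm => ?_⟩
      obtain ⟨𝒰, h𝒰, hU⟩ := hV V hVm
      refine ⟨𝒰, h𝒰, fun U hUm h => ?_⟩
      exact (relFPOn_iff_exists_chartPC f M U V h).2 (hU U hUm h)
    · rintro ⟨hq, 𝒱, h𝒱, hV⟩
      haveI : M.IsQuasicoherent := hq
      refine ⟨inferInstance, 𝒱, h𝒱, fun V hVm => ?_⟩
      obtain ⟨𝒰, h𝒰, hU⟩ := hV V hVm
      refine ⟨𝒰, h𝒰, fun U hUm h => ?_⟩
      exact (relFPOn_iff_exists_chartPC f M U V h).1 (hU U hUm h)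

end
end Groth.Agent.Lib.Helper28.RelPC
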