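import Mathlib
import Groth.Agent.Lib.Helper28.RelPC26
set_option autoImplicit false
universe u
open CategoryTheory Limits AlgebraicGeometry Pretriangulated Opposite
namespace Groth.Agent.Lib.Helper28.RelPC
noncomputable section
attribute [local instance] HasDerivedCategory.standard
open Groth.Agent.Lib.Helper29.QCoh Groth.Agent.Lib.Helper28.DCohRes
  Groth.Agent.Lib.Helper13.PC Groth.Agent.Lib.Helper13.DR Groth.Agent.Lib.Helper28.FinPush
  Groth.Agent.Lib.Helper28.ClPush Groth.Agent.Lib.Helper28.ClPushN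

section Ring

attribute [local instance] MvPolynomial.algebraMvPolynomial

/-- flat base change of a chart -/
theorem exists_chart_baseChange {B A B' A' : Type u} [CommRing B] [CommRing A] [CommRing B']
    [CommRing A'] (ρ : B →+* A) (η : B →+* B') (γ : A →+* A') (ρ' : B' →+* A')
    (hsq : IsPushout (CommRingCat.ofHom ρ) (CommRingCat.ofHom η) (CommRingCat.ofHom γ)
      (CommRingCat.ofHom ρ')) (hη : η.Flat)
    {k : ℕ} (φ : MvPolynomial (Fin k) B →+* A) (hφs : Function.Surjective φ)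
    (hφC : φ.comp MvPolynomial.C = ρ) (n : ℤ)
    (hφ : IsNPC (Pff (MvPolynomial (Fin k) B)) n ((resSingle φ).obj (ModuleCat.of A A))) :
    ∃ φ' : MvPolynomial (Fin k) B' →+* A', Function.Surjective φ' ∧
      φ'.comp MvPolynomial.C = ρ' ∧
      IsNPC (Pff (MvPolynomial (Fin k) B')) n ((resSingle φ').obj (ModuleCat.of A' A')) := by
  have hw : γ.comp ρ = ρ'.comp η := by
    have := hsq.w
    exact congrArg CommRingCat.Hom.hom this
  letI : Algebra B A := ρ.toAlgebra
  letI : Algebra B B' := η.toAlgebra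
  letI : Algebra A A' := γ.toAlgebra
  letI : Algebra B' A' := ρ'.toAlgebra
  letI : Algebra B A' := (γ.comp ρ).toAlgebra
  haveI : IsScalarTower B A A' := .of_algebraMap_eq' rfl
  haveI : IsScalarTower B B' A' := .of_algebraMap_eq' hw
  haveI hpo : Algebra.IsPushout B A B' A' := CommRingCat.isPushout_iff_isPushout.mp hsq
  haveI : Module.Flat B B' := hη
  let φ' : MvPolynomial (Fin k) B' →+* A' :=
    MvPolynomial.eval₂Hom ρ' (fun i => γ (φ (MvPolynomial.X i)))
  have hφ'C : φ'.comp MvPolynomial.C = ρ' := by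
    refine RingHom.ext fun b => ?_
    exact MvPolynomial.eval₂Hom_C _ _ b
  have hcomm : γ.comp φ = φ'.comp (MvPolynomial.map η) := by
    refine MvPolynomial.ringHom_ext (fun b => ?_) (fun i => ?_)
    · have h1 : φ (MvPolynomial.C b) = ρ b := congrArg (fun t => t b) (congrArg DFunLike.coe hφC)
      change γ (φ (MvPolynomial.C b)) = φ' (MvPolynomial.map η (MvPolynomial.C b))
      rw [h1, MvPolynomial.map_C]
      have h2 : φ' (MvPolynomial.C (η b)) = ρ' (η b) := MvPolynomial.eval₂Hom_C _ _ _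
      rw [h2]
      exact congrArg (fun t => t b) (congrArg DFunLike.coe hw)
    · change γ (φ (MvPolynomial.X i)) = φ' (MvPolynomial.map η (MvPolynomial.X i))
      rw [MvPolynomial.map_X]
      exact (MvPolynomial.eval₂Hom_X' ρ' (fun i => γ (φ (MvPolynomial.X i))) i).symm
  have hφ's : Function.Surjective φ' := by
    intro a'
    obtain ⟨t, rfl⟩ := (Algebra.IsPushout.equiv B A B' A').surjective a'
    suffices h : (Algebra.IsPushout.equiv B A B' A') t ∈ φ'.range from h
    induction t using TensorProduct.induction_on with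
    | zero => rw [map_zero]; exact Subring.zero_mem _
    | tmul a b =>
      rw [Algebra.IsPushout.equiv_tmul]
      obtain ⟨p, rfl⟩ := hφs a
      refine Subring.mul_mem _ ⟨MvPolynomial.map η p, ?_⟩ ⟨MvPolynomial.C b, ?_⟩
      · exact (congrArg (fun t => t p) (congrArg DFunLike.coe hcomm)).symm
      · exact congrArg (fun t => t b) (congrArg DFunLike.coe hφ'C)
    | add x y hx hy => rw [map_add]; exact Subring.add_mem _ hx hy
  refine ⟨φ', hφ's, hφ'C, ?_⟩
  letI : Algebra (MvPolynomial (Fin k) B) A := φ.toAlgebra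
  letI : Algebra (MvPolynomial (Fin k) B') A' := φ'.toAlgebra
  letI : Algebra (MvPolynomial (Fin k) B) A' := (γ.comp φ).toAlgebra
  haveI : IsScalarTower (MvPolynomial (Fin k) B) A A' := .of_algebraMap_eq' rfl
  haveI : IsScalarTower (MvPolynomial (Fin k) B) (MvPolynomial (Fin k) B') A' :=
    .of_algebraMap_eq' hcomm
  haveI : IsScalarTower B (MvPolynomial (Fin k) B) A := .of_algebraMap_eq' hφC.symm
  haveI : IsScalarTower B' (MvPolynomial (Fin k) B') A' := .of_algebraMap_eq' hφ'C.symm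
  haveI : IsScalarTower B (MvPolynomial (Fin k) B') A' := .of_algebraMap_eq' (by
    change γ.comp ρ = φ'.comp (MvPolynomial.C.comp η)
    rw [← RingHom.comp_assoc, hφ'C, hw])
  haveI : IsScalarTower B (MvPolynomial (Fin k) B) A' := .of_algebraMap_eq' (by
    change γ.comp ρ = (γ.comp φ).comp MvPolynomial.C
    rw [RingHom.comp_assoc, hφC])
  have hpo2 : Algebra.IsPushout (MvPolynomial (Fin k) B) A (MvPolynomial (Fin k) B') A' :=
    (Algebra.IsPushout.comp_iff B (MvPolynomial (Fin k) B) B' (MvPolynomial (Fin k) B')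
      (T := A) (T' := A')).1 hpo
  haveI : Algebra.IsPushout (MvPolynomial (Fin k) B) (MvPolynomial (Fin k) B') A A' := hpo2.symm
  haveI : Module.Flat (MvPolynomial (Fin k) B) (MvPolynomial (Fin k) B') :=
    Module.Flat.isBaseChange B (MvPolynomial (Fin k) B) B' _
      (Algebra.IsPushout.out (R := B) (S := MvPolynomial (Fin k) B) (R' := B')
        (S' := MvPolynomial (Fin k) B'))
  exact isNPC_of_isPushout_flat (MvPolynomial (Fin k) B) A (MvPolynomial (Fin k) B') A' n hφ

end Ring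

section Scheme

variable {X Y Y' : Scheme.{u}}

/-- the chart test for the structure sheaf is ring-level pseudo-coherence -/
lemma chartPC_unit_iff_isNPC (U : X.Opens) (hU : IsAffineOpen U) (V : Y.Opens) {k : ℕ}
    (φ : MvPolynomial (Fin k) Γ(Y, V) →+* Γ(X, U)) (hφ : Function.Surjective φ) (m : ℤ) :
    DerSch.ChartPC m (DCoh.toD X (DerSch.unitCx X)) U V φ ↔
      IsNPC (Pff (MvPolynomial (Fin k) Γ(Y, V))) m
        ((resSingle φ).obj (ModuleCat.of Γ(X, U) Γ(X, U))) := by
  haveI := isClosedImmersion_gImm U hU φ hφ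
  refine (forall_pushPCx_iff U φ hU hφ m _).trans ?_
  rw [← isPC_pushforward_unit_gImm_iff U hU φ m]
  have e := chartDinD U.ι (gImm U φ) (Coh.structureModule X) ≪≫
    (DerivedCategory.singleFunctor _ 0).mapIso ((Scheme.Modules.pushforward (gImm U φ)).mapIso
      (Scheme.Modules.restrictUnitIso U.ι))
  exact ⟨fun h => isPseudoCoherentD_of_iso e h, fun h => isPseudoCoherentD_of_iso e.symm h⟩

lemma isAffineOpen_inf_preimage {X' : Scheme.{u}} {f : X ⟶ Y} {h : Y' ⟶ Y} {g' : X' ⟶ X}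
    {f' : X' ⟶ Y'} (H : IsPullback g' f' f h) {V : Y.Opens} {V' : Y'.Opens} {U : X.Opens}
    (hV : IsAffineOpen V) (hV' : IsAffineOpen V') (hU : IsAffineOpen U)
    (hV'V : V' ≤ h ⁻¹ᵁ V) (hUV : U ≤ f ⁻¹ᵁ V) {U' : X'.Opens}
    (hU' : U' = g' ⁻¹ᵁ U ⊓ f' ⁻¹ᵁ V') : IsAffineOpen U' := by
  haveI : IsAffine (V : Scheme.{u}) := hV
  haveI : IsAffine (V' : Scheme.{u}) := hV'
  haveI : IsAffine (U : Scheme.{u}) := hU
  exact .of_isIso (Scheme.Hom.isPullback_resLE H hV'V hUV hU').isoPullback.hom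

/-- **S6226**: flat base change of an `n`-pseudo-coherent morphism -/
theorem isNPseudoCoherent_baseChange_of_flat (f : X ⟶ Y) [LocallyOfFiniteType f] (n : ℤ)
    (hf : DerSch.IsNPseudoCoherent f n) (h : Y' ⟶ Y) [Flat h] :
    DerSch.IsNPseudoCoherent (pullback.snd f h) n := by
  have hf' := (isNPseudoCoherent_iff_forall_isNPC f n).1 hf
  have H : IsPullback (pullback.fst f h) (pullback.snd f h) f h := IsPullback.of_hasPullback f h
  refine ⟨inferInstance,
    {V' | ∃ V : Y.affineOpens, (V' : Y'.Opens) ≤ h ⁻¹ᵁ (V : Y.Opens)}, ?_, fun V' hV' => ?_⟩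
  · apply le_antisymm le_top
    intro y _
    obtain ⟨V, hV, hyV, -⟩ := exists_isAffineOpen_mem_and_subset (x := h y) (U := ⊤) trivial
    obtain ⟨V', hV', hyV', hle⟩ := exists_isAffineOpen_mem_and_subset (x := y)
      (U := h ⁻¹ᵁ V) hyV
    simp only [TopologicalSpace.Opens.mem_iSup]
    exact ⟨⟨V', hV'⟩, ⟨⟨V, hV⟩, hle⟩, hyV'⟩
  · obtain ⟨V, hV'V⟩ := hV'
    refine ⟨{U' | ∃ U : X.affineOpens, (U : X.Opens) ≤ f ⁻¹ᵁ (V : Y.Opens) ∧
      (U' : (pullback f h).Opens) =
        (pullback.fst f h) ⁻¹ᵁ (U : X.Opens) ⊓ (pullback.snd f h) ⁻¹ᵁ (V' : Y'.Opens)}, ?_, ?_⟩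
    · apply le_antisymm
      · refine iSup₂_le fun U' hU' => ?_
        obtain ⟨U, -, hU'⟩ := hU'
        rw [hU']
        exact inf_le_right
      · intro x hx
        have hfx : f ((pullback.fst f h) x) ∈ (V : Y.Opens) := by
          have h1 : f ((pullback.fst f h) x) = h ((pullback.snd f h) x) := by
            rw [← Scheme.Hom.comp_apply, ← Scheme.Hom.comp_apply, pullback.condition]
          rw [h1]
          exact hV'V hx
        obtain ⟨U, hU, hxU, hUle⟩ := exists_isAffineOpen_mem_and_subset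
          (x := (pullback.fst f h) x) (U := f ⁻¹ᵁ (V : Y.Opens)) hfx
        simp only [TopologicalSpace.Opens.mem_iSup]
        exact ⟨⟨(pullback.fst f h) ⁻¹ᵁ U ⊓ (pullback.snd f h) ⁻¹ᵁ (V' : Y'.Opens),
          isAffineOpen_inf_preimage H V.2 V'.2 hU hV'V hUle rfl⟩, ⟨⟨U, hU⟩, hUle, rfl⟩,
          ⟨hxU, hx⟩⟩
    · rintro U' ⟨U, hUV, hU'⟩ hle
      obtain ⟨k, φ, hφs, hφC⟩ := exists_chart_of_finiteType _
        (LocallyOfFiniteType.finiteType_appLE f V.2 U.2 hUV)
      have hφ := hf' (U : X.Opens) U.2 (V : Y.Opens) V.2 hUV φ ⟨hφs, hφC⟩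
      haveI hiso := isIso_pushoutSection_of_isAffineOpen H hV'V hUV hU' V.2 V'.2 U.2
      have hpo := (isIso_pushoutSection_iff H hV'V hUV hU').1 hiso
      obtain ⟨φ', hφ's, hφ'C, hφ'⟩ := exists_chart_baseChange _ _ _ _ hpo
        (h.flat_appLE V.2 V'.2 hV'V) φ hφs hφC n hφ
      exact ⟨k, φ', ⟨hφ's, hφ'C⟩,
        (chartPC_unit_iff_isNPC (U' : (pullback f h).Opens) U'.2 (V' : Y'.Opens) φ' hφ's n).2 hφ'⟩

end Scheme
end
end Groth.Agent.Lib.Helper28.RelPC
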