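import Mathlib
import Groth.Agent.Lib.Helper28.RelPC27
import Groth.Agent.Lib.Helper17.TildePushD
import Groth.Agent.Lib.Helper17.TD4
import Groth.Prelude.Def_DerCA
set_option autoImplicit false
universe u
open CategoryTheory Limits AlgebraicGeometry Pretriangulated Opposite
namespace Groth.Agent.Lib.Helper28.RelPC
noncomputable section
attribute [local instance] HasDerivedCategory.standard
open Groth.Agent.Lib.Helper29.QCoh Groth.Agent.Lib.Helper28.DCohRes
  Groth.Agent.Lib.Helper13.PC Groth.Agent.Lib.Helper13.DR Groth.Agent.Lib.Helper28.FinPush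
  Groth.Agent.Lib.Helper28.ClPush Groth.Agent.Lib.Helper28.ClPushN

variable {X S : Scheme.{u}}

/-- the chart test on a representative, through a ring-level complex representing it -/
theorem pushPCx_iff_isNPC_restrictD (U : X.Opens) (hU : IsAffineOpen U) {B' : Type u}
    [CommRing B'] (θ : B' →+* Γ(X, U)) (hθ : Function.Surjective θ)
    [PreservesFiniteLimits (tilde.functor Γ(X, U))]
    (L : CochainComplex (U : Scheme.{u}).Modules ℤ) (M : Dual.D Γ(X, U))
    (e : (DCoh.tildeD Γ(X, U)).obj M ≅ DCoh.toD _ ((DerSch.pushCx hU.isoSpec.hom).obj L))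
    (m : ℤ) :
    PushPCx U m L θ ↔ IsNPC (Pff B') m ((DRing.restrictD θ).obj M) := by
  haveI : PreservesFiniteLimits (tilde.functor (CommRingCat.of B')) :=
    Groth.Agent.Lib.Helper17.KProjAff.preservesFiniteLimits_tilde _
  let φ : CommRingCat.of B' ⟶ Γ(X, U) := CommRingCat.ofHom θ
  haveI : IsClosedImmersion (Spec.map φ) := IsClosedImmersion.spec_of_surjective _ hθ
  let p := Spec.map φ
  let N := DerivedCategory.Q.objPreimage M
  let eN : DerivedCategory.Q.obj N ≅ M := DerivedCategory.Q.objObjPreimageIso M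
  have e1 : DerivedCategory.Q.obj
      (((tilde.functor Γ(X, U)).mapHomologicalComplex (ComplexShape.up ℤ)).obj N) ≅
      DerivedCategory.Q.obj ((DerSch.pushCx hU.isoSpec.hom).obj L) :=
    ((tilde.functor Γ(X, U)).mapDerivedCategoryFactors.app N).symm ≪≫
      (DCoh.tildeD Γ(X, U)).mapIso eN ≪≫ e
  have e2 : DerivedCategory.Q.obj ((DerSch.pushCx p).obj
      (((tilde.functor Γ(X, U)).mapHomologicalComplex (ComplexShape.up ℤ)).obj N)) ≅
      DerivedCategory.Q.obj ((DerSch.pushCx p).obj ((DerSch.pushCx hU.isoSpec.hom).obj L)) :=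
    ((Scheme.Modules.pushforward p).mapDerivedCategoryFactors.app _).symm ≪≫
      (Scheme.Modules.pushforward p).mapDerivedCategory.mapIso e1 ≪≫
      (Scheme.Modules.pushforward p).mapDerivedCategoryFactors.app _
  have e3 := (Groth.Agent.Lib.Helper17.TildePushD.T3 φ).app N
  have e4 : DerivedCategory.Q.obj
      (((tilde.functor (CommRingCat.of B')).mapHomologicalComplex (ComplexShape.up ℤ)).obj
        (((ModuleCat.restrictScalars φ.hom).mapHomologicalComplex (ComplexShape.up ℤ)).obj N)) ≅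
      (DCoh.tildeD (CommRingCat.of B')).obj ((DRing.restrictD θ).obj M) :=
    ((tilde.functor (CommRingCat.of B')).mapDerivedCategoryFactors.app _).symm ≪≫
      (DCoh.tildeD (CommRingCat.of B')).mapIso
        (((ModuleCat.restrictScalars φ.hom).mapDerivedCategoryFactors.app N).symm ≪≫
          (DRing.restrictD θ).mapIso eN)
  have hcomp : hU.isoSpec.hom ≫ p = gImm U θ := by
    rw [hU.isoSpec_hom]
    rfl
  have e5 : DerivedCategory.Q.obj ((DerSch.pushCx p).obj
      ((DerSch.pushCx hU.isoSpec.hom).obj L)) ≅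
      DerivedCategory.Q.obj ((DerSch.pushCx (gImm U θ)).obj L) := by
    rw [← hcomp]
    exact DerivedCategory.Q.mapIso ((pushCxComp hU.isoSpec.hom p).app L)
  have etot : DerivedCategory.Q.obj ((DerSch.pushCx (gImm U θ)).obj L) ≅
      (DCoh.tildeD (CommRingCat.of B')).obj ((DRing.restrictD θ).obj M) :=
    e5.symm ≪≫ e2.symm ≪≫ e3 ≪≫ e4
  rw [← isPseudoCoherentD_tildeD_iff (CommRingCat.of B') _ m]
  unfold PushPCx
  exact ⟨fun h => isPseudoCoherentD_of_iso etot h, fun h => isPseudoCoherentD_of_iso etot.symm h⟩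

/-- restriction to an affine open carried to its spectrum keeps quasi-coherent cohomology -/
lemma isQCohD_push_restrict (E : DCoh.D X) (hE : DCoh.IsQCohD E) (U : X.Opens)
    (hU : IsAffineOpen U) (G : CochainComplex X.Modules ℤ) (eG : DCoh.toD X G ≅ E) :
    DCoh.IsQCohD (DCoh.toD _ ((DerSch.pushCx hU.isoSpec.hom).obj
      ((DCoh.restrictCx U).obj G))) := by
  intro i
  have h1 : (G.homology i).IsQuasicoherent :=
    isQuasicoherent_of_iso (hM := hE i)
      ((DerivedCategory.homologyFunctor X.Modules i).mapIso eG.symm ≪≫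
        (DerivedCategory.homologyFunctorFactors X.Modules i).app G)
  haveI h2 : ((Scheme.Modules.restrictFunctor U.ι).obj (G.homology i)).IsQuasicoherent :=
    inferInstance
  haveI h3 : (((DCoh.restrictCx U).obj G).homology i).IsQuasicoherent :=
    isQuasicoherent_of_iso (hM := h2)
      ((mapHCHomologyIso (Scheme.Modules.restrictFunctor U.ι) i).app G).symm
  have h4 := isQuasicoherent_pushforward_of_isAffineHom hU.isoSpec.hom
    (((DCoh.restrictCx U).obj G).homology i)
  exact isQuasicoherent_of_iso (hM := h4)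
    (((mapHCHomologyIso (Scheme.Modules.pushforward hU.isoSpec.hom) i).app _).symm ≪≫
      ((DerivedCategory.homologyFunctorFactors _ i).app _).symm)

/-- **S7234** -/
theorem isPseudoCoherentRel_iff_forall_isRelPseudoCoherent (f : X ⟶ S) [LocallyOfFiniteType f]
    [∀ U : X.affineOpens,
      PreservesFiniteLimits (tilde.functor (X.presheaf.obj (op (U : X.Opens))))]
    (E : DCoh.D X) (hE : DCoh.IsQCohD E) (m : ℤ) :
    DerSch.IsPseudoCoherentRel f m E ↔
      ∀ (U : X.affineOpens) (V : S.affineOpens) (h : (U : X.Opens) ≤ f ⁻¹ᵁ (V : S.Opens))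
        (G : CochainComplex X.Modules ℤ), Nonempty (DCoh.toD X G ≅ E) →
        ∀ M : Dual.D Γ(X, (U : X.Opens)),
          Nonempty ((DCoh.tildeD (X.presheaf.obj (op (U : X.Opens)))).obj M ≅
            DCoh.toD _ ((DerSch.pushCx U.2.isoSpec.hom).obj
              ((DCoh.restrictCx (U : X.Opens)).obj G))) →
          letI := (f.appLE (V : S.Opens) (U : X.Opens) h).hom.toAlgebra
          DerCA.IsRelPseudoCoherent Γ(S, (V : S.Opens)) Γ(X, (U : X.Opens)) m M := by
  constructor
  · intro hE' U V h G hG M ⟨e⟩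
    letI := (f.appLE (V : S.Opens) (U : X.Opens) h).hom.toAlgebra
    obtain ⟨n, φ, hφs, hφC⟩ := exists_chart_of_finiteType _
      (LocallyOfFiniteType.finiteType_appLE f V.2 U.2 h)
    let φ' : MvPolynomial (Fin n) Γ(S, (V : S.Opens)) →ₐ[Γ(S, (V : S.Opens))]
        Γ(X, (U : X.Opens)) :=
      { φ with
        commutes' := fun r => by
          rw [MvPolynomial.algebraMap_eq]
          exact congrArg (fun t => t r) (congrArg DFunLike.coe hφC) }
    refine ⟨n, φ', hφs, ?_⟩
    have h1 := chartPC_of_isPseudoCoherentRel f m E hE' (U : X.Opens) U.2 (V : S.Opens) V.2 h φ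
      ⟨hφs, hφC⟩ G hG
    have h2 := (pushPCx_iff_isNPC_restrictD (U : X.Opens) U.2 φ hφs _ M e m).1 h1
    exact (isPseudoCoherent_iff m _).2 h2
  · intro H
    rw [isPseudoCoherentRel_iff_forall]
    intro U V h
    letI := (f.appLE (V : S.Opens) (U : X.Opens) h).hom.toAlgebra
    let G := DerivedCategory.Q.objPreimage E
    let eG : DerivedCategory.Q.obj G ≅ E := DerivedCategory.Q.objObjPreimageIso E
    have hK := isQCohD_push_restrict E hE (U : X.Opens) U.2 G eG
    obtain ⟨M, ⟨eM⟩⟩ := ((Groth.Agent.Lib.Helper17.TD4.main Γ(X, (U : X.Opens))).2.2 _).1 hK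
    obtain ⟨n, α, hαs, hα⟩ := H U V h G ⟨eG⟩ M ⟨eM⟩
    have hαC : (α : MvPolynomial (Fin n) Γ(S, (V : S.Opens)) →+* Γ(X, (U : X.Opens))).comp
        MvPolynomial.C = (f.appLE (V : S.Opens) (U : X.Opens) h).hom := by
      refine RingHom.ext fun r => ?_
      have := α.commutes r
      rw [MvPolynomial.algebraMap_eq] at this
      exact this
    refine ⟨n, (α : MvPolynomial (Fin n) Γ(S, (V : S.Opens)) →+* Γ(X, (U : X.Opens))),
      ⟨hαs, hαC⟩, ?_⟩
    have h2 : IsNPC (Pff _) m ((DRing.restrictD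
        (α : MvPolynomial (Fin n) Γ(S, (V : S.Opens)) →+* Γ(X, (U : X.Opens)))).obj M) :=
      (isPseudoCoherent_iff m _).1 hα
    have h1 := (pushPCx_iff_isNPC_restrictD (U : X.Opens) U.2
      (α : MvPolynomial (Fin n) Γ(S, (V : S.Opens)) →+* Γ(X, (U : X.Opens))) hαs _ M eM m).2 h2
    intro G' ⟨e'⟩
    exact (chartPC_toD_iff (U : X.Opens) U.2 (V : S.Opens) _ hαs m G).2 h1 G' ⟨e' ≪≫ eG.symm⟩

end
end Groth.Agent.Lib.Helper28.RelPC
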