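import Mathlib
import Groth.Agent.Lib.Helper28.RelPC28
import Groth.Agent.S7068
import Groth.Agent.Lib.Helper13.PCMor1
set_option autoImplicit false
universe u
open CategoryTheory Limits AlgebraicGeometry Pretriangulated Opposite
namespace Groth.Agent.Lib.Helper28.RelPC
noncomputable section
attribute [local instance] HasDerivedCategory.standard
open Groth.Agent.Lib.Helper29.QCoh Groth.Agent.Lib.Helper28.DCohRes
  Groth.Agent.Lib.Helper13.PC Groth.Agent.Lib.Helper13.DR Groth.Agent.Lib.Helper28.FinPush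
  Groth.Agent.Lib.Helper28.ClPush Groth.Agent.Lib.Helper28.ClPushN

variable {X T S : Scheme.{u}}

/-- a flat morphism locally of finite presentation is pseudo-coherent -/
theorem isNPseudoCoherent_of_flat_lfp (b : T ⟶ S) [Flat b] [LocallyOfFinitePresentation b]
    (n : ℤ) : DerSch.IsNPseudoCoherent b n := by
  rw [isNPseudoCoherent_iff_forall_isNPC]
  intro U hU V hV h k φ hφ
  letI := (b.appLE V U h).hom.toAlgebra
  haveI : Module.Flat Γ(S, V) Γ(T, U) := b.flat_appLE hV hU h
  haveI : Algebra.FinitePresentation Γ(S, V) Γ(T, U) :=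
    LocallyOfFinitePresentation.finitePresentation_appLE b hV hU h
  have h1 := (Groth.Agent.S7068.result Γ(S, V) Γ(T, U)).1
  have h2 := (Groth.Agent.Lib.Helper13.PM.isPseudoCoherentHom_iff_relPC _ _).1 h1
  let φ' : MvPolynomial (Fin k) Γ(S, V) →ₐ[Γ(S, V)] Γ(T, U) :=
    { φ with
      commutes' := fun r => by
        rw [MvPolynomial.algebraMap_eq]
        exact congrArg (fun t => t r) (congrArg DFunLike.coe hφ.2) }
  exact isPCHom_of_isRelPseudoCoherentModuleAll φ' hφ.1 h2 n

/-- **S7226** -/
theorem isPseudoCoherentRel_comp_iff_of_flat_lfp (a : X ⟶ T) (b : T ⟶ S)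
    [LocallyOfFiniteType a] [Flat b] [LocallyOfFinitePresentation b] (m : ℤ) (E : DCoh.D X) :
    DerSch.IsPseudoCoherentRel (a ≫ b) m E ↔ DerSch.IsPseudoCoherentRel a m E :=
  (isPseudoCoherentRel_comp_iff a b (fun n => isNPseudoCoherent_of_flat_lfp b n) m E).symm

end
end Groth.Agent.Lib.Helper28.RelPC
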