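import Mathlib
import Groth.Agent.Lib.Helper28.RelPC29
import Groth.Agent.Lib.Helper28.DCohStalk8
import Groth.Agent.Lib.Helper13.TorBridge1
set_option autoImplicit false
universe u
open CategoryTheory Limits AlgebraicGeometry Pretriangulated Opposite
namespace Groth.Agent.Lib.Helper28.RelPC
noncomputable section
attribute [local instance] HasDerivedCategory.standard
open Groth.Agent.Lib.Helper29.QCoh Groth.Agent.Lib.Helper28.DCohRes
  Groth.Agent.Lib.Helper13.PC Groth.Agent.Lib.Helper13.DR Groth.Agent.Lib.Helper28.FinPush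
  Groth.Agent.Lib.Helper28.ClPush Groth.Agent.Lib.Helper28.ClPushN
  Groth.Agent.Lib.Helper28.DCohStalk

variable {X Y : Scheme.{u}}

/-- tor dimension `≤ 0` is flatness -/
theorem hasTorDimLE_zero_iff_flat (f : X ⟶ Y) : DerSch.HasTorDimLE f 0 ↔ Flat f := by
  rw [Flat.iff_flat_stalkMap]
  refine forall_congr' fun x => ?_
  letI : Algebra (Y.presheaf.stalk (f x)) (X.presheaf.stalk x) := (f.stalkMap x).hom.toAlgebra
  have e := stalkCxOverUnitIso f x
  have h1 : DerSch.HasTorAmplitudeAt f (-((0 : ℕ) : ℤ)) 0 (DerSch.unitCx X) x ↔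
      DRing.HasTorAmplitudeIn (Y.presheaf.stalk (f x)) (-((0 : ℕ) : ℤ)) 0
        (Dual.inD (Y.presheaf.stalk (f x)) (X.presheaf.stalk x)) :=
    ⟨fun h => hasTorAmplitudeIn_of_iso e h, fun h => hasTorAmplitudeIn_of_iso e.symm h⟩
  rw [h1, ← Groth.Agent.Lib.Helper13.TB.hasTorDimLE_iff_hasTorAmplitudeIn,
    Groth.Agent.Lib.Helper13.TB.hasTorDimLE_zero_iff_flat]
  exact Iff.rfl

/-- **S6214** -/
theorem hasPerfDimLE_zero_iff (f : X ⟶ Y) [LocallyOfFiniteType f] :
    DerSch.HasPerfDimLE f 0 ↔ (Flat f ∧ LocallyOfFinitePresentation f) := by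
  constructor
  · rintro ⟨hPC, hTor⟩
    exact ⟨(hasTorDimLE_zero_iff_flat f).1 hTor, (isNPseudoCoherent_neg_one_iff f).1 (hPC (-1))⟩
  · rintro ⟨hfl, hfp⟩
    exact ⟨fun n => isNPseudoCoherent_of_flat_lfp f n, (hasTorDimLE_zero_iff_flat f).2 hfl⟩

end
end Groth.Agent.Lib.Helper28.RelPC
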