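import Mathlib
import Groth.Agent.Lib.Helper28.RelPC30
import Groth.Agent.Lib.Helper28.ModPC2
import Groth.Agent.Lib.Helper8.FlatAffine
set_option autoImplicit false
universe u
open CategoryTheory Limits AlgebraicGeometry Pretriangulated Opposite
namespace Groth.Agent.Lib.Helper28.RelPC
noncomputable section
attribute [local instance] HasDerivedCategory.standard
open Groth.Agent.Lib.Helper29.QCoh Groth.Agent.Lib.Helper28.DCohRes
  Groth.Agent.Lib.Helper13.PC Groth.Agent.Lib.Helper13.DR Groth.Agent.Lib.Helper28.FinPush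
  Groth.Agent.Lib.Helper28.ClPush Groth.Agent.Lib.Helper28.ClPushN

variable {X S : Scheme.{u}}

/-- the chart test at any level for a quasi-coherent module in degree `0` -/
theorem chartPC_inD_iff (M : X.Modules) [M.IsQuasicoherent] (U : X.Opens)
    (hU : IsAffineOpen U) (V : S.Opens) {n : ℕ}
    (φ : MvPolynomial (Fin n) Γ(S, V) →+* Γ(X, U)) (hφ : Function.Surjective φ) (m : ℤ) :
    DerSch.ChartPC m (DCoh.inD X M) U V φ ↔
      IsNPC (Pff (MvPolynomial (Fin n) Γ(S, V))) m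
        ((resSingle φ).obj (ModuleCat.of Γ(X, U) Γ(M, U))) := by
  haveI := isClosedImmersion_gImm U hU φ hφ
  refine Iff.trans ?_ (isPC_pushforward_gImm_iff U hU φ M m)
  refine (forall_pushPCx_iff U φ hU hφ m (DCoh.inD X M)).trans ?_
  exact ⟨fun h => isPseudoCoherentD_of_iso (chartDinD U.ι (gImm U φ) M) h,
    fun h => isPseudoCoherentD_of_iso (chartDinD U.ι (gImm U φ) M).symm h⟩

/-- a module flat over the base and finitely presented relative to `f` is pseudo-coherent
relative to `f` -/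
theorem isPseudoCoherentRel_inD_of_flat (f : X ⟶ S) [LocallyOfFiniteType f] (M : X.Modules)
    (hfl : FlatMod.IsFlatOver f M) (hfp : DerSch.IsPseudoCoherentRel f (-1) (DCoh.inD X M))
    (m : ℤ) : DerSch.IsPseudoCoherentRel f m (DCoh.inD X M) := by
  have hq : M.IsQuasicoherent :=
    isQuasicoherent_of_iso (hM := isQCoh_HD_of_isPseudoCoherentRel f (-1) _ hfp 0 (by omega))
      (HDinDIso M)
  obtain ⟨-, 𝒱, h𝒱, hV⟩ := hfp
  refine ⟨inferInstance, 𝒱, h𝒱, fun V hVm => ?_⟩
  obtain ⟨𝒰, h𝒰, hU⟩ := hV V hVm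
  refine ⟨𝒰, h𝒰, fun U hUm h => ?_⟩
  obtain ⟨n, φ, hφ, hPC⟩ := hU U hUm h
  refine ⟨n, φ, hφ, ?_⟩
  replace hPC := (chartPC_inD_iff M (U : X.Opens) U.2 (V : S.Opens) φ hφ.1 (-1)).1 hPC
  refine (chartPC_inD_iff M (U : X.Opens) U.2 (V : S.Opens) φ hφ.1 m).2 ?_
  have hflat := Groth.Agent.Lib.Helper8.FlatAffine.flat_sections_of_isFlatOverAt f M U.2 V.2 h
    (fun x _ => hfl x)
  let N : ModuleCat.{u} (MvPolynomial (Fin n) Γ(S, (V : S.Opens))) :=
    (ModuleCat.restrictScalars φ).obj (ModuleCat.of Γ(X, (U : X.Opens)) Γ(M, (U : X.Opens)))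
  have hfpN : Module.FinitePresentation (MvPolynomial (Fin n) Γ(S, (V : S.Opens))) N :=
    (isNPC_single_neg_one_iff N).1 hPC
  letI : Module Γ(S, (V : S.Opens)) N :=
    Module.compHom (M := Γ(M, (U : X.Opens))) (f.appLE (V : S.Opens) (U : X.Opens) h).hom
  haveI : IsScalarTower Γ(S, (V : S.Opens)) (MvPolynomial (Fin n) Γ(S, (V : S.Opens))) N := by
    refine IsScalarTower.of_algebraMap_smul (fun r x => ?_)
    change (φ (algebraMap _ _ r)) • (show Γ(M, (U : X.Opens)) from x) =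
      ((f.appLE (V : S.Opens) (U : X.Opens) h).hom r) • (show Γ(M, (U : X.Opens)) from x)
    rw [MvPolynomial.algebraMap_eq]
    congr 1
    exact congrArg (fun t => t r) (congrArg DFunLike.coe hφ.2)
  haveI : Module.Flat Γ(S, (V : S.Opens)) N := hflat
  exact Groth.Agent.Lib.Helper28.ModPC.isNPC_of_flat_fp Γ(S, (V : S.Opens)) n N m

end
end Groth.Agent.Lib.Helper28.RelPC
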