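import Mathlib
import Groth.Agent.Lib.Helper28.RelPC31
import Groth.Agent.Lib.Helper28.RelPerf2
set_option autoImplicit false
universe u
open CategoryTheory Limits AlgebraicGeometry Pretriangulated Opposite
namespace Groth.Agent.Lib.Helper28.RelPC
noncomputable section
attribute [local instance] HasDerivedCategory.standard
open Groth.Agent.Lib.Helper29.QCoh Groth.Agent.Lib.Helper28.DCohRes
  Groth.Agent.Lib.Helper13.PC Groth.Agent.Lib.Helper13.DR Groth.Agent.Lib.Helper28.FinPush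
  Groth.Agent.Lib.Helper28.ClPush Groth.Agent.Lib.Helper28.ClPushN
  Groth.Agent.Lib.Helper28.DCohStalk Groth.Agent.Lib.Helper28.RelPerf

variable {X S : Scheme.{u}}

theorem isPseudoCoherentRel_of_iso (f : X ⟶ S) (m : ℤ) {K K' : DCoh.D X} (e : K ≅ K')
    (h : DerSch.IsPseudoCoherentRel f m K) : DerSch.IsPseudoCoherentRel f m K' := by
  obtain ⟨h0, 𝒱, h𝒱, hV⟩ := h
  refine ⟨h0, 𝒱, h𝒱, fun V hVm => ?_⟩
  obtain ⟨𝒰, h𝒰, hU⟩ := hV V hVm
  refine ⟨𝒰, h𝒰, fun U hUm h => ?_⟩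
  obtain ⟨n, φ, hφ, hPC⟩ := hU U hUm h
  exact ⟨n, φ, hφ, fun G ⟨e'⟩ => hPC G ⟨e' ≪≫ e.symm⟩⟩

/-- the class of `M` placed in degree `0` -/
def inDIsoToD (M : X.Modules) :
    DCoh.inD X M ≅ DCoh.toD X ((HomologicalComplex.single _ (ComplexShape.up ℤ) 0).obj M) :=
  (DerivedCategory.singleFunctorIsoCompQ _ 0).app M

/-- **S6215** -/
theorem isPseudoCoherentRelAll_of_flat_terms (f : X ⟶ S)
    [LocallyOfFiniteType f] (E : CochainComplex X.Modules ℤ) (b : ℤ)
    (hb : ∀ i : ℤ, b < i → IsZero (E.X i))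
    (hfl : ∀ i : ℤ, FlatMod.IsFlatOver f (E.X i))
    (hfp : ∀ i : ℤ, DerSch.IsPseudoCoherentRel f (-1)
      (DCoh.toD X ((HomologicalComplex.single _ (ComplexShape.up ℤ) 0).obj (E.X i)))) :
    DerSch.IsPseudoCoherentRelAll f (DCoh.toD X E) := by
  intro m
  refine isPseudoCoherentRel_of_terms f m E b hb fun i => ?_
  exact isPseudoCoherentRel_inD_of_flat f (E.X i) (hfl i)
    (isPseudoCoherentRel_of_iso f (-1) (inDIsoToD (E.X i)).symm (hfp i)) (m - i)

/-- tor amplitude of a complex with flat terms placed in `[a, b]` -/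
theorem hasTorAmplitude_of_flat_terms (f : X ⟶ S) (E : CochainComplex X.Modules ℤ) (a b : ℤ)
    (hab : DCoh.VanishesOutside E a b) (hfl : ∀ i : ℤ, FlatMod.IsFlatOver f (E.X i)) :
    DerSch.HasTorAmplitude f a b E := by
  intro x
  refine ⟨(DerSch.stalkCxOver f x).obj E, fun i hi => ?_, fun i => ?_, ⟨Iso.refl _⟩⟩
  · exact (DerSch.stalkOver f x).map_isZero (hab i hi)
  · exact (isFlatOverAt_iff_stalkOver f (E.X i) x).1 (hfl i x)

/-- **S6216** -/
theorem hasPerfAmplitudeRel_of_flat_terms (f : X ⟶ S)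
    [LocallyOfFiniteType f] (E : CochainComplex X.Modules ℤ) (a b : ℤ)
    (hab : DCoh.VanishesOutside E a b)
    (hfl : ∀ i : ℤ, FlatMod.IsFlatOver f (E.X i))
    (hfp : ∀ i : ℤ, DerSch.IsPseudoCoherentRel f (-1)
      (DCoh.toD X ((HomologicalComplex.single _ (ComplexShape.up ℤ) 0).obj (E.X i)))) :
    DerSch.HasPerfAmplitudeRel f a b E :=
  ⟨isPseudoCoherentRelAll_of_flat_terms f E b (fun i hi => hab i (Or.inr hi)) hfl hfp,
    hasTorAmplitude_of_flat_terms f E a b hab hfl⟩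

/-- tor amplitude `[0, 0]` of a module in degree `0` is flatness over the base -/
theorem hasTorAmplitudeAt_single_iff (f : X ⟶ S) (M : X.Modules) (x : X) :
    DerSch.HasTorAmplitudeAt f 0 0 ((HomologicalComplex.single _ (ComplexShape.up ℤ) 0).obj M) x ↔
      FlatMod.IsFlatOverAt f M x := by
  rw [isFlatOverAt_iff_stalkOver]
  let N := (DerSch.stalkOver f x).obj M
  let e1 : (DerSch.stalkCxOver f x).obj ((HomologicalComplex.single _ (ComplexShape.up ℤ) 0).obj M) ≅
      (HomologicalComplex.single _ (ComplexShape.up ℤ) 0).obj N :=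
    (HomologicalComplex.singleMapHomologicalComplex (DerSch.stalkOver f x)
      (ComplexShape.up ℤ) 0).app M
  let e : DRing.toD ((DerSch.stalkCxOver f x).obj
      ((HomologicalComplex.single _ (ComplexShape.up ℤ) 0).obj M)) ≅
      Dual.inD (S.presheaf.stalk (f x)) N :=
    DerivedCategory.Q.mapIso e1 ≪≫
      ((DerivedCategory.singleFunctorIsoCompQ (ModuleCat.{u} (S.presheaf.stalk (f x))) 0).app N).symm
  have h1 : DerSch.HasTorAmplitudeAt f 0 0
      ((HomologicalComplex.single _ (ComplexShape.up ℤ) 0).obj M) x ↔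
      DRing.HasTorAmplitudeIn (S.presheaf.stalk (f x)) (-((0 : ℕ) : ℤ)) 0
        (Dual.inD (S.presheaf.stalk (f x)) N) :=
    ⟨fun h => hasTorAmplitudeIn_of_iso e h, fun h => hasTorAmplitudeIn_of_iso e.symm h⟩
  rw [h1, ← Groth.Agent.Lib.Helper13.TB.hasTorDimLE_iff_hasTorAmplitudeIn,
    Groth.Agent.Lib.Helper13.TB.hasTorDimLE_zero_iff_flat]

/-- **S6213** -/
theorem hasPerfAmplitudeRel_single_iff (f : X ⟶ S) [LocallyOfFiniteType f] (M : X.Modules) :
    DerSch.HasPerfAmplitudeRel f 0 0 ((HomologicalComplex.single _ (ComplexShape.up ℤ) 0).obj M) ↔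
      (FlatMod.IsFlatOver f M ∧ DerSch.IsPseudoCoherentRel f (-1)
        (DCoh.toD X ((HomologicalComplex.single _ (ComplexShape.up ℤ) 0).obj M))) := by
  constructor
  · rintro ⟨hPC, hTor⟩
    exact ⟨fun x => (hasTorAmplitudeAt_single_iff f M x).1 (hTor x), hPC (-1)⟩
  · rintro ⟨hfl, hfp⟩
    refine ⟨fun m => ?_, fun x => (hasTorAmplitudeAt_single_iff f M x).2 (hfl x)⟩
    exact isPseudoCoherentRel_of_iso f m (inDIsoToD M)
      (isPseudoCoherentRel_inD_of_flat f M hfl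
        (isPseudoCoherentRel_of_iso f (-1) (inDIsoToD M).symm hfp) m)

end
end Groth.Agent.Lib.Helper28.RelPC
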