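import Mathlib
import Groth.Agent.Lib.Helper28.RelPC32
set_option autoImplicit false
universe u
open CategoryTheory Limits AlgebraicGeometry Pretriangulated Opposite
namespace Groth.Agent.Lib.Helper28.RelPC
noncomputable section
attribute [local instance] HasDerivedCategory.standard
open Groth.Agent.Lib.Helper29.QCoh Groth.Agent.Lib.Helper28.DCohRes
  Groth.Agent.Lib.Helper13.PC Groth.Agent.Lib.Helper13.DR Groth.Agent.Lib.Helper28.FinPush
  Groth.Agent.Lib.Helper28.ClPush Groth.Agent.Lib.Helper28.ClPushN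

variable {X P : Scheme.{u}}

/-- the zero-variable chart of a closed immersion over an affine open of the target -/
def zeroChart (i : X ⟶ P) (V : P.Opens) :
    MvPolynomial (Fin 0) Γ(P, V) →+* Γ(X, i ⁻¹ᵁ V) :=
  (i.app V).hom.comp (MvPolynomial.isEmptyRingEquiv Γ(P, V) (Fin 0) : _ →+* Γ(P, V))

lemma zeroChart_surjective (i : X ⟶ P) [IsClosedImmersion i] (V : P.Opens) (hV : IsAffineOpen V) :
    Function.Surjective (zeroChart i V) :=
  (i.app_surjective V hV).comp (MvPolynomial.isEmptyRingEquiv Γ(P, V) (Fin 0)).surjective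

lemma isChart_zeroChart (i : X ⟶ P) [IsClosedImmersion i] (V : P.Opens) (hV : IsAffineOpen V) :
    DerSch.IsChart i (i ⁻¹ᵁ V) V le_rfl (zeroChart i V) := by
  refine ⟨zeroChart_surjective i V hV, ?_⟩
  ext r
  change (i.app V).hom (MvPolynomial.isEmptyRingEquiv Γ(P, V) (Fin 0) (MvPolynomial.C r)) = _
  rw [Scheme.Hom.app_eq_appLE]
  congr 1
  exact (MvPolynomial.isEmptyAlgEquiv Γ(P, V) (Fin 0)).commutes r

lemma gImm_zeroChart (i : X ⟶ P) (V : P.Opens) :
    gImm (i ⁻¹ᵁ V) (zeroChart i V) =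
      (i ∣_ V) ≫ gImm V (MvPolynomial.isEmptyRingEquiv Γ(P, V) (Fin 0) : _ →+* Γ(P, V)) := by
  unfold zeroChart
  rw [gImm_comp]
  unfold gImm
  have h := Scheme.Opens.toSpecΓ_naturality i V
  rw [CommRingCat.ofHom_hom, ← Category.assoc, h]

/-- the zero-variable chart test over an affine open `V` of the target is absolute
pseudo-coherence of the direct image restricted to `V` -/
theorem isPC_zeroChart_iff (i : X ⟶ P) [IsClosedImmersion i] (V : P.Opens) (hV : IsAffineOpen V)
    (m : ℤ) (F : CochainComplex X.Modules ℤ) :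
    haveI := isClosedImmersion_gImm (i ⁻¹ᵁ V) (hV.preimage i) (zeroChart i V)
      (zeroChart_surjective i V hV)
    (DCoh.IsPseudoCoherentD m ((chartD (i ⁻¹ᵁ V).ι (gImm (i ⁻¹ᵁ V) (zeroChart i V))).obj
        (DerivedCategory.Q.obj F)) ↔
      DCoh.IsPseudoCoherentD m
        ((resD V.ι).obj (DerivedCategory.Q.obj ((DerSch.pushCx i).obj F)))) := by
  haveI := isClosedImmersion_gImm (i ⁻¹ᵁ V) (hV.preimage i) (zeroChart i V)
    (zeroChart_surjective i V hV)
  let π : MvPolynomial (Fin 0) Γ(P, V) →+* Γ(P, V) :=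
    (MvPolynomial.isEmptyRingEquiv Γ(P, V) (Fin 0) : _ →+* Γ(P, V))
  have hπs : Function.Surjective π := (MvPolynomial.isEmptyRingEquiv Γ(P, V) (Fin 0)).surjective
  haveI := isClosedImmersion_gImm V hV π hπs
  have hO : ∀ k : ℤ, DCoh.IsPseudoCoherentD k (DCoh.inD _
      ((Scheme.Modules.pushforward (gImm V π)).obj (Coh.structureModule (V : Scheme.{u})))) :=
    fun k => (isPC_pushforward_unit_gImm_iff V hV π k).2
      (isPCHom_of_ringEquiv (MvPolynomial.isEmptyRingEquiv Γ(P, V) (Fin 0)) k)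
  rw [isPseudoCoherentD_pushforward_iff (gImm V π) hO _ m]
  let L := (resCx (i ⁻¹ᵁ V).ι).obj F
  have e1 : (chartD (i ⁻¹ᵁ V).ι (gImm (i ⁻¹ᵁ V) (zeroChart i V))).obj (DerivedCategory.Q.obj F) ≅
      DerivedCategory.Q.obj ((DerSch.pushCx (gImm (i ⁻¹ᵁ V) (zeroChart i V))).obj L) :=
    chartDQ _ _ F
  have e2 : (DerSch.pushCx (gImm (i ⁻¹ᵁ V) (zeroChart i V))).obj L ≅
      (DerSch.pushCx (gImm V π)).obj ((DerSch.pushCx (i ∣_ V)).obj L) := by
    rw [gImm_zeroChart]
    exact ((pushCxComp (i ∣_ V) (gImm V π)).app L).symm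
  have e3 : (DerSch.pushCx (i ∣_ V)).obj L ≅ (resCx V.ι).obj ((DerSch.pushCx i).obj F) :=
    (pushResIso i V F).symm
  have e4 : (Scheme.Modules.pushforward (gImm V π)).mapDerivedCategory.obj
      ((resD V.ι).obj (DerivedCategory.Q.obj ((DerSch.pushCx i).obj F))) ≅
      DerivedCategory.Q.obj ((DerSch.pushCx (gImm V π)).obj
        ((resCx V.ι).obj ((DerSch.pushCx i).obj F))) :=
    chartDQ V.ι (gImm V π) ((DerSch.pushCx i).obj F)
  have e : (chartD (i ⁻¹ᵁ V).ι (gImm (i ⁻¹ᵁ V) (zeroChart i V))).obj (DerivedCategory.Q.obj F) ≅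
      (Scheme.Modules.pushforward (gImm V π)).mapDerivedCategory.obj
        ((resD V.ι).obj (DerivedCategory.Q.obj ((DerSch.pushCx i).obj F))) :=
    e1 ≪≫ DerivedCategory.Q.mapIso (e2 ≪≫ (DerSch.pushCx (gImm V π)).mapIso e3) ≪≫ e4.symm
  exact ⟨fun h => isPseudoCoherentD_of_iso e h, fun h => isPseudoCoherentD_of_iso e.symm h⟩

/-- for a closed immersion, relative pseudo-coherence is absolute pseudo-coherence of the direct
image -/
theorem isPseudoCoherentRel_closedImmersion_iff (i : X ⟶ P) [IsClosedImmersion i] (m : ℤ)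
    (F : CochainComplex X.Modules ℤ) :
    DerSch.IsPseudoCoherentRel i m (DCoh.toD X F) ↔
      DCoh.IsPseudoCoherentD m (DCoh.toD P ((DerSch.pushCx i).obj F)) := by
  haveI : LocallyOfFiniteType i := inferInstance
  constructor
  · intro h
    rw [isPseudoCoherentRel_iff_chartD] at h
    refine isPseudoCoherentD_of_locally fun x => ?_
    obtain ⟨V, hV, hxV, -⟩ := exists_isAffineOpen_mem_and_subset (x := x) (U := ⊤) trivial
    haveI := isClosedImmersion_gImm (i ⁻¹ᵁ V) (hV.preimage i) (zeroChart i V)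
      (zeroChart_surjective i V hV)
    refine ⟨V, V.ι, inferInstance, by rw [Scheme.Opens.range_ι]; exact hxV, ?_⟩
    exact (isPC_zeroChart_iff i V hV m F).1
      (h (i ⁻¹ᵁ V) (hV.preimage i) V hV le_rfl (zeroChart i V) (isChart_zeroChart i V hV))
  · intro h
    refine ⟨inferInstance, Set.univ, ?_, fun V _ =>
      ⟨{⟨i ⁻¹ᵁ (V : P.Opens), V.2.preimage i⟩}, ?_, ?_⟩⟩
    · rw [← iSup_affineOpens_eq_top P]
      simp
    · simp
      rfl
    · intro U hU hle
      rw [Set.mem_singleton_iff] at hU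
      subst hU
      refine ⟨0, zeroChart i (V : P.Opens), isChart_zeroChart i (V : P.Opens) V.2, ?_⟩
      haveI := isClosedImmersion_gImm (i ⁻¹ᵁ (V : P.Opens)) (V.2.preimage i)
        (zeroChart i (V : P.Opens)) (zeroChart_surjective i (V : P.Opens) V.2)
      exact (forall_pushPCx_iff (i ⁻¹ᵁ (V : P.Opens)) (zeroChart i (V : P.Opens))
        (V.2.preimage i) (zeroChart_surjective i (V : P.Opens) V.2) m (DCoh.toD X F)).2
        ((isPC_zeroChart_iff i (V : P.Opens) V.2 m F).2 (isPseudoCoherentD_resD h _))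

/-- **S7211** -/
theorem isPseudoCoherentRel_comp_iff_of_closedImmersion_flat_lfp {S : Scheme.{u}} (i : X ⟶ P)
    [IsClosedImmersion i] (g : P ⟶ S) [Flat g] [LocallyOfFinitePresentation g] (m : ℤ)
    (F : CochainComplex X.Modules ℤ) :
    (DerSch.IsPseudoCoherentRel (i ≫ g) m (DCoh.toD X F) ↔
        DCoh.IsPseudoCoherentD m (DCoh.toD P ((DerSch.pushCx i).obj F))) ∧
      (DerSch.IsPseudoCoherentRel g m (DCoh.toD P ((DerSch.pushCx i).obj F)) ↔
        DCoh.IsPseudoCoherentD m (DCoh.toD P ((DerSch.pushCx i).obj F))) := by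
  haveI : LocallyOfFiniteType i := inferInstance
  refine ⟨?_, ?_⟩
  · rw [isPseudoCoherentRel_comp_iff_of_flat_lfp i g m]
    exact isPseudoCoherentRel_closedImmersion_iff i m F
  · exact (isPseudoCoherentD_iff_isPseudoCoherentRel g
      (fun n => isNPseudoCoherent_of_flat_lfp g n) m _).symm

end
end Groth.Agent.Lib.Helper28.RelPC
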