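import Mathlib
import Groth.Agent.Lib.Helper28.RelPC33
import Groth.Agent.Lib.Helper13.KoszulPerf
import Groth.Agent.Lib.Helper11.KzBasic
import Groth.Agent.Lib.Helper11.KzRes
import Groth.Agent.Lib.Helper28.DCohTilde6
import Groth.Agent.Lib.Helper28.PushStalkCx
import Groth.Agent.Lib.Helper28.Ds3
import Groth.Prelude.Def_RegImm
set_option autoImplicit false
universe u
open CategoryTheory Limits AlgebraicGeometry Pretriangulated Opposite
namespace Groth.Agent.Lib.Helper28.RelPC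
noncomputable section
attribute [local instance] HasDerivedCategory.standard
open Groth.Agent.Lib.Helper29.QCoh Groth.Agent.Lib.Helper28.DCohRes
  Groth.Agent.Lib.Helper13.PC Groth.Agent.Lib.Helper13.DR Groth.Agent.Lib.Helper28.FinPush
  Groth.Agent.Lib.Helper28.ClPush Groth.Agent.Lib.Helper28.ClPushN

section Ring

variable {A R : Type u} [CommRing A] [CommRing R] (θ : A →+* R) (hθ : Function.Surjective θ)
  (rs : List A) (hker : RingHom.ker θ = Ideal.ofList rs)

include hθ in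
/-- the target of a surjection, as a module over the source, is the quotient by the kernel -/
theorem nonempty_restrictQuotIso (I : Ideal A) (hI : RingHom.ker θ = I) :
    Nonempty ((ModuleCat.restrictScalars θ).obj (ModuleCat.of R R) ≅ ModuleCat.of A (A ⧸ I)) := by
  subst hI
  let e := RingHom.quotientKerEquivOfSurjective hθ
  refine ⟨((AddEquiv.toLinearEquiv
      (M := A ⧸ RingHom.ker θ)
      (M₂ := ↑((ModuleCat.restrictScalars θ).obj (ModuleCat.of R R)))
      e.toAddEquiv (fun a x => ?_)).toModuleIso).symm⟩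
  obtain ⟨x, rfl⟩ := Ideal.Quotient.mk_surjective x
  change e (a • Ideal.Quotient.mk _ x) = θ a * e (Ideal.Quotient.mk _ x)
  rw [show a • (Ideal.Quotient.mk (RingHom.ker θ) x) =
    Ideal.Quotient.mk (RingHom.ker θ) (a * x) from rfl]
  change θ (a * x) = θ a * θ x
  exact map_mul θ a x

include hθ hker in
theorem isNPC_resSingle_of_koszulRegular (hrs : LCI.IsKoszulRegularSeq A rs) (m : ℤ) :
    IsNPC (Pff A) m ((resSingle θ).obj (ModuleCat.of R R)) := by
  have h := Groth.Agent.Lib.Helper13.KP.isPerfectModule_quotient_of_koszulRegular A rs hrs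
  obtain ⟨e0⟩ := nonempty_restrictQuotIso θ hθ (Ideal.ofList rs) hker
  exact (isNPC_of_isPerfect h m).of_iso
    ((DerivedCategory.singleFunctor _ 0).mapIso e0.symm)

include hθ hker in
theorem hasTorAmplitudeIn_resSingle_of_koszulRegular (hrs : LCI.IsKoszulRegularSeq A rs) :
    DRing.HasTorAmplitudeIn A (-(rs.length : ℤ)) 0 ((resSingle θ).obj (ModuleCat.of R R)) := by
  obtain ⟨e⟩ := Groth.Agent.Lib.Helper13.KP.nonempty_Q_koszul_iso_single A rs hrs
  obtain ⟨e0⟩ := nonempty_restrictQuotIso θ hθ (Ideal.ofList rs) hker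
  refine ⟨Koszul.koszul A rs, fun i hi => ?_, fun i => ?_, ⟨e ≪≫
    (DerivedCategory.singleFunctor _ 0).mapIso e0.symm⟩⟩
  · rw [Groth.Agent.Lib.Helper11.Kz.koszul_eq]
    haveI := Groth.Agent.Lib.Helper11.Kz.subsingleton_X (ModuleCat.of A A) rs i
      (by omega)
    exact ModuleCat.isZero_of_subsingleton _
  · rw [Groth.Agent.Lib.Helper11.Kz.koszul_eq]
    haveI := Groth.Agent.Lib.Helper11.Kz.projective_X (ModuleCat.of A A) rs i
    infer_instance

end Ring

section Scheme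

variable {Z X : Scheme.{u}}

lemma gImm_app_comp (i : Z ⟶ X) (V : X.Opens) {B' : Type u} [CommRing B']
    (π : B' →+* Γ(X, V)) :
    gImm (i ⁻¹ᵁ V) ((i.app V).hom.comp π) = (i ∣_ V) ≫ gImm V π := by
  rw [gImm_comp]
  unfold gImm
  have h := Scheme.Opens.toSpecΓ_naturality i V
  rw [CommRingCat.ofHom_hom, ← Category.assoc, h]

lemma gImm_app (i : Z ⟶ X) (V : X.Opens) :
    gImm (i ⁻¹ᵁ V) (i.app V).hom = (i ∣_ V) ≫ gImm V (RingHom.id Γ(X, V)) := by
  rw [← gImm_app_comp, RingHom.comp_id]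

lemma isAffineOpen_preimage_of_isClosedImmersion (i : Z ⟶ X) (U : X.Opens) (hU : IsAffineOpen U)
    [IsClosedImmersion (i ∣_ U)] : IsAffineOpen (i ⁻¹ᵁ U) := by
  haveI : IsAffine (U : Scheme.{u}) := hU
  exact isAffine_of_isAffineHom (i ∣_ U)

lemma app_surjective_of_restrict (i : Z ⟶ X) (U : X.Opens) (hU : IsAffineOpen U)
    [IsClosedImmersion (i ∣_ U)] : Function.Surjective (i.app U).hom := by
  haveI : IsAffine (U : Scheme.{u}) := hU
  have h1 := (i ∣_ U).app_surjective ⊤ (isAffineOpen_top _)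
  have h1' : (i ∣_ U).app ⊤ = i.app (U.ι ''ᵁ ⊤) ≫
      Z.presheaf.map (eqToHom (image_morphismRestrict_preimage i U ⊤)).op :=
    morphismRestrict_appTop i U
  rw [h1'] at h1
  have hinj : Function.Injective
      (Z.presheaf.map (eqToHom (image_morphismRestrict_preimage i U ⊤)).op).hom :=
    ((ConcreteCategory.isIso_iff_bijective _).1 inferInstance).1
  have h2 : Function.Surjective (i.app (U.ι ''ᵁ ⊤)).hom := by
    refine Function.Surjective.of_comp_left (f := (Z.presheaf.map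
      (eqToHom (image_morphismRestrict_preimage i U ⊤)).op).hom) ?_ hinj
    exact h1
  have key : ∀ V : X.Opens, V = U → Function.Surjective (i.app V).hom →
      Function.Surjective (i.app U).hom := by
    rintro V rfl h
    exact h
  exact key _ (Scheme.Opens.ι_image_top U) h2

/-- the local statement: over an affine open on which `i` is a closed immersion with
Koszul-regular ideal, the structure sheaf is pseudo-coherent relative to `i` -/
theorem isPseudoCoherentRel_of_koszul_local (i : Z ⟶ X) [LocallyOfFiniteType i] (U : X.Opens)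
    (hU : IsAffineOpen U)
    [IsClosedImmersion (i ∣_ U)] (rs : List Γ(X, U)) (hrs : LCI.IsKoszulRegularSeq Γ(X, U) rs)
    (hker : RingHom.ker (i.app U).hom = Ideal.ofList rs) (n : ℤ) :
    DerSch.IsPseudoCoherentRel ((i ⁻¹ᵁ U).ι ≫ i) n
      (DCoh.toD _ ((DCoh.restrictCx (i ⁻¹ᵁ U)).obj (DerSch.unitCx Z))) := by
  have hW := isAffineOpen_preimage_of_isClosedImmersion i U hU
  have hθ : Function.Surjective (i.app U).hom := app_surjective_of_restrict i U hU
  have e : (i ⁻¹ᵁ U).ι ≫ i = (i ∣_ U) ≫ U.ι := (morphismRestrict_ι i U).symm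
  rw [e]
  haveI : LocallyOfFiniteType (i ∣_ U) := inferInstance
  refine (isPseudoCoherentRel_comp_iff (i ∣_ U) U.ι
    (fun k => isNPseudoCoherent_of_flat_lfp U.ι k) n _).1 ?_
  refine (isPseudoCoherentRel_closedImmersion_iff (i ∣_ U) n _).2 ?_
  have hid : Function.Surjective (RingHom.id Γ(X, U)) := fun x => ⟨x, rfl⟩
  haveI := isClosedImmersion_gImm U hU (RingHom.id Γ(X, U)) hid
  haveI := isClosedImmersion_gImm (i ⁻¹ᵁ U) hW (i.app U).hom hθ
  have hO : ∀ k : ℤ, DCoh.IsPseudoCoherentD k (DCoh.inD _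
      ((Scheme.Modules.pushforward (gImm U (RingHom.id Γ(X, U)))).obj
        (Coh.structureModule (U : Scheme.{u})))) :=
    fun k => (isPC_pushforward_unit_gImm_iff U hU (RingHom.id Γ(X, U)) k).2
      (((isPCHom_of_ringEquiv (RingEquiv.refl Γ(X, U))).of_eq rfl) k)
  rw [isPseudoCoherentD_pushforward_iff (gImm U (RingHom.id Γ(X, U))) hO _ n]
  let F := (DCoh.restrictCx (i ⁻¹ᵁ U)).obj (DerSch.unitCx Z)
  have e2 : (DerSch.pushCx (gImm U (RingHom.id Γ(X, U)))).obj ((DerSch.pushCx (i ∣_ U)).obj F) ≅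
      (DerSch.pushCx (gImm (i ⁻¹ᵁ U) (i.app U).hom)).obj F := by
    rw [gImm_app]
    exact (pushCxComp (i ∣_ U) (gImm U (RingHom.id Γ(X, U)))).app F
  have e3 : (chartD (i ⁻¹ᵁ U).ι (gImm (i ⁻¹ᵁ U) (i.app U).hom)).obj
      (DerivedCategory.Q.obj (DerSch.unitCx Z)) ≅
      DCoh.inD _ ((Scheme.Modules.pushforward (gImm (i ⁻¹ᵁ U) (i.app U).hom)).obj
        (Coh.structureModule ((i ⁻¹ᵁ U : Z.Opens) : Scheme.{u}))) :=
    (chartD (i ⁻¹ᵁ U).ι (gImm (i ⁻¹ᵁ U) (i.app U).hom)).mapIso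
      (inDIsoToD (Coh.structureModule Z)).symm ≪≫
    chartDinD (i ⁻¹ᵁ U).ι (gImm (i ⁻¹ᵁ U) (i.app U).hom) (Coh.structureModule Z) ≪≫
    (DerivedCategory.singleFunctor _ 0).mapIso
      ((Scheme.Modules.pushforward (gImm (i ⁻¹ᵁ U) (i.app U).hom)).mapIso
        (Scheme.Modules.restrictUnitIso (i ⁻¹ᵁ U).ι))
  have eAll : (Scheme.Modules.pushforward (gImm U (RingHom.id Γ(X, U)))).mapDerivedCategory.obj
      (DCoh.toD _ ((DerSch.pushCx (i ∣_ U)).obj F)) ≅
      DCoh.inD _ ((Scheme.Modules.pushforward (gImm (i ⁻¹ᵁ U) (i.app U).hom)).obj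
        (Coh.structureModule ((i ⁻¹ᵁ U : Z.Opens) : Scheme.{u}))) :=
    (Scheme.Modules.pushforward (gImm U (RingHom.id Γ(X, U)))).mapDerivedCategoryFactors.app _ ≪≫
      DerivedCategory.Q.mapIso e2 ≪≫
      (chartDQ (i ⁻¹ᵁ U).ι (gImm (i ⁻¹ᵁ U) (i.app U).hom) (DerSch.unitCx Z)).symm ≪≫ e3
  refine isPseudoCoherentD_of_iso eAll.symm ?_
  exact (isPC_pushforward_unit_gImm_iff (i ⁻¹ᵁ U) hW (i.app U).hom n).2
    (isNPC_resSingle_of_koszulRegular (i.app U).hom hθ rs hker hrs n)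

lemma isIso_gImm_id (U : X.Opens) (hU : IsAffineOpen U) :
    IsIso (gImm U (RingHom.id Γ(X, U))) := by
  haveI : IsIso U.toSpecΓ := by
    rw [← hU.isoSpec_hom]
    infer_instance
  haveI : IsIso (Spec.map (CommRingCat.ofHom (RingHom.id Γ(X, U)))) := by
    have : CommRingCat.ofHom (RingHom.id Γ(X, U)) = 𝟙 _ := rfl
    rw [this]
    infer_instance
  unfold gImm
  infer_instance

/-- the local statement for the tor dimension -/
theorem hasTorAmplitudeAt_of_koszul_local (i : Z ⟶ X) (U : X.Opens) (hU : IsAffineOpen U)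
    [IsClosedImmersion (i ∣_ U)] (rs : List Γ(X, U)) (hrs : LCI.IsKoszulRegularSeq Γ(X, U) rs)
    (hker : RingHom.ker (i.app U).hom = Ideal.ofList rs) (w : (i ⁻¹ᵁ U : Z.Opens)) :
    DerSch.HasTorAmplitudeAt i (-(rs.length : ℤ)) 0 (DerSch.unitCx Z) ((i ⁻¹ᵁ U).ι w) := by
  have hW := isAffineOpen_preimage_of_isClosedImmersion i U hU
  have hθ : Function.Surjective (i.app U).hom := app_surjective_of_restrict i U hU
  let W : Z.Opens := i ⁻¹ᵁ U
  let F : CochainComplex (W : Scheme.{u}).Modules ℤ := (resCx W.ι).obj (DerSch.unitCx Z)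
  let θ : Γ(X, U) →+* Γ(Z, W) := (i.app U).hom
  let ψ : CommRingCat.of Γ(X, U) ⟶ CommRingCat.of Γ(Z, W) := CommRingCat.ofHom θ
  haveI : PreservesFiniteLimits (tilde.functor (CommRingCat.of Γ(Z, W))) :=
    Groth.Agent.Lib.Helper17.KProjAff.preservesFiniteLimits_tilde _
  have hidW : Function.Surjective (RingHom.id Γ(Z, W)) := fun x => ⟨x, rfl⟩
  haveI := isClosedImmersion_gImm W hW (RingHom.id Γ(Z, W)) hidW
  haveI := isIso_gImm_id U hU
  -- the complex on `Spec Γ(Z, W)`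
  let F₀ : CochainComplex (Spec (CommRingCat.of Γ(Z, W))).Modules ℤ :=
    (DerSch.pushCx (gImm W (RingHom.id Γ(Z, W)))).obj F
  let M : DerivedCategory (ModuleCat.{u} (CommRingCat.of Γ(Z, W))) :=
    (resSingle (RingHom.id Γ(Z, W))).obj (ModuleCat.of Γ(Z, W) Γ(Z, W))
  have hF₀ : DCoh.toD _ F₀ ≅ (DCoh.tildeD (CommRingCat.of Γ(Z, W))).obj M :=
    (chartDQ W.ι (gImm W (RingHom.id Γ(Z, W))) (DerSch.unitCx Z)).symm ≪≫
      (chartD W.ι (gImm W (RingHom.id Γ(Z, W)))).mapIso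
        (inDIsoToD (Coh.structureModule Z)).symm ≪≫
      chartDinD W.ι (gImm W (RingHom.id Γ(Z, W))) (Coh.structureModule Z) ≪≫
      (DerivedCategory.singleFunctor _ 0).mapIso
        ((Scheme.Modules.pushforward (gImm W (RingHom.id Γ(Z, W)))).mapIso
          (Scheme.Modules.restrictUnitIso W.ι)) ≪≫
      (DerivedCategory.singleFunctor _ 0).mapIso (pushUnitGImmIso W hW (RingHom.id Γ(Z, W))) ≪≫
      (((tilde.functor (CommRingCat.of Γ(Z, W))).mapDerivedCategorySingleFunctor 0).app _).symm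
  -- ring level
  have hring : DRing.HasTorAmplitudeIn (CommRingCat.of Γ(X, U)) (-(rs.length : ℤ)) 0
      ((DRing.restrictD ψ.hom).obj M) := by
    have h0 := hasTorAmplitudeIn_resSingle_of_koszulRegular θ hθ rs hker hrs
    refine hasTorAmplitudeIn_of_iso ?_ h0
    refine ((DerivedCategory.singleFunctor _ 0).mapIso ?_) ≪≫
      (restrictDSingleIso θ ((ModuleCat.restrictScalars (RingHom.id Γ(Z, W))).obj
        (ModuleCat.of Γ(Z, W) Γ(Z, W)))).symm
    exact (ModuleCat.restrictScalars θ).mapIso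
      ((AddEquiv.toLinearEquiv (M := Γ(Z, W))
        (M₂ := ↑((ModuleCat.restrictScalars (RingHom.id Γ(Z, W))).obj
          (ModuleCat.of Γ(Z, W) Γ(Z, W))))
        (AddEquiv.refl _) (fun r x => rfl)).toModuleIso)
  have h1 := Groth.Agent.Lib.Helper28.DCohTilde.hasTorAmplitude_of_hasTorAmplitudeIn_restrictD ψ M F₀
    ⟨hF₀⟩ (-(rs.length : ℤ)) 0 hring
  have hind : Topology.IsInducing (gImm W (RingHom.id Γ(Z, W))).base :=
    (gImm W (RingHom.id Γ(Z, W))).isClosedEmbedding.isInducing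
  have h2 : ∀ w' : (W : Scheme.{u}), DerSch.HasTorAmplitudeAt
      (gImm W (RingHom.id Γ(Z, W)) ≫ Spec.map ψ) (-(rs.length : ℤ)) 0 F w' := fun w' =>
    (Groth.Agent.Lib.Helper28.PushStalkCx.hasTorAmplitudeAt_push_iff
      (gImm W (RingHom.id Γ(Z, W))) hind w' (Spec.map ψ) F (-(rs.length : ℤ)) 0).1 (h1 _)
  have hcomp : gImm W (RingHom.id Γ(Z, W)) ≫ Spec.map ψ =
      (i ∣_ U) ≫ gImm U (RingHom.id Γ(X, U)) := by
    rw [← gImm_comp, RingHom.id_comp]
    exact gImm_app i U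
  rw [hcomp] at h2
  have h3 : DerSch.HasTorAmplitude (i ∣_ U) (-(rs.length : ℤ)) 0 F := fun w' =>
    Groth.Agent.Lib.Helper28.DescPC.hasTorAmplitudeAt_of_comp_openImmersion (i ∣_ U)
      (gImm U (RingHom.id Γ(X, U))) F (-(rs.length : ℤ)) 0 w' (h2 w')
  have hfl : DerSch.HasTorDimLE U.ι 0 := (hasTorDimLE_zero_iff_flat U.ι).2 inferInstance
  have h4 := Groth.Agent.Lib.Helper28.DCohStalk.hasTorAmplitude_comp_of_hasTorDimLE (i ∣_ U) U.ι 0
    hfl F (-(rs.length : ℤ)) 0 h3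
  have e : (i ∣_ U) ≫ U.ι = W.ι ≫ i := morphismRestrict_ι i U
  rw [e] at h4
  have h5 := (Groth.Agent.Lib.Helper28.RelPerf.hasTorAmplitudeAt_restrict_iff i W.ι
    (DerSch.unitCx Z) _ 0 w).1 (h4 w)
  simpa using h5

/-- **S6238** -/
theorem hasPerfDimLE_of_koszulRegularImmersionOfCodim (i : Z ⟶ X) (d : ℕ)
    (hi : RegImm.IsRegularImmersionOfCodim RegImm.Kind.koszul d i) :
    DerSch.HasPerfDimLE i d := by
  obtain ⟨himm, h⟩ := hi
  haveI := himm
  haveI : LocallyOfFiniteType i := inferInstance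
  choose U hzU hcl rs hlen hrs hker using h
  refine ⟨fun n => ?_, fun z => ?_⟩
  · refine isPseudoCoherentRel_of_openCover i n (DerSch.unitCx Z) (fun z => i ⁻¹ᵁ (U z).1) ?_
      (fun z => ?_)
    · rw [eq_top_iff]
      intro z _
      simp only [TopologicalSpace.Opens.mem_iSup]
      exact ⟨z, hzU z⟩
    · haveI := hcl z
      exact isPseudoCoherentRel_of_koszul_local i (U z).1 (U z).2 (rs z) (hrs z) (hker z) n
  · haveI := hcl z
    have h1 := hasTorAmplitudeAt_of_koszul_local i (U z).1 (U z).2 (rs z) (hrs z) (hker z)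
      ⟨z, hzU z⟩
    rw [hlen z] at h1
    exact h1

end Scheme

end
end Groth.Agent.Lib.Helper28.RelPC
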