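import Mathlib
import Groth.Agent.Lib.Helper28.RelPC34
import Groth.Agent.Lib.Helper13.RelPCFin
set_option autoImplicit false
universe u
open CategoryTheory Limits AlgebraicGeometry Pretriangulated Opposite
namespace Groth.Agent.Lib.Helper28.RelPC
noncomputable section
attribute [local instance] HasDerivedCategory.standard
open Groth.Agent.Lib.Helper29.QCoh Groth.Agent.Lib.Helper28.DCohRes
  Groth.Agent.Lib.Helper13.PC Groth.Agent.Lib.Helper13.DR Groth.Agent.Lib.Helper28.FinPush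
  Groth.Agent.Lib.Helper28.ClPush Groth.Agent.Lib.Helper28.ClPushN
  Groth.Agent.Lib.Helper17.MVGamma

variable {X Y S : Scheme.{u}}

/-- the restriction of a complex to an affine open, carried to the spectrum of its ring of
sections, is the restriction along `fromSpec` -/
def pushIsoSpecIso (U : X.Opens) (hU : IsAffineOpen U) (G : CochainComplex X.Modules ℤ) :
    DCoh.toD _ ((DerSch.pushCx hU.isoSpec.hom).obj ((DCoh.restrictCx U).obj G)) ≅
      (resD hU.fromSpec).obj (DerivedCategory.Q.obj G) :=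
  (DerivedCategory.Q.mapIso ((NatIso.mapHomologicalComplex (restrictIsoPush hU.isoSpec.symm)
      (ComplexShape.up ℤ)).app ((resCx U.ι).obj G))).symm ≪≫
    ((resDQ hU.isoSpec.inv).app ((resCx U.ι).obj G)).symm ≪≫
    (resD hU.isoSpec.inv).mapIso ((resDQ U.ι).app G).symm ≪≫
    ((resDCongr hU.isoSpec_inv_ι.symm ≪≫ resDComp hU.isoSpec.inv U.ι).app
      (DerivedCategory.Q.obj G)).symm

/-- **bridge**: the derived direct image along a finite morphism, over an affine open of the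
target, is restriction of scalars -/
theorem nonempty_tildeD_restrictD_iso (π : X ⟶ Y) [IsFinite π] (E : DCoh.D X) (V : Y.Opens)
    (hV : IsAffineOpen V)
    [PreservesFiniteLimits (tilde.functor Γ(X, π ⁻¹ᵁ V))]
    [PreservesFiniteLimits (tilde.functor Γ(Y, V))]
    (G : CochainComplex X.Modules ℤ) (eG : DerivedCategory.Q.obj G ≅ E)
    (G' : CochainComplex Y.Modules ℤ) (eG' : DerivedCategory.Q.obj G' ≅ (DCoh.Rpush π).obj E)
    (M : Dual.D Γ(X, π ⁻¹ᵁ V))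
    (eM : (DCoh.tildeD Γ(X, π ⁻¹ᵁ V)).obj M ≅
      DCoh.toD _ ((DerSch.pushCx (hV.preimage π).isoSpec.hom).obj
        ((DCoh.restrictCx (π ⁻¹ᵁ V)).obj G))) :
    Nonempty ((DCoh.tildeD Γ(Y, V)).obj ((DRing.restrictD (π.app V).hom).obj M) ≅
      DCoh.toD _ ((DerSch.pushCx hV.isoSpec.hom).obj ((DCoh.restrictCx V).obj G'))) := by
  obtain ⟨bc⟩ := nonempty_Rpush_fromSpec_iso π hV (hV.preimage π)
  have main := Groth.Agent.Lib.Helper17.TildePushD.main (π.app V)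
  exact ⟨(main.app M).symm ≪≫
    (DCoh.Rpush (Spec.map (π.app V))).mapIso
      (eM ≪≫ pushIsoSpecIso (π ⁻¹ᵁ V) (hV.preimage π) G ≪≫
        (resD (hV.preimage π).fromSpec).mapIso eG) ≪≫
    (bc.app E).symm ≪≫ (resD hV.fromSpec).mapIso eG'.symm ≪≫ (pushIsoSpecIso V hV G').symm⟩

/-- from ring-level relative pseudo-coherence of a representing object to a chart -/
theorem exists_chartPC_of_isRelPseudoCoherent (f : X ⟶ S) [LocallyOfFiniteType f] (E : DCoh.D X)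
    (m : ℤ) (U : X.affineOpens) (V : S.affineOpens) (h : (U : X.Opens) ≤ f ⁻¹ᵁ (V : S.Opens))
    [PreservesFiniteLimits (tilde.functor Γ(X, (U : X.Opens)))]
    (G : CochainComplex X.Modules ℤ) (eG : DerivedCategory.Q.obj G ≅ E)
    (M : Dual.D Γ(X, (U : X.Opens)))
    (eM : (DCoh.tildeD Γ(X, (U : X.Opens))).obj M ≅
      DCoh.toD _ ((DerSch.pushCx U.2.isoSpec.hom).obj ((DCoh.restrictCx (U : X.Opens)).obj G)))
    (H : letI := (f.appLE (V : S.Opens) (U : X.Opens) h).hom.toAlgebra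
      DerCA.IsRelPseudoCoherent Γ(S, (V : S.Opens)) Γ(X, (U : X.Opens)) m M) :
    ∃ (n : ℕ) (φ : MvPolynomial (Fin n) Γ(S, (V : S.Opens)) →+* Γ(X, (U : X.Opens))),
      DerSch.IsChart f (U : X.Opens) (V : S.Opens) h φ ∧
        DerSch.ChartPC m E (U : X.Opens) (V : S.Opens) φ := by
  letI := (f.appLE (V : S.Opens) (U : X.Opens) h).hom.toAlgebra
  obtain ⟨n, α, hαs, hα⟩ := H
  have hαC : (α : MvPolynomial (Fin n) Γ(S, (V : S.Opens)) →+* Γ(X, (U : X.Opens))).comp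
      MvPolynomial.C = (f.appLE (V : S.Opens) (U : X.Opens) h).hom := by
    refine RingHom.ext fun r => ?_
    have := α.commutes r
    rw [MvPolynomial.algebraMap_eq] at this
    exact this
  refine ⟨n, (α : MvPolynomial (Fin n) Γ(S, (V : S.Opens)) →+* Γ(X, (U : X.Opens))),
    ⟨hαs, hαC⟩, ?_⟩
  have h2 : IsNPC (Pff _) m ((DRing.restrictD
      (α : MvPolynomial (Fin n) Γ(S, (V : S.Opens)) →+* Γ(X, (U : X.Opens)))).obj M) :=
    (isPseudoCoherent_iff m _).1 hα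
  have h1 := (pushPCx_iff_isNPC_restrictD (U : X.Opens) U.2
    (α : MvPolynomial (Fin n) Γ(S, (V : S.Opens)) →+* Γ(X, (U : X.Opens))) hαs _ M eM m).2 h2
  intro G' ⟨e'⟩
  exact (chartPC_toD_iff (U : X.Opens) U.2 (V : S.Opens) _ hαs m G).2 h1 G' ⟨e' ≪≫ eG.symm⟩

/-- from a chart to ring-level relative pseudo-coherence of a representing object -/
theorem isRelPseudoCoherent_of_chartPC (f : X ⟶ S) [LocallyOfFiniteType f] (E : DCoh.D X)
    (m : ℤ) (U : X.affineOpens) (V : S.affineOpens) (h : (U : X.Opens) ≤ f ⁻¹ᵁ (V : S.Opens))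
    [PreservesFiniteLimits (tilde.functor Γ(X, (U : X.Opens)))]
    (G : CochainComplex X.Modules ℤ) (eG : DerivedCategory.Q.obj G ≅ E)
    (M : Dual.D Γ(X, (U : X.Opens)))
    (eM : (DCoh.tildeD Γ(X, (U : X.Opens))).obj M ≅
      DCoh.toD _ ((DerSch.pushCx U.2.isoSpec.hom).obj ((DCoh.restrictCx (U : X.Opens)).obj G)))
    {n : ℕ} (φ : MvPolynomial (Fin n) Γ(S, (V : S.Opens)) →+* Γ(X, (U : X.Opens)))
    (hφ : DerSch.IsChart f (U : X.Opens) (V : S.Opens) h φ)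
    (hPC : DerSch.ChartPC m E (U : X.Opens) (V : S.Opens) φ) :
    letI := (f.appLE (V : S.Opens) (U : X.Opens) h).hom.toAlgebra
    DerCA.IsRelPseudoCoherent Γ(S, (V : S.Opens)) Γ(X, (U : X.Opens)) m M := by
  letI := (f.appLE (V : S.Opens) (U : X.Opens) h).hom.toAlgebra
  obtain ⟨hφs, hφC⟩ := hφ
  let φ' : MvPolynomial (Fin n) Γ(S, (V : S.Opens)) →ₐ[Γ(S, (V : S.Opens))]
      Γ(X, (U : X.Opens)) :=
    { φ with
      commutes' := fun r => by
        rw [MvPolynomial.algebraMap_eq]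
        exact congrArg (fun t => t r) (congrArg DFunLike.coe hφC) }
  refine ⟨n, φ', hφs, ?_⟩
  have h1 := hPC G ⟨eG⟩
  have h2 := (pushPCx_iff_isNPC_restrictD (U : X.Opens) U.2 φ hφs _ M eM m).1 h1
  exact (isPseudoCoherent_iff m _).2 h2

/-- the chart tests for `E` over `π⁻¹V` and for `Rπ_* E` over `V` are equivalent -/
theorem exists_chartPC_finite_iff (q : Y ⟶ S) [LocallyOfFiniteType q] (π : X ⟶ Y) [IsFinite π]
    [LocallyOfFiniteType (π ≫ q)]
    (E : DCoh.D X) (hE : DCoh.IsQCohD E) (m : ℤ) (V : Y.affineOpens) (W : S.affineOpens)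
    (hVW : (V : Y.Opens) ≤ q ⁻¹ᵁ (W : S.Opens))
    (hUW : π ⁻¹ᵁ (V : Y.Opens) ≤ (π ≫ q) ⁻¹ᵁ (W : S.Opens)) :
    (∃ (n : ℕ) (φ : MvPolynomial (Fin n) Γ(S, (W : S.Opens)) →+* Γ(X, π ⁻¹ᵁ (V : Y.Opens))),
      DerSch.IsChart (π ≫ q) (π ⁻¹ᵁ (V : Y.Opens)) (W : S.Opens) hUW φ ∧
        DerSch.ChartPC m E (π ⁻¹ᵁ (V : Y.Opens)) (W : S.Opens) φ) ↔
    (∃ (n : ℕ) (φ : MvPolynomial (Fin n) Γ(S, (W : S.Opens)) →+* Γ(Y, (V : Y.Opens))),
      DerSch.IsChart q (V : Y.Opens) (W : S.Opens) hVW φ ∧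
        DerSch.ChartPC m ((DCoh.Rpush π).obj E) (V : Y.Opens) (W : S.Opens) φ) := by
  let U : X.affineOpens := ⟨π ⁻¹ᵁ (V : Y.Opens), V.2.preimage π⟩
  haveI : PreservesFiniteLimits (tilde.functor Γ(X, (U : X.Opens))) :=
    Groth.Agent.Lib.Helper17.KProjAff.preservesFiniteLimits_tilde _
  haveI : PreservesFiniteLimits (tilde.functor Γ(Y, (V : Y.Opens))) :=
    Groth.Agent.Lib.Helper17.KProjAff.preservesFiniteLimits_tilde _
  let G := DerivedCategory.Q.objPreimage E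
  let eG : DerivedCategory.Q.obj G ≅ E := DerivedCategory.Q.objObjPreimageIso E
  let G' := DerivedCategory.Q.objPreimage ((DCoh.Rpush π).obj E)
  let eG' : DerivedCategory.Q.obj G' ≅ (DCoh.Rpush π).obj E :=
    DerivedCategory.Q.objObjPreimageIso _
  have hK := isQCohD_push_restrict E hE (U : X.Opens) U.2 G eG
  obtain ⟨M, ⟨eM⟩⟩ := ((Groth.Agent.Lib.Helper17.TD4.main Γ(X, (U : X.Opens))).2.2 _).1 hK
  obtain ⟨eM'⟩ := nonempty_tildeD_restrictD_iso π E (V : Y.Opens) V.2 G eG G' eG' M eM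
  -- the algebra structures
  letI algRA : Algebra Γ(S, (W : S.Opens)) Γ(Y, (V : Y.Opens)) :=
    (q.appLE (W : S.Opens) (V : Y.Opens) hVW).hom.toAlgebra
  letI algAB : Algebra Γ(Y, (V : Y.Opens)) Γ(X, (U : X.Opens)) := (π.app (V : Y.Opens)).hom.toAlgebra
  letI algRB : Algebra Γ(S, (W : S.Opens)) Γ(X, (U : X.Opens)) :=
    ((π ≫ q).appLE (W : S.Opens) (U : X.Opens) hUW).hom.toAlgebra
  haveI : IsScalarTower Γ(S, (W : S.Opens)) Γ(Y, (V : Y.Opens)) Γ(X, (U : X.Opens)) := by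
    refine IsScalarTower.of_algebraMap_eq' ?_
    change ((π ≫ q).appLE (W : S.Opens) (U : X.Opens) hUW).hom =
      (π.app (V : Y.Opens)).hom.comp (q.appLE (W : S.Opens) (V : Y.Opens) hVW).hom
    rw [π.app_eq_appLE, ← CommRingCat.hom_comp, Scheme.Hom.appLE_comp_appLE]
  haveI : Algebra.FiniteType Γ(S, (W : S.Opens)) Γ(Y, (V : Y.Opens)) :=
    LocallyOfFiniteType.finiteType_appLE q W.2 V.2 hVW
  haveI : Module.Finite Γ(Y, (V : Y.Opens)) Γ(X, (U : X.Opens)) :=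
    IsFinite.finite_app π (V : Y.Opens) V.2
  have key := Groth.Agent.Lib.Helper13.DR.isRelPC_iff_restrict_of_finite
    (R := Γ(S, (W : S.Opens))) (A := Γ(Y, (V : Y.Opens))) (B := Γ(X, (U : X.Opens))) M m
  constructor
  · rintro ⟨n, φ, hφ, hPC⟩
    have h1 := isRelPseudoCoherent_of_chartPC (π ≫ q) E m U W hUW G eG M eM φ hφ hPC
    have h2 := key.1 h1
    exact exists_chartPC_of_isRelPseudoCoherent q ((DCoh.Rpush π).obj E) m V W hVW G' eG'
      ((DRing.restrictD (π.app (V : Y.Opens)).hom).obj M) eM' h2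
  · rintro ⟨n, φ, hφ, hPC⟩
    have h1 := isRelPseudoCoherent_of_chartPC q ((DCoh.Rpush π).obj E) m V W hVW G' eG'
      ((DRing.restrictD (π.app (V : Y.Opens)).hom).obj M) eM' φ hφ hPC
    have h2 := key.2 h1
    exact exists_chartPC_of_isRelPseudoCoherent (π ≫ q) E m U W hUW G eG M eM h2

/-- **S7210** -/
theorem isPseudoCoherentRel_iff_Rpush_of_isFinite (p : X ⟶ S) (q : Y ⟶ S)
    [LocallyOfFiniteType p] [LocallyOfFiniteType q] (π : X ⟶ Y) [IsFinite π] (w : π ≫ q = p)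
    [DCoh.HasRpush π] (m : ℤ) (E : DCoh.D X) (hE : DCoh.IsQCohD E) :
    DerSch.IsPseudoCoherentRel p m E ↔
      DerSch.IsPseudoCoherentRel q m ((DCoh.Rpush π).obj E) := by
  subst w
  constructor
  · intro hp
    rw [isPseudoCoherentRel_iff_forall] at hp ⊢
    intro V W hVW
    have hUW : π ⁻¹ᵁ (V : Y.Opens) ≤ (π ≫ q) ⁻¹ᵁ (W : S.Opens) := fun x hx => hVW hx
    exact (exists_chartPC_finite_iff q π E hE m V W hVW hUW).1
      (hp ⟨π ⁻¹ᵁ (V : Y.Opens), V.2.preimage π⟩ W hUW)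
  · intro hq
    rw [isPseudoCoherentRel_iff_forall] at hq
    refine ⟨inferInstance, Set.univ, ?_, fun W _ =>
      ⟨{U | ∃ V : Y.affineOpens, (V : Y.Opens) ≤ q ⁻¹ᵁ (W : S.Opens) ∧
        (U : X.Opens) = π ⁻¹ᵁ (V : Y.Opens)}, ?_, ?_⟩⟩
    · rw [← iSup_affineOpens_eq_top S]
      simp
    · apply le_antisymm
      · refine iSup₂_le fun U hU => ?_
        obtain ⟨V, hVW, hUV⟩ := hU
        rw [hUV]
        exact fun x hx => hVW hx
      · intro x hx
        obtain ⟨V, hV, hxV, hVle⟩ := exists_isAffineOpen_mem_and_subset (x := π x)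
          (U := q ⁻¹ᵁ (W : S.Opens)) hx
        simp only [TopologicalSpace.Opens.mem_iSup]
        exact ⟨⟨π ⁻¹ᵁ V, hV.preimage π⟩, ⟨⟨V, hV⟩, hVle, rfl⟩, hxV⟩
    · rintro U ⟨V, hVW, hUV⟩ hUW
      obtain rfl : U = ⟨π ⁻¹ᵁ (V : Y.Opens), V.2.preimage π⟩ := Subtype.ext hUV
      exact (exists_chartPC_finite_iff q π E hE m V W hVW hUW).2 (hq V W hVW)

end
end Groth.Agent.Lib.Helper28.RelPC
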