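import Mathlib
import Groth.Agent.Lib.Helper28.LpullTilde
import Groth.Agent.Lib.Helper28.LpullComp
import Groth.Agent.Lib.Helper28.LpullPerfect
import Groth.Agent.Lib.Helper28.LpullExists
import Groth.Agent.Lib.Helper28.LpullQCoh
import Groth.Agent.Lib.Helper28.RelPC35

set_option autoImplicit false

universe u

open CategoryTheory Limits AlgebraicGeometry TopologicalSpace Opposite

namespace Groth.Agent.Lib.Helper28.Lpull

noncomputable section

attribute [local instance] HasDerivedCategory.standard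

open Groth.Agent.Lib.Helper29.QCoh Groth.Agent.Lib.Helper28.DCohRes

variable {X X' : Scheme.{u}}

/-- `Lj^*` along an open immersion is restriction (objectwise) -/
theorem nonempty_Lpull_iso_resD {U : Scheme.{u}} (j : U ⟶ X) [IsOpenImmersion j]
    [DCoh.HasLpull j] (E : DCoh.D X) : Nonempty ((DCoh.Lpull j).obj E ≅ (resD j).obj E) := by
  obtain ⟨P, hP, ⟨eP⟩⟩ := exists_kflat_rep E
  exact ⟨(DCoh.Lpull j).mapIso eP.symm ≪≫ LpullIso j P hP ≪≫
    DerivedCategory.Q.mapIso (resCxPullIso j P).symm ≪≫ ((resDQ j).app P).symm ≪≫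
    (resD j).mapIso eP⟩

/-- `Lf^*` only depends on `f` (objectwise) -/
lemma nonempty_Lpull_congr {Y : Scheme.{u}} {f f' : X ⟶ Y} (h : f = f') [DCoh.HasLpull f]
    [DCoh.HasLpull f'] (E : DCoh.D Y) :
    Nonempty ((DCoh.Lpull f).obj E ≅ (DCoh.Lpull f').obj E) := by
  subst h
  exact ⟨Iso.refl _⟩

/-- **derived pullback on affine charts is derived base change** -/
theorem nonempty_chart_Lpull_iso (p : X' ⟶ X) [DCoh.HasLpull p] (E : DCoh.D X)
    {U : X.Opens} (hU : IsAffineOpen U) {U' : X'.Opens} (hU' : IsAffineOpen U')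
    (hle : U' ≤ p ⁻¹ᵁ U)
    [PreservesFiniteLimits (tilde.functor Γ(X, U))]
    [PreservesFiniteLimits (tilde.functor Γ(X', U'))]
    [DRing.HasLBaseChange (p.appLE U U' hle).hom]
    (M : DerivedCategory (ModuleCat.{u} Γ(X, U)))
    (eM : (DCoh.tildeD Γ(X, U)).obj M ≅ (resD hU.fromSpec).obj E) :
    Nonempty ((DCoh.tildeD Γ(X', U')).obj ((DRing.LBaseChange (p.appLE U U' hle).hom).obj M) ≅
      (resD hU'.fromSpec).obj ((DCoh.Lpull p).obj E)) := by
  haveI : DCoh.HasLpull hU.fromSpec := hasLpull _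
  haveI : DCoh.HasLpull hU'.fromSpec := hasLpull _
  haveI : DCoh.HasLpull (Spec.map (p.appLE U U' hle)) := hasLpull _
  haveI : DCoh.HasLpull (hU'.fromSpec ≫ p) := hasLpull _
  haveI : DCoh.HasLpull (Spec.map (p.appLE U U' hle) ≫ hU.fromSpec) := hasLpull _
  have sq : hU'.fromSpec ≫ p = Spec.map (p.appLE U U' hle) ≫ hU.fromSpec :=
    (IsAffineOpen.SpecMap_appLE_fromSpec p hU hU' hle).symm
  obtain ⟨e1⟩ := nonempty_Lpull_iso_resD hU'.fromSpec ((DCoh.Lpull p).obj E)
  let e2 := (LpullCompIso hU'.fromSpec p).app E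
  obtain ⟨e3⟩ := nonempty_Lpull_congr sq E
  let e4 := (LpullCompIso (Spec.map (p.appLE U U' hle)) hU.fromSpec).app E
  obtain ⟨e5⟩ := nonempty_Lpull_iso_resD hU.fromSpec E
  let e6 := (LBaseChangeTildeIso (p.appLE U U' hle).hom).app M
  exact ⟨e6 ≪≫ (DCoh.Lpull (Spec.map (p.appLE U U' hle))).mapIso (eM ≪≫ e5.symm) ≪≫ e4 ≪≫
    e3.symm ≪≫ e2.symm ≪≫ e1⟩

end

end Groth.Agent.Lib.Helper28.Lpull
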