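import Mathlib
import Groth.Agent.Lib.Helper28.MatCx2
import Groth.Agent.Lib.Helper28.PushStalkCx
import Groth.Agent.Lib.Helper28.StalkTensor10
import Groth.Agent.Lib.Helper28.KoszPush
set_option autoImplicit false

universe u

open CategoryTheory Limits Opposite AlgebraicGeometry TopologicalSpace

attribute [local instance] HasDerivedCategory.standard

namespace Groth.Agent.Lib.Helper28.MatCx

open Groth.Agent.Lib.Helper29.QCoh
  Groth.Agent.Lib.Helper28.DCohRes Groth.Agent.Lib.Helper28.DCohTilde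
  Groth.Agent.Lib.Helper28.StalkTensor Groth.Agent.Lib.Helper28.PushStalkCx

noncomputable section

variable {X : Scheme.{u}}

/-- termwise direct image of complexes -/
abbrev pushCx {U : Scheme.{u}} (j : U ⟶ X) :
    CochainComplex U.Modules ℤ ⥤ CochainComplex X.Modules ℤ :=
  (Scheme.Modules.pushforward j).mapHomologicalComplex (ComplexShape.up ℤ)

/-- restricting the direct image along an open immersion gives back the complex -/
def resCxPushCxIso {U : Scheme.{u}} (j : U ⟶ X) [IsOpenImmersion j]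
    (K : CochainComplex U.Modules ℤ) : (resCx j).obj ((pushCx j).obj K) ≅ K :=
  HomologicalComplex.Hom.isoOfComponents
    (fun i => (Scheme.Modules.restrictFunctorAdjCounitIso j).app (K.X i))
    (fun i k _ => ((Scheme.Modules.restrictFunctorAdjCounitIso j).hom.naturality (K.d i k)).symm)

/-- the direct image of `M~` from an affine open `W` is perfect over `W` -/
theorem isPerfect_restrictCx_push_tilde (W : X.Opens) (hW : IsAffineOpen W)
    (M : DRing.Cx Γ(X, W)) (a b : ℤ) (hv : DRing.VanishesOutside M a b)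
    (hM : DRing.TermwiseFiniteProjective M) :
    DCoh.IsPerfect (DerivedCategory.Q.obj ((DCoh.restrictCx W).obj
      ((pushCx hW.fromSpec).obj ((tildeCx Γ(X, W)).obj M)))) := by
  rw [isPerfect_iff]
  intro y
  haveI : PreservesFiniteLimits (tilde.functor Γ(X, W)) :=
    Groth.Agent.Lib.Helper17.KProjAff.preservesFiniteLimits_tilde _
  have hsp : DCoh.IsStrictlyPerfect ((tildeCx Γ(X, W)).obj M) :=
    ⟨⟨a, b, fun i hi => (tilde.functor Γ(X, W)).map_isZero (hv i hi)⟩, fun i =>
      (isFinLocFree_tilde_iff (M.X i)).2 (hM i)⟩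
  refine ⟨Spec Γ(X, W), hW.isoSpec.inv, inferInstance, ?_, (tildeCx Γ(X, W)).obj M, hsp, ⟨?_⟩⟩
  · exact ⟨hW.isoSpec.hom.base y, by
      rw [← Scheme.Hom.comp_apply, Iso.hom_inv_id]
      rfl⟩
  · have hcomp : hW.isoSpec.inv ≫ W.ι = hW.fromSpec := hW.isoSpec_inv_ι
    exact (resDQ hW.isoSpec.inv).app _ ≪≫ DerivedCategory.Q.mapIso
      (((resCxComp hW.isoSpec.inv W.ι).symm.app _) ≪≫
        ((NatIso.mapHomologicalComplex (Scheme.Modules.restrictFunctorCongr hcomp)
          (ComplexShape.up ℤ)).app _) ≪≫ resCxPushCxIso hW.fromSpec _)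

lemma matCx_eq {A : Type u} [CommRing A] (n : ℤ → ℕ)
    {D D' : ∀ i, Matrix (Fin (n (i + 1))) (Fin (n i)) A}
    (hD : ∀ i, D (i + 1) * D i = 0) (hD' : ∀ i, D' (i + 1) * D' i = 0) (h : D' = D) :
    matCx A n D' hD' = matCx A n D hD := by
  subst h
  rfl

/-- the stalk map of `fromSpec` is compatible with germs -/
lemma stalkMap_fromSpec_germ (W : X.Opens) (hW : IsAffineOpen W) (z : Spec Γ(X, W))
    (hx : hW.fromSpec.base z ∈ W) (s : Γ(X, W)) :
    (hW.fromSpec.stalkMap z).hom ((X.presheaf.germ W (hW.fromSpec.base z) hx).hom s) =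
      lx Γ(X, W) z s := by
  have h1 := Scheme.Hom.germ_stalkMap_apply hW.fromSpec W z hx s
  refine h1.trans ?_
  rw [hW.fromSpec_app_self]
  change (Spec Γ(X, W)).presheaf.germ _ z hx ((Spec Γ(X, W)).presheaf.map
    (eqToHom hW.fromSpec_preimage_self).op ((Scheme.ΓSpecIso Γ(X, W)).inv s)) = _
  rw [TopCat.Presheaf.germ_res_apply]
  rfl

/-- the complex of stalks at `x ∈ W` of the direct image of the tilde of a matrix complex -/
theorem nonempty_stalkCx_push_tilde_iso (W : X.Opens) (hW : IsAffineOpen W) (x : X)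
    (hx : x ∈ W) (n : ℤ → ℕ) (D : ∀ i, Matrix (Fin (n (i + 1))) (Fin (n i)) Γ(X, W))
    (hD : ∀ i, D (i + 1) * D i = 0) :
    Nonempty (((DerSch.stalkFunctor X x).mapHomologicalComplex (ComplexShape.up ℤ)).obj
        ((pushCx hW.fromSpec).obj ((tildeCx Γ(X, W)).obj (matCx Γ(X, W) n D hD))) ≅
      matCx (X.presheaf.stalk x) n (fun i => (D i).map (X.presheaf.germ W x hx).hom)
        (map_rel _ hD)) := by
  obtain ⟨z, rfl⟩ : ∃ z, hW.fromSpec.base z = x :=
    ⟨hW.primeIdealOf ⟨x, hx⟩, hW.fromSpec_primeIdealOf ⟨x, hx⟩⟩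
  have hi : Topology.IsInducing hW.fromSpec.base := hW.fromSpec.isOpenEmbedding.isInducing
  let φ : X.presheaf.stalk (hW.fromSpec.base z) →+* (Spec Γ(X, W)).presheaf.stalk z :=
    (hW.fromSpec.stalkMap z).hom
  have hφ : Function.Bijective φ :=
    ConcreteCategory.bijective_of_isIso (hW.fromSpec.stalkMap z)
  let g : Γ(X, W) →+* X.presheaf.stalk (hW.fromSpec.base z) :=
    (X.presheaf.germ W (hW.fromSpec.base z) hx).hom
  have hcomp : ∀ s, φ (g s) = lx Γ(X, W) z s := stalkMap_fromSpec_germ W hW z hx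
  let F := (tildeCx Γ(X, W)).obj (matCx Γ(X, W) n D hD)
  have e1 := pushStalkCxIso hW.fromSpec hi z φ (RingHom.id _) (by rfl) F
  let α : DerSch.stalkFunctor X (hW.fromSpec.base z) ⋙
      ModuleCat.restrictScalars (RingHom.id (X.presheaf.stalk (hW.fromSpec.base z))) ≅
      DerSch.stalkFunctor X (hW.fromSpec.base z) :=
    Functor.isoWhiskerLeft _ (ModuleCat.restrictScalarsId _) ≪≫ Functor.rightUnitor _
  have e0 := (NatIso.mapHomologicalComplex α (ComplexShape.up ℤ)).app ((pushCx hW.fromSpec).obj F)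
  have e3 := (DRing.restrictCx φ).mapIso (stalkCxTildeIso Γ(X, W) z (matCx Γ(X, W) n D hD))
  have e4 := (DRing.restrictCx φ).mapIso (extMatIso (lx Γ(X, W) z) n D hD)
  have h5 : matCx ((Spec Γ(X, W)).presheaf.stalk z) n (fun i => (D i).map (lx Γ(X, W) z))
        (map_rel (D := D) (lx Γ(X, W) z) hD) =
      matCx ((Spec Γ(X, W)).presheaf.stalk z) n (fun i => ((D i).map g).map φ)
        (map_rel (D := fun i => (D i).map g) φ (map_rel (D := D) g hD)) := by
    have hDD : (fun i => (D i).map (lx Γ(X, W) z)) = (fun i => ((D i).map g).map φ) := by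
      funext i
      ext p q
      exact (hcomp (D i p q)).symm
    exact matCx_eq n _ _ hDD
  have e6 := resMatIso φ hφ n (fun i => (D i).map g) (map_rel (D := D) g hD)
  have e7 := e4 ≪≫ (DRing.restrictCx φ).mapIso (eqToIso h5) ≪≫ e6
  have e8 := e0.symm ≪≫ e1
  exact ⟨e8 ≪≫ e3 ≪≫ e7⟩

end

end Groth.Agent.Lib.Helper28.MatCx
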