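import Mathlib
import Groth.Agent.Lib.Helper13.DRingPC
import Groth.Agent.Lib.Helper13.PCSingleHom
import Groth.Agent.Lib.Helper28.DCohTilde7

/-!
# Pseudo-coherence over a (possibly non-commutative) finite free algebra (helper28)
-/

set_option autoImplicit false
universe u
open CategoryTheory CategoryTheory.Limits
open PCoh

namespace Groth.Agent.Lib.Helper28.PCNonComm

open Groth.Agent.Lib.Helper13.PC Groth.Agent.Lib.Helper13.DR

section Basic

variable (R : Type u) [Ring R]

/-- Finite free modules over a ring. -/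
def Pff : ObjectProperty (ModuleCat.{u} R) := fun M => Module.Finite R M ∧ Module.Free R M

/-- Finite projective modules over a ring. -/
def Pfp : ObjectProperty (ModuleCat.{u} R) := fun M => Module.Finite R M ∧ Module.Projective R M

variable {R}

lemma Pff_le_Pfp {M : ModuleCat.{u} R} (h : Pff R M) : Pfp R M :=
  ⟨h.1, by have := h.2; exact Module.Projective.of_free⟩

instance : (Pff R).IsClosedUnderIsomorphisms where
  of_iso e h := by
    obtain ⟨h1, h2⟩ := h
    exact ⟨Module.Finite.equiv e.toLinearEquiv, Module.Free.of_equiv e.toLinearEquiv⟩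

instance : (Pfp R).IsClosedUnderIsomorphisms where
  of_iso e h := by
    obtain ⟨h1, h2⟩ := h
    exact ⟨Module.Finite.equiv e.toLinearEquiv, Module.Projective.of_equiv e.toLinearEquiv⟩

lemma Pff_of_subsingleton (M : ModuleCat.{u} R) [Subsingleton M] : Pff R M :=
  ⟨inferInstance, inferInstance⟩

instance : (Pff R).ContainsZero where
  exists_zero := ⟨ModuleCat.of R PUnit, ModuleCat.isZero_of_subsingleton _, Pff_of_subsingleton _⟩

instance : (Pfp R).ContainsZero where
  exists_zero := ⟨ModuleCat.of R PUnit, ModuleCat.isZero_of_subsingleton _,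
    Pff_le_Pfp (Pff_of_subsingleton _)⟩

lemma Pff_prod (X Y : ModuleCat.{u} R) (hX : Pff R X) (hY : Pff R Y) : Pff R (X ⨯ Y) := by
  obtain ⟨h1, h2⟩ := hX
  obtain ⟨h3, h4⟩ := hY
  have : Pff R (ModuleCat.of R (X × Y)) := ⟨inferInstance, inferInstance⟩
  exact (ObjectProperty.prop_iff_of_iso _
    ((biprod.isoProd X Y).symm ≪≫ ModuleCat.biprodIsoProd X Y)).2 this

lemma Pfp_of_retract {X Y : ModuleCat.{u} R} (i : X ⟶ Y) (r : Y ⟶ X) (h : i ≫ r = 𝟙 X)
    (hY : Pfp R Y) : Pfp R X := by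
  obtain ⟨h1, h2⟩ := hY
  have hri : r.hom ∘ₗ i.hom = LinearMap.id := by
    ext x
    have := congrArg (fun f => f.hom x) h
    simpa using this
  refine ⟨Module.Finite.of_surjective r.hom (fun x => ⟨i.hom x, ?_⟩),
    Module.Projective.of_split i.hom r.hom hri⟩
  exact LinearMap.congr_fun hri x

lemma projective_of_Pfp {M : ModuleCat.{u} R} (h : Pfp R M) : Projective M := by
  have := h.2
  exact (IsProjective.iff_projective (R := R) (P := M)).1 this

lemma hlift_Pfp (E F : ModuleCat.{u} R) (u : E ⟶ F) (hu : Epi u) (hF : Pfp R F) : IsSplitEpi u := by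
  have := projective_of_Pfp hF
  exact ⟨⟨Projective.factorThru (𝟙 F) u, Projective.factorThru_comp _ _⟩⟩

lemma hlift_Pff (E F : ModuleCat.{u} R) (u : E ⟶ F) (hu : Epi u) (hF : Pff R F) : IsSplitEpi u :=
  hlift_Pfp E F u hu (Pff_le_Pfp hF)

lemma hst_Pfp (E F : ModuleCat.{u} R) (u : E ⟶ F) (hu : Epi u) (hE : Pfp R E) (hF : Pfp R F) :
    Pfp R (kernel u) := by
  obtain ⟨⟨s, hs⟩⟩ := hlift_Pfp E F u hu hF
  refine Pfp_of_retract (kernel.ι u) (kernel.lift u (𝟙 E - u ≫ s) ?_) ?_ hE
  · rw [Preadditive.sub_comp, Category.id_comp, Category.assoc, hs, Category.comp_id, sub_self]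
  · rw [← cancel_mono (kernel.ι u), Category.assoc, kernel.lift_ι, Preadditive.comp_sub,
      Category.comp_id, kernel.condition_assoc, zero_comp, sub_zero, Category.id_comp]

lemma hql_Pfp : IsQuasiLiftable (Pfp R) := isQuasiLiftable_of_hlift _ hlift_Pfp
lemma hql_Pff : IsQuasiLiftable (Pff R) := isQuasiLiftable_of_hlift _ hlift_Pff
lemma hqs_Pfp : IsQuasiStableUnderKernels (Pfp R) := isQuasiStableUnderKernels_of_hst _ hst_Pfp

lemma isOfFiniteType_Pff_iff (M : ModuleCat.{u} R) :
    IsOfFiniteType (Pff R) M ↔ Module.Finite R M := by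
  constructor
  · rintro ⟨E, π, ⟨h1, -⟩, hπ⟩
    exact Module.Finite.of_surjective π.hom ((ModuleCat.epi_iff_surjective π).1 hπ)
  · intro h
    obtain ⟨n, f, hf⟩ := Module.Finite.exists_fin' R M
    exact ⟨ModuleCat.of R (Fin n → R), ModuleCat.ofHom f, ⟨inferInstance, inferInstance⟩,
      (ModuleCat.epi_iff_surjective _).2 hf⟩

lemma isOfFiniteType_Pfp_iff (M : ModuleCat.{u} R) :
    IsOfFiniteType (Pfp R) M ↔ Module.Finite R M := by
  constructor
  · rintro ⟨E, π, ⟨h1, -⟩, hπ⟩
    exact Module.Finite.of_surjective π.hom ((ModuleCat.epi_iff_surjective π).1 hπ)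
  · intro h
    obtain ⟨E, π, hE, hπ⟩ := (isOfFiniteType_Pff_iff M).2 h
    exact ⟨E, π, Pff_le_Pfp hE, hπ⟩

lemma hqs_Pff : IsQuasiStableUnderKernels (Pff R) := by
  intro K hK hz hP
  exact (isOfFiniteType_Pff_iff _).2 ((isOfFiniteType_Pfp_iff _).1
    (hqs_Pfp K hK hz (fun i hi => Pff_le_Pfp (hP i hi))))

end Basic

end Groth.Agent.Lib.Helper28.PCNonComm
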