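import Mathlib
import Groth.Agent.Lib.Helper28.PCNonComm

/-!
# Pseudo-coherence over a finite free algebra descends along restriction of scalars (helper28)
-/

set_option autoImplicit false
set_option linter.style.haveILetI false
universe u
open CategoryTheory CategoryTheory.Limits Pretriangulated
open PCoh

namespace Groth.Agent.Lib.Helper28.PCNonComm

open Groth.Agent.Lib.Helper13.PC Groth.Agent.Lib.Helper28.DCohRes
  Groth.Agent.Lib.Helper28.DCohTilde

attribute [local instance] HasDerivedCategory.standard

variable (A : Type u) [CommRing A] (R : Type u) [Ring R] [Algebra A R]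

/-- restriction of scalars -/
noncomputable abbrev res : ModuleCat.{u} R ⥤ ModuleCat.{u} A := ModuleCat.restrictScalars.{u} (algebraMap A R)

variable {A R}

/-- the `A`-module structure, scalar tower, on the underlying type of an `R`-module -/
lemma finite_of_res (H : ModuleCat.{u} R) (h : Module.Finite A ((res A R).obj H)) :
    Module.Finite R H := by
  letI : Module A H := Module.compHom H (algebraMap A R)
  haveI : IsScalarTower A R H := IsScalarTower.of_algebraMap_smul fun r t => rfl
  haveI : Module.Finite A H := h
  exact Module.Finite.of_restrictScalars_finite A R H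

lemma Pff_res [Module.Finite A R] [Module.Free A R] {P : ModuleCat.{u} R} (h : Pff R P) :
    Groth.Agent.Lib.Helper13.DR.Pff A ((res A R).obj P) := by
  obtain ⟨h1, h2⟩ := h
  letI : Module A P := Module.compHom P (algebraMap A R)
  haveI : IsScalarTower A R P := IsScalarTower.of_algebraMap_smul fun r t => rfl
  have hfin : Module.Finite A P := Module.Finite.trans R P
  have hfree : Module.Free A P :=
    Module.Free.of_basis ((Module.Free.chooseBasis A R).smulTower (Module.Free.chooseBasis R P))
  exact ⟨hfin, hfree⟩

variable [PreservesFiniteLimits (res A R)] [PreservesFiniteColimits (res A R)]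

lemma isZero_homology_of_res (N : DerivedCategory (ModuleCat.{u} R)) (i : ℤ)
    (h : IsZero ((DerivedCategory.homologyFunctor (ModuleCat.{u} A) i).obj
      ((res A R).mapDerivedCategory.obj N))) :
    IsZero ((DerivedCategory.homologyFunctor (ModuleCat.{u} R) i).obj N) := by
  have h1 : IsZero ((res A R).obj ((DerivedCategory.homologyFunctor (ModuleCat.{u} R) i).obj N)) :=
    h.of_iso ((mapDHomologyIso (res A R) i).app N).symm
  rw [ModuleCat.isZero_iff_subsingleton] at h1 ⊢
  exact h1

variable [Module.Finite A R] [Module.Free A R]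

/-- descending induction on the top degree -/
theorem isNPC_of_isNPC_res (m : ℤ) :
    ∀ (k : ℕ) (N : DerivedCategory (ModuleCat.{u} R)) (b : ℤ), b + 1 ≤ m + k →
      (∀ i : ℤ, b < i → IsZero ((DerivedCategory.homologyFunctor (ModuleCat.{u} R) i).obj N)) →
      IsNPC (Groth.Agent.Lib.Helper13.DR.Pff A) m ((res A R).mapDerivedCategory.obj N) →
      IsNPC (Pff R) m N
  | 0 => fun N b hk hb _ => isNPC_of_acyclic (fun i hi => hb i (by push_cast at hk; omega))
  | (k + 1) => fun N b hk hb h => by
      by_cases hmb : m ≤ b
      swap
      · exact isNPC_of_acyclic (fun i hi => hb i (by omega))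
      -- the top cohomology is a finite module
      let Hb : ModuleCat.{u} R := (DerivedCategory.homologyFunctor (ModuleCat.{u} R) b).obj N
      have hfin : Module.Finite R Hb := by
        apply finite_of_res (A := A)
        have h1 : IsNPC (Groth.Agent.Lib.Helper13.DR.Pff A) b ((res A R).mapDerivedCategory.obj N) :=
          h.of_le hmb
        have h2 := isOfFiniteType_homology_of_isNPC Groth.Agent.Lib.Helper13.DR.hqs_Pff h1
          (fun i hi => isZero_homology_mapDerivedCategory (res A R) N i (hb i hi))
        have h3 := isOfFiniteType_of_iso _ ((mapDHomologyIso (res A R) b).app N) h2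
        exact (Groth.Agent.Lib.Helper13.DR.isOfFiniteType_Pff_iff _).1 h3
      obtain ⟨n, f, hf⟩ := Module.Finite.exists_fin' R Hb
      let P : ModuleCat.{u} R := ModuleCat.of R (Fin n → R)
      have hP : Pff R P := ⟨inferInstanceAs (Module.Finite R (Fin n → R)),
        inferInstanceAs (Module.Free R (Fin n → R))⟩
      haveI : Projective P := projective_of_Pfp (Pff_le_Pfp hP)
      let π : P ⟶ Hb := ModuleCat.ofHom f
      have hπ : Epi π := (ModuleCat.epi_iff_surjective π).2 hf
      obtain ⟨g, hg⟩ := (bijective_fromSingleHomologyMap P b N).2 π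
      obtain ⟨C, g₂, g₃, hT⟩ := Pretriangulated.distinguished_cocone_triangle g
      let T := Triangle.mk g g₂ g₃
      have hepi : Epi ((DerivedCategory.homologyFunctor (ModuleCat.{u} R) b).map g) := by
        have : (homologySingleIso b P).inv ≫
            (DerivedCategory.homologyFunctor (ModuleCat.{u} R) b).map g = π := hg
        have h3 : (DerivedCategory.homologyFunctor (ModuleCat.{u} R) b).map g =
            (homologySingleIso b P).hom ≫ π := by rw [← this, Iso.hom_inv_id_assoc]
        rw [h3]
        infer_instance
      have hC : ∀ i : ℤ, b - 1 < i →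
          IsZero ((DerivedCategory.homologyFunctor (ModuleCat.{u} R) i).obj C) := fun i hi =>
        isZero_homology_obj₃ T hT b (fun i hi => isZero_homology_single b i hi P) hb hepi i
          (by omega)
      -- the restriction of the cone is pseudo-coherent
      have hT' := (res A R).mapDerivedCategory.map_distinguished T hT
      have h1 : IsNPC (Groth.Agent.Lib.Helper13.DR.Pff A) (m + 1)
          ((res A R).mapDerivedCategory.obj
            ((DerivedCategory.singleFunctor (ModuleCat.{u} R) b).obj P)) :=
        (isNPC_single b (Pff_res hP) (m + 1)).of_iso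
          (((res A R).mapDerivedCategorySingleFunctor b).app P).symm
      have h3 : IsNPC (Groth.Agent.Lib.Helper13.DR.Pff A) m
          ((res A R).mapDerivedCategory.obj C) :=
        isNPC_obj₃ Groth.Agent.Lib.Helper13.DR.Pff_prod Groth.Agent.Lib.Helper13.DR.hqs_Pff
          Groth.Agent.Lib.Helper13.DR.hql_Pff _ hT' h1 h
      have hC' : IsNPC (Pff R) m C :=
        isNPC_of_isNPC_res m k C (b - 1) (by push_cast at hk; omega) hC h3
      exact isNPC_obj₂ Pff_prod hqs_Pff hql_Pff T hT (isNPC_single b hP m) hC'

/-- **Main theorem.** -/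
theorem exists_finite_free_of_isPseudoCoherent'_res (M : DerivedCategory (ModuleCat.{u} R))
    (hM : DRing.IsPseudoCoherent' A ((res A R).mapDerivedCategory.obj M)) :
    ∃ (F : CochainComplex (ModuleCat.{u} R) ℤ) (b : ℤ), (∀ i : ℤ, b < i → IsZero (F.X i)) ∧
      (∀ i : ℤ, Module.Finite R (F.X i) ∧ Module.Free R (F.X i)) ∧
      Nonempty (DerivedCategory.Q.obj F ≅ M) := by
  have hpc : IsPC (Groth.Agent.Lib.Helper13.DR.Pff A) ((res A R).mapDerivedCategory.obj M) :=
    (Groth.Agent.Lib.Helper13.DR.isPseudoCoherent'_iff _).1 hM
  obtain ⟨E₀, b, hb, -, ⟨e⟩⟩ := hM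
  have hb' : ∀ i : ℤ, b < i →
      IsZero ((DerivedCategory.homologyFunctor (ModuleCat.{u} R) i).obj M) := fun i hi => by
    apply isZero_homology_of_res (A := A)
    exact IsZero.of_iso (ShortComplex.isZero_homology_of_isZero_X₂ _ (hb i hi))
      ((DerivedCategory.homologyFunctor _ i).mapIso e.symm ≪≫ homologyQIso E₀ i)
  have hall : IsPC (Pff R) M := by
    intro m
    by_cases hmb : m ≤ b + 1
    · exact isNPC_of_isNPC_res m (b + 1 - m).toNat M b
        (by rw [Int.toNat_of_nonneg (by omega)]; omega) hb' (hpc m)
    · exact isNPC_of_acyclic (fun i hi => hb' i (by omega))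
  obtain ⟨E, hP, hz, hE⟩ := exists_strictPCAll_iso Pff_prod hqs_Pff hql_Pff M hall (b + 1)
    (fun i hi => hb' i (by omega))
  exact ⟨E, b, fun i hi => hz i (by omega), hP, hE⟩

end Groth.Agent.Lib.Helper28.PCNonComm
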