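import Mathlib
import Groth.Agent.Lib.Helper28.DCohStalk6
import Groth.Agent.Lib.Helper28.DCohRes30
import Groth.Agent.Lib.Helper28.Th3
import Groth.Agent.Lib.Helper13.FibreGlDim2
import Groth.Agent.Lib.Helper18.SerreReg2
set_option autoImplicit false

universe u

open CategoryTheory Limits AlgebraicGeometry TopologicalSpace

namespace Groth.Agent.Lib.Helper28.DCohStalk

noncomputable section

attribute [local instance] HasDerivedCategory.standard

open Groth.Agent.Lib.Helper29.QCoh Groth.Agent.Lib.Helper28.DCohRes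

variable {X : Scheme.{u}}

/-- **Main theorem.** -/
theorem isPerfect_of_isPseudoCoherentD_of_stalkCx_finiteTorDim
    (F : CochainComplex X.Modules ℤ)
    (htd : ∀ (x : X) (Q' : CochainComplex X.Modules ℤ),
      Nonempty (DerivedCategory.Q.obj Q' ≅ DerivedCategory.Q.obj F) →
      DRing.HasFiniteTorDimCx (X.presheaf.stalk x)
        (DerivedCategory.Q.obj ((stalkCx x).obj Q'))) (c d : ℤ) (hc : ∀ i, i < c → F.ExactAt i)
    (hd : ∀ i, d < i → F.ExactAt i)
    (hpc : ∀ m : ℤ, DCoh.IsPseudoCoherentD m (DerivedCategory.Q.obj F)) :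
    DCoh.IsPerfect (DerivedCategory.Q.obj F) := by
  rw [isPerfect_iff]
  intro x
  have hLE : F.IsLE d := by
    rw [CochainComplex.isLE_iff]
    exact hd
  obtain ⟨Q0, β0, hQb, hQfl, hβ0⟩ :=
    Groth.Agent.Lib.Helper28.KFlatSite.exists_flat_resolution_of_isLE (O := X.sheaf) F d hLE
  let Q : CochainComplex X.Modules ℤ := Q0
  let β : Q ⟶ F := β0
  have hβ : QuasiIso β := hβ0
  have hi2 : IsIso (DerivedCategory.Q.map β) := by
    rw [DerivedCategory.isIso_Q_map_iff_quasiIso]
    exact hβ
  have eQ : DerivedCategory.Q.obj Q ≅ DerivedCategory.Q.obj F :=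
    @asIso _ _ _ _ (DerivedCategory.Q.map β) hi2
  have hQf : ∀ i, FlatMod.IsFlat (Q.X i) := fun i =>
    (Groth.Agent.Lib.Helper17.FlatBridge.isFlat_iff _).2 (hQfl i)
  have hQb' : ∀ i, d < i → IsZero (Q.X i) := fun i hi =>
    CochainComplex.isZero_of_isStrictlyLE Q0 d i hi
  have hQz : ∀ i, (i < c ∨ d < i) → IsZero (Q.homology i) := by
    intro i hi
    have h1 : IsZero (F.homology i) := by
      rw [← HomologicalComplex.exactAt_iff_isZero_homology]
      rcases hi with hi | hi
      · exact hc i hi
      · exact hd i hi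
    exact h1.of_iso (asIso (HomologicalComplex.homologyMap β i))
  -- the complex of stalks has bounded cohomology, hence finite tor dimension
  let K' := (stalkCx x).obj Q
  have hbd : ∀ i : ℤ, i < c ∨ d < i →
      Subsingleton (Dual.HD (X.presheaf.stalk x) (DerivedCategory.Q.obj K') i) := by
    intro i hi
    have hz : IsZero ((DerivedCategory.homologyFunctor _ i).obj (DerivedCategory.Q.obj K')) :=
      ((DerSch.stalkFunctor X x).map_isZero (hQz i hi)).of_iso
        ((DerivedCategory.homologyFunctorFactors _ i).app K' ≪≫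
          (mapHCHomologyIso (DerSch.stalkFunctor X x) i).app Q)
    exact ModuleCat.subsingleton_of_isZero hz
  obtain ⟨a, b, E, hv, hfl, ⟨eE⟩⟩ := htd x Q ⟨eQ⟩
  let m : ℤ := min a c - 1
  have hma : m < a := by
    have := min_le_left a c
    omega
  have hmc : m < c := by
    have := min_le_right a c
    omega
  have hK : Module.Flat (X.presheaf.stalk x)
      ((K'.X m) ⧸ LinearMap.range (K'.d (m - 1) m).hom) := by
    refine Groth.Agent.S6944.result _ K' d (fun i hi => ?_) (fun i => ?_) m b
      ⟨E, fun i hi => hv i (by omega), hfl, ⟨eE⟩⟩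
    · exact (DerSch.stalkFunctor X x).map_isZero (hQb' i hi)
    · exact hQf i x
  have hx := isFlatAt_cokernel_d_of_stalkCx Q x m hK
  refine perfAlong_of_isFlatAt Q eQ hQf d hQb' m (fun i hi => ?_) x hx (hpc (m - 1))
  rw [HomologicalComplex.exactAt_iff_isZero_homology]
  exact hQz i (Or.inl (by omega))

/-- **Regular schemes**: bounded objects with coherent cohomology are perfect. -/
theorem isPerfect_of_regular [IsLocallyNoetherian X]
    (hreg : ∀ x : X, IsRegularLocalRing (X.presheaf.stalk x))
    (K : DCoh.D X) (a b : ℤ) [K.IsGE a] [K.IsLE b] (hK : DCoh.IsCohD K) : DCoh.IsPerfect K := by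
  let F := DerivedCategory.Q.objPreimage K
  let e : DerivedCategory.Q.obj F ≅ K := DerivedCategory.Q.objObjPreimageIso K
  have hza : ∀ i, i < a → IsZero (DCoh.HD K i) := fun i hi => K.isZero_of_isGE a i hi
  have hzb : ∀ i, b < i → IsZero (DCoh.HD K i) := fun i hi => K.isZero_of_isLE b i hi
  have hpc : ∀ m, DCoh.IsPseudoCoherentD m K := fun m =>
    isPseudoCoherentD_of_cohAbove m (b + 1 - m).toNat K b (by omega) ⟨hzb, fun i _ => hK i⟩
  have hFz : ∀ i, (i < a ∨ b < i) → IsZero (F.homology i) := by
    intro i hi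
    have h1 : IsZero (DCoh.HD K i) := by
      rcases hi with hi | hi
      · exact hza i hi
      · exact hzb i hi
    exact h1.of_iso (((DerivedCategory.homologyFunctorFactors _ i).app F).symm ≪≫
      (DerivedCategory.homologyFunctor _ i).mapIso e)
  refine isPerfect_of_iso e (isPerfect_of_isPseudoCoherentD_of_stalkCx_finiteTorDim F ?_ a b
    (fun i hi => ?_) (fun i hi => ?_) (fun m => isPseudoCoherentD_of_iso e.symm (hpc m)))
  · intro x Q' ⟨eQ'⟩
    haveI := hreg x
    obtain ⟨d, hd⟩ := Groth.Agent.Lib.Helper18.SerreReg.exists_ringKrullDim_eq_nat (X.presheaf.stalk x)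
    have ι : ∀ i : ℤ, (DerivedCategory.homologyFunctor (ModuleCat.{u} (X.presheaf.stalk x)) i).obj
        (DerivedCategory.Q.obj ((stalkCx x).obj Q')) ≅
        (DerSch.stalkFunctor X x).obj (DCoh.HD K i) := fun i =>
      (DerivedCategory.homologyFunctorFactors _ i).app _ ≪≫
        (mapHCHomologyIso (DerSch.stalkFunctor X x) i).app Q' ≪≫
        (DerSch.stalkFunctor X x).mapIso
          (((DerivedCategory.homologyFunctorFactors _ i).app Q').symm ≪≫
            (DerivedCategory.homologyFunctor _ i).mapIso (eQ' ≪≫ e))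
    refine ⟨a - d, b, Groth.Agent.Lib.Helper13.DR.hasTorAmplitudeIn_of_hasProjAmp
      (Groth.Agent.Lib.Helper13.FG.hasProjAmp_of_homology_pd d _ a b (fun i hi => ?_)
        (fun i => ?_))⟩
    · have h1 : IsZero (DCoh.HD K i) := by
        rcases hi with hi | hi
        · exact hza i hi
        · exact hzb i hi
      exact ModuleCat.subsingleton_of_isZero
        (((DerSch.stalkFunctor X x).map_isZero h1).of_iso (ι i))
    · haveI : (DCoh.HD K i).IsFiniteType := (hK i).2
      haveI : Module.Finite (X.presheaf.stalk x) ((DCoh.HD K i).presheaf.stalk x) :=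
        Groth.Agent.Lib.Helper28.Thick.finite_stalk_of_isFiniteType (DCoh.HD K i) x
      have h1 : HasProjectiveDimensionLT ((DerSch.stalkFunctor X x).obj (DCoh.HD K i)) (d + 1) :=
        Groth.Agent.Lib.Helper4.hasProjectiveDimensionLT_of_isRegularLocalRing_of_finite
          (X.presheaf.stalk x) d hd ((DCoh.HD K i).presheaf.stalk x)
      exact @hasProjectiveDimensionLT_of_iso _ _ _ _ _ (ι i).symm (d + 1) h1
  · rw [HomologicalComplex.exactAt_iff_isZero_homology]
    exact hFz i (Or.inl hi)
  · rw [HomologicalComplex.exactAt_iff_isZero_homology]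
    exact hFz i (Or.inr hi)

end

end Groth.Agent.Lib.Helper28.DCohStalk
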