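import Mathlib
import Groth.Agent.Lib.Helper28.RegPerfSch
import Groth.Prelude.Def_KZero
set_option autoImplicit false

universe u

open CategoryTheory Limits AlgebraicGeometry TopologicalSpace

attribute [local instance] HasDerivedCategory.standard

namespace Groth.Agent.Lib.Helper28.PerfBdd

open Groth.Agent.Lib.Helper28.DCohRes Groth.Agent.Lib.Helper28.DCohStalk

variable {X : Scheme.{u}}

/-- a perfect object on a quasi-compact scheme is bounded -/
theorem exists_bounds_of_isPerfect [CompactSpace X] (K : DCoh.D X) (hK : DCoh.IsPerfect K) :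
    ∃ a b : ℤ, K.IsGE a ∧ K.IsLE b := by
  rw [isPerfect_iff] at hK
  choose U j hj hx P hP e using hK
  have hbd : ∀ x, ∃ a b : ℤ, DCoh.VanishesOutside (P x) a b := fun x => (hP x).1
  choose a b hab using hbd
  obtain ⟨s, hs⟩ := isCompact_univ.elim_finite_subcover
    (fun x : X => ((j x).opensRange : Set X))
    (fun x => (j x).opensRange.2) (fun x _ => Set.mem_iUnion.2 ⟨x, hx x⟩)
  obtain ⟨b₀, hb₀⟩ := (s.image b).exists_le
  obtain ⟨a₁, ha₁⟩ := (s.image (fun x => -a x)).exists_le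
  obtain ⟨a₀, rfl⟩ : ∃ a₀ : ℤ, a₁ = -a₀ := ⟨-a₁, by simp⟩
  have key : ∀ i : ℤ, (i < a₀ ∨ b₀ < i) → IsZero (DCoh.HD K i) := by
    intro i hi
    refine isZero_of_locally _ fun x => ?_
    obtain ⟨y, hys, hxy⟩ : ∃ y ∈ s, x ∈ ((j y).opensRange : Set X) := by
      have := hs (Set.mem_univ x)
      simpa using this
    have h3 := hb₀ (b y) (Finset.mem_image_of_mem b hys)
    have h4 := ha₁ (-a y) (Finset.mem_image_of_mem (fun x => -a x) hys)
    refine ⟨U y, j y, hj y, hxy, ?_⟩
    haveI := hj y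
    refine IsZero.of_iso ?_ (HDresDIso (j y) K i).symm
    obtain ⟨e'⟩ := e y
    refine IsZero.of_iso ?_
      ((DerivedCategory.homologyFunctor (U y).Modules i).mapIso e')
    exact isZero_homology_Q_of_isZero_X (P y) i (hab y i (by omega))
  refine ⟨a₀, b₀, ?_, ?_⟩
  · rw [DerivedCategory.isGE_iff]
    intro i hi
    exact key i (Or.inl hi)
  · rw [DerivedCategory.isLE_iff]
    intro i hi
    exact key i (Or.inr hi)

/-- on a regular Noetherian scheme: perfect = bounded with coherent cohomology -/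
theorem isPerfect_eq_of_regular [IsNoetherian X]
    (hreg : ∀ x : X, IsRegularLocalRing (X.presheaf.stalk x)) :
    (fun K : DCoh.D X => DCoh.IsPerfect K) =
      (fun K : DCoh.D X => DCoh.IsCohD K ∧ ∃ a b : ℤ, K.IsGE a ∧ K.IsLE b) := by
  funext K
  apply propext
  constructor
  · intro h
    exact ⟨isCohD_of_isPerfect K h, exists_bounds_of_isPerfect K h⟩
  · rintro ⟨hc, a, b, ha, hb⟩
    exact isPerfect_of_regular hreg K a b hc

theorem k0_iso_of_regular [IsNoetherian X]
    (hreg : ∀ x : X, IsRegularLocalRing (X.presheaf.stalk x)) :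
    ∃ φ : KZero.K0tr (fun K : DCoh.D X => DCoh.IsPerfect K) ≃+ KZero.K0tr (fun K : DCoh.D X => DCoh.IsCohD K ∧ ∃ a b : ℤ, K.IsGE a ∧ K.IsLE b),
      ∀ K : DCoh.D X, DCoh.IsPerfect K →
        φ (KZero.clTr (fun K : DCoh.D X => DCoh.IsPerfect K) K) = KZero.clTr (fun K : DCoh.D X => DCoh.IsCohD K ∧ ∃ a b : ℤ, K.IsGE a ∧ K.IsLE b) K := by
  rw [← isPerfect_eq_of_regular hreg]
  exact ⟨AddEquiv.refl _, fun K _ => rfl⟩

end Groth.Agent.Lib.Helper28.PerfBdd
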