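import Mathlib
import Groth.Agent.Lib.Helper28.KoszPush
import Groth.Agent.Lib.Helper13.PCMor5
import Groth.Agent.Lib.Helper13.TorBridge1
import Groth.Agent.Lib.Helper13.DRingTwoIdeal
import Groth.Agent.S6954
set_option autoImplicit false

universe u

open CategoryTheory Limits AlgebraicGeometry Opposite ZeroObject

attribute [local instance] HasDerivedCategory.standard

namespace Groth.Agent.Lib.Helper28.KoszPush

open Groth.Agent.Lib.Helper29.QCoh Groth.Agent.Lib.Helper26.FinLocFreeMor
  Groth.Agent.Lib.Helper28.DCohRes Groth.Agent.Lib.Helper28.DCohTilde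

noncomputable section

/-- a surjective perfect ring map makes the quotient a perfect module -/
theorem isPerfectModule_quotient_ker_of_isPerfectHom {A B : Type u} [CommRing A] [CommRing B]
    (φ : A →+* B) (hs : Function.Surjective φ)
    (h : letI := φ.toAlgebra; MoreMor.IsPerfectHom A B) :
    DRing.IsPerfectModule A (A ⧸ RingHom.ker φ) := by
  letI := φ.toAlgebra
  haveI : Module.Finite A B := Module.Finite.of_surjective (Algebra.linearMap A B) hs
  obtain ⟨hpc, n, htd⟩ := h
  have h1 : DRing.IsPseudoCoherent' A (Dual.inD A B) :=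
    (Groth.Agent.Lib.Helper13.PM.isPseudoCoherentHom_iff_of_finite A B).1 hpc
  have h2 : DRing.HasFiniteTorDimCx A (Dual.inD A B) :=
    ⟨_, _, (Groth.Agent.Lib.Helper13.TB.hasTorDimLE_iff_hasTorAmplitudeIn A B n).1 htd⟩
  have h3 : DRing.IsPerfect A (Dual.inD A B) := (Groth.Agent.S6954.result A _).2 ⟨h1, h2⟩
  let e : (A ⧸ RingHom.ker φ) ≃ₗ[A] B :=
    { (RingHom.quotientKerEquivOfSurjective hs).toAddEquiv with
      map_smul' := by
        intro a x
        obtain ⟨x, rfl⟩ := Ideal.Quotient.mk_surjective x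
        change (RingHom.quotientKerEquivOfSurjective hs) (Ideal.Quotient.mk _ (a * x)) =
          φ a * (RingHom.quotientKerEquivOfSurjective hs) (Ideal.Quotient.mk _ x)
        simp [RingHom.quotientKerEquivOfSurjective] }
  exact Groth.Agent.Lib.Helper13.DR.isPerfect_of_iso
    ((DerivedCategory.singleFunctor (ModuleCat.{u} A) 0).mapIso e.symm.toModuleIso) h3

variable {Z X : Scheme.{u}} (i : Z ⟶ X) [IsClosedImmersion i]

theorem isPerfect_push_unit_of_locally_perfectModule
    (h : ∀ z : Z, ∃ U : X.Opens, ∃ hU : IsAffineOpen U, i.base z ∈ U ∧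
      DRing.IsPerfectModule Γ(X, U) (Γ(X, U) ⧸ RingHom.ker (i.app U).hom)) :
    DCoh.IsPerfect (DCoh.inD X ((Scheme.Modules.pushforward i).obj (unitM Z))) := by
  rw [isPerfect_iff]
  intro x
  by_cases hx : x ∈ Set.range i.base
  · obtain ⟨z, rfl⟩ := hx
    obtain ⟨U, hU, hzU, hperf⟩ := h z
    obtain ⟨e⟩ := nonempty_restrict_push_unit_iso_tilde i hU
    obtain ⟨E₀, a, b, hv, hE₀, ⟨e₀⟩⟩ := hperf
    haveI : PreservesFiniteLimits (tilde.functor Γ(X, U)) :=
      Groth.Agent.Lib.Helper17.KProjAff.preservesFiniteLimits_tilde _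
    have hsp : DCoh.IsStrictlyPerfect ((tildeCx Γ(X, U)).obj E₀) :=
      ⟨⟨a, b, fun i hi => (tilde.functor Γ(X, U)).map_isZero (hv i hi)⟩, fun i =>
        (isFinLocFree_tilde_iff (E₀.X i)).2 (hE₀ i)⟩
    refine ⟨Spec Γ(X, U), hU.fromSpec, inferInstance, ?_, (tildeCx Γ(X, U)).obj E₀, hsp, ⟨?_⟩⟩
    · rw [hU.range_fromSpec]
      exact hzU
    · exact resDInDIso hU.fromSpec _ ≪≫ (DerivedCategory.singleFunctor _ 0).mapIso e ≪≫
        (((tilde.functor Γ(X, U)).mapDerivedCategorySingleFunctor 0).app _).symm ≪≫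
        (DCoh.tildeD Γ(X, U)).mapIso e₀.symm ≪≫ (tildeDQ Γ(X, U)).app E₀
  · have hz := isZero_restrict_push_unit_compl i
    have hzero : ∀ n, IsZero ((0 : CochainComplex (complOpen i : Scheme.{u}).Modules ℤ).X n) :=
      fun n => (HomologicalComplex.eval _ _ n).map_isZero (isZero_zero _)
    refine ⟨complOpen i, (complOpen i).ι, inferInstance, ?_, 0,
      ⟨⟨0, 0, fun n _ => hzero n⟩, fun n => isFinLocFree_of_isZero (hzero n)⟩, ⟨?_⟩⟩
    · rw [Scheme.Opens.range_ι]
      exact hx
    · have h1 : IsZero (DCoh.inD (complOpen i : Scheme.{u})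
          (((Scheme.Modules.pushforward i).obj (unitM Z)).restrict (complOpen i).ι)) :=
        (DerivedCategory.singleFunctor _ 0).map_isZero hz
      have h2 : IsZero (DerivedCategory.Q.obj
          (0 : CochainComplex (complOpen i : Scheme.{u}).Modules ℤ)) :=
        DerivedCategory.Q.map_isZero (isZero_zero _)
      exact resDInDIso (complOpen i).ι _ ≪≫ h1.iso h2

/-- **S7175**: the direct image of the structure sheaf along a perfect closed immersion is
perfect -/
theorem isPerfect_push_unit_of_isPerfectMor (hi : MoreMor.IsPerfectMor i) :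
    DCoh.IsPerfect (DCoh.inD X ((Scheme.Modules.pushforward i).obj (unitM Z))) := by
  refine isPerfect_push_unit_of_locally_perfectModule i fun z => ?_
  obtain ⟨U, hU, hzU, -⟩ := (TopologicalSpace.Opens.isBasis_iff_nbhd.1 X.isBasis_affineOpens)
    (show i.base z ∈ (⊤ : X.Opens) from trivial)
  refine ⟨U, hU, hzU, ?_⟩
  have hW : IsAffineOpen (i ⁻¹ᵁ U) := hU.preimage i
  have h1 := hi (i ⁻¹ᵁ U) U hW hU le_rfl
  have hsurj : Function.Surjective (i.app U).hom := i.app_surjective U hU
  have heq : i.appLE U (i ⁻¹ᵁ U) le_rfl = i.app U := Scheme.Hom.appLE_eq_app i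
  rw [heq] at h1
  exact isPerfectModule_quotient_ker_of_isPerfectHom (i.app U).hom hsurj h1

end

end Groth.Agent.Lib.Helper28.KoszPush
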