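import Mathlib
import Groth.Prelude.Def_DCoh4
import Groth.Prelude.Def_HTor
import Groth.Agent.Lib.Helper28.PerfTensor3
import Groth.Agent.Lib.Helper28.DCohRes30
import Groth.Agent.Lib.Helper28.LpullPC
import Groth.Agent.Lib.Helper28.FlatPull2

/-!
# `Lf^*` preserves `D^-_Coh`; coherence of local hypertor sheaves (helper28)

* `isCoh_HD_of_isPseudoCoherentD`
* `isCohD_Lpull`: `Lf^*` preserves `D^-_Coh` between locally Noetherian schemes
* `isCohD_pullCx_of_flat`
* `isCoh_localTor` (S3533), `isCohD_localTor` (S3542)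
-/

set_option autoImplicit false

universe u

open CategoryTheory Limits AlgebraicGeometry

attribute [local instance] HasDerivedCategory.standard

namespace Groth.Agent.Lib.Helper28.PerfTensor

open Groth.Agent.Lib.Helper28.StalkTensor Groth.Agent.Lib.Helper28.KFlatSite
  Groth.Agent.Lib.Helper28.DCohRes Groth.Agent.Lib.Helper17 Groth.Agent.Lib.Helper28.Lpull
  Groth.Agent.Lib.Helper29.QCoh Groth.Agent.Lib.Helper28.DCohTilde

noncomputable section

variable {X Z : Scheme.{u}}

/-- pseudo-coherent objects with quasi-coherent cohomology on a locally Noetherian scheme have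
coherent cohomology in the relevant range (no compactness needed) -/
theorem isCoh_HD_of_isPseudoCoherentD [IsLocallyNoetherian X] (K : DCoh.D X)
    (hq : DCoh.IsQCohD K) (m : ℤ) (h : DCoh.IsPseudoCoherentD m K) (i : ℤ) (hi : m ≤ i) :
    Coh.IsCoh (DCoh.HD K i) := by
  rw [isPseudoCoherentD_iff] at h
  haveI : (DCoh.HD K i).IsQuasicoherent := hq i
  refine ⟨hq i, isFiniteType_of_locally _ fun x => ?_⟩
  obtain ⟨U, j, hj, hx, P, α, hP, hα⟩ := h x
  have : IsLocallyNoetherian U := isLocallyNoetherian_of_isOpenImmersion j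
  obtain ⟨a1, a2⟩ := isCoh_HD_Q_of_isStrictlyPerfect hP i
  have a3 : ((DCoh.HD K i).restrict j).IsQuasicoherent := inferInstance
  haveI := hα.epi_of_le i hi
  exact ⟨U, j, hj, hx, isFiniteType_of_epi
    ((DerivedCategory.homologyFunctor U.Modules i).map α ≫ (HDresDIso j K i).hom)⟩

/-- **`Lf^*` preserves `D^-_Coh`** for a morphism of locally Noetherian schemes -/
theorem isCohD_Lpull [IsLocallyNoetherian X] [IsLocallyNoetherian Z] (f : Z ⟶ X)
    [DCoh.HasLpull f] (K : DCoh.D X) (hK : DCoh.IsCohD K) (b : ℤ)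
    (hb : ∀ i, b < i → IsZero (DCoh.HD K i)) :
    DCoh.IsCohD ((DCoh.Lpull f).obj K) ∧
      ∀ i, b < i → IsZero (DCoh.HD ((DCoh.Lpull f).obj K) i) := by
  have hq : DCoh.IsQCohD K := fun i => (hK i).1
  have hq' := isQCohD_Lpull f K hq
  constructor
  · intro i
    have hpc : DCoh.IsPseudoCoherentD i K :=
      isPseudoCoherentD_of_cohAbove i (b + 1 - i).toNat K b (by omega)
        ⟨hb, fun k _ => hK k⟩
    exact isCoh_HD_of_isPseudoCoherentD _ hq' i (isPseudoCoherentD_Lpull f i K hpc) i le_rfl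
  · obtain ⟨P, hP, hPb, ⟨eP⟩⟩ := exists_kflat_rep_isStrictlyLE K b hb
    intro i hi
    have e : (DCoh.Lpull f).obj K ≅ DerivedCategory.Q.obj ((pullCx f).obj P) :=
      (DCoh.Lpull f).mapIso eP.symm ≪≫ LpullIso f P hP
    have h1 : IsZero (((pullCx f).obj P).X i) :=
      (Scheme.Modules.pullback f).map_isZero (P.isZero_of_isStrictlyLE b i hi)
    have h2 : IsZero (((pullCx f).obj P).homology i) :=
      ShortComplex.isZero_homology_of_isZero_X₂ _ h1
    exact h2.of_iso ((DerivedCategory.homologyFunctor _ i).mapIso e ≪≫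
      (DerivedCategory.homologyFunctorFactors _ i).app _)

/-- a coherent module in degree zero is in `D_Coh` -/
lemma isCohD_inD (F : X.Modules) (hF : Coh.IsCoh F) : DCoh.IsCohD (DCoh.inD X F) := by
  intro i
  by_cases hi : i = 0
  · subst hi
    have q0 : F.IsQuasicoherent := hF.1
    have f0 : F.IsFiniteType := hF.2
    exact ⟨isQuasicoherent_of_iso (HDinDIso F).symm, isFiniteType_of_iso (HDinDIso F).symm⟩
  · have h := isZero_HD_inD F i hi
    exact ⟨isQuasicoherent_of_isZero h, isFiniteType_of_isZero h⟩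

/-- the complex with a coherent module in degree zero is in `D_Coh` -/
lemma isCohD_single (F : X.Modules) (hF : Coh.IsCoh F) :
    DCoh.IsCohD (DCoh.toD X ((HomologicalComplex.single X.Modules (ComplexShape.up ℤ) 0).obj F)) :=
  isCohD_of_iso ((DerivedCategory.singleFunctorIsoCompQ X.Modules 0).app F) (isCohD_inD F hF)

/-- **coherence of the local hypertor sheaves of two coherent modules** (S3533) -/
theorem isCoh_localTor {X Y S : Scheme.{u}} (f : X ⟶ S) (g : Y ⟶ S)
    [IsLocallyNoetherian X] [IsLocallyNoetherian (pullback f g)] (F : X.Modules) (G : Y.Modules)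
    (hF : Coh.IsCoh F) (hG : Coh.IsCoh G) [DCoh.HasLpull (pullback.fst f g)]
    [DCoh.HasLTensorCx ((HTor.pullCx (pullback.snd f g)).obj
      ((HomologicalComplex.single Y.Modules (ComplexShape.up ℤ) 0).obj G))] (n : ℤ) :
    Coh.IsCoh (DCoh.HD ((DCoh.LTensorCx ((HTor.pullCx (pullback.snd f g)).obj
      ((HomologicalComplex.single Y.Modules (ComplexShape.up ℤ) 0).obj G))).obj
        ((DCoh.Lpull (pullback.fst f g)).obj (DCoh.inD X F))) n) := by
  have h1 := isCohD_Lpull (pullback.fst f g) (DCoh.inD X F) (isCohD_inD F hF) 0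
    (fun i hi => isZero_HD_inD F i (by omega))
  have q0 : G.IsQuasicoherent := hG.1
  have f0 : G.IsFiniteType := hG.2
  have hG' : Coh.IsCoh ((Scheme.Modules.pullback (pullback.snd f g)).obj G) :=
    ⟨inferInstance, inferInstance⟩
  have e : (HTor.pullCx (pullback.snd f g)).obj
      ((HomologicalComplex.single Y.Modules (ComplexShape.up ℤ) 0).obj G) ≅
      (HomologicalComplex.single _ (ComplexShape.up ℤ) 0).obj
        ((Scheme.Modules.pullback (pullback.snd f g)).obj G) :=
    (HomologicalComplex.singleMapHomologicalComplex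
      (Scheme.Modules.pullback (pullback.snd f g)) (ComplexShape.up ℤ) 0).app G
  have h2 : DCoh.IsCohD (DCoh.toD _ ((HTor.pullCx (pullback.snd f g)).obj
      ((HomologicalComplex.single Y.Modules (ComplexShape.up ℤ) 0).obj G))) :=
    isCohD_of_iso (DerivedCategory.Q.mapIso e.symm) (isCohD_single _ hG')
  have h3 : ∃ b : ℤ, ∀ i, b < i → IsZero (DCoh.HD (DCoh.toD _ ((HTor.pullCx (pullback.snd f g)).obj
      ((HomologicalComplex.single Y.Modules (ComplexShape.up ℤ) 0).obj G))) i) := by
    refine ⟨0, fun i hi => ?_⟩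
    have h4 : IsZero (DCoh.HD (DCoh.inD _ ((Scheme.Modules.pullback (pullback.snd f g)).obj G)) i) :=
      isZero_HD_inD _ i (by omega)
    exact h4.of_iso ((DerivedCategory.homologyFunctor _ i).mapIso
      (DerivedCategory.Q.mapIso e ≪≫ ((DerivedCategory.singleFunctorIsoCompQ _ 0).app _).symm))
  exact (isCohD_LTensorCx _ _ h1.1 ⟨0, h1.2⟩ h2 h3).1 n

/-- homology vanishes above a termwise bound -/
lemma isZero_HD_toD_of_isZero_X (P : CochainComplex X.Modules ℤ) (b : ℤ)
    (hb : ∀ i : ℤ, b < i → IsZero (P.X i)) (i : ℤ) (hi : b < i) :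
    IsZero (DCoh.HD (DCoh.toD X P) i) :=
  (ShortComplex.isZero_homology_of_isZero_X₂ _ (hb i hi)).of_iso
    ((DerivedCategory.homologyFunctorFactors _ i).app P)

/-- flat pullback of a complex with coherent cohomology has coherent cohomology (quasi-coherent of
finite type; no Noetherian hypothesis) -/
theorem isCohD_pullCx_of_flat {Y : Scheme.{u}} (p : Z ⟶ Y) [Flat p] (Q : CochainComplex Y.Modules ℤ)
    (hQ : DCoh.IsCohD (DCoh.toD Y Q)) :
    DCoh.IsCohD (DCoh.toD Z ((HTor.pullCx p).obj Q)) := by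
  intro i
  have q0 : (DCoh.HD (DCoh.toD Y Q) i).IsQuasicoherent := (hQ i).1
  have f0 : (DCoh.HD (DCoh.toD Y Q) i).IsFiniteType := (hQ i).2
  have e0 : DCoh.HD (DCoh.toD Y Q) i ≅ Q.homology i :=
    (DerivedCategory.homologyFunctorFactors _ i).app Q
  have q1 : (Q.homology i).IsQuasicoherent := isQuasicoherent_of_iso e0
  have f1 : (Q.homology i).IsFiniteType := isFiniteType_of_iso e0
  have q2 : ((Scheme.Modules.pullback p).obj (Q.homology i)).IsQuasicoherent := inferInstance
  have f2 : ((Scheme.Modules.pullback p).obj (Q.homology i)).IsFiniteType := inferInstance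
  have e : (Scheme.Modules.pullback p).obj (Q.homology i) ≅
      DCoh.HD (DCoh.toD Z ((HTor.pullCx p).obj Q)) i :=
    ((mapHCHomologyIso (Scheme.Modules.pullback p) i).app Q).symm ≪≫
      ((DerivedCategory.homologyFunctorFactors _ i).app _).symm
  exact ⟨isQuasicoherent_of_iso e, isFiniteType_of_iso e⟩

/-- **coherence of the local hypertor sheaves of two complexes** (S3542) -/
theorem isCohD_localTor {X Y S : Scheme.{u}} (f : X ⟶ S) (g : Y ⟶ S) [Flat f]
    [IsLocallyNoetherian X] [IsLocallyNoetherian (pullback f g)]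
    (P : CochainComplex X.Modules ℤ) (Q : CochainComplex Y.Modules ℤ)
    (bP : ∃ b : ℤ, ∀ i : ℤ, b < i → IsZero (P.X i)) (bQ : ∃ b : ℤ, ∀ i : ℤ, b < i → IsZero (Q.X i))
    (hP : DCoh.IsCohD (DCoh.toD X P)) (hQ : DCoh.IsCohD (DCoh.toD Y Q))
    [DCoh.HasLpull (pullback.fst f g)] [DCoh.HasLTensorCx ((HTor.pullCx (pullback.snd f g)).obj Q)] :
    DCoh.IsCohD ((DCoh.LTensorCx ((HTor.pullCx (pullback.snd f g)).obj Q)).obj
      ((DCoh.Lpull (pullback.fst f g)).obj (DCoh.toD X P))) := by
  obtain ⟨b, hb⟩ := bP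
  obtain ⟨c, hc⟩ := bQ
  have h1 := isCohD_Lpull (pullback.fst f g) (DCoh.toD X P) hP b (isZero_HD_toD_of_isZero_X P b hb)
  have h2 := isCohD_pullCx_of_flat (pullback.snd f g) Q hQ
  have h3 : ∃ b : ℤ, ∀ i, b < i → IsZero (DCoh.HD (DCoh.toD _
      ((HTor.pullCx (pullback.snd f g)).obj Q)) i) :=
    ⟨c, isZero_HD_toD_of_isZero_X _ c
      (fun i hi => (Scheme.Modules.pullback (pullback.snd f g)).map_isZero (hc i hi))⟩
  exact (isCohD_LTensorCx _ _ h1.1 ⟨b, h1.2⟩ h2 h3).1

end

end Groth.Agent.Lib.Helper28.PerfTensor
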