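import Mathlib

/-! The set of elements `x` with `x^(p^n)` and `p^n x` in a subring is closed under addition. -/

namespace Groth.Agent.Lib.Helper28

variable {A : Type*} [CommRing A]

theorem pow_mul_pow_mem_of_mod {B : Subalgebra ℤ A} {p n : ℕ} {x : A}
    (h1 : x ^ (p ^ n) ∈ B) (h2 : (p : A) ^ n * x ∈ B) (j e : ℕ)
    (he : n * (j % p ^ n) ≤ e) : (p : A) ^ e * x ^ j ∈ B := by
  have hj : j = p ^ n * (j / p ^ n) + j % p ^ n := (Nat.div_add_mod j (p ^ n)).symm
  generalize j % p ^ n = r at hj he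
  generalize j / p ^ n = q at hj
  subst hj
  obtain ⟨d, rfl⟩ := Nat.exists_eq_add_of_le he
  have : (p : A) ^ (n * r + d) * x ^ (p ^ n * q + r) =
      (p : A) ^ d * ((x ^ (p ^ n)) ^ q * ((p : A) ^ n * x) ^ r) := by
    rw [pow_add, pow_add, pow_mul, pow_mul, mul_pow]
    ring
  rw [this]
  exact B.mul_mem (B.pow_mem (natCast_mem B p) _) (B.mul_mem (B.pow_mem h1 _) (B.pow_mem h2 _))

theorem pow_dvd_choose_prime_pow {p : ℕ} (hp : p.Prime) {n m a : ℕ}
    (ha : n * p ^ n + m * p ^ m + n + m ≤ a) (j : ℕ) (hj : j ≤ p ^ a) :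
    p ^ (n * (j % p ^ n) + m * ((p ^ a - j) % p ^ m)) ∣ (p ^ a).choose j := by
  have hpos : 0 < p := hp.pos
  have hr : j % p ^ n < p ^ n := Nat.mod_lt _ (pow_pos hpos n)
  have hr' : (p ^ a - j) % p ^ m < p ^ m := Nat.mod_lt _ (pow_pos hpos m)
  have hbound : n * (j % p ^ n) + m * ((p ^ a - j) % p ^ m) ≤ n * p ^ n + m * p ^ m :=
    add_le_add (Nat.mul_le_mul_left _ hr.le) (Nat.mul_le_mul_left _ hr'.le)
  have hna : n ≤ a := by omega
  have hma : m ≤ a := by omega
  by_cases h0 : j % p ^ n = 0 ∧ (p ^ a - j) % p ^ m = 0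
  · rw [h0.1, h0.2]; simp
  -- general facts
  have hjpos : j ≠ 0 := by
    rintro rfl
    apply h0
    refine ⟨by simp, ?_⟩
    rw [Nat.sub_zero]
    exact Nat.mod_eq_zero_of_dvd (pow_dvd_pow p hma)
  have hjlt : p ^ a - j ≠ 0 := by
    intro h
    have hj' : j = p ^ a := by omega
    apply h0
    refine ⟨?_, by rw [h]; simp⟩
    rw [hj']
    exact Nat.mod_eq_zero_of_dvd (pow_dvd_pow p hna)
  have hv1 := Nat.factorization_choose_prime_pow_add_factorization hp hj hjpos
  have hv2 := Nat.factorization_choose_prime_pow_add_factorization hp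
    (Nat.sub_le (p ^ a) j) hjlt
  rw [Nat.choose_symm hj] at hv2
  have hle : n * (j % p ^ n) + m * ((p ^ a - j) % p ^ m) ≤
      ((p ^ a).choose j).factorization p := by
    rw [not_and_or] at h0
    rcases h0 with h | h
    · have : j.factorization p < n := by
        by_contra hcon
        push Not at hcon
        apply h
        exact Nat.mod_eq_zero_of_dvd ((hp.pow_dvd_iff_le_factorization hjpos).mpr hcon)
      omega
    · have : (p ^ a - j).factorization p < m := by
        by_contra hcon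
        push Not at hcon
        apply h
        exact Nat.mod_eq_zero_of_dvd ((hp.pow_dvd_iff_le_factorization hjlt).mpr hcon)
      omega
  exact (pow_dvd_pow p hle).trans (Nat.ordProj_dvd _ p)

theorem add_pow_prime_pow_mem {B : Subalgebra ℤ A} {p n m : ℕ} (hp : p.Prime) {x y : A}
    (hx1 : x ^ (p ^ n) ∈ B) (hx2 : (p : A) ^ n * x ∈ B)
    (hy1 : y ^ (p ^ m) ∈ B) (hy2 : (p : A) ^ m * y ∈ B) :
    ∃ a : ℕ, (x + y) ^ (p ^ a) ∈ B ∧ (p : A) ^ a * (x + y) ∈ B := by
  refine ⟨n * p ^ n + m * p ^ m + n + m, ?_, ?_⟩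
  · rw [add_pow]
    refine B.sum_mem fun j hj => ?_
    rw [Finset.mem_range, Nat.lt_succ_iff] at hj
    obtain ⟨c, hc⟩ := pow_dvd_choose_prime_pow hp (le_refl _) j hj
    rw [hc]
    have e : x ^ j * y ^ (p ^ (n * p ^ n + m * p ^ m + n + m) - j) *
        ((p ^ (n * (j % p ^ n) + m * ((p ^ (n * p ^ n + m * p ^ m + n + m) - j) % p ^ m)) * c
          : ℕ) : A) =
        ((p : A) ^ (n * (j % p ^ n)) * x ^ j) *
        ((p : A) ^ (m * ((p ^ (n * p ^ n + m * p ^ m + n + m) - j) % p ^ m)) *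
          y ^ (p ^ (n * p ^ n + m * p ^ m + n + m) - j)) * (c : A) := by
      push_cast
      rw [pow_add]
      ring
    rw [e]
    exact B.mul_mem (B.mul_mem (pow_mul_pow_mem_of_mod hx1 hx2 j _ (le_refl _))
      (pow_mul_pow_mem_of_mod hy1 hy2 _ _ (le_refl _))) (natCast_mem B c)
  · rw [mul_add]
    refine B.add_mem ?_ ?_
    · have : (p : A) ^ (n * p ^ n + m * p ^ m + n + m) * x =
          (p : A) ^ (n * p ^ n + m * p ^ m + m) * ((p : A) ^ n * x) := by
        rw [← mul_assoc, ← pow_add]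
        congr 2; ring
      rw [this]
      exact B.mul_mem (B.pow_mem (natCast_mem B p) _) hx2
    · have : (p : A) ^ (n * p ^ n + m * p ^ m + n + m) * y =
          (p : A) ^ (n * p ^ n + m * p ^ m + n) * ((p : A) ^ m * y) := by
        rw [← mul_assoc, ← pow_add]
      rw [this]
      exact B.mul_mem (B.pow_mem (natCast_mem B p) _) hy2

end Groth.Agent.Lib.Helper28
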