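import Mathlib
import Groth.Agent.Lib.Helper28.PullTor
import Groth.Agent.Lib.Helper28.PerfTensor2
import Groth.Agent.Lib.Helper28.KFlatSite11
import Groth.Agent.Lib.Helper28.KFlatDerived
import Groth.Agent.Lib.Helper28.LpullPerfect
import Groth.Agent.Lib.Helper13.LTensorCxV

/-!
# Tor amplitude of `Lf^*G ⊗^L F` relative to a composition (helper28)

* `hasTorAmplitudeIn_resCx_tensor_of_kflat` (ring level)
* `hasTorAmplitudeD_LTensorCx_Lpull` (S6240)
* `isKFlat_unitCx_site`, `tensorCxUnitIso_site`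
* `hasTorAmplitudeD_Lpull` (S6188)
-/

set_option autoImplicit false

universe u

open CategoryTheory Limits AlgebraicGeometry MonoidalCategory

attribute [local instance] HasDerivedCategory.standard

namespace Groth.Agent.Lib.Helper28.PullTor

open Groth.Agent.Lib.Helper28.StalkTensor Groth.Agent.Lib.Helper13.DR
  Groth.Agent.Lib.Helper28.RelPerf
  Groth.Agent.Lib.Helper28.Lpull Groth.Agent.Lib.Helper28.KFlatSite Groth.Agent.Lib.Helper17

noncomputable section


section Ring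

variable {A B : Type u} [CommRing A] [CommRing B] (ψ : A →+* B)

/-- ring level: `L₀ ⊗_B Z` has tor amplitude `[a+c, b+d]` over `A` if `L₀` has tor amplitude `[a,b]`
over `B` and the K-flat `B`-complex `Z` has tor amplitude `[c,d]` over `A` -/
theorem hasTorAmplitudeIn_resCx_tensor_of_kflat (L₀ Z : DRing.Cx B) (a b c d : ℤ)
    (hL₀ : DRing.HasTorAmplitudeIn B a b (DerivedCategory.Q.obj L₀))
    (hZ : Groth.Agent.Lib.Helper13.HT.KFlat Z)
    (hZA : DRing.HasTorAmplitudeIn A c d (DerivedCategory.Q.obj ((DTen.resCx ψ).obj Z))) :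
    DRing.HasTorAmplitudeIn A (a + c) (b + d)
      (DerivedCategory.Q.obj ((DTen.resCx ψ).obj (L₀ ⊗ Z))) := by
  obtain ⟨F₀, hFv, hFfl, ⟨eF⟩⟩ := hL₀
  obtain ⟨e1⟩ := Groth.Agent.Lib.Helper13.DV.nonempty_iso_Q_tensor_of_iso_right Z hZ F₀ L₀ eF
  let e2 : DerivedCategory.Q.obj (F₀ ⊗ Z) ≅ DerivedCategory.Q.obj (L₀ ⊗ Z) :=
    DerivedCategory.Q.mapIso (DTen.braidCx F₀ Z) ≪≫ e1 ≪≫
      DerivedCategory.Q.mapIso (DTen.braidCx Z L₀)
  have h := Groth.Agent.Lib.Helper13.DV.hasTorAmplitudeIn_res_tensor ψ F₀ Z a b c d hFv hFfl hZA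
  exact hasTorAmplitudeIn_of_iso
    ((restrictDQIso ψ (F₀ ⊗ Z)).symm ≪≫ (DRing.restrictD ψ).mapIso e2 ≪≫
      restrictDQIso ψ (L₀ ⊗ Z)) h

end Ring

section Scheme

variable {X Y Z : Scheme.{u}} (f : X ⟶ Y) (g : Y ⟶ Z)

/-- **tor amplitude of `Lf^*G ⊗^L F` relative to the composition** -/
theorem hasTorAmplitudeD_LTensorCx_Lpull (F : CochainComplex X.Modules ℤ) (a b : ℤ)
    (hF : DerSch.HasTorAmplitude f a b F) (G : CochainComplex Y.Modules ℤ) (c d : ℤ)
    (hG : DerSch.HasTorAmplitude g c d G) [DCoh.HasLpull f] [DCoh.HasLTensorCx F] :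
    DerSch.HasTorAmplitudeD (f ≫ g) (a + c) (b + d)
      ((DCoh.LTensorCx F).obj ((DCoh.Lpull f).obj (DCoh.toD Y G))) := by
  obtain ⟨P, q, hPK, hq⟩ := Groth.Agent.Lib.Helper28.PerfTensor.exists_kflat_resolution' G
  have hiq : IsIso (DerivedCategory.Q.map q) := by
    rw [DerivedCategory.isIso_Q_map_iff_quasiIso]
    exact hq
  let eP : DerivedCategory.Q.obj P ≅ DerivedCategory.Q.obj G :=
    @asIso _ _ _ _ (DerivedCategory.Q.map q) hiq
  let T : CochainComplex X.Modules ℤ := (DCoh.tensorCx.obj ((pullCx f).obj P)).obj F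
  let e3 : (DCoh.LTensorCx F).obj ((DCoh.Lpull f).obj (DCoh.toD Y G)) ≅ DerivedCategory.Q.obj T :=
    (DCoh.LTensorCx F).mapIso ((DCoh.Lpull f).mapIso eP.symm ≪≫ LpullIso f P hPK) ≪≫
      LTensorCxIsoLeft' F _ (isKFlat_pullCx f P hPK)
  intro F'' ⟨eF''⟩ x
  refine hasTorAmplitudeAt_of_iso (f ≫ g) (e3.symm ≪≫ eF''.symm) _ _ x ?_
  have hP : DerSch.HasTorAmplitudeAt g c d P (f.base x) :=
    hasTorAmplitudeAt_of_iso g eP.symm c d _ (hG (f.base x))
  have h1 := hasTorAmplitudeIn_resCx_tensor_of_kflat (g.stalkMap (f.base x)).hom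
    ((DerSch.stalkCxOver f x).obj F) ((stalkCx (f.base x)).obj P) a b c d (hF x)
    (isKFlat_stalk_of_isKFlat (f.base x) P hPK) hP
  exact hasTorAmplitudeIn_of_iso (DerivedCategory.Q.mapIso
    ((DRing.restrictCx (g.stalkMap (f.base x)).hom).mapIso (stalkCxOverPullTensorIso f x P F).symm ≪≫
      Groth.Agent.Lib.Helper28.DCohStalk.stalkCxOverCompIso f g x T)) h1

end Scheme



section Site

variable {C : Type u} [SmallCategory C] {J : GrothendieckTopology C} {O : Sheaf J CommRingCat.{u}}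

/-- the unit complex is K-flat -/
theorem isKFlat_unitCx_site :
    ModSite.IsKFlat ((HomologicalComplex.single (ModSite.Mod O) (ComplexShape.up ℤ) 0).obj
      (ModSite.unit O)) := by
  rw [isKFlat_iff]
  haveI : PreservesFiniteLimits ((ModSite.tensorBi O).flip.obj (ModSite.unit O)) :=
    preservesFiniteLimits_of_natIso (rightUnitNatIso (O := O)).symm
  haveI : PreservesFiniteColimits ((ModSite.tensorBi O).flip.obj (ModSite.unit O)) :=
    preservesFiniteColimits_of_natIso (rightUnitNatIso (O := O)).symm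
  exact KFlatAbs.isKFlat_single (ModSite.tensorBi O) (ModSite.unit O) 0

/-- `P ⊗ O[0] ≅ P` -/
def tensorCxUnitIso_site (P : CochainComplex (ModSite.Mod O) ℤ) :
    ((ModSite.tensorCx O).obj P).obj
      ((HomologicalComplex.single (ModSite.Mod O) (ComplexShape.up ℤ) 0).obj (ModSite.unit O)) ≅ P :=
  (KFlatAbs.singleIso (ModSite.tensorBi O) (ModSite.unit O) P).symm ≪≫ tensorUnitCxIso P

end Site


section TorDim

variable {X Y Z : Scheme.{u}} (f : X ⟶ Y) (g : Y ⟶ Z)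

/-- **tor amplitude of `Lf^*G` relative to the composition, for `f` of finite tor dimension** -/
theorem hasTorAmplitudeD_Lpull (m : ℕ) (hf : DerSch.HasTorDimLE f m) [DCoh.HasLpull f]
    (G : CochainComplex Y.Modules ℤ) (c d : ℤ) (hG : DerSch.HasTorAmplitude g c d G) :
    DerSch.HasTorAmplitudeD (f ≫ g) (c - m) d ((DCoh.Lpull f).obj (DCoh.toD Y G)) := by
  have hU : DCoh.IsKFlat (DerSch.unitCx X) := isKFlat_unitCx_site (O := X.sheaf)
  haveI : DCoh.HasLTensorCx (DerSch.unitCx X) :=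
    Groth.Agent.Lib.Helper28.PerfTensor.hasLTensorCx_of_isKFlat' _ hU
  have h := hasTorAmplitudeD_LTensorCx_Lpull f g (DerSch.unitCx X) (-(m : ℤ)) 0 hf G c d hG
  obtain ⟨P'', hP'', ⟨eK⟩⟩ := exists_kflat_rep ((DCoh.Lpull f).obj (DCoh.toD Y G))
  let e : (DCoh.LTensorCx (DerSch.unitCx X)).obj ((DCoh.Lpull f).obj (DCoh.toD Y G)) ≅
      (DCoh.Lpull f).obj (DCoh.toD Y G) :=
    (DCoh.LTensorCx (DerSch.unitCx X)).mapIso eK.symm ≪≫
      LTensorCxIsoLeft' (DerSch.unitCx X) P'' hP'' ≪≫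
      DerivedCategory.Q.mapIso (tensorCxUnitIso_site (O := X.sheaf) P'') ≪≫ eK
  intro F'' ⟨eF''⟩ x
  have h' := h F'' ⟨eF'' ≪≫ e.symm⟩ x
  rw [show (-(m : ℤ) + c) = c - m by ring, zero_add] at h'
  exact h'

end TorDim

end

end Groth.Agent.Lib.Helper28.PullTor
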