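import Mathlib
import Groth.Prelude.Def_QCohCat
import Groth.Agent.Lib.Helper29.QCohCrit
import Groth.Agent.Lib.Helper29.QCohPullback
import Groth.Agent.Lib.Helper28.DCohRes28
set_option autoImplicit false

universe u

open CategoryTheory Limits AlgebraicGeometry ZeroObject

namespace Groth.Agent.Lib.Helper28.QCohAb

open Groth.Agent.Lib.Helper29.QCoh

noncomputable section

variable (X : Scheme.{u})

instance : (QCohCat.isQCoh X).IsClosedUnderIsomorphisms where
  of_iso e h := (SheafOfModules.isQuasicoherent X.ringCatSheaf).prop_of_iso e h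

instance : (QCohCat.isQCoh X).ContainsZero where
  exists_zero := ⟨0, isZero_zero _,
    Groth.Agent.Lib.Helper28.DCohRes.isQuasicoherent_of_isZero (isZero_zero _)⟩

instance : (QCohCat.isQCoh X).IsClosedUnderKernels where
  kernels_le := by
    rintro _ ⟨f, k, hk, ⟨h1, h2⟩⟩
    have h3 : (kernel f).IsQuasicoherent := @isQuasicoherent_kernel _ _ _ f h1 h2
    exact (QCohCat.isQCoh X).prop_of_iso
      (IsLimit.conePointUniqueUpToIso (kernelIsKernel f) hk) h3

instance : (QCohCat.isQCoh X).IsClosedUnderCokernels where
  cokernels_le := by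
    rintro _ ⟨f, k, hk, ⟨h1, h2⟩⟩
    have h3 : (cokernel f).IsQuasicoherent := @isQuasicoherent_cokernel _ _ _ f h1 h2
    exact (QCohCat.isQCoh X).prop_of_iso
      (IsColimit.coconePointUniqueUpToIso (cokernelIsCokernel f) hk) h3

instance : (QCohCat.isQCoh X).IsClosedUnderFiniteProducts where
  isClosedUnderLimitsOfShape J _ := by
    refine ObjectProperty.IsClosedUnderLimitsOfShape.mk' ?_
    rintro _ ⟨F, hF⟩
    let f : J → X.Modules := fun j => F.obj ⟨j⟩
    have hf : ∀ j, (f j).IsQuasicoherent := fun j => hF ⟨j⟩
    have h3 : (colimit (Discrete.functor f)).IsQuasicoherent :=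
      isQuasicoherent_colimit_aux (Discrete.functor f) (fun j => hf j.as)
    haveI : Fintype J := Fintype.ofFinite J
    haveI : HasFiniteBiproducts X.Modules := Abelian.hasFiniteBiproducts
    haveI : HasBiproductsOfShape J X.Modules := hasBiproductsOfShape_finite (J := J) (C := X.Modules)
    let e : colimit (Discrete.functor f) ≅ limit F :=
      (biproduct.isoCoproduct f).symm ≪≫ biproduct.isoProduct f ≪≫
        (HasLimit.isoOfNatIso (Discrete.natIsoFunctor (F := F))).symm
    exact (QCohCat.isQCoh X).prop_of_iso e h3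

instance : Abelian (QCohCat.QCoh X) :=
  inferInstanceAs (Abelian (QCohCat.isQCoh X).FullSubcategory)

instance preservesFiniteLimits_ι : PreservesFiniteLimits (QCohCat.isQCoh X).ι := by
  haveI : ∀ {M N : (QCohCat.isQCoh X).FullSubcategory} (f : M ⟶ N),
      PreservesLimit (parallelPair f 0) (QCohCat.isQCoh X).ι :=
    fun f => (QCohCat.isQCoh X).preservesKernels_ι f
  exact Functor.preservesFiniteLimits_of_preservesKernels _

instance preservesFiniteColimits_ι : PreservesFiniteColimits (QCohCat.isQCoh X).ι := by
  haveI : ∀ {M N : (QCohCat.isQCoh X).FullSubcategory} (f : M ⟶ N),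
      PreservesColimit (parallelPair f 0) (QCohCat.isQCoh X).ι :=
    fun f => (QCohCat.isQCoh X).preservesCokernels_ι f
  exact Functor.preservesFiniteColimits_of_preservesCokernels _

end

end Groth.Agent.Lib.Helper28.QCohAb
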