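import Mathlib
import Groth.Prelude.Def_DTor2
import Groth.Agent.Lib.Helper28.LpullExists
import Groth.Agent.Lib.Helper28.LpullPerfect
import Groth.Agent.Lib.Helper28.LTensorModComp
import Groth.Agent.Lib.Helper28.KFlatAbs7
import Groth.Agent.Lib.Helper28.StalkTensor9
import Groth.Agent.Lib.Helper28.StalkSky3
import Groth.Agent.Lib.Helper29.QCohQcqs

/-!
# Tor amplitude on a quasi-separated scheme can be tested on quasi-coherent modules (helper28)

* `hasLTensorMod`: the derived tensor product `- ⊗^L G` with a module exists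
* `isZero_homology_tensModCx_iff`: vanishing of `H^i(P ⊗ G)` is stalkwise
* `stalkPushTildeIso`: every `O_{X,x}`-module is the stalk of a quasi-coherent module
  (`pushTilde`, quasi-coherent when `X` is quasi-separated)
* `hasTorAmplitudeIn_of_qcoh_test` (S1073)
-/

set_option autoImplicit false

universe u

open CategoryTheory Limits AlgebraicGeometry Pretriangulated MonoidalCategory TopologicalSpace Opposite

attribute [local instance] HasDerivedCategory.standard

namespace Groth.Agent.Lib.Helper28.QcTest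

open Groth.Agent.Lib.Helper28.StalkTensor Groth.Agent.Lib.Helper28.KFlatTri
  Groth.Agent.Lib.Helper28.LeftDerivedTri Groth.Agent.Lib.Helper28.Lpull
  Groth.Agent.Lib.Helper28.KFlatSite

noncomputable section

section A


variable {X : Scheme.{u}}

/-- site level: termwise tensor product of an acyclic K-flat complex with a module is acyclic -/
theorem acyclic_tensorRight_site {C : Type u} [SmallCategory C] {J : GrothendieckTopology C}
    {O : Sheaf J CommRingCat.{u}} (G : ModSite.Mod O) (P : CochainComplex (ModSite.Mod O) ℤ)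
    (hP : ModSite.IsKFlat P) (hac : ∀ i : ℤ, IsZero (P.homology i)) (i : ℤ) :
    IsZero (((((ModSite.tensorBi O).flip.obj G).mapHomologicalComplex
      (ComplexShape.up ℤ)).obj P).homology i) := by
  have hP' : KFlatAbs.IsKFlat (ModSite.tensorBi O) P := (isKFlat_iff P).1 hP
  have hac' : HomologicalComplex.Acyclic P := fun n => by
    rw [HomologicalComplex.exactAt_iff_isZero_homology]
    exact hac n
  have h1 := KFlatAbs.acyclic_mapBifunctor_of_isKFlat_of_acyclic (T := ModSite.tensorBi O)
    (Groth.Agent.Lib.Helper17.Tensor.flipIso O) hres hP' hac'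
    ((HomologicalComplex.single (ModSite.Mod O) (ComplexShape.up ℤ) 0).obj G)
  have h2 := KFlatAbs.acyclic_of_iso (KFlatAbs.symmIso (ModSite.tensorBi O)
    (Groth.Agent.Lib.Helper17.Tensor.flipIso O) _ _) h1
  have h3 := KFlatAbs.acyclic_of_iso (KFlatAbs.singleIso (ModSite.tensorBi O) G P).symm h2
  have h4 := h3 i
  rw [HomologicalComplex.exactAt_iff_isZero_homology] at h4
  exact h4

/-- termwise tensor product of an acyclic K-flat complex with a module is acyclic -/
theorem acyclic_tensorRightMod (G : X.Modules) (P : CochainComplex X.Modules ℤ)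
    (hP : DCoh.IsKFlat P) (hac : ∀ i : ℤ, IsZero (P.homology i)) (i : ℤ) :
    IsZero ((((DCoh.tensorRightMod G).mapHomologicalComplex (ComplexShape.up ℤ)).obj P).homology i) :=
  acyclic_tensorRight_site (O := X.sheaf) G P hP hac i

theorem isZero_tensorModKh_obj (G : X.Modules)
    (Z : HomotopyCategory X.Modules (ComplexShape.up ℤ))
    (hZA : kfl X Z) (hZB : acy X Z) : IsZero ((DCoh.tensorModKh G).obj Z) := by
  obtain ⟨P, hP, ⟨i⟩⟩ := (kfl_iff X Z).1 hZA
  have hPB : acy X ((HomotopyCategory.quotient _ _).obj P) := ObjectProperty.prop_of_iso _ i hZB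
  replace hPB := (HomotopyCategory.quotient_obj_mem_subcategoryAcyclic_iff_exactAt P).1 hPB
  have hac := acyclic_tensorRightMod G P hP
    (fun n => (HomologicalComplex.exactAt_iff_isZero_homology _ _).1 (hPB n))
  refine IsZero.of_iso ?_ ((DCoh.tensorModKh G).mapIso i)
  exact isZero_Q_obj_of_acyclic _ hac

theorem inverts_tensorModKh (G : X.Modules) :
    ((acy X).inverseImage (kfl X).ι).trW.IsInvertedBy ((kfl X).ι ⋙ DCoh.tensorModKh G) := by
  intro P₁ P₂ s hs
  rw [ObjectProperty.trW_inverseImage_ι_iff] at hs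
  obtain ⟨Z, g, h, hT, hZ⟩ := hs
  have hT' := (DCoh.tensorModKh G).map_distinguished _ hT
  have h0 : IsZero ((DCoh.tensorModKh G).obj Z) := isZero_tensorModKh_obj G Z hZ.1 hZ.2
  exact (Triangle.isZero₃_iff_isIso₁ _ hT').1 h0

/-- **`- ⊗^L G` exists.** -/
theorem hasLTensorMod (G : X.Modules) : DCoh.HasLTensorMod G := by
  have h := hasLeftDerivedFunctor (A := kfl X) (B := acy X) (DCoh.tensorModKh G) (hasRes_kfl X)
    (inverts_tensorModKh G)
  rwa [← HomotopyCategory.quasiIso_eq_trW_subcategoryAcyclic] at h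


end A

section B


variable {X : Scheme.{u}} (x : X)

/-- `P_x ⊗ N`, termwise -/
abbrev tensCx (P : CochainComplex X.Modules ℤ) (N : ModuleCat.{u} (X.presheaf.stalk x)) :
    CochainComplex (ModuleCat.{u} (X.presheaf.stalk x)) ℤ :=
  ((tensorRight N).mapHomologicalComplex (ComplexShape.up ℤ)).obj ((stalkCx x).obj P)

/-- vanishing of `H^i(P_x ⊗ N)` -/
def TorVan (P : CochainComplex X.Modules ℤ) (N : ModuleCat.{u} (X.presheaf.stalk x)) (i : ℤ) : Prop :=
  IsZero ((tensCx x P N).homology i)

def tensCxIso (P : CochainComplex X.Modules ℤ) {N N' : ModuleCat.{u} (X.presheaf.stalk x)}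
    (e : N ≅ N') : tensCx x P N ≅ tensCx x P N' :=
  HomologicalComplex.Hom.isoOfComponents (fun n => whiskerLeftIso _ e)
    (fun i j _ => (whisker_exchange _ e.hom))

lemma TorVan.of_iso {P : CochainComplex X.Modules ℤ} {N N' : ModuleCat.{u} (X.presheaf.stalk x)}
    (e : N ≅ N') {i : ℤ} (h : TorVan x P N i) : TorVan x P N' i := by
  have e' : (tensCx x P N').homology i ≅ (tensCx x P N).homology i :=
    (HomologicalComplex.homologyFunctor _ _ i).mapIso (tensCxIso x P e).symm
  exact IsZero.of_iso h e'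

/-- the termwise tensor product with a module -/
abbrev tensModCx (G : X.Modules) (P : CochainComplex X.Modules ℤ) : CochainComplex X.Modules ℤ :=
  ((DCoh.tensorRightMod G).mapHomologicalComplex (ComplexShape.up ℤ)).obj P

/-- the stalk of the termwise tensor product of a complex with a module -/
def stalkCxTensorRightIso (G : X.Modules) (P : CochainComplex X.Modules ℤ) :
    (stalkCx x).obj (tensModCx G P) ≅ tensCx x P ((DerSch.stalkFunctor X x).obj G) :=
  HomologicalComplex.Hom.isoOfComponents (fun n => stalkTensorIso x (P.X n) G)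
    (fun i j _ => (stalkTensorIso_nat₁ x (P.d i j) G).symm)

lemma isZero_homology_tensModCx_iff (G : X.Modules) (P : CochainComplex X.Modules ℤ) (i : ℤ) :
    IsZero ((tensModCx G P).homology i) ↔
      ∀ x : X, TorVan x P ((DerSch.stalkFunctor X x).obj G) i := by
  constructor
  · intro h x
    have h1 : IsZero (((stalkCx x).obj (tensModCx G P)).homology i) :=
      IsZero.of_iso (Functor.map_isZero (DerSch.stalkFunctor X x) h)
        ((Groth.Agent.Lib.Helper28.DCohRes.mapHCHomologyIso (DerSch.stalkFunctor X x) i).app _)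
    have e' : (tensCx x P ((DerSch.stalkFunctor X x).obj G)).homology i ≅
        ((stalkCx x).obj (tensModCx G P)).homology i :=
      (HomologicalComplex.homologyFunctor _ _ i).mapIso (stalkCxTensorRightIso x G P).symm
    exact IsZero.of_iso h1 e'
  · intro h
    apply isZero_homology_of_forall_stalkCx
    intro x
    have e' : ((stalkCx x).obj (tensModCx G P)).homology i ≅
        (tensCx x P ((DerSch.stalkFunctor X x).obj G)).homology i :=
      (HomologicalComplex.homologyFunctor _ _ i).mapIso (stalkCxTensorRightIso x G P)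
    exact IsZero.of_iso (h x) e'


end B

section C


variable {X : Scheme.{u}} (x : X) (N : ModuleCat.{u} (X.presheaf.stalk x))

/-- the pushforward to `X` of the quasi-coherent module on `Spec O_{X,x}` attached to `N` -/
def pushTilde : X.Modules :=
  (Scheme.Modules.pushforward (X.fromSpecStalk x)).obj (tilde N)

/-- sections of `tilde N`, as an `R`-module -/
abbrev TS (U : (Spec (X.presheaf.stalk x)).Opens) : Type u :=
  (modulesSpecToSheaf.obj (tilde N)).presheaf.obj (op U)

/-- a section of `pushTilde` as a section of `tilde N` -/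
def toTS {V : X.Opens} (φ : (vP (pushTilde x N)).obj (op V)) :
    TS x N ((X.fromSpecStalk x) ⁻¹ᵁ V) := φ

/-- a section of `tilde N` as a section of `pushTilde` -/
def ofTS {V : X.Opens} (φ : TS x N ((X.fromSpecStalk x) ⁻¹ᵁ V)) :
    (vP (pushTilde x N)).obj (op V) := φ

/-- the section of `pushTilde` over `V` attached to an element of `N` -/
def σ (V : X.Opens) (n : N) : (vP (pushTilde x N)).obj (op V) :=
  ofTS x N ((tilde.toOpen N ((X.fromSpecStalk x) ⁻¹ᵁ V)).hom n)

lemma σ_add (V : X.Opens) (n n' : N) : σ x N V (n + n') = σ x N V n + σ x N V n' :=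
  map_add (tilde.toOpen N ((X.fromSpecStalk x) ⁻¹ᵁ V)).hom n n'

lemma σ_zero (V : X.Opens) : σ x N V 0 = 0 :=
  map_zero (tilde.toOpen N ((X.fromSpecStalk x) ⁻¹ᵁ V)).hom

lemma rs_σ {V W : X.Opens} (i : V ⟶ W) (n : N) :
    rs (vP (pushTilde x N)) i (σ x N W n) = σ x N V n := rfl

lemma smul_σ (V : X.Opens) (hV : x ∈ V) (r : X.presheaf.obj (op V)) (n : N) :
    r • σ x N V n = σ x N V (X.presheaf.germ V x hV r • n) := by
  have h1 : (tilde.toOpen N ((X.fromSpecStalk x) ⁻¹ᵁ V)).hom (X.presheaf.germ V x hV r • n) =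
      X.presheaf.germ V x hV r • (tilde.toOpen N ((X.fromSpecStalk x) ⁻¹ᵁ V)).hom n :=
    map_smul _ _ _
  change _ = ofTS x N _
  rw [h1]
  have h2 : ((X.fromSpecStalk x).app V).hom r =
      ((Spec (X.presheaf.stalk x)).presheaf.map ((X.fromSpecStalk x) ⁻¹ᵁ V).leTop.op).hom
        ((Scheme.ΓSpecIso (X.presheaf.stalk x)).inv.hom (X.presheaf.germ V x hV r)) := by
    rw [Scheme.fromSpecStalk_app hV]
    rfl
  exact congrArg (fun t => (t • (show Γ(tilde N, (X.fromSpecStalk x) ⁻¹ᵁ V) from
    (tilde.toOpen N ((X.fromSpecStalk x) ⁻¹ᵁ V)).hom n))) h2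

lemma preimage_eq_top (V : X.Opens) (hV : x ∈ V) : (X.fromSpecStalk x) ⁻¹ᵁ V = ⊤ := by
  refine (IsLocalRing.closedPoint_mem_iff (R := X.presheaf.stalk x) _).1 ?_
  change (X.fromSpecStalk x) (IsLocalRing.closedPoint (X.presheaf.stalk x)) ∈ V
  rw [Scheme.fromSpecStalk_closedPoint]
  exact hV

lemma toOpen_bijective (U : (Spec (X.presheaf.stalk x)).Opens) (hU : U = ⊤) :
    Function.Bijective (tilde.toOpen N U).hom := by
  subst hU
  exact (ConcreteCategory.isIso_iff_bijective (tilde.toOpen N ⊤)).1 inferInstance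

lemma σ_bijective (V : X.Opens) (hV : x ∈ V) : Function.Bijective (σ x N V) :=
  toOpen_bijective x N _ (preimage_eq_top x V hV)

/-- `N ⟶ (pushTilde N)_x` -/
def ψ : N →ₗ[X.presheaf.stalk x] St (vP (pushTilde x N)) x where
  toFun n := gm (vP (pushTilde x N)) ⊤ trivial (σ x N ⊤ n)
  map_add' n n' := by rw [σ_add, gm_add]
  map_smul' r n := by
    obtain ⟨V, hV, s, rfl⟩ := TopCat.Presheaf.exists_germ_eq X.presheaf r
    have h1 : ∀ m : N, gm (vP (pushTilde x N)) ⊤ trivial (σ x N ⊤ m) =
        gm (vP (pushTilde x N)) V hV (σ x N V m) := fun m => by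
      rw [← rs_σ x N (homOfLE le_top : V ⟶ ⊤) m, gm_res]
    simp only [RingHom.id_apply]
    rw [h1, h1, ← smul_σ x N V hV s n, gm_smul]

lemma ψ_bijective : Function.Bijective (ψ x N) := by
  constructor
  · rw [injective_iff_map_eq_zero]
    intro n hn
    have h0 : gm (vP (pushTilde x N)) (x := x) ⊤ trivial (σ x N ⊤ n) =
        gm (vP (pushTilde x N)) (x := x) ⊤ trivial 0 := by
      rw [gm_zero]
      exact hn
    obtain ⟨W, hW, iU, iV, h⟩ := gm_eq (vP (pushTilde x N)) (x := x) (U := ⊤) (V := ⊤) trivial trivial _ _ h0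
    rw [rs_σ, rs_zero, ← σ_zero x N W] at h
    exact (σ_bijective x N W hW).1 h
  · intro t
    obtain ⟨V, hV, φ, rfl⟩ := exists_gm_eq (vP (pushTilde x N)) t
    obtain ⟨n, rfl⟩ := (σ_bijective x N V hV).2 φ
    refine ⟨n, ?_⟩
    change gm (vP (pushTilde x N)) ⊤ trivial (σ x N ⊤ n) = _
    rw [← rs_σ x N (homOfLE le_top : V ⟶ ⊤) n, gm_res]

/-- **the stalk of `pushTilde N` at `x` is `N`** -/
def stalkPushTildeIso : (DerSch.stalkFunctor X x).obj (pushTilde x N) ≅ N :=
  (LinearEquiv.ofBijective (ψ x N) (ψ_bijective x N)).symm.toModuleIso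

instance isQuasicoherent_pushTilde [QuasiSeparatedSpace X] : (pushTilde x N).IsQuasicoherent := by
  unfold pushTilde
  exact Groth.Agent.Lib.Helper29.QCoh.isQuasicoherent_pushforward_of_qcqs (X.fromSpecStalk x) (tilde N)


end C

section Main

variable {X : Scheme.{u}}

/-- **tor amplitude can be tested on quasi-coherent modules** (quasi-separated schemes) -/
theorem hasTorAmplitudeIn_of_qcoh_test [QuasiSeparatedSpace X] (E : DCoh.D X) (a b : ℤ)
    (h : ∀ (F : X.Modules), Coh.IsQCoh F → ∀ [DCoh.HasLTensorMod F] (i : ℤ), (i < a ∨ b < i) →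
      IsZero (DCoh.HD ((DCoh.LTensorMod F).obj E) i)) :
    DCoh.HasTorAmplitudeIn a b E := by
  intro G _ i hi
  obtain ⟨P, hP, ⟨eP⟩⟩ := exists_kflat_rep E
  have key : ∀ (F : X.Modules) [DCoh.HasLTensorMod F],
      IsZero (DCoh.HD ((DCoh.LTensorMod F).obj E) i) ↔ IsZero ((tensModCx F P).homology i) := by
    intro F _
    have e : DCoh.HD ((DCoh.LTensorMod F).obj E) i ≅ (tensModCx F P).homology i :=
      (DerivedCategory.homologyFunctor X.Modules i).mapIso ((DCoh.LTensorMod F).mapIso eP.symm) ≪≫
        Groth.Agent.Lib.Helper28.LTensorModComp.HDLTensorModIso F P hP i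
    exact ⟨fun h => h.of_iso e.symm, fun h => h.of_iso e⟩
  rw [key G, isZero_homology_tensModCx_iff]
  intro x
  haveI := hasLTensorMod (pushTilde x ((DerSch.stalkFunctor X x).obj G))
  have h1 := h (pushTilde x ((DerSch.stalkFunctor X x).obj G))
    (isQuasicoherent_pushTilde x ((DerSch.stalkFunctor X x).obj G)) i hi
  rw [key (pushTilde x ((DerSch.stalkFunctor X x).obj G)), isZero_homology_tensModCx_iff] at h1
  exact TorVan.of_iso x (stalkPushTildeIso x ((DerSch.stalkFunctor X x).obj G)) (h1 x)

end Main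

end

end Groth.Agent.Lib.Helper28.QcTest
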