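import Mathlib

/-! Base change of "injective on spectra with purely inseparable residue field extensions". -/

namespace Groth.Agent.Lib.Helper28

open TensorProduct

universe u

variable {R S R' : Type u} [CommRing R] [CommRing S] [CommRing R'] [Algebra R S] [Algebra R R']

/-- Unpacking the residue-field statement into an elementwise statement. -/
theorem unpack_pow_mem_range (q : Ideal S) [q.IsPrime] (e : ℕ) (s : S)
    (h : ∃ n : ℕ, (algebraMap S q.ResidueField s) ^ e ^ n ∈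
      Set.range (Ideal.ResidueField.map (q.comap (algebraMap R S)) q (algebraMap R S) rfl)) :
    ∃ n : ℕ, ∃ u r : R, u ∉ q.comap (algebraMap R S) ∧
      algebraMap R S u * s ^ e ^ n - algebraMap R S r ∈ q := by
  obtain ⟨n, y, hy⟩ := h
  obtain ⟨z, rfl⟩ := IsLocalRing.residue_surjective y
  obtain ⟨r, u, rfl⟩ := IsLocalization.exists_mk'_eq (q.comap (algebraMap R S)).primeCompl z
  refine ⟨n, u, r, u.2, ?_⟩
  have h1 : IsLocalRing.residue (Localization.AtPrime (q.comap (algebraMap R S)))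
      (IsLocalization.mk' _ r u) *
      algebraMap R (q.comap (algebraMap R S)).ResidueField u =
      algebraMap R (q.comap (algebraMap R S)).ResidueField r := by
    rw [IsScalarTower.algebraMap_apply R (Localization.AtPrime (q.comap (algebraMap R S)))
      (q.comap (algebraMap R S)).ResidueField,
      IsScalarTower.algebraMap_apply R (Localization.AtPrime (q.comap (algebraMap R S)))
      (q.comap (algebraMap R S)).ResidueField,
      IsLocalRing.ResidueField.algebraMap_eq, ← map_mul, IsLocalization.mk'_spec]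
  have h2 := congrArg (Ideal.ResidueField.map (q.comap (algebraMap R S)) q (algebraMap R S) rfl) h1
  rw [map_mul, hy, Ideal.ResidueField.map_algebraMap, Ideal.ResidueField.map_algebraMap] at h2
  rw [← Ideal.algebraMap_residueField_eq_zero (I := q), map_sub, map_mul, map_pow, sub_eq_zero,
    mul_comm]
  exact h2

/-- Key uniform statement. -/
theorem key_uniform (p' : Ideal R') [p'.IsPrime] (q : Ideal S) [q.IsPrime] (e : ℕ)
    (hq : ∀ s : S, ∃ n : ℕ, ∃ u r : R, algebraMap R R' u ∉ p' ∧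
      algebraMap R S u * s ^ e ^ n - algebraMap R S r ∈ q)
    (t : R' ⊗[R] S) :
    ∃ N : ℕ, ∃ U ρ : R', U ∉ p' ∧ ∀ (K : Type u) [Field K] [ExpChar K e]
      (ψ : R' ⊗[R] S →+* K), (∀ x ∈ q, ψ (1 ⊗ₜ x) = 0) →
      ψ (U ⊗ₜ 1) * (ψ t) ^ e ^ N = ψ (ρ ⊗ₜ 1) := by
  have h1 : (1 : R') ∉ p' := (Ideal.ne_top_iff_one p').mp (Ideal.IsPrime.ne_top inferInstance)
  induction t using TensorProduct.induction_on with
  | zero =>
    refine ⟨0, 1, 0, h1, fun K _ _ ψ _ => ?_⟩
    simp
  | tmul r' s =>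
    obtain ⟨n, u, r, hu, hur⟩ := hq s
    refine ⟨n, algebraMap R R' u, r' ^ e ^ n * algebraMap R R' r, hu, fun K _ _ ψ hψ => ?_⟩
    rw [← map_pow, ← map_mul, ← sub_eq_zero, ← map_sub]
    have : (algebraMap R R' u ⊗ₜ[R] (1 : S)) * (r' ⊗ₜ[R] s) ^ e ^ n -
        (r' ^ e ^ n * algebraMap R R' r) ⊗ₜ[R] (1 : S) =
        ((r' ^ e ^ n) ⊗ₜ[R] (1 : S)) *
          ((1 : R') ⊗ₜ[R] (algebraMap R S u * s ^ e ^ n - algebraMap R S r)) := by
      rw [Algebra.TensorProduct.tmul_pow, Algebra.TensorProduct.tmul_mul_tmul,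
        Algebra.TensorProduct.tmul_mul_tmul, one_mul, mul_one, one_mul, TensorProduct.tmul_sub,
        Algebra.algebraMap_eq_smul_one u, Algebra.algebraMap_eq_smul_one r,
        Algebra.algebraMap_eq_smul_one (A := S) u, Algebra.algebraMap_eq_smul_one (A := S) r]
      simp only [smul_mul_assoc, one_mul, mul_smul_comm, mul_one, TensorProduct.smul_tmul,
        TensorProduct.tmul_smul]
    rw [this, map_mul, hψ _ hur, mul_zero]
  | add t1 t2 ih1 ih2 =>
    obtain ⟨N1, U1, ρ1, hU1, h1'⟩ := ih1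
    obtain ⟨N2, U2, ρ2, hU2, h2'⟩ := ih2
    refine ⟨N1 + N2, U1 ^ e ^ N2 * U2 ^ e ^ N1,
      ρ1 ^ e ^ N2 * U2 ^ e ^ N1 + ρ2 ^ e ^ N1 * U1 ^ e ^ N2, ?_, fun K _ _ ψ hψ => ?_⟩
    · intro h
      rcases Ideal.IsPrime.mem_or_mem inferInstance h with h | h
      · exact hU1 (Ideal.IsPrime.mem_of_pow_mem inferInstance _ h)
      · exact hU2 (Ideal.IsPrime.mem_of_pow_mem inferInstance _ h)
    · have e1 := h1' K ψ hψ
      have e2 := h2' K ψ hψ
      have f1 : ψ ((U1 ^ e ^ N2) ⊗ₜ 1) * (ψ t1) ^ e ^ (N1 + N2) = ψ ((ρ1 ^ e ^ N2) ⊗ₜ 1) := by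
        have := congrArg (· ^ e ^ N2) e1
        simp only [mul_pow, ← pow_mul, ← pow_add] at this
        have hU : ψ ((U1 ^ e ^ N2) ⊗ₜ[R] (1 : S)) = ψ (U1 ⊗ₜ 1) ^ e ^ N2 := by
          rw [← map_pow, Algebra.TensorProduct.tmul_pow, one_pow]
        have hρ : ψ ((ρ1 ^ e ^ N2) ⊗ₜ[R] (1 : S)) = ψ (ρ1 ⊗ₜ 1) ^ e ^ N2 := by
          rw [← map_pow, Algebra.TensorProduct.tmul_pow, one_pow]
        rw [hU, hρ, ← this]
      have f2 : ψ ((U2 ^ e ^ N1) ⊗ₜ 1) * (ψ t2) ^ e ^ (N1 + N2) = ψ ((ρ2 ^ e ^ N1) ⊗ₜ 1) := by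
        have := congrArg (· ^ e ^ N1) e2
        simp only [mul_pow, ← pow_mul, ← pow_add] at this
        have hU : ψ ((U2 ^ e ^ N1) ⊗ₜ[R] (1 : S)) = ψ (U2 ⊗ₜ 1) ^ e ^ N1 := by
          rw [← map_pow, Algebra.TensorProduct.tmul_pow, one_pow]
        have hρ : ψ ((ρ2 ^ e ^ N1) ⊗ₜ[R] (1 : S)) = ψ (ρ2 ⊗ₜ 1) ^ e ^ N1 := by
          rw [← map_pow, Algebra.TensorProduct.tmul_pow, one_pow]
        rw [hU, hρ, ← this, add_comm N2 N1]
      have g1 : ψ ((U1 ^ e ^ N2 * U2 ^ e ^ N1) ⊗ₜ[R] (1 : S)) =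
          ψ ((U1 ^ e ^ N2) ⊗ₜ 1) * ψ ((U2 ^ e ^ N1) ⊗ₜ 1) := by
        rw [← map_mul, Algebra.TensorProduct.tmul_mul_tmul, one_mul]
      have g2 : ψ ((ρ1 ^ e ^ N2 * U2 ^ e ^ N1 + ρ2 ^ e ^ N1 * U1 ^ e ^ N2) ⊗ₜ[R] (1 : S)) =
          ψ ((ρ1 ^ e ^ N2) ⊗ₜ 1) * ψ ((U2 ^ e ^ N1) ⊗ₜ 1) +
          ψ ((ρ2 ^ e ^ N1) ⊗ₜ 1) * ψ ((U1 ^ e ^ N2) ⊗ₜ 1) := by
        rw [← map_mul, ← map_mul, ← map_add, Algebra.TensorProduct.tmul_mul_tmul,
          Algebra.TensorProduct.tmul_mul_tmul, one_mul, TensorProduct.add_tmul]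
      rw [g1, g2, map_add, add_pow_expChar_pow, ← f1, ← f2]
      ring



theorem comap_comap_eq (q' : Ideal (R' ⊗[R] S)) :
    ((q'.comap (Algebra.TensorProduct.includeRight : S →ₐ[R] R' ⊗[R] S).toRingHom).comap
      (algebraMap R S)) =
    ((q'.comap (algebraMap R' (R' ⊗[R] S))).comap (algebraMap R R')) := by
  ext r
  simp only [Ideal.mem_comap]
  have : (Algebra.TensorProduct.includeRight : S →ₐ[R] R' ⊗[R] S).toRingHom (algebraMap R S r) =
      algebraMap R' (R' ⊗[R] S) (algebraMap R R' r) := by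
    rw [AlgHom.toRingHom_eq_coe, RingHom.coe_coe, AlgHom.commutes,
      IsScalarTower.algebraMap_apply R R' (R' ⊗[R] S)]
  rw [this]

section
variable (hpi : ∀ (q : Ideal S) [q.IsPrime] (x : q.ResidueField), ∃ n : ℕ,
    x ^ (ringExpChar (q.comap (algebraMap R S)).ResidueField) ^ n ∈
      Set.range (Ideal.ResidueField.map (q.comap (algebraMap R S)) q (algebraMap R S) rfl))
include hpi

/-- The data produced for a prime `q'` of the tensor product. -/
theorem exists_data (q' : Ideal (R' ⊗[R] S)) [q'.IsPrime] (t : R' ⊗[R] S) :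
    ∃ N : ℕ, ∃ U ρ : R', U ∉ q'.comap (algebraMap R' (R' ⊗[R] S)) ∧
      ∀ (K : Type u) [Field K]
      [ExpChar K (ringExpChar ((q'.comap (Algebra.TensorProduct.includeRight :
        S →ₐ[R] R' ⊗[R] S).toRingHom).comap (algebraMap R S)).ResidueField)]
      (ψ : R' ⊗[R] S →+* K),
      (∀ x ∈ q'.comap (Algebra.TensorProduct.includeRight : S →ₐ[R] R' ⊗[R] S).toRingHom,
        ψ (1 ⊗ₜ x) = 0) →
      ψ (U ⊗ₜ 1) * (ψ t) ^ (ringExpChar ((q'.comap (Algebra.TensorProduct.includeRight :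
        S →ₐ[R] R' ⊗[R] S).toRingHom).comap (algebraMap R S)).ResidueField) ^ N =
        ψ (ρ ⊗ₜ 1) := by
  apply key_uniform
  intro s
  obtain ⟨n, u, r, hu, hur⟩ := unpack_pow_mem_range
    (q'.comap (Algebra.TensorProduct.includeRight : S →ₐ[R] R' ⊗[R] S).toRingHom) _ s
    (hpi _ (algebraMap S _ s))
  refine ⟨n, u, r, ?_, hur⟩
  intro h
  apply hu
  rw [comap_comap_eq]
  exact h

theorem le_of_comap_eq (q1 q2 : Ideal (R' ⊗[R] S)) [q1.IsPrime] [q2.IsPrime]
    (hp' : q1.comap (algebraMap R' (R' ⊗[R] S)) = q2.comap (algebraMap R' (R' ⊗[R] S)))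
    (hq : q1.comap (Algebra.TensorProduct.includeRight : S →ₐ[R] R' ⊗[R] S).toRingHom =
      q2.comap (Algebra.TensorProduct.includeRight : S →ₐ[R] R' ⊗[R] S).toRingHom) :
    q1 ≤ q2 := by
  intro t ht
  obtain ⟨N, U, ρ, hU, hkey⟩ := exists_data hpi q1 t
  -- ExpChar instances
  have hE1 : ExpChar q1.ResidueField
      (ringExpChar ((q1.comap (Algebra.TensorProduct.includeRight :
        S →ₐ[R] R' ⊗[R] S).toRingHom).comap (algebraMap R S)).ResidueField) :=
    expChar_of_injective_ringHom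
      (f := (Ideal.ResidueField.map _ q1 (Algebra.TensorProduct.includeRight :
        S →ₐ[R] R' ⊗[R] S).toRingHom rfl).comp
        (Ideal.ResidueField.map _ _ (algebraMap R S) rfl)) (RingHom.injective _) _
  have hE2 : ExpChar q2.ResidueField
      (ringExpChar ((q1.comap (Algebra.TensorProduct.includeRight :
        S →ₐ[R] R' ⊗[R] S).toRingHom).comap (algebraMap R S)).ResidueField) :=
    expChar_of_injective_ringHom
      (f := (Ideal.ResidueField.map _ q2 (Algebra.TensorProduct.includeRight :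
        S →ₐ[R] R' ⊗[R] S).toRingHom hq).comp
        (Ideal.ResidueField.map _ _ (algebraMap R S) rfl)) (RingHom.injective _) _
  have k1 := hkey q1.ResidueField (algebraMap _ _) (fun x hx =>
    (Ideal.algebraMap_residueField_eq_zero (I := q1)).mpr hx)
  have k2 := hkey q2.ResidueField (algebraMap _ _) (fun x hx =>
    (Ideal.algebraMap_residueField_eq_zero (I := q2)).mpr (by rw [hq] at hx; exact hx))
  have hpos : (ringExpChar ((q1.comap (Algebra.TensorProduct.includeRight :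
        S →ₐ[R] R' ⊗[R] S).toRingHom).comap (algebraMap R S)).ResidueField) ^ N ≠ 0 :=
    pow_ne_zero _ (expChar_pos q1.ResidueField _).ne'
  have ht0 : algebraMap (R' ⊗[R] S) q1.ResidueField t = 0 :=
    (Ideal.algebraMap_residueField_eq_zero (I := q1)).mpr ht
  rw [ht0, zero_pow hpos, mul_zero] at k1
  have hρ1 : ρ ⊗ₜ[R] (1 : S) ∈ q1 := (Ideal.algebraMap_residueField_eq_zero (I := q1)).mp k1.symm
  have hρ2 : ρ ⊗ₜ[R] (1 : S) ∈ q2 := by
    have : ρ ∈ q1.comap (algebraMap R' (R' ⊗[R] S)) := hρ1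
    rw [hp'] at this
    exact this
  rw [(Ideal.algebraMap_residueField_eq_zero (I := q2)).mpr hρ2] at k2
  have hU2 : algebraMap (R' ⊗[R] S) q2.ResidueField (U ⊗ₜ 1) ≠ 0 := by
    intro h0
    apply hU
    rw [hp']
    exact (Ideal.algebraMap_residueField_eq_zero (I := q2)).mp h0
  have := (mul_eq_zero.mp k2).resolve_left hU2
  have := pow_eq_zero_iff hpos |>.mp this
  exact (Ideal.algebraMap_residueField_eq_zero (I := q2)).mp this

theorem comap_injective_baseChange
    (hinj : Function.Injective (PrimeSpectrum.comap (algebraMap R S))) :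
    Function.Injective (PrimeSpectrum.comap (algebraMap R' (R' ⊗[R] S))) := by
  intro q1 q2 h
  have hp' : q1.asIdeal.comap (algebraMap R' (R' ⊗[R] S)) =
      q2.asIdeal.comap (algebraMap R' (R' ⊗[R] S)) := congrArg PrimeSpectrum.asIdeal h
  have hq : q1.asIdeal.comap (Algebra.TensorProduct.includeRight :
      S →ₐ[R] R' ⊗[R] S).toRingHom =
      q2.asIdeal.comap (Algebra.TensorProduct.includeRight : S →ₐ[R] R' ⊗[R] S).toRingHom := by
    have := @hinj
      (PrimeSpectrum.comap (Algebra.TensorProduct.includeRight : S →ₐ[R] R' ⊗[R] S).toRingHom q1)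
      (PrimeSpectrum.comap (Algebra.TensorProduct.includeRight : S →ₐ[R] R' ⊗[R] S).toRingHom q2)
      (by
        ext1
        show (q1.asIdeal.comap _).comap _ = (q2.asIdeal.comap _).comap _
        rw [comap_comap_eq, comap_comap_eq, hp'])
    exact congrArg PrimeSpectrum.asIdeal this
  ext1
  exact le_antisymm (le_of_comap_eq hpi _ _ hp' hq) (le_of_comap_eq hpi _ _ hp'.symm hq.symm)

theorem pow_mem_range_baseChange (q' : Ideal (R' ⊗[R] S)) [q'.IsPrime] (x : q'.ResidueField) :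
    ∃ n : ℕ, x ^ (ringExpChar (q'.comap (algebraMap R' (R' ⊗[R] S))).ResidueField) ^ n ∈
      Set.range (Ideal.ResidueField.map (q'.comap (algebraMap R' (R' ⊗[R] S))) q'
        (algebraMap R' (R' ⊗[R] S)) rfl) := by
  have hE' : ExpChar (q'.comap (algebraMap R' (R' ⊗[R] S))).ResidueField
      (ringExpChar ((q'.comap (Algebra.TensorProduct.includeRight :
        S →ₐ[R] R' ⊗[R] S).toRingHom).comap (algebraMap R S)).ResidueField) :=
    expChar_of_injective_ringHom
      (f := Ideal.ResidueField.map _ _ (algebraMap R R') (comap_comap_eq q'))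
      (RingHom.injective _) _
  have hee := ringExpChar.eq (q'.comap (algebraMap R' (R' ⊗[R] S))).ResidueField
    (ringExpChar ((q'.comap (Algebra.TensorProduct.includeRight :
        S →ₐ[R] R' ⊗[R] S).toRingHom).comap (algebraMap R S)).ResidueField)
  rw [hee]
  have hE : ExpChar q'.ResidueField
      (ringExpChar ((q'.comap (Algebra.TensorProduct.includeRight :
        S →ₐ[R] R' ⊗[R] S).toRingHom).comap (algebraMap R S)).ResidueField) :=
    expChar_of_injective_ringHom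
      (f := (Ideal.ResidueField.map _ q' (Algebra.TensorProduct.includeRight :
        S →ₐ[R] R' ⊗[R] S).toRingHom rfl).comp
        (Ideal.ResidueField.map _ _ (algebraMap R S) rfl)) (RingHom.injective _) _
  have hT : ∀ t : R' ⊗[R] S, ∃ N : ℕ, (algebraMap (R' ⊗[R] S) q'.ResidueField t) ^
      (ringExpChar ((q'.comap (Algebra.TensorProduct.includeRight :
        S →ₐ[R] R' ⊗[R] S).toRingHom).comap (algebraMap R S)).ResidueField) ^ N ∈
      (Ideal.ResidueField.map (q'.comap (algebraMap R' (R' ⊗[R] S))) q'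
        (algebraMap R' (R' ⊗[R] S)) rfl).fieldRange := by
    intro t
    obtain ⟨N, U, ρ, hU, hkey⟩ := exists_data hpi q' t
    have k := hkey q'.ResidueField (algebraMap _ _) (fun x hx =>
      (Ideal.algebraMap_residueField_eq_zero (I := q')).mpr hx)
    refine ⟨N, ?_⟩
    have hU0 : algebraMap (R' ⊗[R] S) q'.ResidueField (U ⊗ₜ 1) ≠ 0 := by
      intro h0
      exact hU ((Ideal.algebraMap_residueField_eq_zero (I := q')).mp h0)
    have h3 : (algebraMap (R' ⊗[R] S) q'.ResidueField t) ^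
        (ringExpChar ((q'.comap (Algebra.TensorProduct.includeRight :
        S →ₐ[R] R' ⊗[R] S).toRingHom).comap (algebraMap R S)).ResidueField) ^ N =
        algebraMap (R' ⊗[R] S) q'.ResidueField (ρ ⊗ₜ 1) /
          algebraMap (R' ⊗[R] S) q'.ResidueField (U ⊗ₜ 1) := by
      rw [eq_div_iff hU0, mul_comm]; exact k
    rw [h3]
    refine div_mem ⟨algebraMap R' _ ρ, ?_⟩ ⟨algebraMap R' _ U, ?_⟩
    · exact Ideal.ResidueField.map_algebraMap _ _ _ _ ρ
    · exact Ideal.ResidueField.map_algebraMap _ _ _ _ U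
  obtain ⟨z, rfl⟩ := IsLocalRing.residue_surjective x
  obtain ⟨t, t2, rfl⟩ := IsLocalization.exists_mk'_eq q'.primeCompl z
  have ht2 : algebraMap (R' ⊗[R] S) q'.ResidueField t2 ≠ 0 := by
    intro h0
    exact t2.2 ((Ideal.algebraMap_residueField_eq_zero (I := q')).mp h0)
  have hx : IsLocalRing.residue (Localization.AtPrime q') (IsLocalization.mk' _ t t2) =
      algebraMap (R' ⊗[R] S) q'.ResidueField t / algebraMap (R' ⊗[R] S) q'.ResidueField t2 := by
    rw [eq_div_iff ht2]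
    rw [IsScalarTower.algebraMap_apply (R' ⊗[R] S) (Localization.AtPrime q') q'.ResidueField,
      IsScalarTower.algebraMap_apply (R' ⊗[R] S) (Localization.AtPrime q') q'.ResidueField,
      IsLocalRing.ResidueField.algebraMap_eq, ← map_mul, IsLocalization.mk'_spec]
  obtain ⟨N1, h1⟩ := hT t
  obtain ⟨N2, h2⟩ := hT t2
  refine ⟨N1 + N2, ?_⟩
  rw [hx, div_pow]
  have := div_mem
    (pow_mem h1 ((ringExpChar ((q'.comap (Algebra.TensorProduct.includeRight :
        S →ₐ[R] R' ⊗[R] S).toRingHom).comap (algebraMap R S)).ResidueField) ^ N2))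
    (pow_mem h2 ((ringExpChar ((q'.comap (Algebra.TensorProduct.includeRight :
        S →ₐ[R] R' ⊗[R] S).toRingHom).comap (algebraMap R S)).ResidueField) ^ N1))
  rw [← pow_mul, ← pow_mul, ← pow_add, ← pow_add, add_comm N2 N1] at this
  exact RingHom.mem_fieldRange.mp this

end

end Groth.Agent.Lib.Helper28
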