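import Mathlib
import Groth.Agent.Lib.Helper28.RelPC35
import Groth.Agent.Lib.Lead.Req.JointPoly
import Groth.Agent.Lib.Helper13.PCDesc1
set_option autoImplicit false
universe u
open CategoryTheory Limits AlgebraicGeometry Pretriangulated Opposite
namespace Groth.Agent.Lib.Helper28.RelPC
noncomputable section
attribute [local instance] HasDerivedCategory.standard
open Groth.Agent.Lib.Helper29.QCoh Groth.Agent.Lib.Helper28.DCohRes
  Groth.Agent.Lib.Helper13.PC Groth.Agent.Lib.Helper13.DR Groth.Agent.Lib.Helper28.FinPush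
  Groth.Agent.Lib.Helper28.ClPush Groth.Agent.Lib.Helper28.ClPushN Groth.Agent.Lib.Helper13.BS
  Groth.Agent.Lib.Helper13.PM

section Ring

attribute [local instance] MvPolynomial.algebraMvPolynomial

/-- flat base change of a chart, with the comparison of the extended complex -/
theorem exists_chart_extendCx_iso {B A B' A' : Type u} [CommRing B] [CommRing A] [CommRing B']
    [CommRing A'] [Algebra B B'] [Module.Flat B B'] (ρ : B →+* A) (γ : A →+* A') (ρ' : B' →+* A')
    (hsq : IsPushout (CommRingCat.ofHom ρ) (CommRingCat.ofHom (algebraMap B B'))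
      (CommRingCat.ofHom γ) (CommRingCat.ofHom ρ'))
    {k : ℕ} (φ : MvPolynomial (Fin k) B →+* A) (hφs : Function.Surjective φ)
    (hφC : φ.comp MvPolynomial.C = ρ) :
    ∃ φ' : MvPolynomial (Fin k) B' →+* A', Function.Surjective φ' ∧
      φ'.comp MvPolynomial.C = ρ' ∧
      Nonempty (DerivedCategory.Q.obj
        ((extendCx (MvPolynomial (Fin k) B) (MvPolynomial (Fin k) B')).obj
          ((HomologicalComplex.single (ModuleCat.{u} (MvPolynomial (Fin k) B))
            (ComplexShape.up ℤ) 0).obj ((ModuleCat.restrictScalars φ).obj (ModuleCat.of A A)))) ≅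
        (resSingle φ').obj (ModuleCat.of A' A')) := by
  let η : B →+* B' := algebraMap B B'
  have hw : γ.comp ρ = ρ'.comp η := by
    have := hsq.w
    exact congrArg CommRingCat.Hom.hom this
  letI : Algebra B A := ρ.toAlgebra
  letI : Algebra A A' := γ.toAlgebra
  letI : Algebra B' A' := ρ'.toAlgebra
  letI : Algebra B A' := (γ.comp ρ).toAlgebra
  haveI : IsScalarTower B A A' := .of_algebraMap_eq' rfl
  haveI : IsScalarTower B B' A' := .of_algebraMap_eq' hw
  haveI hpo : Algebra.IsPushout B A B' A' := CommRingCat.isPushout_iff_isPushout.mp hsq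
  let φ' : MvPolynomial (Fin k) B' →+* A' :=
    MvPolynomial.eval₂Hom ρ' (fun i => γ (φ (MvPolynomial.X i)))
  have hφ'C : φ'.comp MvPolynomial.C = ρ' := by
    refine RingHom.ext fun b => ?_
    exact MvPolynomial.eval₂Hom_C _ _ b
  have hcomm : γ.comp φ = φ'.comp (MvPolynomial.map η) := by
    refine MvPolynomial.ringHom_ext (fun b => ?_) (fun i => ?_)
    · have h1 : φ (MvPolynomial.C b) = ρ b := congrArg (fun t => t b) (congrArg DFunLike.coe hφC)
      change γ (φ (MvPolynomial.C b)) = φ' (MvPolynomial.map η (MvPolynomial.C b))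
      rw [h1, MvPolynomial.map_C]
      have h2 : φ' (MvPolynomial.C (η b)) = ρ' (η b) := MvPolynomial.eval₂Hom_C _ _ _
      rw [h2]
      exact congrArg (fun t => t b) (congrArg DFunLike.coe hw)
    · change γ (φ (MvPolynomial.X i)) = φ' (MvPolynomial.map η (MvPolynomial.X i))
      rw [MvPolynomial.map_X]
      exact (MvPolynomial.eval₂Hom_X' ρ' (fun i => γ (φ (MvPolynomial.X i))) i).symm
  have hφ's : Function.Surjective φ' := by
    intro a'
    obtain ⟨t, rfl⟩ := (Algebra.IsPushout.equiv B A B' A').surjective a'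
    suffices h : (Algebra.IsPushout.equiv B A B' A') t ∈ φ'.range from h
    induction t using TensorProduct.induction_on with
    | zero => rw [map_zero]; exact Subring.zero_mem _
    | tmul a b =>
      rw [Algebra.IsPushout.equiv_tmul]
      obtain ⟨p, rfl⟩ := hφs a
      refine Subring.mul_mem _ ⟨MvPolynomial.map η p, ?_⟩ ⟨MvPolynomial.C b, ?_⟩
      · exact (congrArg (fun t => t p) (congrArg DFunLike.coe hcomm)).symm
      · exact congrArg (fun t => t b) (congrArg DFunLike.coe hφ'C)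
    | add x y hx hy => rw [map_add]; exact Subring.add_mem _ hx hy
  refine ⟨φ', hφ's, hφ'C, ?_⟩
  letI : Algebra (MvPolynomial (Fin k) B) A := φ.toAlgebra
  letI : Algebra (MvPolynomial (Fin k) B') A' := φ'.toAlgebra
  letI : Algebra (MvPolynomial (Fin k) B) A' := (γ.comp φ).toAlgebra
  haveI : IsScalarTower (MvPolynomial (Fin k) B) A A' := .of_algebraMap_eq' rfl
  haveI : IsScalarTower (MvPolynomial (Fin k) B) (MvPolynomial (Fin k) B') A' :=
    .of_algebraMap_eq' hcomm
  haveI : IsScalarTower B (MvPolynomial (Fin k) B) A := .of_algebraMap_eq' hφC.symm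
  haveI : IsScalarTower B' (MvPolynomial (Fin k) B') A' := .of_algebraMap_eq' hφ'C.symm
  haveI : IsScalarTower B (MvPolynomial (Fin k) B') A' := .of_algebraMap_eq' (by
    change γ.comp ρ = φ'.comp (MvPolynomial.C.comp η)
    rw [← RingHom.comp_assoc, hφ'C, hw])
  haveI : IsScalarTower B (MvPolynomial (Fin k) B) A' := .of_algebraMap_eq' (by
    change γ.comp ρ = (γ.comp φ).comp MvPolynomial.C
    rw [RingHom.comp_assoc, hφC])
  have hpo2 : Algebra.IsPushout (MvPolynomial (Fin k) B) A (MvPolynomial (Fin k) B') A' :=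
    (Algebra.IsPushout.comp_iff B (MvPolynomial (Fin k) B) B' (MvPolynomial (Fin k) B')
      (T := A) (T' := A')).1 hpo
  haveI : Algebra.IsPushout (MvPolynomial (Fin k) B) (MvPolynomial (Fin k) B') A A' := hpo2.symm
  haveI : Module.Flat (MvPolynomial (Fin k) B) (MvPolynomial (Fin k) B') :=
    Module.Flat.isBaseChange B (MvPolynomial (Fin k) B) B' _
      (Algebra.IsPushout.out (R := B) (S := MvPolynomial (Fin k) B) (R' := B')
        (S' := MvPolynomial (Fin k) B'))
  -- the comparison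
  let R := MvPolynomial (Fin k) B
  let R' := MvPolynomial (Fin k) B'
  let M : ModuleCat.{u} R := (ModuleCat.restrictScalars.{u} (algebraMap R A)).obj (ModuleCat.of A A)
  let K : DRing.Cx R := (HomologicalComplex.single (ModuleCat.{u} R) (ComplexShape.up ℤ) 0).obj M
  let eK : (DerivedCategory.singleFunctor (ModuleCat.{u} R) 0).obj M ≅ DerivedCategory.Q.obj K :=
    (DerivedCategory.singleFunctorIsoCompQ (ModuleCat.{u} R) 0).app M
  have e2 : (ModuleCat.extendScalars.{u, u, u} (algebraMap R R')).obj M ≅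
      (ModuleCat.restrictScalars.{u} (algebraMap R' A')).obj (ModuleCat.of A' A') :=
    pbcIso R A R' A' (ModuleCat.of A A) ≪≫
      (ModuleCat.restrictScalars.{u} (algebraMap R' A')).mapIso (extendSelfIso A A')
  exact ⟨((DerivedCategory.singleFunctor (ModuleCat.{u} R') 0).mapIso e2.symm ≪≫
    (((ModuleCat.extendScalars.{u, u, u} (algebraMap R R')).mapDerivedCategorySingleFunctor
      0).app M).symm ≪≫ (flatBC R R').mapIso eK ≪≫ flatBCQIso R R' K).symm⟩

/-- descent of the chart test along a finite, jointly surjective family of flat base changes -/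
theorem isNPC_chart_of_jointly {B A : Type u} [CommRing B] [CommRing A] (ρ : B →+* A) {r : ℕ}
    (B' A' : Fin r → Type u) [∀ j, CommRing (B' j)] [∀ j, CommRing (A' j)]
    [∀ j, Algebra B (B' j)] [∀ j, Module.Flat B (B' j)]
    (γ : ∀ j, A →+* A' j) (ρ' : ∀ j, B' j →+* A' j)
    (hsq : ∀ j, IsPushout (CommRingCat.ofHom ρ) (CommRingCat.ofHom (algebraMap B (B' j)))
      (CommRingCat.ofHom (γ j)) (CommRingCat.ofHom (ρ' j)))
    (hsurj : ∀ p : PrimeSpectrum B, ∃ (j : Fin r) (q : PrimeSpectrum (B' j)),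
      PrimeSpectrum.comap (algebraMap B (B' j)) q = p)
    {k : ℕ} (φ : MvPolynomial (Fin k) B →+* A) (hφs : Function.Surjective φ)
    (hφC : φ.comp MvPolynomial.C = ρ) (n : ℤ)
    (H : ∀ (j : Fin r) (φ' : MvPolynomial (Fin k) (B' j) →+* A' j), Function.Surjective φ' →
      φ'.comp MvPolynomial.C = ρ' j →
      IsNPC (Pff (MvPolynomial (Fin k) (B' j))) n ((resSingle φ').obj (ModuleCat.of (A' j) (A' j)))) :
    IsNPC (Pff (MvPolynomial (Fin k) B)) n ((resSingle φ).obj (ModuleCat.of A A)) := by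
  obtain ⟨hS, hfin⟩ := Groth.Agent.Lib.Lead.Req.JointPoly.jointly_mvPolynomial B B' hsurj k
  haveI : ∀ j, Module.Flat (MvPolynomial (Fin k) B) (MvPolynomial (Fin k) (B' j)) := fun j =>
    Module.Flat.isBaseChange B (MvPolynomial (Fin k) B) (B' j) _
      (Algebra.IsPushout.out (R := B) (S := MvPolynomial (Fin k) B) (R' := B' j)
        (S' := MvPolynomial (Fin k) (B' j)))
  let M : ModuleCat.{u} (MvPolynomial (Fin k) B) :=
    (ModuleCat.restrictScalars φ).obj (ModuleCat.of A A)
  let K : DRing.Cx (MvPolynomial (Fin k) B) :=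
    (HomologicalComplex.single (ModuleCat.{u} (MvPolynomial (Fin k) B))
      (ComplexShape.up ℤ) 0).obj M
  let eK : (DerivedCategory.singleFunctor (ModuleCat.{u} (MvPolynomial (Fin k) B)) 0).obj M ≅
      DerivedCategory.Q.obj K :=
    (DerivedCategory.singleFunctorIsoCompQ (ModuleCat.{u} (MvPolynomial (Fin k) B)) 0).app M
  have key := isNPC_of_jointlyFaithful hS hfin K n (fun j => by
    obtain ⟨φ', hs, hC, ⟨e⟩⟩ := exists_chart_extendCx_iso ρ (γ j) (ρ' j) (hsq j) φ hφs hφC
    exact (H j φ' hs hC).of_iso e.symm)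
  exact key.of_iso eK.symm

end Ring

section Scheme

variable {X Y Y' : Scheme.{u}}

/-- a quasi-compact open has a finite cover by affine opens contained in it -/
lemma exists_finite_affine_cover (W : Y'.Opens) (hW : IsCompact (W : Set Y')) :
    ∃ (r : ℕ) (V' : Fin r → Y'.Opens), (∀ j, IsAffineOpen (V' j)) ∧ (∀ j, V' j ≤ W) ∧
      ∀ y ∈ W, ∃ j, y ∈ V' j := by
  have hex : ∀ y : W, ∃ V'' : Y'.Opens, IsAffineOpen V'' ∧ (y : Y') ∈ V'' ∧ V'' ≤ W := fun y =>
    exists_isAffineOpen_mem_and_subset (x := (y : Y')) (U := W) y.2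
  choose V'' hV''a hV''m hV''le using hex
  obtain ⟨t, ht⟩ := hW.elim_finite_subcover (fun y : W => ((V'' y : Y'.Opens) : Set Y'))
    (fun y => (V'' y).2) (fun y hy => Set.mem_iUnion.2 ⟨⟨y, hy⟩, hV''m ⟨y, hy⟩⟩)
  refine ⟨t.card, fun j => V'' (t.equivFin.symm j).1, fun j => hV''a _, fun j => hV''le _,
    fun y hy => ?_⟩
  obtain ⟨y', hy't, hyy'⟩ : ∃ y' ∈ t, y ∈ (V'' y' : Set Y') := by
    have := ht hy
    simpa only [Set.mem_iUnion, exists_prop] using this
  refine ⟨t.equivFin ⟨y', hy't⟩, ?_⟩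
  change y ∈ V'' (t.equivFin.symm (t.equivFin ⟨y', hy't⟩)).1
  rw [Equiv.symm_apply_apply]
  exact hyy'

lemma exists_prime_over (h : Y' ⟶ Y) [Surjective h] (V : Y.Opens) (hV : IsAffineOpen V) {r : ℕ}
    (V' : Fin r → Y'.Opens) (hV' : ∀ j, IsAffineOpen (V' j)) (hle : ∀ j, V' j ≤ h ⁻¹ᵁ V)
    (hcov : ∀ y ∈ h ⁻¹ᵁ V, ∃ j, y ∈ V' j) (p : PrimeSpectrum Γ(Y, V)) :
    ∃ (j : Fin r) (q : PrimeSpectrum Γ(Y', V' j)),
      PrimeSpectrum.comap (h.appLE V (V' j) (hle j)).hom q = p := by
  let p' : Spec Γ(Y, V) := p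
  let y : Y := hV.fromSpec p'
  have hyV : y ∈ V := by
    have : y ∈ Set.range hV.fromSpec := ⟨p', rfl⟩
    rw [hV.range_fromSpec] at this
    exact this
  obtain ⟨y', hy'⟩ := h.surjective y
  have hy'V : y' ∈ h ⁻¹ᵁ V := by
    change h y' ∈ V
    rw [hy']
    exact hyV
  obtain ⟨j, hj⟩ := hcov y' hy'V
  let q : Spec Γ(Y', V' j) := (hV' j).primeIdealOf ⟨y', hj⟩
  have hq : (hV' j).fromSpec q = y' := (hV' j).fromSpec_primeIdealOf ⟨y', hj⟩
  have key := IsAffineOpen.SpecMap_appLE_fromSpec h hV (hV' j) (hle j)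
  have h1 : hV.fromSpec ((Spec.map (h.appLE V (V' j) (hle j))) q) = h ((hV' j).fromSpec q) := by
    rw [← Scheme.Hom.comp_apply, key, Scheme.Hom.comp_apply]
  refine ⟨j, q, ?_⟩
  have h2 : hV.fromSpec ((Spec.map (h.appLE V (V' j) (hle j))) q) = hV.fromSpec p' := by
    rw [h1, hq, hy']
  exact hV.fromSpec.isOpenEmbedding.injective h2

/-- **S6227**: faithfully flat quasi-compact descent of `n`-pseudo-coherent morphisms -/
theorem isNPseudoCoherent_of_faithfullyFlat_baseChange (f : X ⟶ Y) [LocallyOfFiniteType f]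
    (n : ℤ) (h : Y' ⟶ Y) [Flat h] [Surjective h] [QuasiCompact h]
    (hf' : DerSch.IsNPseudoCoherent (pullback.snd f h) n) : DerSch.IsNPseudoCoherent f n := by
  have H : IsPullback (pullback.fst f h) (pullback.snd f h) f h := IsPullback.of_hasPullback f h
  have hf'' := (isNPseudoCoherent_iff_forall_isNPC (pullback.snd f h) n).1 hf'
  rw [isNPseudoCoherent_iff_forall_isNPC]
  intro U hU V hV hUV k φ hφ
  have hqc : IsCompact ((h ⁻¹ᵁ V : Y'.Opens) : Set Y') :=
    QuasiCompact.isCompact_preimage (f := h) _ V.2 hV.isCompact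
  obtain ⟨r, V', hV', hle, hcov⟩ := exists_finite_affine_cover (h ⁻¹ᵁ V) hqc
  letI : ∀ j, Algebra Γ(Y, V) Γ(Y', V' j) := fun j => (h.appLE V (V' j) (hle j)).hom.toAlgebra
  haveI : ∀ j, Module.Flat Γ(Y, V) Γ(Y', V' j) := fun j => h.flat_appLE hV (hV' j) (hle j)
  let U' : Fin r → (pullback f h).Opens := fun j =>
    (pullback.fst f h) ⁻¹ᵁ U ⊓ (pullback.snd f h) ⁻¹ᵁ (V' j)
  have hU' : ∀ j, IsAffineOpen (U' j) := fun j =>
    isAffineOpen_inf_preimage H hV (hV' j) hU (hle j) hUV rfl
  have hpo : ∀ j, IsPushout (f.appLE V U hUV) (h.appLE V (V' j) (hle j))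
      ((pullback.fst f h).appLE U (U' j) (by simp [U'])) ((pullback.snd f h).appLE (V' j) (U' j)
        (by simp [U'])) := fun j =>
    (isIso_pushoutSection_iff H (hle j) hUV rfl).1
      (isIso_pushoutSection_of_isAffineOpen H (hle j) hUV rfl hV (hV' j) hU)
  refine isNPC_chart_of_jointly (f.appLE V U hUV).hom (fun j => Γ(Y', V' j))
    (fun j => Γ(pullback f h, U' j))
    (fun j => ((pullback.fst f h).appLE U (U' j) (by simp [U'])).hom)
    (fun j => ((pullback.snd f h).appLE (V' j) (U' j) (by simp [U'])).hom)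
    (fun j => hpo j) (fun p => exists_prime_over h V hV V' hV' hle hcov p) φ hφ.1 hφ.2 n
    (fun j φ' hs hC => hf'' (U' j) (hU' j) (V' j) (hV' j) (by simp [U']) φ' ⟨hs, hC⟩)

end Scheme

end
end Groth.Agent.Lib.Helper28.RelPC
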