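import Mathlib
import Groth.Agent.Lib.Helper28.RelPC36
import Groth.Agent.Lib.Helper28.DCohRes21
import Groth.Agent.Lib.Helper28.RelPerf2
import Groth.Agent.Lib.Helper28.PushStalkCx
import Groth.Prelude.Def_KSix

set_option autoImplicit false

universe u

open CategoryTheory Limits AlgebraicGeometry TopologicalSpace

namespace Groth.Agent.Lib.Helper28.RelPC

noncomputable section

attribute [local instance] HasDerivedCategory.standard

open Groth.Agent.Lib.Helper29.QCoh Groth.Agent.Lib.Helper28.DCohRes Groth.Agent.Lib.Helper28.RelPerf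

variable {X P S : Scheme.{u}}

/-- perfect amplitude implies perfect -/
theorem isPerfect_of_hasPerfectAmplitudeIn {a b : ℤ} {K : DCoh.D X}
    (h : KSix.HasPerfectAmplitudeIn a b K) : DCoh.IsPerfect K := by
  intro x
  obtain ⟨V, hxV, hV⟩ := h x
  refine ⟨V, hxV, fun F hF => ?_⟩
  obtain ⟨E, hv, hfl, he⟩ := hV F hF
  exact ⟨E, ⟨⟨a, b, hv⟩, hfl⟩, he⟩

/-- local form: if on a neighbourhood of `i x` the pushforward is, in `D`, a complex of finite
locally free modules in `[a, b]`, then `F` has tor amplitude `[a, b]` at `x` relative to `i ≫ g`,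
`g` flat -/
theorem hasTorAmplitudeAt_comp_of_local (i : X ⟶ P) [IsClosedImmersion i] (g : P ⟶ S) [Flat g]
    (F : CochainComplex X.Modules ℤ) (a b : ℤ) (V : P.Opens)
    (E : CochainComplex (V : Scheme.{u}).Modules ℤ) (hv : DCoh.VanishesOutside E a b)
    (hfl : ∀ n : ℤ, FlatMod.IsFinLocFree (E.X n))
    (e : DerivedCategory.Q.obj ((DCoh.restrictCx V).obj ((DerSch.pushCx i).obj F)) ≅
      DerivedCategory.Q.obj E) (x : X) (hx : i x ∈ V) :
    DerSch.HasTorAmplitudeAt (i ≫ g) a b F x := by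
  rw [← PushStalkCx.hasTorAmplitudeAt_push_iff i (IsClosedImmersion.isClosedEmbedding i).isInducing x g F a b]
  let y : (V : Scheme.{u}) := ⟨i x, hx⟩
  have h1 : DerSch.HasTorAmplitudeAt (V.ι ≫ g) a b E y :=
    hasTorAmplitude_of_flat_terms (V.ι ≫ g) E a b hv
      (fun n => isFlatOver_of_isFinLocFree (V.ι ≫ g) (hfl n)) y
  have h2 := hasTorAmplitudeAt_of_iso (V.ι ≫ g) e.symm a b y h1
  exact (hasTorAmplitudeAt_restrict_iff g V.ι _ a b y).1 h2

/-- **S6218** -/
theorem hasPerfAmplitudeRel_comp_of_hasPerfectAmplitudeIn (i : X ⟶ P) [IsClosedImmersion i]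
    (g : P ⟶ S) [Flat g] [LocallyOfFinitePresentation g] (a b : ℤ)
    (F : CochainComplex X.Modules ℤ)
    (hF : KSix.HasPerfectAmplitudeIn a b (DCoh.toD P ((DerSch.pushCx i).obj F))) :
    DerSch.HasPerfAmplitudeRel (i ≫ g) a b F := by
  refine ⟨fun m => ?_, fun x => ?_⟩
  · rw [(isPseudoCoherentRel_comp_iff_of_closedImmersion_flat_lfp i g m F).1]
    exact isPseudoCoherentD_of_isPerfect (isPerfect_of_hasPerfectAmplitudeIn hF) m
  · obtain ⟨V, hxV, hV⟩ := hF (i x)
    obtain ⟨E, hv, hfl, ⟨e⟩⟩ := hV _ ⟨Iso.refl _⟩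
    exact hasTorAmplitudeAt_comp_of_local i g F a b V E hv hfl e x hxV

/-- **S6217**, the easy direction -/
theorem isPerfectRel_comp_of_isPerfect (i : X ⟶ P) [IsClosedImmersion i]
    (g : P ⟶ S) [Flat g] [LocallyOfFinitePresentation g]
    (F : CochainComplex X.Modules ℤ)
    (hF : DCoh.IsPerfect (DCoh.toD P ((DerSch.pushCx i).obj F))) :
    DerSch.IsPerfectRel (i ≫ g) F := by
  refine ⟨fun m => ?_, fun x => ?_⟩
  · rw [(isPseudoCoherentRel_comp_iff_of_closedImmersion_flat_lfp i g m F).1]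
    exact isPseudoCoherentD_of_isPerfect hF m
  · obtain ⟨V, hxV, hV⟩ := hF (i x)
    obtain ⟨E, ⟨⟨a, b, hv⟩, hfl⟩, ⟨e⟩⟩ := hV _ ⟨Iso.refl _⟩
    exact ⟨i ⁻¹ᵁ V, a, b, hxV, fun x' hx' =>
      hasTorAmplitudeAt_comp_of_local i g F a b V E hv hfl e x' hx'⟩

end

end Groth.Agent.Lib.Helper28.RelPC
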