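import Mathlib
import Groth.Agent.Lib.Helper28.RelPerf2
import Groth.Agent.Lib.Helper28.DCohTilde8
import Groth.Agent.Lib.Helper28.DCohTilde6

/-!
# Relatively perfect objects on affine schemes (helper28)
-/

set_option autoImplicit false

universe u

open CategoryTheory Limits AlgebraicGeometry TopologicalSpace Opposite

namespace Groth.Agent.Lib.Helper28.RelPerf

noncomputable section

attribute [local instance] HasDerivedCategory.standard

open Groth.Agent.Lib.Helper29.QCoh Groth.Agent.Lib.Helper28.DCohRes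
  Groth.Agent.Lib.Helper28.DCohStalk Groth.Agent.Lib.Helper28.DCohTilde
  Groth.Agent.Lib.Helper13.PC Groth.Agent.Lib.Helper13.DR

variable {X S : Scheme.{u}}

/-- on a quasi-compact scheme, locally finite tor amplitude is finite tor amplitude -/
theorem exists_hasTorAmplitude_of_locFiniteTorAmplitude [CompactSpace X] (f : X ⟶ S)
    (F : CochainComplex X.Modules ℤ) (h : DerSch.LocFiniteTorAmplitude f F) :
    ∃ a b : ℤ, DerSch.HasTorAmplitude f a b F := by
  choose V a b hx hV using h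
  obtain ⟨s, hs⟩ := isCompact_univ.elim_finite_subcover (fun x : X => ((V x : X.Opens) : Set X))
    (fun x => (V x).2) (fun x _ => Set.mem_iUnion.2 ⟨x, hx x⟩)
  obtain ⟨a₁, ha₁⟩ := (s.image (fun x => -a x)).exists_le
  obtain ⟨b₀, hb₀⟩ := (s.image b).exists_le
  obtain ⟨a₀, rfl⟩ : ∃ a₀ : ℤ, a₁ = -a₀ := ⟨-a₁, by simp⟩
  refine ⟨a₀, b₀, fun x => ?_⟩
  obtain ⟨y, hys, hxy⟩ : ∃ y ∈ s, x ∈ ((V y : X.Opens) : Set X) := by
    have := hs (Set.mem_univ x)
    simpa using this
  have h1 := ha₁ (-a y) (Finset.mem_image_of_mem (fun x => -a x) hys)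
  have h2 := hb₀ (b y) (Finset.mem_image_of_mem b hys)
  exact hasTorAmplitudeIn_mono (by omega) h2 (hV y x hxy)

lemma locFiniteTorAmplitude_of_hasTorAmplitude (f : X ⟶ S) (F : CochainComplex X.Modules ℤ)
    (a b : ℤ) (h : DerSch.HasTorAmplitude f a b F) : DerSch.LocFiniteTorAmplitude f F :=
  fun x => ⟨⊤, a, b, trivial, fun x' _ => h x'⟩

variable {R₀ R : CommRingCat.{u}} (ψ : R₀ ⟶ R) [PreservesFiniteLimits (tilde.functor R)]

theorem exists_hasTorAmplitudeIn_of_locHasFiniteRelTorDim (M : DerivedCategory (ModuleCat.{u} R))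
    (h : DCoh.LocHasFiniteRelTorDim (Spec.map ψ) ((DCoh.tildeD R).obj M)) :
    ∃ a b : ℤ, DRing.HasTorAmplitudeIn R₀ a b ((DRing.restrictD ψ.hom).obj M) := by
  let F : CochainComplex (Spec R).Modules ℤ := DerivedCategory.Q.objPreimage ((DCoh.tildeD R).obj M)
  let eF : DCoh.toD (Spec R) F ≅ (DCoh.tildeD R).obj M := DerivedCategory.Q.objObjPreimageIso _
  obtain ⟨a, b, hab⟩ := exists_hasTorAmplitude_of_locFiniteTorAmplitude (Spec.map ψ) F
    (locFiniteTorAmplitude_of_locHasFiniteRelTorDim (Spec.map ψ) h F eF)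
  exact ⟨a, b, hasTorAmplitudeIn_restrictD_of_hasTorAmplitude ψ M F ⟨eF⟩ a b hab⟩

theorem locHasFiniteRelTorDim_of_hasTorAmplitudeIn [Flat (Spec.map ψ)]
    (M : DerivedCategory (ModuleCat.{u} R)) (a b : ℤ)
    (h : DRing.HasTorAmplitudeIn R₀ a b ((DRing.restrictD ψ.hom).obj M)) :
    DCoh.LocHasFiniteRelTorDim (Spec.map ψ) ((DCoh.tildeD R).obj M) := by
  let F : CochainComplex (Spec R).Modules ℤ := DerivedCategory.Q.objPreimage ((DCoh.tildeD R).obj M)
  let eF : DCoh.toD (Spec R) F ≅ (DCoh.tildeD R).obj M := DerivedCategory.Q.objObjPreimageIso _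
  exact locHasFiniteRelTorDim_of_locFiniteTorAmplitude (Spec.map ψ) F eF
    (locFiniteTorAmplitude_of_hasTorAmplitude (Spec.map ψ) F a b
      (hasTorAmplitude_of_hasTorAmplitudeIn_restrictD ψ M F ⟨eF⟩ a b h))

end

end Groth.Agent.Lib.Helper28.RelPerf
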