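import Mathlib
import Groth.Agent.Lib.Helper28.RelPerf4
import Groth.Agent.Lib.Helper28.RelPerf3
import Groth.Agent.Lib.Helper28.Ds3
import Groth.Agent.Lib.Helper28.DCohTilde7
import Groth.Agent.Lib.Helper17.TD4
import Groth.Agent.Lib.Helper17.RGammaZPlus
import Groth.Agent.Lib.Helper13.DRingPC
import Groth.Prelude.Def_DualSh

set_option autoImplicit false

universe u

open CategoryTheory Limits AlgebraicGeometry TopologicalSpace Opposite

namespace Groth.Agent.Lib.Helper28.RelPerf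

noncomputable section

attribute [local instance] HasDerivedCategory.standard

open Groth.Agent.Lib.Helper29.QCoh Groth.Agent.Lib.Helper28.DCohRes
  Groth.Agent.Lib.Helper28.DCohStalk Groth.Agent.Lib.Helper28.DCohTilde
  Groth.Agent.Lib.Helper13.PC Groth.Agent.Lib.Helper13.DR Groth.Agent.Lib.Helper28.DescPC

variable {X S : Scheme.{u}}

/-- tor amplitude ascends along restriction of scalars along a bijective ring homomorphism -/
theorem hasTorAmplitudeIn_restrictCx_of_bijective {A B : Type u} [CommRing A] [CommRing B]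
    (φ : A →+* B) (hφ : Function.Bijective φ) (C : DRing.Cx B) (a b : ℤ)
    (h : DRing.HasTorAmplitudeIn B a b (DerivedCategory.Q.obj C)) :
    DRing.HasTorAmplitudeIn A a b (DerivedCategory.Q.obj ((DRing.restrictCx φ).obj C)) := by
  obtain ⟨G, hGv, hGfl, ⟨eG⟩⟩ := h
  refine ⟨(DRing.restrictCx φ).obj G, fun i hi => ?_, fun i => ?_, ⟨?_⟩⟩
  · exact (ModuleCat.restrictScalars φ).map_isZero (hGv i hi)
  · exact (Groth.Agent.Lib.Helper28.DCohStalk.flat_restrictScalars_iff φ hφ (G.X i)).2 (hGfl i)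
  · exact (restrictDQIso φ G).symm ≪≫ (DRing.restrictD φ).mapIso eG ≪≫ restrictDQIso φ _

/-- tor amplitude at a point does not see a further open immersion of the base (converse) -/
theorem hasTorAmplitudeAt_comp_openImmersion {Z Y S : Scheme.{u}} (g : Z ⟶ Y) (j : Y ⟶ S)
    [IsOpenImmersion j] (F : CochainComplex Z.Modules ℤ) (a b : ℤ) (z : Z)
    (h : DerSch.HasTorAmplitudeAt g a b F z) : DerSch.HasTorAmplitudeAt (g ≫ j) a b F z := by
  have h2 : DRing.HasTorAmplitudeIn (S.presheaf.stalk (j (g z))) a b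
      (DerivedCategory.Q.obj ((DRing.restrictCx (j.stalkMap (g z)).hom).obj
        ((DerSch.stalkCxOver g z).obj F))) :=
    hasTorAmplitudeIn_restrictCx_of_bijective (j.stalkMap (g z)).hom
      ((ConcreteCategory.isIso_iff_bijective _).1 inferInstance) _ a b h
  exact Groth.Agent.Lib.Helper13.DR.hasTorAmplitudeIn_of_iso (DerivedCategory.Q.mapIso
      (stalkCxOverCompIso g j z F)) h2

/-- restriction along an open immersion preserves `D_QCoh`. -/
lemma isQCohD_resD {U : Scheme.{u}} (j : U ⟶ X) [IsOpenImmersion j] (E : DCoh.D X)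
    (hE : DCoh.IsQCohD E) : DCoh.IsQCohD ((resD j).obj E) := by
  intro i
  haveI : (DCoh.HD E i).IsQuasicoherent := hE i
  exact (SheafOfModules.isQuasicoherent U.ringCatSheaf).prop_of_iso
    (HDresDIso j E i).symm
    (inferInstanceAs ((DCoh.HD E i).restrict j).IsQuasicoherent)

section Chart

variable (f : X ⟶ S) {U : X.Opens} (hU : IsAffineOpen U) {V : S.Opens} (hV : IsAffineOpen V)
  (hUV : U ≤ f ⁻¹ᵁ V)

/-- the representative of the chart object -/
abbrev chartCx (F : CochainComplex X.Modules ℤ) :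
    CochainComplex (Spec Γ(X, U)).Modules ℤ :=
  (resCx hU.isoSpec.inv).obj ((resCx U.ι).obj F)

/-- the chart object -/
abbrev chartObj (E : DCoh.D X) : DCoh.D (Spec Γ(X, U)) :=
  (DCoh.restrictD hU.isoSpec.inv).obj ((DCoh.restrictD U.ι).obj E)

def chartCxIso (E : DCoh.D X) (F : CochainComplex X.Modules ℤ) (eF : DCoh.toD X F ≅ E) :
    DCoh.toD _ (chartCx hU F) ≅ chartObj hU E :=
  ((resDQ hU.isoSpec.inv).app _).symm ≪≫
    (resD hU.isoSpec.inv).mapIso (((resDQ U.ι).app F).symm ≪≫ (resD U.ι).mapIso eF)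

include hV in
lemma hasTorAmplitudeAt_chartCx_iff (F : CochainComplex X.Modules ℤ) (a b : ℤ)
    (y : Spec Γ(X, U)) :
    DerSch.HasTorAmplitudeAt (Spec.map (f.appLE V U hUV)) a b (chartCx hU F) y ↔
      DerSch.HasTorAmplitudeAt f a b F (U.ι (hU.isoSpec.inv y)) := by
  have e : Spec.map (f.appLE V U hUV) ≫ hV.fromSpec = hU.isoSpec.inv ≫ (U.ι ≫ f) := by
    rw [IsAffineOpen.SpecMap_appLE_fromSpec f hV hU hUV, ← IsAffineOpen.isoSpec_inv_ι,
      Category.assoc]
  constructor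
  · intro h
    have h1 := hasTorAmplitudeAt_comp_openImmersion (Spec.map (f.appLE V U hUV)) hV.fromSpec
      (chartCx hU F) a b y h
    rw [e] at h1
    have h2 := (hasTorAmplitudeAt_restrict_iff (U.ι ≫ f) hU.isoSpec.inv
      ((resCx U.ι).obj F) a b y).1 h1
    exact (hasTorAmplitudeAt_restrict_iff f U.ι F a b _).1 h2
  · intro h
    have h2 := (hasTorAmplitudeAt_restrict_iff f U.ι F a b (hU.isoSpec.inv y)).2 h
    have h1 := (hasTorAmplitudeAt_restrict_iff (U.ι ≫ f) hU.isoSpec.inv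
      ((resCx U.ι).obj F) a b y).2 h2
    rw [← e] at h1
    exact hasTorAmplitudeAt_of_comp_openImmersion (Spec.map (f.appLE V U hUV)) hV.fromSpec
      (chartCx hU F) a b y h1

end Chart

section Chart2

variable [∀ R : CommRingCat.{u}, PreservesFiniteLimits (tilde.functor R)]
variable (f : X ⟶ S) {U : X.Opens} (hU : IsAffineOpen U) {V : S.Opens} (hV : IsAffineOpen V)
  (hUV : U ≤ f ⁻¹ᵁ V)

include hV in
theorem isRelPerfect_of_chart (E : DCoh.D X) (hPC : ∀ m : ℤ, DCoh.IsPseudoCoherentD m E)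
    (hT : DCoh.LocHasFiniteRelTorDim f E) (M : DerivedCategory (ModuleCat.{u} Γ(X, U)))
    (e : chartObj hU E ≅ (DCoh.tildeD Γ(X, U)).obj M) :
    @Dual2.IsRelPerfect Γ(S, V) Γ(X, U) _ _ (f.appLE V U hUV).hom.toAlgebra M := by
  let F : CochainComplex X.Modules ℤ := DerivedCategory.Q.objPreimage E
  let eF : DCoh.toD X F ≅ E := DerivedCategory.Q.objObjPreimageIso _
  let eG : DCoh.toD _ (chartCx hU F) ≅ (DCoh.tildeD Γ(X, U)).obj M := chartCxIso hU E F eF ≪≫ e
  refine ⟨?_, ?_⟩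
  · rw [isPseudoCoherent'_iff_forall]
    intro m
    apply isPseudoCoherent_of_isPseudoCoherentD_tildeD
    exact isPseudoCoherentD_of_iso e
      (isPseudoCoherentD_resD (isPseudoCoherentD_resD (hPC m) U.ι) hU.isoSpec.inv)
  · have hloc : DerSch.LocFiniteTorAmplitude f F :=
      locFiniteTorAmplitude_of_locHasFiniteRelTorDim f hT F eF
    have hlocG : DerSch.LocFiniteTorAmplitude (Spec.map (f.appLE V U hUV)) (chartCx hU F) := by
      intro y
      obtain ⟨W, a, b, hxW, hW⟩ := hloc (U.ι (hU.isoSpec.inv y))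
      refine ⟨(hU.isoSpec.inv ≫ U.ι) ⁻¹ᵁ W, a, b, hxW, fun y' hy' => ?_⟩
      exact (hasTorAmplitudeAt_chartCx_iff f hU hV hUV F a b y').2 (hW _ hy')
    obtain ⟨a, b, hab⟩ := exists_hasTorAmplitude_of_locFiniteTorAmplitude
      (Spec.map (f.appLE V U hUV)) (chartCx hU F) hlocG
    exact ⟨a, b, hasTorAmplitudeIn_restrictD_of_hasTorAmplitude (f.appLE V U hUV) M
      (chartCx hU F) ⟨eG⟩ a b hab⟩

include hV in
theorem chart_of_isRelPerfect (E : DCoh.D X) (hE : DCoh.IsQCohD E)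
    (h : ∀ M : DerivedCategory (ModuleCat.{u} Γ(X, U)),
      Nonempty (chartObj hU E ≅ (DCoh.tildeD Γ(X, U)).obj M) →
        @Dual2.IsRelPerfect Γ(S, V) Γ(X, U) _ _ (f.appLE V U hUV).hom.toAlgebra M)
    (F : CochainComplex X.Modules ℤ) (eF : DCoh.toD X F ≅ E) :
    (∀ m : ℤ, DCoh.IsPseudoCoherentD m (chartObj hU E)) ∧
      ∃ a b : ℤ, ∀ x' : X, x' ∈ U → DerSch.HasTorAmplitudeAt f a b F x' := by
  have hq : DCoh.IsQCohD (chartObj hU E) := isQCohD_resD _ _ (isQCohD_resD _ _ hE)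
  obtain ⟨M, ⟨eM⟩⟩ := ((Groth.Agent.Lib.Helper17.TD4.main Γ(X, U)).2.2 (chartObj hU E)).1 hq
  obtain ⟨hpc, a, b, hab⟩ := h M ⟨eM.symm⟩
  let eG : DCoh.toD _ (chartCx hU F) ≅ (DCoh.tildeD Γ(X, U)).obj M :=
    chartCxIso hU E F eF ≪≫ eM.symm
  refine ⟨fun m => ?_, a, b, fun x' hx' => ?_⟩
  · exact isPseudoCoherentD_of_iso eM (isPseudoCoherentD_tildeD_of_isPseudoCoherent _ M m
      ((isPseudoCoherent'_iff_forall M).1 hpc m))
  · have hG := hasTorAmplitude_of_hasTorAmplitudeIn_restrictD (f.appLE V U hUV) M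
      (chartCx hU F) ⟨eG⟩ a b hab
    have h1 := (hasTorAmplitudeAt_chartCx_iff f hU hV hUV F a b
      (hU.isoSpec.hom ⟨x', hx'⟩)).1 (hG _)
    have h2 : U.ι (hU.isoSpec.inv (hU.isoSpec.hom ⟨x', hx'⟩)) = x' := by
      have := congrArg (fun g : (U : Scheme.{u}) ⟶ (U : Scheme.{u}) => g ⟨x', hx'⟩)
        hU.isoSpec.hom_inv_id
      simp only [Scheme.Hom.comp_apply] at this
      rw [this]
      rfl
    rw [h2] at h1
    exact h1

end Chart2

section Main

variable [∀ R : CommRingCat.{u}, PreservesFiniteLimits (tilde.functor R)]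
variable (f : X ⟶ S)

theorem relPerfect_of_cover [Flat f] (E : DCoh.D X) (hE : DCoh.IsQCohD E)
    (ι : Type u) (V : ι → S.Opens) (hV : ∀ i, IsAffineOpen (V i)) (hVcov : ⨆ i, V i = ⊤)
    (κ : ι → Type u) (U : ∀ i, κ i → X.Opens) (hU : ∀ i j, IsAffineOpen (U i j))
    (hUV : ∀ i j, U i j ≤ f ⁻¹ᵁ V i) (hUcov : ∀ i, ⨆ j, U i j = f ⁻¹ᵁ V i)
    (h : ∀ (i : ι) (j : κ i) (M : DerivedCategory (ModuleCat.{u} Γ(X, U i j))),
      Nonempty ((DCoh.restrictD (hU i j).isoSpec.inv).obj ((DCoh.restrictD (U i j).ι).obj E) ≅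
          (DCoh.tildeD Γ(X, U i j)).obj M) →
        @Dual2.IsRelPerfect Γ(S, V i) Γ(X, U i j) _ _
          (f.appLE (V i) (U i j) (hUV i j)).hom.toAlgebra M) :
    (∀ m : ℤ, DCoh.IsPseudoCoherentD m E) ∧ DCoh.LocHasFiniteRelTorDim f E := by
  have hx : ∀ x : X, ∃ i j, x ∈ U i j := by
    intro x
    have h1 : f x ∈ (⨆ i, V i) := by rw [hVcov]; trivial
    obtain ⟨i, hi⟩ := Opens.mem_iSup.1 h1
    have h2 : x ∈ f ⁻¹ᵁ V i := hi
    rw [← hUcov i] at h2
    obtain ⟨j, hj⟩ := Opens.mem_iSup.1 h2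
    exact ⟨i, j, hj⟩
  let F : CochainComplex X.Modules ℤ := DerivedCategory.Q.objPreimage E
  let eF : DCoh.toD X F ≅ E := DerivedCategory.Q.objObjPreimageIso _
  refine ⟨fun m => isPseudoCoherentD_of_locally fun x => ?_, ?_⟩
  · obtain ⟨i, j, hxU⟩ := hx x
    obtain ⟨hpc, -⟩ := chart_of_isRelPerfect f (hU i j) (hV i) (hUV i j) E hE (h i j) F eF
    refine ⟨Spec Γ(X, U i j), (hU i j).isoSpec.inv ≫ (U i j).ι, inferInstance, ?_, ?_⟩
    · rw [IsAffineOpen.isoSpec_inv_ι, (hU i j).range_fromSpec]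
      exact hxU
    · exact isPseudoCoherentD_of_iso ((resDComp _ _).app E).symm (hpc m)
  · rw [locHasFiniteRelTorDim_iff_locTorD, locTorD_iff_locFiniteTorAmplitude f E F eF]
    intro x
    obtain ⟨i, j, hxU⟩ := hx x
    obtain ⟨-, a, b, hab⟩ := chart_of_isRelPerfect f (hU i j) (hV i) (hUV i j) E hE (h i j) F eF
    exact ⟨U i j, a, b, hxU, hab⟩

/-- **S7278** -/
theorem relPerfect_iff_affineLocally [Flat f] (E : DCoh.D X) (hE : DCoh.IsQCohD E) :
    ((∀ m : ℤ, DCoh.IsPseudoCoherentD m E) ∧ DCoh.LocHasFiniteRelTorDim f E) ↔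
      ∀ (U : X.Opens) (hU : IsAffineOpen U) (V : S.Opens) (hV : IsAffineOpen V) (hUV : U ≤ f ⁻¹ᵁ V)
        (M : DerivedCategory (ModuleCat.{u} Γ(X, U))),
        Nonempty ((DCoh.restrictD hU.isoSpec.inv).obj ((DCoh.restrictD U.ι).obj E) ≅
          (DCoh.tildeD Γ(X, U)).obj M) →
          @Dual2.IsRelPerfect Γ(S, V) Γ(X, U) _ _ (f.appLE V U hUV).hom.toAlgebra M := by
  constructor
  · rintro ⟨hPC, hT⟩ U hU V hV hUV M ⟨e⟩
    exact isRelPerfect_of_chart f hU hV hUV E hPC hT M e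
  · intro h
    refine relPerfect_of_cover f E hE S.affineOpens (fun i => i.1) (fun i => i.2)
      (iSup_affineOpens_eq_top S)
      (fun i => {U' : X.affineOpens // U'.1 ≤ f ⁻¹ᵁ i.1}) (fun i j => j.1.1) (fun i j => j.1.2)
      (fun i j => j.2) (fun i => ?_) (fun i j M hM => h j.1.1 j.1.2 i.1 i.2 j.2 M hM)
    refine le_antisymm (iSup_le fun j => j.2) ?_
    intro x hx
    obtain ⟨W, hW, hxW, hWle⟩ := exists_isAffineOpen_mem_and_subset (x := x)
      (U := f ⁻¹ᵁ i.1) hx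
    exact Opens.mem_iSup.2 ⟨⟨⟨W, hW⟩, hWle⟩, hxW⟩

end Main

end

end Groth.Agent.Lib.Helper28.RelPerf
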