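import Mathlib
import Groth.Agent.Lib.Helper28.RelPC37
import Groth.Agent.Lib.Helper28.LpullChart
import Groth.Agent.Lib.Helper28.RelPerf5
import Groth.Agent.Lib.Helper13.RelPCBC2

set_option autoImplicit false

universe u

open CategoryTheory Limits AlgebraicGeometry TopologicalSpace Opposite

namespace Groth.Agent.Lib.Helper28.RelPC

noncomputable section

attribute [local instance] HasDerivedCategory.standard

open Groth.Agent.Lib.Helper29.QCoh Groth.Agent.Lib.Helper28.DCohRes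
  Groth.Agent.Lib.Helper13.PC Groth.Agent.Lib.Helper13.DR Groth.Agent.Lib.Helper28.Lpull
  Groth.Agent.Lib.Helper28.RelPerf

section Ring

variable {R A B : Type u} [CommRing R] [CommRing A] [CommRing B]
  [Algebra R A] [Algebra A B] [Algebra R B] [IsScalarTower R A B]

/-- variant of `isRelPC_LBaseChange` with an explicit pseudo-coherent presentation -/
theorem isRelPC_LBaseChange_of_isPCHom [DRing.HasLBaseChange (algebraMap A B)] {k : ℕ}
    (β : MvPolynomial (Fin k) A →ₐ[A] B) (hβ : Function.Surjective β)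
    (hβPC : IsPCHom (β : MvPolynomial (Fin k) A →+* B)) (K : Dual.D A) (m : ℤ)
    (h : DerCA.IsRelPseudoCoherent R A m K) :
    DerCA.IsRelPseudoCoherent R B m ((DRing.LBaseChange (algebraMap A B)).obj K) := by
  obtain ⟨n, α, hα, -⟩ := id h
  have h' := (isRelPseudoCoherent_iff α hα m K).1 h
  obtain ⟨F, t, hKP, hfl, hz, ⟨eK⟩⟩ := exists_flat_resolution_of_isRelPC α K h'
  have i1 := LBaseChangeIso (algebraMap A B) F
  refine isRelPC_of_iso (i1.symm ≪≫ (DRing.LBaseChange (algebraMap A B)).mapIso eK) ?_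
  refine isRelPC_extendCx_of_isPCHom α hα β hβ hβPC F hfl t hz m ?_
  exact h'.of_iso ((DRing.restrictD _).mapIso eK.symm ≪≫ restrictDQIso _ F)

end Ring

variable {X Y Z : Scheme.{u}}

/-- the chart test for `Lf^* G` over a triple of affine opens -/
theorem exists_chartPC_Lpull_comp (f : X ⟶ Y) (g : Y ⟶ Z) [LocallyOfFiniteType f]
    [LocallyOfFiniteType g] [DCoh.HasLpull f] (hf : ∀ n : ℤ, DerSch.IsNPseudoCoherent f n)
    (G : DCoh.D Y) (hGq : DCoh.IsQCohD G) (m : ℤ) (hG : DerSch.IsPseudoCoherentRel g m G)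
    (U : X.affineOpens) (V : Y.affineOpens) (W : Z.affineOpens)
    (hUV : (U : X.Opens) ≤ f ⁻¹ᵁ (V : Y.Opens)) (hVW : (V : Y.Opens) ≤ g ⁻¹ᵁ (W : Z.Opens))
    (hUW : (U : X.Opens) ≤ (f ≫ g) ⁻¹ᵁ (W : Z.Opens)) :
    ∃ (n : ℕ) (φ : MvPolynomial (Fin n) Γ(Z, (W : Z.Opens)) →+* Γ(X, (U : X.Opens))),
      DerSch.IsChart (f ≫ g) (U : X.Opens) (W : Z.Opens) hUW φ ∧
        DerSch.ChartPC m ((DCoh.Lpull f).obj G) (U : X.Opens) (W : Z.Opens) φ := by
  haveI : PreservesFiniteLimits (tilde.functor Γ(X, (U : X.Opens))) :=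
    Groth.Agent.Lib.Helper17.KProjAff.preservesFiniteLimits_tilde _
  haveI : PreservesFiniteLimits (tilde.functor Γ(Y, (V : Y.Opens))) :=
    Groth.Agent.Lib.Helper17.KProjAff.preservesFiniteLimits_tilde _
  let G₀ := DerivedCategory.Q.objPreimage G
  let eG₀ : DerivedCategory.Q.obj G₀ ≅ G := DerivedCategory.Q.objObjPreimageIso G
  have hK := isQCohD_push_restrict G hGq (V : Y.Opens) V.2 G₀ eG₀
  obtain ⟨K, ⟨eK⟩⟩ := ((Groth.Agent.Lib.Helper17.TD4.main Γ(Y, (V : Y.Opens))).2.2 _).1 hK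
  obtain ⟨n₁, φ₁, hφ₁, hPC₁⟩ := (isPseudoCoherentRel_iff_forall g m G).1 hG V W hVW
  letI algRA : Algebra Γ(Z, (W : Z.Opens)) Γ(Y, (V : Y.Opens)) :=
    (g.appLE (W : Z.Opens) (V : Y.Opens) hVW).hom.toAlgebra
  letI algAB : Algebra Γ(Y, (V : Y.Opens)) Γ(X, (U : X.Opens)) :=
    (f.appLE (V : Y.Opens) (U : X.Opens) hUV).hom.toAlgebra
  letI algRB : Algebra Γ(Z, (W : Z.Opens)) Γ(X, (U : X.Opens)) :=
    ((f ≫ g).appLE (W : Z.Opens) (U : X.Opens) hUW).hom.toAlgebra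
  haveI : IsScalarTower Γ(Z, (W : Z.Opens)) Γ(Y, (V : Y.Opens)) Γ(X, (U : X.Opens)) := by
    refine IsScalarTower.of_algebraMap_eq' ?_
    change ((f ≫ g).appLE (W : Z.Opens) (U : X.Opens) hUW).hom =
      (f.appLE (V : Y.Opens) (U : X.Opens) hUV).hom.comp
        (g.appLE (W : Z.Opens) (V : Y.Opens) hVW).hom
    rw [← CommRingCat.hom_comp, Scheme.Hom.appLE_comp_appLE]
  have h1 : DerCA.IsRelPseudoCoherent Γ(Z, (W : Z.Opens)) Γ(Y, (V : Y.Opens)) m K :=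
    isRelPseudoCoherent_of_chartPC g G m V W hVW G₀ eG₀ K eK φ₁ hφ₁ hPC₁
  obtain ⟨k, β₀, hβs, hβC⟩ := exists_chart_of_finiteType _
    (LocallyOfFiniteType.finiteType_appLE f V.2 U.2 hUV)
  have hβPC : IsPCHom β₀ := fun n =>
    (isNPseudoCoherent_iff_forall_isNPC f n).1 (hf n) (U : X.Opens) U.2 (V : Y.Opens) V.2 hUV β₀
      ⟨hβs, hβC⟩
  let β : MvPolynomial (Fin k) Γ(Y, (V : Y.Opens)) →ₐ[Γ(Y, (V : Y.Opens))] Γ(X, (U : X.Opens)) :=
    { β₀ with
      commutes' := fun r => by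
        rw [MvPolynomial.algebraMap_eq]
        exact congrArg (fun t => t r) (congrArg DFunLike.coe hβC) }
  haveI : DRing.HasLBaseChange (algebraMap Γ(Y, (V : Y.Opens)) Γ(X, (U : X.Opens))) :=
    Groth.Agent.Lib.Helper28.Lpull.hasLBaseChange _
  have h2 : DerCA.IsRelPseudoCoherent Γ(Z, (W : Z.Opens)) Γ(X, (U : X.Opens)) m
      ((DRing.LBaseChange (algebraMap Γ(Y, (V : Y.Opens)) Γ(X, (U : X.Opens)))).obj K) :=
    isRelPC_LBaseChange_of_isPCHom β hβs hβPC K m h1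
  let eK' : (DCoh.tildeD Γ(Y, (V : Y.Opens))).obj K ≅ (resD V.2.fromSpec).obj G :=
    eK ≪≫ pushIsoSpecIso (V : Y.Opens) V.2 G₀ ≪≫ (resD V.2.fromSpec).mapIso eG₀
  haveI : DRing.HasLBaseChange (f.appLE (V : Y.Opens) (U : X.Opens) hUV).hom :=
    Groth.Agent.Lib.Helper28.Lpull.hasLBaseChange _
  obtain ⟨eM⟩ := nonempty_chart_Lpull_iso f G V.2 U.2 hUV K eK'
  let G' := DerivedCategory.Q.objPreimage ((DCoh.Lpull f).obj G)
  let eG' : DerivedCategory.Q.obj G' ≅ (DCoh.Lpull f).obj G :=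
    DerivedCategory.Q.objObjPreimageIso _
  exact exists_chartPC_of_isRelPseudoCoherent (f ≫ g) ((DCoh.Lpull f).obj G) m U W hUW G' eG'
    _ (eM ≪≫ (resD U.2.fromSpec).mapIso eG'.symm ≪≫ (pushIsoSpecIso (U : X.Opens) U.2 G').symm) h2

/-- **PC half of S6229** -/
theorem isPseudoCoherentRel_Lpull_comp (f : X ⟶ Y) (g : Y ⟶ Z) [LocallyOfFiniteType f]
    [LocallyOfFiniteType g] [DCoh.HasLpull f] (hf : ∀ n : ℤ, DerSch.IsNPseudoCoherent f n)
    (G : DCoh.D Y) (hGq : DCoh.IsQCohD G) (m : ℤ) (hG : DerSch.IsPseudoCoherentRel g m G) :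
    DerSch.IsPseudoCoherentRel (f ≫ g) m ((DCoh.Lpull f).obj G) := by
  refine ⟨inferInstance, Set.univ, ?_, fun W _ =>
    ⟨{U | ∃ V : Y.affineOpens, (U : X.Opens) ≤ f ⁻¹ᵁ (V : Y.Opens) ∧
      (V : Y.Opens) ≤ g ⁻¹ᵁ (W : Z.Opens)}, ?_, ?_⟩⟩
  · rw [← iSup_affineOpens_eq_top Z]
    simp
  · apply le_antisymm
    · refine iSup₂_le fun U hU => ?_
      obtain ⟨V, hUV, hVW⟩ := hU
      exact fun x hx => hVW (hUV hx)
    · intro x hx
      obtain ⟨V, hV, hxV, hVle⟩ := exists_isAffineOpen_mem_and_subset (x := f x)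
        (U := g ⁻¹ᵁ (W : Z.Opens)) hx
      obtain ⟨U, hU, hxU, hUle⟩ := exists_isAffineOpen_mem_and_subset (x := x)
        (U := f ⁻¹ᵁ V) hxV
      simp only [TopologicalSpace.Opens.mem_iSup]
      exact ⟨⟨U, hU⟩, ⟨⟨V, hV⟩, hUle, hVle⟩, hxU⟩
  · rintro U ⟨V, hUV, hVW⟩ hUW
    exact exists_chartPC_Lpull_comp f g hf G hGq m hG U V W hUV hVW hUW

end

end Groth.Agent.Lib.Helper28.RelPC
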