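import Mathlib
import Groth.Agent.Lib.Helper28.RelPC38
import Groth.Agent.Lib.Helper28.RelPC36
import Groth.Agent.Lib.Helper13.RelPCTor
import Groth.Agent.Lib.Helper13.ShriekCoh
set_option autoImplicit false
universe u
open CategoryTheory Limits AlgebraicGeometry TopologicalSpace Opposite
namespace Groth.Agent.Lib.Helper28.RelPC
noncomputable section
attribute [local instance] HasDerivedCategory.standard
open Groth.Agent.Lib.Helper29.QCoh Groth.Agent.Lib.Helper28.DCohRes
  Groth.Agent.Lib.Helper13.PC Groth.Agent.Lib.Helper13.DR Groth.Agent.Lib.Helper28.Lpull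
  Groth.Agent.Lib.Helper28.RelPerf Groth.Agent.Lib.Helper13.BS

section Ring39

attribute [local instance] MvPolynomial.algebraMvPolynomial

theorem flat_mvPolynomial (R R' : Type u) [CommRing R] [CommRing R'] [Algebra R R']
    [Module.Flat R R'] (n : ℕ) :
    Module.Flat (MvPolynomial (Fin n) R) (MvPolynomial (Fin n) R') :=
  Module.Flat.isBaseChange R (MvPolynomial (Fin n) R) R' _
    (Algebra.IsPushout.out (R := R) (S := MvPolynomial (Fin n) R) (R' := R')
      (S' := MvPolynomial (Fin n) R'))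

/-- flat base change preserves `m`-pseudo-coherence (object level) -/
theorem isNPC_flatBC (A B : Type u) [CommRing A] [CommRing B] [Algebra A B] [Module.Flat A B]
    (m : ℤ) (M : Dual.D A) (h : IsNPC (Pff A) m M) : IsNPC (Pff B) m ((flatBC A B).obj M) := by
  let E := DerivedCategory.Q.objPreimage M
  let e : DerivedCategory.Q.obj E ≅ M := DerivedCategory.Q.objObjPreimageIso M
  exact (isNPC_extendCx_of_flat A B m E (h.of_iso e.symm)).of_iso
    ((flatBCQIso A B E).symm ≪≫ (flatBC A B).mapIso e)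

/-- descent of `m`-pseudo-coherence along a jointly faithful finite flat family (object level) -/
theorem isNPC_of_flatBC_jointly {R : Type u} [CommRing R] {ι : Type*} [Finite ι] {S : ι → Type u}
    [∀ i, CommRing (S i)] [∀ i, Algebra R (S i)] [∀ i, Module.Flat R (S i)]
    (hS : JointlyFaithful R S) (hfin : JointlyDetectsFinite R S) (M : Dual.D R) (m : ℤ)
    (h : ∀ i, IsNPC (Pff (S i)) m ((flatBC R (S i)).obj M)) : IsNPC (Pff R) m M := by
  let E := DerivedCategory.Q.objPreimage M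
  let e : DerivedCategory.Q.obj E ≅ M := DerivedCategory.Q.objObjPreimageIso M
  refine (isNPC_of_jointlyFaithful hS hfin E m (fun i => ?_)).of_iso e
  exact (h i).of_iso ((flatBC R (S i)).mapIso e.symm ≪≫ flatBCQIso R (S i) E)


variable (R A R' A' : Type u) [CommRing R] [CommRing A] [CommRing R'] [CommRing A'] [Algebra R A]
  [Algebra R R'] [Algebra A A'] [Algebra R' A'] [Algebra R A'] [IsScalarTower R A A']
  [IsScalarTower R R' A'] [Algebra.IsPushout R A R' A'] [Module.Flat R R']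

variable {R A} in
theorem exists_presentation_cmp {n : ℕ} (ψ : MvPolynomial (Fin n) R →ₐ[R] A)
    (hψ : Function.Surjective ψ) [DRing.HasLBaseChange (algebraMap A A')] :
    ∃ ψ' : MvPolynomial (Fin n) R' →ₐ[R'] A', Function.Surjective ψ' ∧ ∀ K : Dual.D A,
      Nonempty ((@flatBC (MvPolynomial (Fin n) R) (MvPolynomial (Fin n) R') _ _ _
        (flat_mvPolynomial R R' n)).obj
          ((DRing.restrictD (ψ : MvPolynomial (Fin n) R →+* A)).obj K) ≅
        (DRing.restrictD (ψ' : MvPolynomial (Fin n) R' →+* A')).obj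
          ((DRing.LBaseChange (algebraMap A A')).obj K)) := by
  let P := MvPolynomial (Fin n) R
  let P' := MvPolynomial (Fin n) R'
  haveI : Module.Flat P P' := flat_mvPolynomial R R' n
  letI : Algebra P A := ψ.toRingHom.toAlgebra
  have : IsScalarTower R P A := IsScalarTower.of_algebraMap_eq fun r => (ψ.commutes r).symm
  let ψ' : P' →ₐ[R'] A' := MvPolynomial.aeval (fun i => algebraMap A A' (ψ (MvPolynomial.X i)))
  letI : Algebra P' A' := ψ'.toRingHom.toAlgebra
  letI : Algebra P A' := ((algebraMap A A').comp (algebraMap P A)).toAlgebra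
  haveI : IsScalarTower P A A' := IsScalarTower.of_algebraMap_eq (fun _ => rfl)
  haveI : IsScalarTower R' P' A' := IsScalarTower.of_algebraMap_eq (fun c => (ψ'.commutes c).symm)
  have hcomm : ((algebraMap A A').comp ψ.toRingHom : P →+* A') =
      ψ'.toRingHom.comp (MvPolynomial.map (algebraMap R R')) := by
    apply MvPolynomial.ringHom_ext
    · intro r
      change algebraMap A A' (ψ (MvPolynomial.C r)) =
        ψ' (MvPolynomial.map (algebraMap R R') (MvPolynomial.C r))
      rw [MvPolynomial.map_C, show ψ' (MvPolynomial.C (algebraMap R R' r)) =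
        algebraMap R' A' (algebraMap R R' r) from ψ'.commutes _,
        show ψ (MvPolynomial.C r) = algebraMap R A r from ψ.commutes r,
        ← IsScalarTower.algebraMap_apply, ← IsScalarTower.algebraMap_apply]
    · intro i
      change algebraMap A A' (ψ (MvPolynomial.X i)) =
        ψ' (MvPolynomial.map (algebraMap R R') (MvPolynomial.X i))
      rw [MvPolynomial.map_X]
      change _ = MvPolynomial.aeval (fun i => algebraMap A A' (ψ (MvPolynomial.X i)))
        (MvPolynomial.X i)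
      rw [MvPolynomial.aeval_X]
  haveI : IsScalarTower P P' A' := IsScalarTower.of_algebraMap_eq (fun p => by
    exact RingHom.congr_fun hcomm p)
  haveI : IsScalarTower R P' A' := IsScalarTower.of_algebraMap_eq (fun r => by
    rw [IsScalarTower.algebraMap_apply R R' A', IsScalarTower.algebraMap_apply R R' P',
      ← IsScalarTower.algebraMap_apply R' P' A'])
  haveI h1 : Algebra.IsPushout R A R' A' := inferInstance
  haveI h2 : Algebra.IsPushout P A P' A' :=
    (Algebra.IsPushout.comp_iff R P R' (S' := P') (T := A) (T' := A')).1 h1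
  haveI h3 : Algebra.IsPushout P P' A A' := Algebra.IsPushout.symm h2
  haveI : DRing.HasLBaseChange (algebraMap P P') :=
    Groth.Agent.Lib.Helper28.Lpull.hasLBaseChange _
  have hq : QuasiIso ((extC (algebraMap P P')).map
      (Groth.Agent.Lib.Helper13.TI.PA P A).π') := by
    haveI : QuasiIso (Groth.Agent.Lib.Helper13.TI.PA P A).π' := inferInstance
    infer_instance
  have hs' : Function.Surjective ψ' :=
    Groth.Agent.Lib.Helper13.RcoBC.surjective_algebraMap_of_isPushout P A P' A' hψ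
  refine ⟨ψ', hs', fun K => ?_⟩
  have hcmp := Groth.Agent.Lib.Helper13.TI.isIso_cmp' P A P' A' hq (LBaseChangeAdj _)
    (LBaseChangeAdj _) (Groth.Agent.Lib.Helper13.TI.hsq P A P' A') K
  exact ⟨((Groth.Agent.Lib.Helper13.Shriek.LBaseChangeFlatIso P P').app _).symm ≪≫
    @asIso _ _ _ _ _ hcmp⟩

theorem isRelPC_LBaseChange_of_flat_isPushout [DRing.HasLBaseChange (algebraMap A A')]
    (K : Dual.D A) (m : ℤ) (hK : DerCA.IsRelPseudoCoherent R A m K) :
    DerCA.IsRelPseudoCoherent R' A' m ((DRing.LBaseChange (algebraMap A A')).obj K) := by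
  obtain ⟨n, ψ, hψ, -⟩ := id hK
  obtain ⟨ψ', hs', H⟩ := exists_presentation_cmp R' A' ψ hψ
  obtain ⟨e⟩ := H K
  rw [isRelPseudoCoherent_iff ψ' hs' m]
  haveI := flat_mvPolynomial R R' n
  exact (isNPC_flatBC _ _ m _ ((isRelPseudoCoherent_iff ψ hψ m K).1 hK)).of_iso e

omit [Algebra R R'] [Algebra A A'] [Algebra R' A'] [Algebra R A'] [IsScalarTower R A A']
  [IsScalarTower R R' A'] [Algebra.IsPushout R A R' A'] [Module.Flat R R'] in
variable {R A} in
theorem isRelPC_of_LBaseChange_jointly {r : ℕ} (R' A' : Fin r → Type u)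
    [∀ j, CommRing (R' j)] [∀ j, CommRing (A' j)] [∀ j, Algebra R (R' j)]
    [∀ j, Algebra A (A' j)] [∀ j, Algebra (R' j) (A' j)] [∀ j, Algebra R (A' j)]
    [∀ j, IsScalarTower R A (A' j)] [∀ j, IsScalarTower R (R' j) (A' j)]
    [∀ j, Algebra.IsPushout R A (R' j) (A' j)] [∀ j, Module.Flat R (R' j)]
    (hsurj : ∀ p : PrimeSpectrum R, ∃ (j : Fin r) (q : PrimeSpectrum (R' j)),
      PrimeSpectrum.comap (algebraMap R (R' j)) q = p)
    [Algebra.FiniteType R A] [∀ j, DRing.HasLBaseChange (algebraMap A (A' j))]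
    (K : Dual.D A) (m : ℤ)
    (h : ∀ j, DerCA.IsRelPseudoCoherent (R' j) (A' j) m
      ((DRing.LBaseChange (algebraMap A (A' j))).obj K)) :
    DerCA.IsRelPseudoCoherent R A m K := by
  obtain ⟨n, ψ, hψ⟩ := exists_presentation (R := R) (A := A)
  obtain ⟨hS, hfin⟩ := Groth.Agent.Lib.Lead.Req.JointPoly.jointly_mvPolynomial R R' hsurj n
  haveI : ∀ j, Module.Flat (MvPolynomial (Fin n) R) (MvPolynomial (Fin n) (R' j)) := fun j =>
    flat_mvPolynomial R (R' j) n
  rw [isRelPseudoCoherent_iff ψ hψ m]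
  refine isNPC_of_flatBC_jointly hS hfin _ m (fun j => ?_)
  obtain ⟨ψ', hs', H⟩ := exists_presentation_cmp (R' j) (A' j) ψ hψ
  obtain ⟨e⟩ := H K
  exact ((isRelPseudoCoherent_iff ψ' hs' m _).1 (h j)).of_iso e.symm

omit [Algebra R A] [Algebra R R'] [Algebra A A'] [Algebra R' A'] [Algebra R A']
  [IsScalarTower R A A'] [IsScalarTower R R' A'] [Algebra.IsPushout R A R' A']
  [Module.Flat R R'] in
variable {R A R' A'} in
/-- explicit-ring-hom form of `isRelPC_LBaseChange_of_flat_isPushout` -/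
theorem isRelPC_LBaseChange_of_flat_isPushout' (ρ : R →+* A) (η : R →+* R') (γ : A →+* A')
    (ρ' : R' →+* A')
    (hsq : IsPushout (CommRingCat.ofHom ρ) (CommRingCat.ofHom η)
      (CommRingCat.ofHom γ) (CommRingCat.ofHom ρ'))
    (hη : η.Flat) [DRing.HasLBaseChange γ] (K : Dual.D A) (m : ℤ)
    (hK : letI := ρ.toAlgebra
      DerCA.IsRelPseudoCoherent R A m K) :
    letI := ρ'.toAlgebra
    DerCA.IsRelPseudoCoherent R' A' m ((DRing.LBaseChange γ).obj K) := by
  have hw : γ.comp ρ = ρ'.comp η := by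
    have := hsq.w
    exact congrArg CommRingCat.Hom.hom this
  letI : Algebra R A := ρ.toAlgebra
  letI : Algebra R R' := η.toAlgebra
  letI : Algebra A A' := γ.toAlgebra
  letI : Algebra R' A' := ρ'.toAlgebra
  letI : Algebra R A' := (γ.comp ρ).toAlgebra
  haveI : IsScalarTower R A A' := .of_algebraMap_eq' rfl
  haveI : IsScalarTower R R' A' := .of_algebraMap_eq' hw
  haveI hpo : Algebra.IsPushout R A R' A' := CommRingCat.isPushout_iff_isPushout.mp hsq
  haveI : Module.Flat R R' := hη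
  haveI : DRing.HasLBaseChange (algebraMap A A') := ‹DRing.HasLBaseChange γ›
  exact isRelPC_LBaseChange_of_flat_isPushout R A R' A' K m hK

omit [Algebra R A] [Algebra R R'] [Algebra A A'] [Algebra R' A'] [Algebra R A']
  [IsScalarTower R A A'] [IsScalarTower R R' A'] [Algebra.IsPushout R A R' A']
  [Module.Flat R R'] [CommRing R'] [CommRing A'] in
variable {R A} in
/-- explicit-ring-hom form of `isRelPC_of_LBaseChange_jointly` -/
theorem isRelPC_of_LBaseChange_jointly' (ρ : R →+* A) (hρ : ρ.FiniteType) {r : ℕ}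
    (R' A' : Fin r → Type u) [∀ j, CommRing (R' j)] [∀ j, CommRing (A' j)]
    (η : ∀ j, R →+* R' j) (hη : ∀ j, (η j).Flat) (γ : ∀ j, A →+* A' j)
    (ρ' : ∀ j, R' j →+* A' j)
    (hsq : ∀ j, IsPushout (CommRingCat.ofHom ρ) (CommRingCat.ofHom (η j))
      (CommRingCat.ofHom (γ j)) (CommRingCat.ofHom (ρ' j)))
    (hsurj : ∀ p : PrimeSpectrum R, ∃ (j : Fin r) (q : PrimeSpectrum (R' j)),
      PrimeSpectrum.comap (η j) q = p)
    [∀ j, DRing.HasLBaseChange (γ j)] (K : Dual.D A) (m : ℤ)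
    (h : ∀ j, letI := (ρ' j).toAlgebra
      DerCA.IsRelPseudoCoherent (R' j) (A' j) m ((DRing.LBaseChange (γ j)).obj K)) :
    letI := ρ.toAlgebra
    DerCA.IsRelPseudoCoherent R A m K := by
  have hw : ∀ j, (γ j).comp ρ = (ρ' j).comp (η j) := fun j => by
    have := (hsq j).w
    exact congrArg CommRingCat.Hom.hom this
  letI : Algebra R A := ρ.toAlgebra
  letI : ∀ j, Algebra R (R' j) := fun j => (η j).toAlgebra
  letI : ∀ j, Algebra A (A' j) := fun j => (γ j).toAlgebra
  letI : ∀ j, Algebra (R' j) (A' j) := fun j => (ρ' j).toAlgebra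
  letI : ∀ j, Algebra R (A' j) := fun j => ((γ j).comp ρ).toAlgebra
  haveI : ∀ j, IsScalarTower R A (A' j) := fun j => .of_algebraMap_eq' rfl
  haveI : ∀ j, IsScalarTower R (R' j) (A' j) := fun j => .of_algebraMap_eq' (hw j)
  haveI hpo : ∀ j, Algebra.IsPushout R A (R' j) (A' j) := fun j =>
    CommRingCat.isPushout_iff_isPushout.mp (hsq j)
  haveI : ∀ j, Module.Flat R (R' j) := fun j => hη j
  haveI : Algebra.FiniteType R A := hρ
  haveI : ∀ j, DRing.HasLBaseChange (algebraMap A (A' j)) := fun j =>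
    ‹∀ j, DRing.HasLBaseChange (γ j)› j
  exact isRelPC_of_LBaseChange_jointly R' A' hsurj K m h

end Ring39

section SchemeBC

/-- on matching affine charts, a quasi-coherent object and its derived pullback are given by a
complex of modules and its derived base change -/
theorem exists_chart_data {X X' : Scheme.{u}} (p : X' ⟶ X) [DCoh.HasLpull p] (E : DCoh.D X)
    (hEq : DCoh.IsQCohD E) (U : X.affineOpens) (U' : X'.affineOpens)
    (hle : (U' : X'.Opens) ≤ p ⁻¹ᵁ (U : X.Opens))
    [DRing.HasLBaseChange (p.appLE (U : X.Opens) (U' : X'.Opens) hle).hom]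
    [PreservesFiniteLimits (tilde.functor Γ(X, (U : X.Opens)))]
    [PreservesFiniteLimits (tilde.functor Γ(X', (U' : X'.Opens)))]
    (G₀ : CochainComplex X.Modules ℤ) (eG₀ : DerivedCategory.Q.obj G₀ ≅ E)
    (G' : CochainComplex X'.Modules ℤ) (eG' : DerivedCategory.Q.obj G' ≅ (DCoh.Lpull p).obj E) :
    ∃ K : Dual.D Γ(X, (U : X.Opens)),
      Nonempty ((DCoh.tildeD Γ(X, (U : X.Opens))).obj K ≅
        DCoh.toD _ ((DerSch.pushCx U.2.isoSpec.hom).obj
          ((DCoh.restrictCx (U : X.Opens)).obj G₀))) ∧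
      Nonempty ((DCoh.tildeD Γ(X', (U' : X'.Opens))).obj
          ((DRing.LBaseChange (p.appLE (U : X.Opens) (U' : X'.Opens) hle).hom).obj K) ≅
        DCoh.toD _ ((DerSch.pushCx U'.2.isoSpec.hom).obj
          ((DCoh.restrictCx (U' : X'.Opens)).obj G'))) := by
  have hK := isQCohD_push_restrict E hEq (U : X.Opens) U.2 G₀ eG₀
  obtain ⟨K, ⟨eK⟩⟩ := ((Groth.Agent.Lib.Helper17.TD4.main Γ(X, (U : X.Opens))).2.2 _).1 hK
  let eK' : (DCoh.tildeD Γ(X, (U : X.Opens))).obj K ≅ (resD U.2.fromSpec).obj E :=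
    eK ≪≫ pushIsoSpecIso (U : X.Opens) U.2 G₀ ≪≫ (resD U.2.fromSpec).mapIso eG₀
  obtain ⟨eM⟩ := nonempty_chart_Lpull_iso p E U.2 U'.2 hle K eK'
  exact ⟨K, ⟨eK⟩, ⟨eM ≪≫ (resD U'.2.fromSpec).mapIso eG'.symm ≪≫
    (pushIsoSpecIso (U' : X'.Opens) U'.2 G').symm⟩⟩

variable {X Y Y' : Scheme.{u}}

/-- flat base change of the chart test -/
theorem exists_chartPC_Lpull_baseChange (f : X ⟶ Y) [LocallyOfFiniteType f] (h : Y' ⟶ Y) [Flat h]
    [DCoh.HasLpull (pullback.fst f h)] (E : DCoh.D X) (hEq : DCoh.IsQCohD E) (m : ℤ)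
    (hE : DerSch.IsPseudoCoherentRel f m E)
    (U : X.affineOpens) (V : Y.affineOpens) (V' : Y'.affineOpens)
    (hUV : (U : X.Opens) ≤ f ⁻¹ᵁ (V : Y.Opens)) (hV'V : (V' : Y'.Opens) ≤ h ⁻¹ᵁ (V : Y.Opens))
    (U' : (pullback f h).affineOpens)
    (hU' : (U' : (pullback f h).Opens) =
      (pullback.fst f h) ⁻¹ᵁ (U : X.Opens) ⊓ (pullback.snd f h) ⁻¹ᵁ (V' : Y'.Opens))
    (hU'V' : (U' : (pullback f h).Opens) ≤ (pullback.snd f h) ⁻¹ᵁ (V' : Y'.Opens)) :
    ∃ (n : ℕ) (φ : MvPolynomial (Fin n) Γ(Y', (V' : Y'.Opens)) →+*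
        Γ(pullback f h, (U' : (pullback f h).Opens))),
      DerSch.IsChart (pullback.snd f h) (U' : (pullback f h).Opens) (V' : Y'.Opens) hU'V' φ ∧
        DerSch.ChartPC m ((DCoh.Lpull (pullback.fst f h)).obj E)
          (U' : (pullback f h).Opens) (V' : Y'.Opens) φ := by
  have H : IsPullback (pullback.fst f h) (pullback.snd f h) f h := IsPullback.of_hasPullback f h
  haveI : PreservesFiniteLimits (tilde.functor Γ(X, (U : X.Opens))) :=
    Groth.Agent.Lib.Helper17.KProjAff.preservesFiniteLimits_tilde _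
  haveI : PreservesFiniteLimits (tilde.functor Γ(pullback f h, (U' : (pullback f h).Opens))) :=
    Groth.Agent.Lib.Helper17.KProjAff.preservesFiniteLimits_tilde _
  have hle : (U' : (pullback f h).Opens) ≤ (pullback.fst f h) ⁻¹ᵁ (U : X.Opens) := by
    rw [hU']; exact inf_le_left
  haveI : DRing.HasLBaseChange ((pullback.fst f h).appLE (U : X.Opens)
      (U' : (pullback f h).Opens) hle).hom := Groth.Agent.Lib.Helper28.Lpull.hasLBaseChange _
  let G₀ := DerivedCategory.Q.objPreimage E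
  let eG₀ : DerivedCategory.Q.obj G₀ ≅ E := DerivedCategory.Q.objObjPreimageIso E
  let G' := DerivedCategory.Q.objPreimage ((DCoh.Lpull (pullback.fst f h)).obj E)
  let eG' : DerivedCategory.Q.obj G' ≅ (DCoh.Lpull (pullback.fst f h)).obj E :=
    DerivedCategory.Q.objObjPreimageIso _
  obtain ⟨K, ⟨eK⟩, ⟨eK'⟩⟩ := exists_chart_data (pullback.fst f h) E hEq U U' hle G₀ eG₀ G' eG'
  obtain ⟨n₁, φ₁, hφ₁, hPC₁⟩ := (isPseudoCoherentRel_iff_forall f m E).1 hE U V hUV
  have h1 := isRelPseudoCoherent_of_chartPC f E m U V hUV G₀ eG₀ K eK φ₁ hφ₁ hPC₁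
  haveI hiso := isIso_pushoutSection_of_isAffineOpen H hV'V hUV hU' V.2 V'.2 U.2
  have hpo := (isIso_pushoutSection_iff H hV'V hUV hU').1 hiso
  have h2 := isRelPC_LBaseChange_of_flat_isPushout' _ _ _ _ hpo (h.flat_appLE V.2 V'.2 hV'V) K m h1
  exact exists_chartPC_of_isRelPseudoCoherent (pullback.snd f h)
    ((DCoh.Lpull (pullback.fst f h)).obj E) m U' V' hU'V' G' eG' _ eK' h2

/-- **PC half of S6230**: flat base change of relative `m`-pseudo-coherence -/
theorem isPseudoCoherentRel_Lpull_baseChange_of_flat (f : X ⟶ Y) [LocallyOfFiniteType f]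
    (h : Y' ⟶ Y) [Flat h] [DCoh.HasLpull (pullback.fst f h)] (E : DCoh.D X)
    (hEq : DCoh.IsQCohD E) (m : ℤ) (hE : DerSch.IsPseudoCoherentRel f m E) :
    DerSch.IsPseudoCoherentRel (pullback.snd f h) m
      ((DCoh.Lpull (pullback.fst f h)).obj E) := by
  have H : IsPullback (pullback.fst f h) (pullback.snd f h) f h := IsPullback.of_hasPullback f h
  refine ⟨inferInstance,
    {V' | ∃ V : Y.affineOpens, (V' : Y'.Opens) ≤ h ⁻¹ᵁ (V : Y.Opens)}, ?_, fun V' hV' => ?_⟩
  · apply le_antisymm le_top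
    intro y _
    obtain ⟨V, hV, hyV, -⟩ := exists_isAffineOpen_mem_and_subset (x := h y) (U := ⊤) trivial
    obtain ⟨V', hV', hyV', hle⟩ := exists_isAffineOpen_mem_and_subset (x := y)
      (U := h ⁻¹ᵁ V) hyV
    simp only [TopologicalSpace.Opens.mem_iSup]
    exact ⟨⟨V', hV'⟩, ⟨⟨V, hV⟩, hle⟩, hyV'⟩
  · obtain ⟨V, hV'V⟩ := hV'
    refine ⟨{U' | ∃ U : X.affineOpens, (U : X.Opens) ≤ f ⁻¹ᵁ (V : Y.Opens) ∧
      (U' : (pullback f h).Opens) =
        (pullback.fst f h) ⁻¹ᵁ (U : X.Opens) ⊓ (pullback.snd f h) ⁻¹ᵁ (V' : Y'.Opens)}, ?_, ?_⟩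
    · apply le_antisymm
      · refine iSup₂_le fun U' hU' => ?_
        obtain ⟨U, -, hU'⟩ := hU'
        rw [hU']
        exact inf_le_right
      · intro x hx
        have hfx : f ((pullback.fst f h) x) ∈ (V : Y.Opens) := by
          have h1 : f ((pullback.fst f h) x) = h ((pullback.snd f h) x) := by
            rw [← Scheme.Hom.comp_apply, ← Scheme.Hom.comp_apply, pullback.condition]
          rw [h1]
          exact hV'V hx
        obtain ⟨U, hU, hxU, hUle⟩ := exists_isAffineOpen_mem_and_subset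
          (x := (pullback.fst f h) x) (U := f ⁻¹ᵁ (V : Y.Opens)) hfx
        simp only [TopologicalSpace.Opens.mem_iSup]
        exact ⟨⟨(pullback.fst f h) ⁻¹ᵁ U ⊓ (pullback.snd f h) ⁻¹ᵁ (V' : Y'.Opens),
          isAffineOpen_inf_preimage H V.2 V'.2 hU hV'V hUle rfl⟩, ⟨⟨U, hU⟩, hUle, rfl⟩,
          ⟨hxU, hx⟩⟩
    · rintro U' ⟨U, hUV, hU'⟩ hle
      exact exists_chartPC_Lpull_baseChange f h E hEq m hE U V V' hUV hV'V U' hU' hle

end SchemeBC

end
end Groth.Agent.Lib.Helper28.RelPC
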