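import Mathlib
import Groth.Agent.Lib.Helper28.RelPC39
set_option autoImplicit false
universe u
open CategoryTheory Limits AlgebraicGeometry TopologicalSpace Opposite
namespace Groth.Agent.Lib.Helper28.RelPC
noncomputable section
attribute [local instance] HasDerivedCategory.standard
open Groth.Agent.Lib.Helper29.QCoh Groth.Agent.Lib.Helper28.DCohRes
  Groth.Agent.Lib.Helper13.PC Groth.Agent.Lib.Helper13.DR Groth.Agent.Lib.Helper28.Lpull
  Groth.Agent.Lib.Helper28.RelPerf Groth.Agent.Lib.Helper13.BS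

section SchemeDescent

/-- variant of `exists_chart_data` with the complex of modules on the base chart given -/
theorem nonempty_chart_data_iso {X X' : Scheme.{u}} (p : X' ⟶ X) [DCoh.HasLpull p] (E : DCoh.D X)
    (U : X.affineOpens) (U' : X'.affineOpens)
    (hle : (U' : X'.Opens) ≤ p ⁻¹ᵁ (U : X.Opens))
    [DRing.HasLBaseChange (p.appLE (U : X.Opens) (U' : X'.Opens) hle).hom]
    [PreservesFiniteLimits (tilde.functor Γ(X, (U : X.Opens)))]
    [PreservesFiniteLimits (tilde.functor Γ(X', (U' : X'.Opens)))]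
    (G₀ : CochainComplex X.Modules ℤ) (eG₀ : DerivedCategory.Q.obj G₀ ≅ E)
    (G' : CochainComplex X'.Modules ℤ) (eG' : DerivedCategory.Q.obj G' ≅ (DCoh.Lpull p).obj E)
    (K : Dual.D Γ(X, (U : X.Opens)))
    (eK : (DCoh.tildeD Γ(X, (U : X.Opens))).obj K ≅
        DCoh.toD _ ((DerSch.pushCx U.2.isoSpec.hom).obj
          ((DCoh.restrictCx (U : X.Opens)).obj G₀))) :
    Nonempty ((DCoh.tildeD Γ(X', (U' : X'.Opens))).obj
          ((DRing.LBaseChange (p.appLE (U : X.Opens) (U' : X'.Opens) hle).hom).obj K) ≅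
        DCoh.toD _ ((DerSch.pushCx U'.2.isoSpec.hom).obj
          ((DCoh.restrictCx (U' : X'.Opens)).obj G'))) := by
  let eK' : (DCoh.tildeD Γ(X, (U : X.Opens))).obj K ≅ (resD U.2.fromSpec).obj E :=
    eK ≪≫ pushIsoSpecIso (U : X.Opens) U.2 G₀ ≪≫ (resD U.2.fromSpec).mapIso eG₀
  obtain ⟨eM⟩ := nonempty_chart_Lpull_iso p E U.2 U'.2 hle K eK'
  exact ⟨eM ≪≫ (resD U'.2.fromSpec).mapIso eG'.symm ≪≫
    (pushIsoSpecIso (U' : X'.Opens) U'.2 G').symm⟩

variable {X Y Y' : Scheme.{u}}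

/-- **S6211**: faithfully flat quasi-compact descent of relative `m`-pseudo-coherence -/
theorem isPseudoCoherentRel_of_Lpull_faithfullyFlat_baseChange (f : X ⟶ Y)
    [LocallyOfFiniteType f] (h : Y' ⟶ Y) [Flat h] [Surjective h] [QuasiCompact h]
    [DCoh.HasLpull (pullback.fst f h)] (E : DCoh.D X) (hEq : DCoh.IsQCohD E) (m : ℤ)
    (hE : DerSch.IsPseudoCoherentRel (pullback.snd f h) m
      ((DCoh.Lpull (pullback.fst f h)).obj E)) :
    DerSch.IsPseudoCoherentRel f m E := by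
  have H : IsPullback (pullback.fst f h) (pullback.snd f h) f h := IsPullback.of_hasPullback f h
  rw [isPseudoCoherentRel_iff_forall]
  intro U V hUV
  have hqc : IsCompact ((h ⁻¹ᵁ (V : Y.Opens) : Y'.Opens) : Set Y') :=
    QuasiCompact.isCompact_preimage (f := h) _ (V : Y.Opens).2 V.2.isCompact
  obtain ⟨r, V', hV', hle, hcov⟩ := exists_finite_affine_cover (h ⁻¹ᵁ (V : Y.Opens)) hqc
  let U'o : Fin r → (pullback f h).Opens := fun j =>
    (pullback.fst f h) ⁻¹ᵁ (U : X.Opens) ⊓ (pullback.snd f h) ⁻¹ᵁ (V' j)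
  have hU'a : ∀ j, IsAffineOpen (U'o j) := fun j =>
    isAffineOpen_inf_preimage H V.2 (hV' j) U.2 (hle j) hUV rfl
  let U' : Fin r → (pullback f h).affineOpens := fun j => ⟨U'o j, hU'a j⟩
  have hU'U : ∀ j, (U' j : (pullback f h).Opens) ≤ (pullback.fst f h) ⁻¹ᵁ (U : X.Opens) :=
    fun j => inf_le_left
  have hU'V' : ∀ j, (U' j : (pullback f h).Opens) ≤ (pullback.snd f h) ⁻¹ᵁ (V' j) :=
    fun j => inf_le_right
  have hpo : ∀ j, IsPushout (f.appLE (V : Y.Opens) (U : X.Opens) hUV)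
      (h.appLE (V : Y.Opens) (V' j) (hle j))
      ((pullback.fst f h).appLE (U : X.Opens) (U' j : (pullback f h).Opens) (hU'U j))
      ((pullback.snd f h).appLE (V' j) (U' j : (pullback f h).Opens) (hU'V' j)) := fun j =>
    (isIso_pushoutSection_iff H (hle j) hUV rfl).1
      (isIso_pushoutSection_of_isAffineOpen H (hle j) hUV rfl V.2 (hV' j) U.2)
  haveI : PreservesFiniteLimits (tilde.functor Γ(X, (U : X.Opens))) :=
    Groth.Agent.Lib.Helper17.KProjAff.preservesFiniteLimits_tilde _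
  haveI : ∀ j, PreservesFiniteLimits
      (tilde.functor Γ(pullback f h, (U' j : (pullback f h).Opens))) := fun j =>
    Groth.Agent.Lib.Helper17.KProjAff.preservesFiniteLimits_tilde _
  haveI : ∀ j, DRing.HasLBaseChange ((pullback.fst f h).appLE (U : X.Opens)
      (U' j : (pullback f h).Opens) (hU'U j)).hom := fun j =>
    Groth.Agent.Lib.Helper28.Lpull.hasLBaseChange _
  let G₀ := DerivedCategory.Q.objPreimage E
  let eG₀ : DerivedCategory.Q.obj G₀ ≅ E := DerivedCategory.Q.objObjPreimageIso E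
  let G' := DerivedCategory.Q.objPreimage ((DCoh.Lpull (pullback.fst f h)).obj E)
  let eG' : DerivedCategory.Q.obj G' ≅ (DCoh.Lpull (pullback.fst f h)).obj E :=
    DerivedCategory.Q.objObjPreimageIso _
  have hK := isQCohD_push_restrict E hEq (U : X.Opens) U.2 G₀ eG₀
  obtain ⟨K, ⟨eK⟩⟩ := ((Groth.Agent.Lib.Helper17.TD4.main Γ(X, (U : X.Opens))).2.2 _).1 hK
  have hj : ∀ j, letI := ((pullback.snd f h).appLE (V' j) (U' j : (pullback f h).Opens)
        (hU'V' j)).hom.toAlgebra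
      DerCA.IsRelPseudoCoherent Γ(Y', V' j) Γ(pullback f h, (U' j : (pullback f h).Opens)) m
        ((DRing.LBaseChange ((pullback.fst f h).appLE (U : X.Opens)
          (U' j : (pullback f h).Opens) (hU'U j)).hom).obj K) := fun j => by
    obtain ⟨eK'⟩ := nonempty_chart_data_iso (pullback.fst f h) E U (U' j) (hU'U j) G₀ eG₀ G' eG'
      K eK
    obtain ⟨n₁, φ₁, hφ₁, hPC₁⟩ := (isPseudoCoherentRel_iff_forall (pullback.snd f h) m _).1 hE
      (U' j) ⟨V' j, hV' j⟩ (hU'V' j)
    exact isRelPseudoCoherent_of_chartPC (pullback.snd f h) _ m (U' j) ⟨V' j, hV' j⟩ (hU'V' j)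
      G' eG' _ eK' φ₁ hφ₁ hPC₁
  have key := isRelPC_of_LBaseChange_jointly' (f.appLE (V : Y.Opens) (U : X.Opens) hUV).hom
    (LocallyOfFiniteType.finiteType_appLE f V.2 U.2 hUV)
    (fun j => Γ(Y', V' j)) (fun j => Γ(pullback f h, (U' j : (pullback f h).Opens)))
    (fun j => (h.appLE (V : Y.Opens) (V' j) (hle j)).hom)
    (fun j => h.flat_appLE V.2 (hV' j) (hle j))
    (fun j => ((pullback.fst f h).appLE (U : X.Opens) (U' j : (pullback f h).Opens)
      (hU'U j)).hom)
    (fun j => ((pullback.snd f h).appLE (V' j) (U' j : (pullback f h).Opens) (hU'V' j)).hom)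
    (fun j => hpo j) (fun p => exists_prime_over h (V : Y.Opens) V.2 V' hV' hle hcov p) K m hj
  exact exists_chartPC_of_isRelPseudoCoherent f E m U V hUV G₀ eG₀ K eK key

end SchemeDescent

end
end Groth.Agent.Lib.Helper28.RelPC
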