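import Mathlib
import Groth.Agent.Lib.Helper28.RelPC40
set_option autoImplicit false
universe u
open CategoryTheory Limits AlgebraicGeometry TopologicalSpace Opposite
namespace Groth.Agent.Lib.Helper28.RelPC
noncomputable section
attribute [local instance] HasDerivedCategory.standard
open Groth.Agent.Lib.Helper29.QCoh Groth.Agent.Lib.Helper28.DCohRes
  Groth.Agent.Lib.Helper13.PC Groth.Agent.Lib.Helper13.DR Groth.Agent.Lib.Helper28.Lpull
  Groth.Agent.Lib.Helper28.RelPerf Groth.Agent.Lib.Helper13.BS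

section Family

variable {X Y : Scheme.{u}}

/-- an fppf family covering the base gives, over any quasi-compact open, a finite family of
affine opens of the members which is jointly surjective onto it -/
theorem exists_finite_affine_family {S : Scheme.{u}} {ι : Type u} (Si : ι → Scheme.{u})
    (h : ∀ i, Si i ⟶ S) [∀ i, Flat (h i)] [∀ i, LocallyOfFinitePresentation (h i)]
    (hcov : ∀ s : S, ∃ (i : ι) (t : Si i), (h i).base t = s) (V : S.Opens)
    (hVc : IsCompact (V : Set S)) :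
    ∃ (r : ℕ) (i : Fin r → ι) (V' : ∀ k, (Si (i k)).Opens), (∀ k, IsAffineOpen (V' k)) ∧
      (∀ k, V' k ≤ (h (i k)) ⁻¹ᵁ V) ∧
      ∀ s ∈ V, ∃ (k : Fin r) (t : Si (i k)), t ∈ V' k ∧ (h (i k)) t = s := by
  have hex : ∀ s : V, ∃ (i : ι) (t : Si i) (V'' : (Si i).Opens), IsAffineOpen V'' ∧ t ∈ V'' ∧
      V'' ≤ (h i) ⁻¹ᵁ V ∧ (h i) t = (s : S) := fun s => by
    obtain ⟨i, t, ht⟩ := hcov (s : S)
    have htV : t ∈ (h i) ⁻¹ᵁ V := by
      change (h i) t ∈ V
      have : (h i) t = (s : S) := ht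
      rw [this]
      exact s.2
    obtain ⟨V'', hV''a, hV''m, hV''le⟩ := exists_isAffineOpen_mem_and_subset (x := t)
      (U := (h i) ⁻¹ᵁ V) htV
    exact ⟨i, t, V'', hV''a, hV''m, hV''le, ht⟩
  choose i₀ t₀ V₀ hV₀a hV₀m hV₀le ht₀ using hex
  have hopen : ∀ s : V, IsOpen ((h (i₀ s)) '' ((V₀ s : (Si (i₀ s)).Opens) : Set (Si (i₀ s)))) :=
    fun s => (h (i₀ s)).isOpenMap _ (V₀ s).2
  obtain ⟨T, hT⟩ := hVc.elim_finite_subcover
    (fun s : V => (h (i₀ s)) '' ((V₀ s : (Si (i₀ s)).Opens) : Set (Si (i₀ s)))) hopen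
    (fun s hs => Set.mem_iUnion.2 ⟨⟨s, hs⟩, ⟨t₀ ⟨s, hs⟩, hV₀m ⟨s, hs⟩, ht₀ ⟨s, hs⟩⟩⟩)
  refine ⟨T.card, fun k => i₀ (T.equivFin.symm k).1, fun k => V₀ (T.equivFin.symm k).1,
    fun k => hV₀a _, fun k => hV₀le _, fun s hs => ?_⟩
  obtain ⟨s', hs'T, t, htV, hts⟩ : ∃ s' ∈ T, ∃ t : Si (i₀ s'), t ∈ V₀ s' ∧ (h (i₀ s')) t = s := by
    have := hT hs
    simp only [Set.mem_iUnion, exists_prop] at this
    obtain ⟨s', hs'T, t, htV, hts⟩ := this
    exact ⟨s', hs'T, t, htV, hts⟩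
  refine ⟨T.equivFin ⟨s', hs'T⟩, ?_⟩
  have hk : (T.equivFin.symm (T.equivFin ⟨s', hs'T⟩)).1 = s' := by
    rw [Equiv.symm_apply_apply]
  change ∃ t : Si (i₀ (T.equivFin.symm (T.equivFin ⟨s', hs'T⟩)).1),
    t ∈ V₀ (T.equivFin.symm (T.equivFin ⟨s', hs'T⟩)).1 ∧
      (h (i₀ (T.equivFin.symm (T.equivFin ⟨s', hs'T⟩)).1)) t = s
  generalize (T.equivFin.symm (T.equivFin ⟨s', hs'T⟩)).1 = x at hk ⊢
  subst hk
  exact ⟨t, htV, hts⟩


lemma exists_prime_over_family (V : Y.Opens) (hV : IsAffineOpen V) {r : ℕ}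
    (Y' : Fin r → Scheme.{u}) (h : ∀ k, Y' k ⟶ Y)
    (V' : ∀ k, (Y' k).Opens) (hV' : ∀ k, IsAffineOpen (V' k)) (hle : ∀ k, V' k ≤ (h k) ⁻¹ᵁ V)
    (hcov : ∀ s ∈ V, ∃ (k : Fin r) (t : Y' k), t ∈ V' k ∧ (h k) t = s)
    (p : PrimeSpectrum Γ(Y, V)) :
    ∃ (k : Fin r) (q : PrimeSpectrum Γ(Y' k, V' k)),
      PrimeSpectrum.comap ((h k).appLE V (V' k) (hle k)).hom q = p := by
  let p' : Spec Γ(Y, V) := p
  let y : Y := hV.fromSpec p'
  have hyV : y ∈ V := by
    have : y ∈ Set.range hV.fromSpec := ⟨p', rfl⟩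
    rw [hV.range_fromSpec] at this
    exact this
  obtain ⟨k, y', hj, hy'⟩ := hcov y hyV
  let q : Spec Γ(Y' k, V' k) := (hV' k).primeIdealOf ⟨y', hj⟩
  have hq : (hV' k).fromSpec q = y' := (hV' k).fromSpec_primeIdealOf ⟨y', hj⟩
  have key := IsAffineOpen.SpecMap_appLE_fromSpec (h k) hV (hV' k) (hle k)
  have h1 : hV.fromSpec ((Spec.map ((h k).appLE V (V' k) (hle k))) q) =
      (h k) ((hV' k).fromSpec q) := by
    rw [← Scheme.Hom.comp_apply, key, Scheme.Hom.comp_apply]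
  refine ⟨k, q, ?_⟩
  have h2 : hV.fromSpec ((Spec.map ((h k).appLE V (V' k) (hle k))) q) = hV.fromSpec p' := by
    rw [h1, hq, hy']
  exact hV.fromSpec.isOpenEmbedding.injective h2

/-- descent of the chart test along a finite family of flat base changes which is jointly
surjective over the affine open `V` of the base -/
theorem exists_chartPC_of_finite_flat_family (f : X ⟶ Y) [LocallyOfFiniteType f] (E : DCoh.D X)
    (hEq : DCoh.IsQCohD E) (m : ℤ) (U : X.affineOpens) (V : Y.affineOpens)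
    (hUV : (U : X.Opens) ≤ f ⁻¹ᵁ (V : Y.Opens)) {r : ℕ}
    (Y' : Fin r → Scheme.{u}) (h : ∀ k, Y' k ⟶ Y) [∀ k, Flat (h k)]
    [∀ k, DCoh.HasLpull (pullback.fst f (h k))]
    (V' : ∀ k, (Y' k).Opens) (hV' : ∀ k, IsAffineOpen (V' k))
    (hle : ∀ k, V' k ≤ (h k) ⁻¹ᵁ (V : Y.Opens))
    (hcov : ∀ s ∈ (V : Y.Opens), ∃ (k : Fin r) (t : Y' k), t ∈ V' k ∧ (h k) t = s)
    (hE : ∀ k, DerSch.IsPseudoCoherentRel (pullback.snd f (h k)) m
      ((DCoh.Lpull (pullback.fst f (h k))).obj E)) :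
    ∃ (n : ℕ) (φ : MvPolynomial (Fin n) Γ(Y, (V : Y.Opens)) →+* Γ(X, (U : X.Opens))),
      DerSch.IsChart f (U : X.Opens) (V : Y.Opens) hUV φ ∧
        DerSch.ChartPC m E (U : X.Opens) (V : Y.Opens) φ := by
  have H : ∀ k, IsPullback (pullback.fst f (h k)) (pullback.snd f (h k)) f (h k) := fun k =>
    IsPullback.of_hasPullback f (h k)
  let U'o : ∀ k, (pullback f (h k)).Opens := fun k =>
    (pullback.fst f (h k)) ⁻¹ᵁ (U : X.Opens) ⊓ (pullback.snd f (h k)) ⁻¹ᵁ (V' k)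
  have hU'a : ∀ k, IsAffineOpen (U'o k) := fun k =>
    isAffineOpen_inf_preimage (H k) V.2 (hV' k) U.2 (hle k) hUV rfl
  let U' : ∀ k, (pullback f (h k)).affineOpens := fun k => ⟨U'o k, hU'a k⟩
  have hU'U : ∀ k, (U' k : (pullback f (h k)).Opens) ≤
      (pullback.fst f (h k)) ⁻¹ᵁ (U : X.Opens) := fun k => inf_le_left
  have hU'V' : ∀ k, (U' k : (pullback f (h k)).Opens) ≤ (pullback.snd f (h k)) ⁻¹ᵁ (V' k) :=
    fun k => inf_le_right
  have hpo : ∀ k, IsPushout (f.appLE (V : Y.Opens) (U : X.Opens) hUV)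
      ((h k).appLE (V : Y.Opens) (V' k) (hle k))
      ((pullback.fst f (h k)).appLE (U : X.Opens) (U' k : (pullback f (h k)).Opens) (hU'U k))
      ((pullback.snd f (h k)).appLE (V' k) (U' k : (pullback f (h k)).Opens) (hU'V' k)) :=
    fun k => (isIso_pushoutSection_iff (H k) (hle k) hUV rfl).1
      (isIso_pushoutSection_of_isAffineOpen (H k) (hle k) hUV rfl V.2 (hV' k) U.2)
  haveI : PreservesFiniteLimits (tilde.functor Γ(X, (U : X.Opens))) :=
    Groth.Agent.Lib.Helper17.KProjAff.preservesFiniteLimits_tilde _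
  haveI : ∀ k, PreservesFiniteLimits
      (tilde.functor Γ(pullback f (h k), (U' k : (pullback f (h k)).Opens))) := fun k =>
    Groth.Agent.Lib.Helper17.KProjAff.preservesFiniteLimits_tilde _
  haveI : ∀ k, DRing.HasLBaseChange ((pullback.fst f (h k)).appLE (U : X.Opens)
      (U' k : (pullback f (h k)).Opens) (hU'U k)).hom := fun k =>
    Groth.Agent.Lib.Helper28.Lpull.hasLBaseChange _
  let G₀ := DerivedCategory.Q.objPreimage E
  let eG₀ : DerivedCategory.Q.obj G₀ ≅ E := DerivedCategory.Q.objObjPreimageIso E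
  have hK := isQCohD_push_restrict E hEq (U : X.Opens) U.2 G₀ eG₀
  obtain ⟨K, ⟨eK⟩⟩ := ((Groth.Agent.Lib.Helper17.TD4.main Γ(X, (U : X.Opens))).2.2 _).1 hK
  have hj : ∀ k, letI := ((pullback.snd f (h k)).appLE (V' k)
        (U' k : (pullback f (h k)).Opens) (hU'V' k)).hom.toAlgebra
      DerCA.IsRelPseudoCoherent Γ(Y' k, V' k)
        Γ(pullback f (h k), (U' k : (pullback f (h k)).Opens)) m
        ((DRing.LBaseChange ((pullback.fst f (h k)).appLE (U : X.Opens)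
          (U' k : (pullback f (h k)).Opens) (hU'U k)).hom).obj K) := fun k => by
    let G' := DerivedCategory.Q.objPreimage ((DCoh.Lpull (pullback.fst f (h k))).obj E)
    let eG' : DerivedCategory.Q.obj G' ≅ (DCoh.Lpull (pullback.fst f (h k))).obj E :=
      DerivedCategory.Q.objObjPreimageIso _
    obtain ⟨eK'⟩ := nonempty_chart_data_iso (pullback.fst f (h k)) E U (U' k) (hU'U k) G₀ eG₀
      G' eG' K eK
    obtain ⟨n₁, φ₁, hφ₁, hPC₁⟩ := (isPseudoCoherentRel_iff_forall (pullback.snd f (h k)) m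
      _).1 (hE k) (U' k) ⟨V' k, hV' k⟩ (hU'V' k)
    exact isRelPseudoCoherent_of_chartPC (pullback.snd f (h k)) _ m (U' k) ⟨V' k, hV' k⟩
      (hU'V' k) G' eG' _ eK' φ₁ hφ₁ hPC₁
  have key := isRelPC_of_LBaseChange_jointly' (f.appLE (V : Y.Opens) (U : X.Opens) hUV).hom
    (LocallyOfFiniteType.finiteType_appLE f V.2 U.2 hUV)
    (fun k => Γ(Y' k, V' k)) (fun k => Γ(pullback f (h k), (U' k : (pullback f (h k)).Opens)))
    (fun k => ((h k).appLE (V : Y.Opens) (V' k) (hle k)).hom)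
    (fun k => (h k).flat_appLE V.2 (hV' k) (hle k))
    (fun k => ((pullback.fst f (h k)).appLE (U : X.Opens)
      (U' k : (pullback f (h k)).Opens) (hU'U k)).hom)
    (fun k => ((pullback.snd f (h k)).appLE (V' k) (U' k : (pullback f (h k)).Opens)
      (hU'V' k)).hom)
    (fun k => hpo k)
    (fun p => exists_prime_over_family (V : Y.Opens) V.2 Y' h V' hV' hle hcov p) K m hj
  exact exists_chartPC_of_isRelPseudoCoherent f E m U V hUV G₀ eG₀ K eK key

/-- **S7228**: relative `m`-pseudo-coherence is fppf-local on the base -/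
theorem isPseudoCoherentRel_iff_fppf_cover_base {S : Scheme.{u}} (f : X ⟶ S)
    [LocallyOfFiniteType f] {ι : Type u} (Si : ι → Scheme.{u}) (h : ∀ i, Si i ⟶ S)
    [∀ i, Flat (h i)] [∀ i, LocallyOfFinitePresentation (h i)]
    (hcov : ∀ s : S, ∃ (i : ι) (t : Si i), (h i).base t = s)
    [∀ i, DCoh.HasLpull (pullback.fst f (h i))] (m : ℤ) (E : DCoh.D X) (hE : DCoh.IsQCohD E) :
    DerSch.IsPseudoCoherentRel f m E ↔
      ∀ i, DerSch.IsPseudoCoherentRel (pullback.snd f (h i)) m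
        ((DCoh.Lpull (pullback.fst f (h i))).obj E) := by
  constructor
  · intro H i
    exact isPseudoCoherentRel_Lpull_baseChange_of_flat f (h i) E hE m H
  · intro H
    rw [isPseudoCoherentRel_iff_forall]
    intro U V hUV
    obtain ⟨r, i, V', hV'a, hV'le, hV'cov⟩ := exists_finite_affine_family Si h hcov (V : S.Opens)
      V.2.isCompact
    exact exists_chartPC_of_finite_flat_family f E hE m U V hUV (fun k => Si (i k))
      (fun k => h (i k)) V' hV'a hV'le hV'cov (fun k => H (i k))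

end Family

end
end Groth.Agent.Lib.Helper28.RelPC
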