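import Mathlib
import Groth.Agent.Lib.Helper28.RelPC41
import Groth.Agent.Lib.Helper28.RelPC27
set_option autoImplicit false
universe u
open CategoryTheory Limits AlgebraicGeometry TopologicalSpace Opposite
namespace Groth.Agent.Lib.Helper28.RelPC
noncomputable section
attribute [local instance] HasDerivedCategory.standard
open Groth.Agent.Lib.Helper29.QCoh Groth.Agent.Lib.Helper28.DCohRes
  Groth.Agent.Lib.Helper13.PC Groth.Agent.Lib.Helper13.DR Groth.Agent.Lib.Helper28.Lpull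
  Groth.Agent.Lib.Helper28.RelPerf Groth.Agent.Lib.Helper13.BS

section Ring42

attribute [local instance] MvPolynomial.algebraMvPolynomial

/-- base change of a pseudo-coherent presentation along a Tor-independent pushout, the
Tor-independence being given in resolution form -/
theorem isNPC_resSingle_of_quasiIso_ext (P A P' A' : Type u) [CommRing P] [CommRing A]
    [CommRing P'] [CommRing A'] [Algebra P A] [Algebra P P'] [Algebra A A'] [Algebra P' A']
    [Algebra P A'] [IsScalarTower P A A'] [IsScalarTower P P' A'] [Algebra.IsPushout P P' A A']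
    (hq : QuasiIso ((extC (algebraMap P P')).map (Groth.Agent.Lib.Helper13.TI.PA P A).π'))
    (n : ℤ)
    (h : IsNPC (Pff P) n ((resSingle (algebraMap P A)).obj (ModuleCat.of A A))) :
    IsNPC (Pff P') n ((resSingle (algebraMap P' A')).obj (ModuleCat.of A' A')) := by
  haveI : DRing.HasLBaseChange (algebraMap P P') :=
    Groth.Agent.Lib.Helper28.Lpull.hasLBaseChange _
  let M : ModuleCat.{u} P := Groth.Agent.Lib.Helper13.TI.MA P A
  let PA := Groth.Agent.Lib.Helper13.TI.PA P A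
  have h1 : DRing.IsPseudoCoherent P' n ((DRing.LBaseChange (algebraMap P P')).obj
      ((resSingle (algebraMap P A)).obj (ModuleCat.of A A))) :=
    Groth.Agent.S2137.result (algebraMap P P') _ n ((isPseudoCoherent_iff _ _).2 h)
  rw [isPseudoCoherent_iff] at h1
  refine h1.of_iso ?_
  haveI hπ : QuasiIso PA.π' := inferInstance
  have hiq : IsIso (DerivedCategory.Q.map PA.π') := by
    rw [DerivedCategory.isIso_Q_map_iff_quasiIso]; exact hπ
  have hiq' : IsIso (DerivedCategory.Q.map ((extC (algebraMap P P')).map PA.π')) := by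
    rw [DerivedCategory.isIso_Q_map_iff_quasiIso]; exact hq
  let e0 : (resSingle (algebraMap P A)).obj (ModuleCat.of A A) ≅
      DerivedCategory.Q.obj ((CochainComplex.singleFunctor (ModuleCat.{u} P) 0).obj M) :=
    (DerivedCategory.singleFunctorIsoCompQ (ModuleCat.{u} P) 0).app M
  let e1 : DerivedCategory.Q.obj PA.cochainComplex ≅
      DerivedCategory.Q.obj ((CochainComplex.singleFunctor (ModuleCat.{u} P) 0).obj M) :=
    @asIso _ _ _ _ (DerivedCategory.Q.map PA.π') hiq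
  let e2 := LBaseChangeIso (algebraMap P P') PA.cochainComplex
  let e3 : DerivedCategory.Q.obj ((extC (algebraMap P P')).obj PA.cochainComplex) ≅
      DerivedCategory.Q.obj ((extC (algebraMap P P')).obj
        ((CochainComplex.singleFunctor (ModuleCat.{u} P) 0).obj M)) :=
    @asIso _ _ _ _ (DerivedCategory.Q.map ((extC (algebraMap P P')).map PA.π')) hiq'
  let e4 : (extC (algebraMap P P')).obj
        ((CochainComplex.singleFunctor (ModuleCat.{u} P) 0).obj M) ≅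
      (CochainComplex.singleFunctor (ModuleCat.{u} P') 0).obj
        ((ModuleCat.extendScalars.{u, u, u} (algebraMap P P')).obj M) :=
    (HomologicalComplex.singleMapHomologicalComplex
      (ModuleCat.extendScalars.{u, u, u} (algebraMap P P')) (ComplexShape.up ℤ) 0).app M
  have e5 : (ModuleCat.extendScalars.{u, u, u} (algebraMap P P')).obj M ≅
      (ModuleCat.restrictScalars.{u} (algebraMap P' A')).obj (ModuleCat.of A' A') :=
    pbcIso P A P' A' (ModuleCat.of A A) ≪≫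
      (ModuleCat.restrictScalars.{u} (algebraMap P' A')).mapIso (extendSelfIso A A')
  exact (DRing.LBaseChange (algebraMap P P')).mapIso (e0 ≪≫ e1.symm) ≪≫ e2 ≪≫ e3 ≪≫
    DerivedCategory.Q.mapIso e4 ≪≫
    ((DerivedCategory.singleFunctorIsoCompQ (ModuleCat.{u} P') 0).app _).symm ≪≫
    (DerivedCategory.singleFunctor (ModuleCat.{u} P') 0).mapIso e5

/-- base change of a chart along `k ⊗_R -` when source and target are flat over `R` -/
theorem exists_chart_baseChange_of_flat_over_base {R k B A B' A' : Type u} [CommRing R]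
    [CommRing k] [CommRing B] [CommRing A] [CommRing B'] [CommRing A']
    (σ : R →+* B) (τ : R →+* k) (κ : k →+* B') (η : B →+* B') (ρ : B →+* A) (γ : A →+* A')
    (ρ' : B' →+* A')
    (hsq₀ : IsPushout (CommRingCat.ofHom σ) (CommRingCat.ofHom τ) (CommRingCat.ofHom η)
      (CommRingCat.ofHom κ))
    (hsq : IsPushout (CommRingCat.ofHom ρ) (CommRingCat.ofHom η) (CommRingCat.ofHom γ)
      (CommRingCat.ofHom ρ'))
    (hσ : σ.Flat) (hρσ : (ρ.comp σ).Flat)
    {m : ℕ} (φ : MvPolynomial (Fin m) B →+* A) (hφs : Function.Surjective φ)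
    (hφC : φ.comp MvPolynomial.C = ρ) (n : ℤ)
    (hφ : IsNPC (Pff (MvPolynomial (Fin m) B)) n ((resSingle φ).obj (ModuleCat.of A A))) :
    ∃ φ' : MvPolynomial (Fin m) B' →+* A', Function.Surjective φ' ∧
      φ'.comp MvPolynomial.C = ρ' ∧
      IsNPC (Pff (MvPolynomial (Fin m) B')) n ((resSingle φ').obj (ModuleCat.of A' A')) := by
  have hw₀ : η.comp σ = κ.comp τ := by
    have := hsq₀.w
    exact congrArg CommRingCat.Hom.hom this
  have hw : γ.comp ρ = ρ'.comp η := by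
    have := hsq.w
    exact congrArg CommRingCat.Hom.hom this
  letI : Algebra R B := σ.toAlgebra
  letI : Algebra R k := τ.toAlgebra
  letI : Algebra k B' := κ.toAlgebra
  letI : Algebra B B' := η.toAlgebra
  letI : Algebra R B' := (η.comp σ).toAlgebra
  haveI : IsScalarTower R B B' := .of_algebraMap_eq' rfl
  haveI : IsScalarTower R k B' := .of_algebraMap_eq' hw₀
  haveI hpo₀ : Algebra.IsPushout R B k B' := CommRingCat.isPushout_iff_isPushout.mp hsq₀
  letI : Algebra B A := ρ.toAlgebra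
  letI : Algebra A A' := γ.toAlgebra
  letI : Algebra B' A' := ρ'.toAlgebra
  letI : Algebra B A' := (γ.comp ρ).toAlgebra
  letI : Algebra R A := (ρ.comp σ).toAlgebra
  haveI : IsScalarTower R B A := .of_algebraMap_eq' rfl
  haveI : IsScalarTower B A A' := .of_algebraMap_eq' rfl
  haveI : IsScalarTower B B' A' := .of_algebraMap_eq' hw
  haveI hpo : Algebra.IsPushout B A B' A' := CommRingCat.isPushout_iff_isPushout.mp hsq
  haveI : Module.Flat R B := hσ
  haveI : Module.Flat R A := hρσ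
  let φ' : MvPolynomial (Fin m) B' →+* A' :=
    MvPolynomial.eval₂Hom ρ' (fun i => γ (φ (MvPolynomial.X i)))
  have hφ'C : φ'.comp MvPolynomial.C = ρ' := by
    refine RingHom.ext fun b => ?_
    exact MvPolynomial.eval₂Hom_C _ _ b
  have hcomm : γ.comp φ = φ'.comp (MvPolynomial.map η) := by
    refine MvPolynomial.ringHom_ext (fun b => ?_) (fun i => ?_)
    · have h1 : φ (MvPolynomial.C b) = ρ b := congrArg (fun t => t b) (congrArg DFunLike.coe hφC)
      change γ (φ (MvPolynomial.C b)) = φ' (MvPolynomial.map η (MvPolynomial.C b))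
      rw [h1, MvPolynomial.map_C]
      have h2 : φ' (MvPolynomial.C (η b)) = ρ' (η b) := MvPolynomial.eval₂Hom_C _ _ _
      rw [h2]
      exact congrArg (fun t => t b) (congrArg DFunLike.coe hw)
    · change γ (φ (MvPolynomial.X i)) = φ' (MvPolynomial.map η (MvPolynomial.X i))
      rw [MvPolynomial.map_X]
      exact (MvPolynomial.eval₂Hom_X' ρ' (fun i => γ (φ (MvPolynomial.X i))) i).symm
  have hφ's : Function.Surjective φ' := by
    intro a'
    obtain ⟨t, rfl⟩ := (Algebra.IsPushout.equiv B A B' A').surjective a'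
    suffices h : (Algebra.IsPushout.equiv B A B' A') t ∈ φ'.range from h
    induction t using TensorProduct.induction_on with
    | zero => rw [map_zero]; exact Subring.zero_mem _
    | tmul a b =>
      rw [Algebra.IsPushout.equiv_tmul]
      obtain ⟨p, rfl⟩ := hφs a
      refine Subring.mul_mem _ ⟨MvPolynomial.map η p, ?_⟩ ⟨MvPolynomial.C b, ?_⟩
      · exact (congrArg (fun t => t p) (congrArg DFunLike.coe hcomm)).symm
      · exact congrArg (fun t => t b) (congrArg DFunLike.coe hφ'C)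
    | add x y hx hy => rw [map_add]; exact Subring.add_mem _ hx hy
  refine ⟨φ', hφ's, hφ'C, ?_⟩
  letI : Algebra (MvPolynomial (Fin m) B) A := φ.toAlgebra
  letI : Algebra (MvPolynomial (Fin m) B') A' := φ'.toAlgebra
  letI : Algebra (MvPolynomial (Fin m) B) A' := (γ.comp φ).toAlgebra
  haveI : IsScalarTower (MvPolynomial (Fin m) B) A A' := .of_algebraMap_eq' rfl
  haveI : IsScalarTower (MvPolynomial (Fin m) B) (MvPolynomial (Fin m) B') A' :=
    .of_algebraMap_eq' hcomm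
  haveI : IsScalarTower B (MvPolynomial (Fin m) B) A := .of_algebraMap_eq' hφC.symm
  haveI : IsScalarTower B' (MvPolynomial (Fin m) B') A' := .of_algebraMap_eq' hφ'C.symm
  haveI : IsScalarTower B (MvPolynomial (Fin m) B') A' := .of_algebraMap_eq' (by
    change γ.comp ρ = φ'.comp (MvPolynomial.C.comp η)
    rw [← RingHom.comp_assoc, hφ'C, hw])
  haveI : IsScalarTower B (MvPolynomial (Fin m) B) A' := .of_algebraMap_eq' (by
    change γ.comp ρ = (γ.comp φ).comp MvPolynomial.C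
    rw [RingHom.comp_assoc, hφC])
  have hpo2 : Algebra.IsPushout (MvPolynomial (Fin m) B) A (MvPolynomial (Fin m) B') A' :=
    (Algebra.IsPushout.comp_iff B (MvPolynomial (Fin m) B) B' (MvPolynomial (Fin m) B')
      (T := A) (T' := A')).1 hpo
  haveI : Algebra.IsPushout (MvPolynomial (Fin m) B) (MvPolynomial (Fin m) B') A A' := hpo2.symm
  -- the polynomial rings over `R`
  haveI : IsScalarTower R (MvPolynomial (Fin m) B) (MvPolynomial (Fin m) B') :=
    .of_algebraMap_eq (fun r => by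
      rw [MvPolynomial.algebraMap_apply, MvPolynomial.algebraMap_apply]
      change _ = MvPolynomial.map η (MvPolynomial.C (algebraMap R B r))
      rw [MvPolynomial.map_C]
      rfl)
  haveI : IsScalarTower R (MvPolynomial (Fin m) B) A := .of_algebraMap_eq (fun r => by
    rw [MvPolynomial.algebraMap_apply]
    change ρ (σ r) = φ (MvPolynomial.C (σ r))
    exact (congrArg (fun t => t (σ r)) (congrArg DFunLike.coe hφC)).symm)
  have hpoR : Algebra.IsPushout R (MvPolynomial (Fin m) B) k (MvPolynomial (Fin m) B') :=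
    (Algebra.IsPushout.comp_iff R B k B' (T := MvPolynomial (Fin m) B)
      (T' := MvPolynomial (Fin m) B')).2 inferInstance
  haveI : Algebra.IsPushout R k (MvPolynomial (Fin m) B) (MvPolynomial (Fin m) B') := hpoR.symm
  haveI : Module.Flat R (MvPolynomial (Fin m) B) := Module.Flat.trans R B _
  have hq := Groth.Agent.Lib.Helper13.TI.quasiIso_ext_π'_of_flat R (MvPolynomial (Fin m) B) k
    (MvPolynomial (Fin m) B') A
  exact isNPC_resSingle_of_quasiIso_ext (MvPolynomial (Fin m) B) A (MvPolynomial (Fin m) B') A'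
    hq n hφ

end Ring42

section SchemeT

variable {S T Y₂ X₂ W X' : Scheme.{u}}

/-- base change of an `n`-pseudo-coherent morphism between flat `S`-schemes along an arbitrary
morphism `T ⟶ S` -/
theorem isNPseudoCoherent_baseChange_of_flat_over_base
    (f₂ : X₂ ⟶ Y₂) [LocallyOfFiniteType f₂] (q₂ : Y₂ ⟶ S) [Flat q₂] [Flat (f₂ ≫ q₂)]
    (c : T ⟶ S) (w₂ : W ⟶ Y₂) (w₁ : W ⟶ T) (HW : IsPullback w₂ w₁ q₂ c)
    (g' : X' ⟶ X₂) (f' : X' ⟶ W) (HX : IsPullback g' f' f₂ w₂)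
    (n : ℤ) (hf : DerSch.IsNPseudoCoherent f₂ n) : DerSch.IsNPseudoCoherent f' n := by
  have hf' := (isNPseudoCoherent_iff_forall_isNPC f₂ n).1 hf
  have hlft : LocallyOfFiniteType f' :=
    MorphismProperty.of_isPullback (P := @LocallyOfFiniteType) HX inferInstance
  refine ⟨hlft,
    {W₀ | ∃ (S₀ : S.affineOpens) (T₀ : T.affineOpens) (V₂ : Y₂.affineOpens),
      (T₀ : T.Opens) ≤ c ⁻¹ᵁ (S₀ : S.Opens) ∧ (V₂ : Y₂.Opens) ≤ q₂ ⁻¹ᵁ (S₀ : S.Opens) ∧
      (W₀ : W.Opens) = w₂ ⁻¹ᵁ (V₂ : Y₂.Opens) ⊓ w₁ ⁻¹ᵁ (T₀ : T.Opens)}, ?_, fun W₀ hW₀ => ?_⟩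
  · apply le_antisymm le_top
    intro y _
    have hcomm : q₂ (w₂ y) = c (w₁ y) := by
      rw [← Scheme.Hom.comp_apply, ← Scheme.Hom.comp_apply, HW.w]
    obtain ⟨S₀, hS₀, hyS₀, -⟩ := exists_isAffineOpen_mem_and_subset (x := q₂ (w₂ y)) (U := ⊤)
      trivial
    obtain ⟨T₀, hT₀, hyT₀, hT₀le⟩ := exists_isAffineOpen_mem_and_subset (x := w₁ y)
      (U := c ⁻¹ᵁ S₀) (by change c (w₁ y) ∈ S₀; rw [← hcomm]; exact hyS₀)
    obtain ⟨V₂, hV₂, hyV₂, hV₂le⟩ := exists_isAffineOpen_mem_and_subset (x := w₂ y)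
      (U := q₂ ⁻¹ᵁ S₀) hyS₀
    simp only [TopologicalSpace.Opens.mem_iSup]
    exact ⟨⟨w₂ ⁻¹ᵁ V₂ ⊓ w₁ ⁻¹ᵁ T₀, isAffineOpen_inf_preimage HW hS₀ hT₀ hV₂ hT₀le hV₂le rfl⟩,
      ⟨⟨S₀, hS₀⟩, ⟨T₀, hT₀⟩, ⟨V₂, hV₂⟩, hT₀le, hV₂le, rfl⟩, ⟨hyV₂, hyT₀⟩⟩
  · obtain ⟨S₀, T₀, V₂, hT₀S₀, hV₂S₀, hW₀⟩ := hW₀
    have hW₀V₂ : (W₀ : W.Opens) ≤ w₂ ⁻¹ᵁ (V₂ : Y₂.Opens) := by rw [hW₀]; exact inf_le_left
    refine ⟨{U' | ∃ U₂ : X₂.affineOpens, (U₂ : X₂.Opens) ≤ f₂ ⁻¹ᵁ (V₂ : Y₂.Opens) ∧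
      (U' : X'.Opens) = g' ⁻¹ᵁ (U₂ : X₂.Opens) ⊓ f' ⁻¹ᵁ (W₀ : W.Opens)}, ?_, ?_⟩
    · apply le_antisymm
      · refine iSup₂_le fun U' hU' => ?_
        obtain ⟨U₂, -, hU'⟩ := hU'
        rw [hU']
        exact inf_le_right
      · intro x hx
        have hfx : f₂ (g' x) ∈ (V₂ : Y₂.Opens) := by
          have h1 : f₂ (g' x) = w₂ (f' x) := by
            rw [← Scheme.Hom.comp_apply, ← Scheme.Hom.comp_apply, HX.w]
          rw [h1]
          exact hW₀V₂ hx
        obtain ⟨U₂, hU₂, hxU₂, hU₂le⟩ := exists_isAffineOpen_mem_and_subset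
          (x := g' x) (U := f₂ ⁻¹ᵁ (V₂ : Y₂.Opens)) hfx
        simp only [TopologicalSpace.Opens.mem_iSup]
        exact ⟨⟨g' ⁻¹ᵁ U₂ ⊓ f' ⁻¹ᵁ (W₀ : W.Opens),
          isAffineOpen_inf_preimage HX V₂.2 W₀.2 hU₂ hW₀V₂ hU₂le rfl⟩, ⟨⟨U₂, hU₂⟩, hU₂le, rfl⟩,
          ⟨hxU₂, hx⟩⟩
    · rintro U' ⟨U₂, hU₂V₂, hU'⟩ hle
      obtain ⟨k, φ, hφs, hφC⟩ := exists_chart_of_finiteType _
        (LocallyOfFiniteType.finiteType_appLE f₂ V₂.2 U₂.2 hU₂V₂)
      have hφ := hf' (U₂ : X₂.Opens) U₂.2 (V₂ : Y₂.Opens) V₂.2 hU₂V₂ φ ⟨hφs, hφC⟩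
      haveI hiso₀ := isIso_pushoutSection_of_isAffineOpen HW hT₀S₀ hV₂S₀ hW₀ S₀.2 T₀.2 V₂.2
      have hpo₀ := (isIso_pushoutSection_iff HW hT₀S₀ hV₂S₀ hW₀).1 hiso₀
      haveI hiso := isIso_pushoutSection_of_isAffineOpen HX hW₀V₂ hU₂V₂ hU' V₂.2 W₀.2 U₂.2
      have hpo := (isIso_pushoutSection_iff HX hW₀V₂ hU₂V₂ hU').1 hiso
      have hU₂S₀ : (U₂ : X₂.Opens) ≤ (f₂ ≫ q₂) ⁻¹ᵁ (S₀ : S.Opens) := fun x hx =>
        hV₂S₀ (hU₂V₂ hx)
      have hfl : ((f₂.appLE (V₂ : Y₂.Opens) (U₂ : X₂.Opens) hU₂V₂).hom.comp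
          (q₂.appLE (S₀ : S.Opens) (V₂ : Y₂.Opens) hV₂S₀).hom).Flat := by
        have h1 := (f₂ ≫ q₂).flat_appLE S₀.2 U₂.2 hU₂S₀
        have h2 : ((f₂ ≫ q₂).appLE (S₀ : S.Opens) (U₂ : X₂.Opens) hU₂S₀).hom =
            (f₂.appLE (V₂ : Y₂.Opens) (U₂ : X₂.Opens) hU₂V₂).hom.comp
              (q₂.appLE (S₀ : S.Opens) (V₂ : Y₂.Opens) hV₂S₀).hom := by
          rw [← CommRingCat.hom_comp, Scheme.Hom.appLE_comp_appLE]
        rw [← h2]
        exact h1
      obtain ⟨φ', hφ's, hφ'C, hφ'⟩ := exists_chart_baseChange_of_flat_over_base _ _ _ _ _ _ _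
        hpo₀ hpo (q₂.flat_appLE S₀.2 V₂.2 hV₂S₀) hfl φ hφs hφC n hφ
      exact ⟨k, φ', ⟨hφ's, hφ'C⟩,
        (chartPC_unit_iff_isNPC (U' : X'.Opens) U'.2 (W₀ : W.Opens) φ' hφ's n).2 hφ'⟩

end SchemeT

section Product

/-- flat base change of an `n`-pseudo-coherent morphism, for an arbitrary pullback square -/
theorem isNPseudoCoherent_of_isPullback_of_flat {X Y Y' X' : Scheme.{u}} (f : X ⟶ Y)
    [LocallyOfFiniteType f] (h : Y' ⟶ Y) [Flat h] (g' : X' ⟶ X) (f' : X' ⟶ Y')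
    (H : IsPullback g' f' f h) (n : ℤ) (hf : DerSch.IsNPseudoCoherent f n) :
    DerSch.IsNPseudoCoherent f' n := by
  have hf' := (isNPseudoCoherent_iff_forall_isNPC f n).1 hf
  have hlft : LocallyOfFiniteType f' :=
    MorphismProperty.of_isPullback (P := @LocallyOfFiniteType) H inferInstance
  refine ⟨hlft,
    {V' | ∃ V : Y.affineOpens, (V' : Y'.Opens) ≤ h ⁻¹ᵁ (V : Y.Opens)}, ?_, fun V' hV' => ?_⟩
  · apply le_antisymm le_top
    intro y _
    obtain ⟨V, hV, hyV, -⟩ := exists_isAffineOpen_mem_and_subset (x := h y) (U := ⊤) trivial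
    obtain ⟨V', hV', hyV', hle⟩ := exists_isAffineOpen_mem_and_subset (x := y)
      (U := h ⁻¹ᵁ V) hyV
    simp only [TopologicalSpace.Opens.mem_iSup]
    exact ⟨⟨V', hV'⟩, ⟨⟨V, hV⟩, hle⟩, hyV'⟩
  · obtain ⟨V, hV'V⟩ := hV'
    refine ⟨{U' | ∃ U : X.affineOpens, (U : X.Opens) ≤ f ⁻¹ᵁ (V : Y.Opens) ∧
      (U' : X'.Opens) = g' ⁻¹ᵁ (U : X.Opens) ⊓ f' ⁻¹ᵁ (V' : Y'.Opens)}, ?_, ?_⟩
    · apply le_antisymm
      · refine iSup₂_le fun U' hU' => ?_
        obtain ⟨U, -, hU'⟩ := hU'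
        rw [hU']
        exact inf_le_right
      · intro x hx
        have hfx : f (g' x) ∈ (V : Y.Opens) := by
          have h1 : f (g' x) = h (f' x) := by
            rw [← Scheme.Hom.comp_apply, ← Scheme.Hom.comp_apply, H.w]
          rw [h1]
          exact hV'V hx
        obtain ⟨U, hU, hxU, hUle⟩ := exists_isAffineOpen_mem_and_subset
          (x := g' x) (U := f ⁻¹ᵁ (V : Y.Opens)) hfx
        simp only [TopologicalSpace.Opens.mem_iSup]
        exact ⟨⟨g' ⁻¹ᵁ U ⊓ f' ⁻¹ᵁ (V' : Y'.Opens),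
          isAffineOpen_inf_preimage H V.2 V'.2 hU hV'V hUle rfl⟩, ⟨⟨U, hU⟩, hUle, rfl⟩,
          ⟨hxU, hx⟩⟩
    · rintro U' ⟨U, hUV, hU'⟩ hle
      obtain ⟨k, φ, hφs, hφC⟩ := exists_chart_of_finiteType _
        (LocallyOfFiniteType.finiteType_appLE f V.2 U.2 hUV)
      have hφ := hf' (U : X.Opens) U.2 (V : Y.Opens) V.2 hUV φ ⟨hφs, hφC⟩
      haveI hiso := isIso_pushoutSection_of_isAffineOpen H hV'V hUV hU' V.2 V'.2 U.2
      have hpo := (isIso_pushoutSection_iff H hV'V hUV hU').1 hiso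
      obtain ⟨φ', hφ's, hφ'C, hφ'⟩ := exists_chart_baseChange _ _ _ _ hpo
        (h.flat_appLE V.2 V'.2 hV'V) φ hφs hφC n hφ
      exact ⟨k, φ', ⟨hφ's, hφ'C⟩,
        (chartPC_unit_iff_isNPC (U' : X'.Opens) U'.2 (V' : Y'.Opens) φ' hφ's n).2 hφ'⟩

/-- **S6260**: the product over `S` of two pseudo-coherent morphisms, the second one between flat
`S`-schemes, is pseudo-coherent -/
theorem isNPseudoCoherent_prod {S X₁ Y₁ X₂ Y₂ X Y : Scheme.{u}} (f₁ : X₁ ⟶ Y₁) (q₁ : Y₁ ⟶ S)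
    (f₂ : X₂ ⟶ Y₂) (q₂ : Y₂ ⟶ S) [Flat q₂] [Flat (f₂ ≫ q₂)]
    (pX₁ : X ⟶ X₁) (pX₂ : X ⟶ X₂) (hX : IsPullback pX₁ pX₂ (f₁ ≫ q₁) (f₂ ≫ q₂))
    (pY₁ : Y ⟶ Y₁) (pY₂ : Y ⟶ Y₂) (hY : IsPullback pY₁ pY₂ q₁ q₂)
    (f : X ⟶ Y) (hf₁ : f ≫ pY₁ = pX₁ ≫ f₁) (hf₂ : f ≫ pY₂ = pX₂ ≫ f₂)
    [LocallyOfFiniteType f₁] [LocallyOfFiniteType f₂]
    (h₁ : ∀ n : ℤ, DerSch.IsNPseudoCoherent f₁ n) (h₂ : ∀ n : ℤ, DerSch.IsNPseudoCoherent f₂ n)
    (n : ℤ) : DerSch.IsNPseudoCoherent f n := by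
  let fstW := pullback.fst (f₁ ≫ q₁) q₂
  let sndW := pullback.snd (f₁ ≫ q₁) q₂
  have HW0 : IsPullback fstW sndW (f₁ ≫ q₁) q₂ := IsPullback.of_hasPullback _ _
  have hw : pX₁ ≫ (f₁ ≫ q₁) = (pX₂ ≫ f₂) ≫ q₂ := by
    rw [Category.assoc]; exact hX.w
  let f' : X ⟶ pullback (f₁ ≫ q₁) q₂ := pullback.lift pX₁ (pX₂ ≫ f₂) hw
  have hf'1 : f' ≫ fstW = pX₁ := pullback.lift_fst _ _ _
  have hf'2 : f' ≫ sndW = pX₂ ≫ f₂ := pullback.lift_snd _ _ _
  have HX : IsPullback pX₂ f' f₂ sndW := by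
    refine (IsPullback.of_right ?_ hf'2 HW0).flip
    rw [hf'1]
    exact hX
  have hf'PC : DerSch.IsNPseudoCoherent f' n :=
    isNPseudoCoherent_baseChange_of_flat_over_base f₂ q₂ (f₁ ≫ q₁) sndW fstW HW0.flip pX₂ f' HX n
      (h₂ n)
  have hv : (fstW ≫ f₁) ≫ q₁ = sndW ≫ q₂ := by
    rw [Category.assoc]; exact HW0.w
  let v : pullback (f₁ ≫ q₁) q₂ ⟶ Y := hY.lift (fstW ≫ f₁) sndW hv
  have hv1 : v ≫ pY₁ = fstW ≫ f₁ := hY.lift_fst _ _ _
  have hv2 : v ≫ pY₂ = sndW := hY.lift_snd _ _ _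
  have HV : IsPullback fstW v f₁ pY₁ := by
    refine (IsPullback.of_right ?_ hv1 hY.flip).flip
    rw [hv2]
    exact HW0.flip
  haveI : Flat pY₁ := MorphismProperty.of_isPullback (P := @Flat) hY.flip inferInstance
  have hvPC : DerSch.IsNPseudoCoherent v n :=
    isNPseudoCoherent_of_isPullback_of_flat f₁ pY₁ fstW v HV n (h₁ n)
  have hfac : f = f' ≫ v := by
    apply hY.hom_ext
    · rw [hf₁, Category.assoc, hv1, ← Category.assoc, hf'1]
    · rw [hf₂, Category.assoc, hv2, hf'2]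
  haveI : LocallyOfFiniteType f' := hf'PC.1
  haveI : LocallyOfFiniteType v := hvPC.1
  have key := isNPseudoCoherent_comp f' v n n hf'PC hvPC
  rw [max_self] at key
  rw [hfac]
  exact key

end Product

end
end Groth.Agent.Lib.Helper28.RelPC
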