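import Mathlib
import Groth.Agent.Lib.Helper28.RelPerf5
import Groth.Agent.Lib.Helper28.DCohRes24
import Groth.Agent.Lib.Helper13.DRingTor
import Groth.Agent.Lib.Helper28.RelPC36

set_option autoImplicit false

universe u

open CategoryTheory Limits AlgebraicGeometry TopologicalSpace Opposite

namespace Groth.Agent.Lib.Helper28.RelPerf

noncomputable section

attribute [local instance] HasDerivedCategory.standard

open Groth.Agent.Lib.Helper29.QCoh Groth.Agent.Lib.Helper28.DCohRes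
  Groth.Agent.Lib.Helper28.DCohStalk Groth.Agent.Lib.Helper28.DCohTilde
  Groth.Agent.Lib.Helper13.PC Groth.Agent.Lib.Helper13.DR Groth.Agent.Lib.Helper28.DescPC

variable {X S : Scheme.{u}} (g : X ⟶ S)

/-- in a short exact sequence with `S`-flat middle and right terms, the left term is `S`-flat -/
theorem isFlatOver_of_shortExact (T : ShortComplex X.Modules) (hT : T.ShortExact)
    (h2 : FlatMod.IsFlatOver g T.X₂) (h3 : FlatMod.IsFlatOver g T.X₃) :
    FlatMod.IsFlatOver g T.X₁ := by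
  intro x
  rw [isFlatOverAt_iff_stalkOver]
  have hT' : (T.map (DerSch.stalkOver g x)).ShortExact := hT.map_of_exact _
  haveI : Module.Flat (S.presheaf.stalk (g x)) (T.map (DerSch.stalkOver g x)).X₂ :=
    (isFlatOverAt_iff_stalkOver g T.X₂ x).1 (h2 x)
  haveI : Module.Flat (S.presheaf.stalk (g x)) (T.map (DerSch.stalkOver g x)).X₃ :=
    (isFlatOverAt_iff_stalkOver g T.X₃ x).1 (h3 x)
  have hinj := (ModuleCat.mono_iff_injective _).1 hT'.mono_f
  have hsurj := (ModuleCat.epi_iff_surjective _).1 hT'.epi_g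
  have hex := (ShortComplex.ShortExact.moduleCat_exact_iff_function_exact _).1 hT'.exact
  exact Groth.Agent.Lib.Helper22.flat_of_exact_of_flat (T.map (DerSch.stalkOver g x)).f.hom
    (T.map (DerSch.stalkOver g x)).g.hom hinj hsurj hex

/-- the kernel of an epimorphism of `S`-flat modules is `S`-flat -/
theorem isFlatOver_kernel_of_epi {P Q : X.Modules} (f : P ⟶ Q) [Epi f]
    (hP : FlatMod.IsFlatOver g P) (hQ : FlatMod.IsFlatOver g Q) :
    FlatMod.IsFlatOver g (kernel f) := by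
  refine isFlatOver_of_shortExact g (ShortComplex.mk (kernel.ι f) f (kernel.condition f)) ?_ hP hQ
  exact { exact := ShortComplex.exact_of_f_is_kernel _ (kernelIsKernel f)
          mono_f := inferInstanceAs (Mono (kernel.ι f))
          epi_g := inferInstanceAs (Epi f) }

/-- a retract of an `S`-flat module is `S`-flat -/
lemma isFlatOver_of_retract {K M : X.Modules} (i : K ⟶ M) (r : M ⟶ K) (h : i ≫ r = 𝟙 K)
    (hM : FlatMod.IsFlatOver g M) : FlatMod.IsFlatOver g K := by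
  intro x
  rw [isFlatOverAt_iff_stalkOver]
  haveI := (isFlatOverAt_iff_stalkOver g M x).1 (hM x)
  refine Module.Flat.of_retract ((DerSch.stalkOver g x).map i).hom
    ((DerSch.stalkOver g x).map r).hom ?_
  rw [← ModuleCat.hom_comp, ← Functor.map_comp, h, CategoryTheory.Functor.map_id]
  rfl

/-- a binary biproduct of `S`-flat modules is `S`-flat -/
lemma isFlatOver_biprod {M N : X.Modules} (hM : FlatMod.IsFlatOver g M)
    (hN : FlatMod.IsFlatOver g N) : FlatMod.IsFlatOver g (M ⊞ N) := by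
  intro x
  rw [isFlatOverAt_iff_stalkOver]
  have h1 : Pfl _ ((DerSch.stalkOver g x).obj M) := (isFlatOverAt_iff_stalkOver g M x).1 (hM x)
  have h2 : Pfl _ ((DerSch.stalkOver g x).obj N) := (isFlatOverAt_iff_stalkOver g N x).1 (hN x)
  haveI : PreservesBinaryBiproduct M N (DerSch.stalkOver g x) :=
    preservesBinaryBiproduct_of_preservesBiproduct _ _ _
  have h : Pfl _ ((DerSch.stalkOver g x).obj (M ⊞ N)) :=
    (Pfl _).prop_of_iso ((biprod.isoProd _ _).symm ≪≫
      ((DerSch.stalkOver g x).mapBiprod M N).symm) (Pfl_prod _ _ h1 h2)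
  exact h

/-- in a bounded above complex whose terms in degrees `≥ m` are `S`-flat and which is exact in
degrees `> m`, the kernels of the differentials in degrees `≥ m` are `S`-flat -/
theorem isFlatOver_kernel_d {E : CochainComplex X.Modules ℤ} (m b : ℤ)
    (hE : ∀ i, m ≤ i → FlatMod.IsFlatOver g (E.X i)) (hEb : ∀ i, b < i → IsZero (E.X i))
    (hex : ∀ i, m < i → E.ExactAt i) (i : ℤ) (hi : m ≤ i) :
    FlatMod.IsFlatOver g (kernel (E.d i (i + 1))) := by
  have key : ∀ (k : ℕ) (i : ℤ), m ≤ i → b + 1 ≤ i + k →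
      FlatMod.IsFlatOver g (kernel (E.d i (i + 1))) := by
    intro k
    induction k with
    | zero =>
      intro i _ hib
      exact isFlatOver_of_isZero g
        (IsZero.of_mono (kernel.ι _) (hEb i (by push_cast at hib; omega)))
    | succ k ih =>
      intro i him hib
      have hZ := ih (i + 1) (by omega) (by push_cast at hib ⊢; omega)
      have hexact : (E.sc' i (i + 1) (i + 1 + 1)).Exact :=
        (E.exactAt_iff' i (i + 1) (i + 1 + 1) (by simp) (by simp)).1 (hex (i + 1) (by omega))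
      have hepi : Epi (kernel.lift (E.d (i + 1) (i + 1 + 1)) (E.d i (i + 1)) (E.d_comp_d _ _ _)) :=
        hexact.epi_kernelLift
      have hk := isFlatOver_kernel_of_epi g
        (kernel.lift (E.d (i + 1) (i + 1 + 1)) (E.d i (i + 1)) (E.d_comp_d _ _ _)) (hE i him) hZ
      have e : kernel (kernel.lift (E.d (i + 1) (i + 1 + 1)) (E.d i (i + 1)) (E.d_comp_d _ _ _)) ≅
          kernel (E.d i (i + 1)) :=
        (kernelCompMono _ (kernel.ι (E.d (i + 1) (i + 1 + 1)))).symm ≪≫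
          kernel.mapIso _ _ (Iso.refl _) (Iso.refl _) (by simp)
      exact isFlatOver_of_iso g e hk
  obtain ⟨k, hk⟩ : ∃ k : ℕ, b + 1 ≤ i + k := ⟨(b + 1 - i).toNat, by omega⟩
  exact key k i hi hk

/-- **Flatness of the bottom term.** -/
theorem isFlatOver_X_of_exact {E : CochainComplex X.Modules ℤ} (n b : ℤ)
    (hE : ∀ i, n < i → FlatMod.IsFlatOver g (E.X i)) (hEb : ∀ i, b < i → IsZero (E.X i))
    (hz : IsZero (E.X (n - 1))) (hex : ∀ i, n ≤ i → E.ExactAt i) :
    FlatMod.IsFlatOver g (E.X n) := by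
  have hZ := isFlatOver_kernel_d g (n + 1) b (fun i hi => hE i (by omega)) hEb
    (fun i hi => hex i (by omega)) (n + 1) le_rfl
  have hexact : (E.sc' n (n + 1) (n + 1 + 1)).Exact :=
    (E.exactAt_iff' n (n + 1) (n + 1 + 1) (by simp) (by simp)).1 (hex (n + 1) (by omega))
  have hepi : Epi (kernel.lift (E.d (n + 1) (n + 1 + 1)) (E.d n (n + 1)) (E.d_comp_d _ _ _)) :=
    hexact.epi_kernelLift
  have hexact' : (E.sc' (n - 1) n (n + 1)).Exact :=
    (E.exactAt_iff' (n - 1) n (n + 1) (by simp) (by simp)).1 (hex n le_rfl)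
  have hmono : Mono (E.d n (n + 1)) := by
    have h0 : (E.sc' (n - 1) n (n + 1)).f = 0 := hz.eq_of_src _ _
    exact (ShortComplex.exact_iff_mono _ h0).1 hexact'
  have hmono' : Mono (kernel.lift (E.d (n + 1) (n + 1 + 1)) (E.d n (n + 1))
      (E.d_comp_d _ _ _)) := by
    apply mono_of_mono_fac (kernel.lift_ι _ _ _)
  haveI : IsIso (kernel.lift (E.d (n + 1) (n + 1 + 1)) (E.d n (n + 1)) (E.d_comp_d _ _ _)) :=
    isIso_of_mono_of_epi _
  exact isFlatOver_of_iso g (asIso (kernel.lift (E.d (n + 1) (n + 1 + 1)) (E.d n (n + 1))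
    (E.d_comp_d _ _ _))).symm hZ

/-- **Part A, relative.** -/
theorem isFlatOver_truncGE_X [Flat g] {P F : CochainComplex X.Modules ℤ} (a b : ℤ)
    (hP : DCoh.IsStrictlyPerfect P) (hF : DCoh.VanishesOutside F a b)
    (hflat : ∀ i, FlatMod.IsFlatOver g (F.X i)) (φ : P ⟶ F)
    (hφ : IsApprox (a - 1) (DerivedCategory.Q.map φ)) :
    FlatMod.IsFlatOver g ((P.truncGE a).X a) := by
  obtain ⟨⟨a₁, b₁, hab₁⟩, hfree⟩ := hP
  haveI : F.IsStrictlyGE a := by
    rw [CochainComplex.isStrictlyGE_iff]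
    intro i hi
    exact hF i (Or.inl hi)
  let P' := P.truncGE a
  let ψ : P' ⟶ F := CochainComplex.truncGEMap φ a ≫ inv (F.πTruncGE a)
  have hq1 : QuasiIso (CochainComplex.truncGEMap φ a) := by
    rw [CochainComplex.quasiIso_truncGEMap_iff]
    intro i hi
    rw [quasiIsoAt_iff_isIso_homologyMap]
    exact ((isApprox_Q_map_iff φ (a - 1)).1 hφ).1 i (by omega)
  have hq : QuasiIso ψ := by
    dsimp only [ψ]
    infer_instance
  haveI : IsIso (DerivedCategory.Q.map ψ) := by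
    rw [DerivedCategory.isIso_Q_map_iff_quasiIso]
    exact hq
  have hP'lt : ∀ i, i < a → IsZero (P'.X i) := fun i hi =>
    CochainComplex.isZero_of_isStrictlyGE P' a i hi
  have hP'gt : ∀ i, a < i → FlatMod.IsFinLocFree (P'.X i) := fun i hi =>
    isFinLocFree_of_iso (P.truncGEXIso a i hi).symm (hfree i)
  have hP'gt0 : ∀ i, a < i → b₁ < i → IsZero (P'.X i) := fun i hi hi' =>
    IsZero.of_iso (hab₁ i (Or.inr hi')) (P.truncGEXIso a i hi)
  have key : ∀ i j : ℤ, i + 1 = j → ((CochainComplex.mappingCone ψ).X i ≅ P'.X j ⊞ F.X i) :=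
    fun i j hij => HomologicalComplex.homotopyCofiber.XIsoBiprod ψ i j hij
  have h1 : FlatMod.IsFlatOver g ((CochainComplex.mappingCone ψ).X (a - 1)) := by
    refine isFlatOver_X_of_exact g (a - 1) (max (max b₁ a) b) (fun i hi => ?_) (fun i hi => ?_) ?_
      (fun i hi => ?_)
    · exact isFlatOver_of_iso g (key i (i + 1) rfl).symm
        (isFlatOver_biprod g (isFlatOver_of_isFinLocFree g (hP'gt (i + 1) (by omega))) (hflat i))
    · refine IsZero.of_iso ?_ (key i (i + 1) rfl)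
      rw [biprod_isZero_iff]
      have h1 := le_max_left (max b₁ a) b
      have h2 := le_max_right (max b₁ a) b
      have h3 := le_max_left b₁ a
      have h4 := le_max_right b₁ a
      exact ⟨hP'gt0 (i + 1) (by omega) (by omega), hF i (Or.inr (by omega))⟩
    · refine IsZero.of_iso ?_ (key (a - 1 - 1) (a - 1) (by omega))
      rw [biprod_isZero_iff]
      exact ⟨hP'lt (a - 1) (by omega), hF (a - 1 - 1) (Or.inl (by omega))⟩
    · exact exactAt_mappingCone_of_isApprox ψ (a - 1)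
        (isApprox_of_isIso (DerivedCategory.Q.map ψ)) i hi
  have h2 := isFlatOver_of_iso g (key (a - 1) a (by omega)) h1
  exact isFlatOver_of_retract g biprod.inl biprod.fst biprod.inl_fst h2

/-- restriction to an open preserves flatness over the base -/
lemma isFlatOver_restrict {Y : Scheme.{u}} (j : Y ⟶ X) [IsOpenImmersion j] {M : X.Modules}
    (h : FlatMod.IsFlatOver g M) :
    FlatMod.IsFlatOver (j ≫ g) ((Scheme.Modules.restrictFunctor j).obj M) := by
  intro y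
  rw [isFlatOverAt_iff_stalkOver]
  have h1 : Pfl _ ((DerSch.stalkOver g (j y)).obj M) :=
    (isFlatOverAt_iff_stalkOver g M (j y)).1 (h (j y))
  have h2 : Pfl _ ((Scheme.Modules.restrictFunctor j ⋙ DerSch.stalkOver (j ≫ g) y).obj M) :=
    (Pfl _).prop_of_iso ((stalkOverRestrictIso j g y).app M).symm h1
  exact h2

/-- local approximation data: after restriction along `j`, `K` is represented by a complex `F`
with `S`-flat terms in `[a, b]`, which receives an approximation in degrees `≥ a` from a strictly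
perfect complex by a chain map -/
def ApproxAlong (K : DCoh.D X) {U : Scheme.{u}} (j : U ⟶ X) [IsOpenImmersion j] (a b : ℤ) :
    Prop :=
  ∃ (P F : CochainComplex U.Modules ℤ) (ψ : P ⟶ F), DCoh.IsStrictlyPerfect P ∧
    DCoh.VanishesOutside F a b ∧ (∀ i, FlatMod.IsFlatOver (j ≫ g) (F.X i)) ∧
    IsApprox (a - 1) (DerivedCategory.Q.map ψ) ∧
    Nonempty ((resD j).obj K ≅ DerivedCategory.Q.obj F)

variable {g}

lemma ApproxAlong.of_eq {K : DCoh.D X} {U : Scheme.{u}} {j j' : U ⟶ X} [IsOpenImmersion j]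
    [IsOpenImmersion j'] {a b : ℤ} (h : ApproxAlong g K j a b) (e : j = j') :
    ApproxAlong g K j' a b := by
  subst e
  exact h

lemma ApproxAlong.comp {K : DCoh.D X} {U U' : Scheme.{u}} {j : U ⟶ X} [IsOpenImmersion j]
    {a b : ℤ} (h : ApproxAlong g K j a b) (j' : U' ⟶ U) [IsOpenImmersion j'] :
    ApproxAlong g K (j' ≫ j) a b := by
  obtain ⟨P, F, ψ, hP, hF, hfl, hψ, ⟨e⟩⟩ := h
  refine ⟨(resCx j').obj P, (resCx j').obj F, (resCx j').map ψ, isStrictlyPerfect_resCx j' hP,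
    vanishesOutside_resCx j' hF, fun i => ?_, ?_,
    ⟨(resDComp j' j).app K ≪≫ (resD j').mapIso e ≪≫ (resDQ j').app F⟩⟩
  · have := isFlatOver_restrict (j ≫ g) j' (hfl i)
    rw [← Category.assoc] at this
    exact this
  · have h1 : DerivedCategory.Q.map ((resCx j').map ψ) =
        (resDQ j').inv.app P ≫ (resD j').map (DerivedCategory.Q.map ψ) ≫ (resDQ j').hom.app F := by
      have := (resDQ j').hom.naturality ψ
      simp only [Functor.comp_map] at this
      rw [this, Iso.inv_hom_id_app_assoc]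
    rw [h1]
    exact ((hψ.resD j').comp_iso ((resDQ j').app F)).iso_comp ((resDQ j').app P).symm

variable (g)

/-- **S7275, (⇒) at a point**, abstract open immersion form -/
theorem exists_approxAlong [Flat g] (E : DCoh.D X)
    (hPC : ∀ m : ℤ, DCoh.IsPseudoCoherentD m E) (hT : DCoh.LocHasFiniteRelTorDim g E) (x : X) :
    ∃ (a b : ℤ) (U : Scheme.{u}) (j : U ⟶ X) (_ : IsOpenImmersion j), x ∈ Set.range j.base ∧
      ApproxAlong g E j a b := by
  obtain ⟨V₁, a, b, hxV₁, hV₁⟩ := hT x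
  let F₀ : CochainComplex X.Modules ℤ := DerivedCategory.Q.objPreimage E
  let eF₀ : DCoh.toD X F₀ ≅ E := DerivedCategory.Q.objObjPreimageIso _
  obtain ⟨E₁, hE₁v, hE₁fl, ⟨eE₁⟩⟩ := hV₁ F₀ ⟨eF₀⟩
  have hpc := isPseudoCoherentD_resD (hPC (a - 1)) V₁.ι
  obtain ⟨U, j, hj, ⟨y, hy⟩, P, α, hP, hα⟩ :=
    (isPseudoCoherentD_iff (a - 1) _).1 hpc ⟨x, hxV₁⟩
  let ι : (resD j).obj ((resD V₁.ι).obj E) ≅ DerivedCategory.Q.obj ((resCx j).obj E₁) :=
    (resD j).mapIso ((resD V₁.ι).mapIso eF₀.symm ≪≫ (resDQ V₁.ι).app F₀ ≪≫ eE₁.symm) ≪≫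
      (resDQ j).app E₁
  have hα' : IsApprox (a - 1) (α ≫ ι.hom) := hα.comp_iso ι
  obtain ⟨⟨a₁, b₁, hab₁⟩, hfree⟩ := hP
  obtain ⟨U', j', hj', hy', ψ, hψ⟩ := exists_chainMap_locally P ((resCx j).obj E₁) a₁ b₁ hfree
    (fun i hi => hab₁ i (Or.inl hi)) (fun i hi => hab₁ i (Or.inr hi)) (α ≫ ι.hom) y
  have hψ' : IsApprox (a - 1) (DerivedCategory.Q.map ψ) := by
    rw [hψ]
    exact ((hα'.resD j').comp_iso ((resDQ j').app _)).iso_comp ((resDQ j').app P).symm
  refine ⟨a, b, U', j' ≫ j ≫ V₁.ι, inferInstance, ?_, (resCx j').obj P,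
    (resCx j').obj ((resCx j).obj E₁), ψ,
    isStrictlyPerfect_resCx j' ⟨⟨a₁, b₁, hab₁⟩, hfree⟩,
    vanishesOutside_resCx j' (vanishesOutside_resCx j hE₁v), fun i => ?_, hψ', ⟨?_⟩⟩
  · obtain ⟨y', rfl⟩ := hy'
    refine ⟨y', ?_⟩
    have : V₁.ι (j (j' y')) = x := by rw [hy]; rfl
    exact this
  · have h1 := isFlatOver_restrict (V₁.ι ≫ g) j (hE₁fl i)
    have h2 := isFlatOver_restrict (j ≫ V₁.ι ≫ g) j' h1
    rw [Category.assoc, Category.assoc]
    exact h2
  · exact (resDComp j' (j ≫ V₁.ι)).app E ≪≫ (resD j').mapIso ((resDComp j V₁.ι).app E ≪≫ ι) ≪≫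
      (resDQ j').app _

/-- **S7275, (⇒)** -/
theorem locally_fp_flat_of_relPerfect [Flat g] (E : DCoh.D X)
    (hPC : ∀ m : ℤ, DCoh.IsPseudoCoherentD m E) (hT : DCoh.LocHasFiniteRelTorDim g E) (x : X) :
    ∃ V : X.Opens, x ∈ V ∧ ∀ F : CochainComplex X.Modules ℤ, Nonempty (DCoh.toD X F ≅ E) →
      ∃ (G : CochainComplex (V : Scheme.{u}).Modules ℤ) (a b : ℤ), DCoh.VanishesOutside G a b ∧
        (∀ i : ℤ, CohB1.IsFP (G.X i) ∧ FlatMod.IsFlatOver (V.ι ≫ g) (G.X i)) ∧
        Nonempty (DerivedCategory.Q.obj ((DCoh.restrictCx V).obj F) ≅ DerivedCategory.Q.obj G) := by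
  obtain ⟨a, b, U, j, hj, hx, h⟩ := exists_approxAlong g E hPC hT x
  refine ⟨j.opensRange, hx, fun F ⟨eF⟩ => ?_⟩
  obtain ⟨P, F₁, ψ, hP, hF, hfl, hψ, ⟨e⟩⟩ :=
    (h.comp j.isoOpensRange.inv).of_eq j.isoOpensRange_inv_comp
  obtain ⟨⟨a₁, b₁, hab₁⟩, hfree⟩ := id hP
  have hP'lt : ∀ i, i < a → IsZero ((P.truncGE a).X i) := fun i hi =>
    CochainComplex.isZero_of_isStrictlyGE (P.truncGE a) a i hi
  have hP'gt : ∀ i, a < i → FlatMod.IsFinLocFree ((P.truncGE a).X i) := fun i hi =>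
    isFinLocFree_of_iso (P.truncGEXIso a i hi).symm (hfree i)
  have hP'gt0 : ∀ i, a < i → b₁ < i → IsZero ((P.truncGE a).X i) := fun i hi hi' =>
    IsZero.of_iso (hab₁ i (Or.inr hi')) (P.truncGEXIso a i hi)
  have hfp : ((P.truncGE a).X a).IsFinitePresentation :=
    isFinitePresentation_of_cokernel (P.d (a - 1) a) (hfree _) (hfree _)
      (opcyclesIsoCokernel P (a - 1) a (by omega) ≪≫ (P.truncGEXIsoOpcycles a).symm)
  have hflat := isFlatOver_truncGE_X (j.opensRange.ι ≫ g) a b hP hF hfl ψ hψ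
  obtain ⟨e'⟩ := nonempty_iso_truncGE a ψ hψ (fun i hi =>
    (HomologicalComplex.exactAt_iff_isZero_homology _ _).2
      (IsZero.of_mono (F₁.homologyι i) (IsZero.of_epi (F₁.pOpcycles i) (hF i (Or.inl hi)))))
  refine ⟨P.truncGE a, a, max b₁ a, fun i hi => ?_, fun i => ?_, ⟨?_⟩⟩
  · rcases hi with hi | hi
    · exact hP'lt i hi
    · have h3 := le_max_left b₁ a
      have h4 := le_max_right b₁ a
      exact hP'gt0 i (by omega) (by omega)
  · rcases lt_trichotomy i a with hi | rfl | hi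
    · exact ⟨((isFinLocFree_iff_flat _).1 (isFinLocFree_of_isZero (hP'lt i hi))).1,
        isFlatOver_of_isZero _ (hP'lt i hi)⟩
    · exact ⟨hfp, hflat⟩
    · exact ⟨((isFinLocFree_iff_flat _).1 (hP'gt i hi)).1,
        isFlatOver_of_isFinLocFree _ (hP'gt i hi)⟩
  · exact ((resDQ j.opensRange.ι).app F).symm ≪≫ (resD j.opensRange.ι).mapIso eF ≪≫ e ≪≫ e'

/-- **S7275, (⇐)** -/
theorem relPerfect_of_locally_fp_flat [Flat g] [LocallyOfFinitePresentation g] (E : DCoh.D X)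
    (h : ∀ x : X, ∃ V : X.Opens, x ∈ V ∧ ∀ F : CochainComplex X.Modules ℤ,
      Nonempty (DCoh.toD X F ≅ E) →
      ∃ (G : CochainComplex (V : Scheme.{u}).Modules ℤ) (a b : ℤ), DCoh.VanishesOutside G a b ∧
        (∀ i : ℤ, CohB1.IsFP (G.X i) ∧ FlatMod.IsFlatOver (V.ι ≫ g) (G.X i)) ∧
        Nonempty (DerivedCategory.Q.obj ((DCoh.restrictCx V).obj F) ≅ DerivedCategory.Q.obj G)) :
    (∀ m : ℤ, DCoh.IsPseudoCoherentD m E) ∧ DCoh.LocHasFiniteRelTorDim g E := by
  let F₀ : CochainComplex X.Modules ℤ := DerivedCategory.Q.objPreimage E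
  let eF₀ : DCoh.toD X F₀ ≅ E := DerivedCategory.Q.objObjPreimageIso _
  refine ⟨fun m => isPseudoCoherentD_of_locally fun x => ?_, fun x => ?_⟩
  · obtain ⟨V, hxV, hV⟩ := h x
    obtain ⟨G, a, b, hGv, hG, ⟨eG⟩⟩ := hV F₀ ⟨eF₀⟩
    refine ⟨V, V.ι, inferInstance, by rw [Scheme.Opens.range_ι]; exact hxV, ?_⟩
    have hg : ∀ n : ℤ, DerSch.IsNPseudoCoherent (V.ι ≫ g) n := fun n =>
      Groth.Agent.Lib.Helper28.RelPC.isNPseudoCoherent_of_flat_lfp (V.ι ≫ g) n
    have hrel : DerSch.IsPseudoCoherentRelAll (V.ι ≫ g) (DCoh.toD _ G) := by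
      refine Groth.Agent.Lib.Helper28.RelPC.isPseudoCoherentRelAll_of_flat_terms (V.ι ≫ g) G b
        (fun i hi => hGv i (Or.inr hi)) (fun i => (hG i).2) (fun i => ?_)
      haveI : (G.X i).IsFinitePresentation := (hG i).1
      exact Groth.Agent.Lib.Helper28.RelPC.isPseudoCoherentRel_of_iso (V.ι ≫ g) (-1)
        (Groth.Agent.Lib.Helper28.RelPC.inDIsoToD (G.X i))
        ((Groth.Agent.Lib.Helper28.RelPC.isPseudoCoherentD_iff_isPseudoCoherentRel (V.ι ≫ g)
          hg (-1) _).1 (isPseudoCoherentD_inD_of_isFinitePresentation (G.X i)))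
    have hG' : DCoh.IsPseudoCoherentD m (DCoh.toD _ G) :=
      (Groth.Agent.Lib.Helper28.RelPC.isPseudoCoherentD_iff_isPseudoCoherentRel (V.ι ≫ g)
        hg m _).2 (hrel m)
    exact isPseudoCoherentD_of_iso
      (eG.symm ≪≫ ((resDQ V.ι).app F₀).symm ≪≫ (resD V.ι).mapIso eF₀) hG'
  · obtain ⟨V, hxV, hV⟩ := h x
    obtain ⟨G, a, b, hGv, hG, ⟨eG⟩⟩ := hV F₀ ⟨eF₀⟩
    refine ⟨V, a, b, hxV, fun F' ⟨eF'⟩ => ⟨G, hGv, fun i => (hG i).2, ⟨?_⟩⟩⟩
    exact eG.symm ≪≫ ((resDQ V.ι).app F₀).symm ≪≫ (resD V.ι).mapIso (eF₀ ≪≫ eF'.symm) ≪≫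
      (resDQ V.ι).app F'

end

end Groth.Agent.Lib.Helper28.RelPerf
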