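import Mathlib
import Groth.Agent.Lib.Helper13.LTensorCxV
import Groth.Agent.Lib.Helper13.CMap4
import Groth.Agent.Lib.Helper28.TensorDelta2
set_option autoImplicit false

universe u

open CategoryTheory Limits HomologicalComplex MonoidalCategory

attribute [local instance] HasDerivedCategory.standard

namespace Groth.Agent.Lib.Helper28.RingL

open Groth.Agent.Lib.Helper28.TensorDelta
open DTen Groth.Agent.Lib.Helper13.SF Groth.Agent.Lib.Helper13.DT Groth.Agent.Lib.Helper13.DR
  Groth.Agent.Lib.Helper13.HT Groth.Agent.Lib.Helper13.RE Groth.Agent.Lib.Helper13.PC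
  Groth.Agent.Lib.Helper13.DV

noncomputable section

variable {A : Type u} [CommRing A]

/-- the tensor product bifunctor of `A`-modules -/
abbrev TR (A : Type u) [CommRing A] : ModuleCat.{u} A ⥤ ModuleCat.{u} A ⥤ ModuleCat.{u} A :=
  curriedTensor (ModuleCat.{u} A)

instance : (TR A).Additive := by
  constructor
  intro X Y f g
  ext Z : 2
  exact MonoidalPreadditive.add_whiskerRight f g

example (E : DRing.Cx A) (p : ℤ) : ModuleCat.{u} A ⥤ ModuleCat.{u} A := Φ (TR A) E p

/-- `- ⊗ E` as the flipped bifunctor on complexes -/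
def tensorRightIso (E : DRing.Cx A) :
    tensorRight E ≅ ((TR A).map₂CochainComplex).flip.obj E :=
  NatIso.ofComponents (fun _ => Iso.refl _) (by
    intro X Y f
    exact (Category.comp_id _).trans ((show _ = _ from rfl).trans (Category.id_comp _).symm))

/-- `- ⊗ E` followed by `Q` inverts quasi-isomorphisms when `E` is K-flat -/
theorem inverts_tensorCxQ_of_kflat (E : DRing.Cx A) (hE : KFlat E) :
    (HomologicalComplex.quasiIso (ModuleCat.{u} A) (ComplexShape.up ℤ)).IsInvertedBy
      (DRing.tensorCxQ A E) := by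
  intro F F' f hf
  haveI : QuasiIso f := (HomologicalComplex.mem_quasiIso_iff f).1 hf
  change IsIso (DerivedCategory.Q.map (f ▷ E))
  rw [DerivedCategory.isIso_Q_map_iff_quasiIso]
  exact quasiIso_whiskerRight_of_kflat E hE f

/-- `K ⊗^L E ≅ K ⊗ E` naturally in `K`, for `E` K-flat -/
def LTensorCxNatIso (E : DRing.Cx A) [DRing.HasLTensorCx A E] (hE : KFlat E) :
    DerivedCategory.Q ⋙ DRing.LTensorCx A E ≅ DRing.tensorCxQ A E :=
  @asIso _ _ _ _ (LTensorCxCounit E)
    (Functor.isIso_of_isLeftDerivedFunctor_of_inverts (DRing.LTensorCx A E) (LTensorCxCounit E)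
      (inverts_tensorCxQ_of_kflat E hE))

/-- the natural transformation `- ⊗^L E' ⟶ - ⊗^L E` induced by `q : E' ⟶ E` -/
def LTensorCxNatTrans {E' E : DRing.Cx A} (q : E' ⟶ E)
    [DRing.HasLTensorCx A E'] [DRing.HasLTensorCx A E] :
    DRing.LTensorCx A E' ⟶ DRing.LTensorCx A E :=
  Functor.leftDerivedNatTrans (DRing.LTensorCx A E') (DRing.LTensorCx A E)
    (LTensorCxCounit E') (LTensorCxCounit E)
    (HomologicalComplex.quasiIso (ModuleCat.{u} A) (ComplexShape.up ℤ))
    (Functor.whiskerRight ((tensoringRight (DRing.Cx A)).map q) DerivedCategory.Q)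

theorem isIso_LTensorCxNatTrans {E' E : DRing.Cx A} (q : E' ⟶ E) (hq : QuasiIso q)
    [DRing.HasLTensorCx A E'] [DRing.HasLTensorCx A E] : IsIso (LTensorCxNatTrans q) := by
  have key : ∀ (P : DRing.Cx A) [P.IsKProjective],
      IsIso ((LTensorCxNatTrans q).app (DerivedCategory.Q.obj P)) := by
    intro P _
    have h := Functor.leftDerivedNatTrans_app (DRing.LTensorCx A E') (DRing.LTensorCx A E)
      (LTensorCxCounit E') (LTensorCxCounit E)
      (HomologicalComplex.quasiIso (ModuleCat.{u} A) (ComplexShape.up ℤ))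
      (Functor.whiskerRight ((tensoringRight (DRing.Cx A)).map q) DerivedCategory.Q) P
    have i1 := isIso_LTensorCxCounit_app_of_isKProjective E P
    have i2 := isIso_LTensorCxCounit_app_of_isKProjective E' P
    have i3 : IsIso ((Functor.whiskerRight ((tensoringRight (DRing.Cx A)).map q)
        DerivedCategory.Q).app P) := by
      change IsIso (DerivedCategory.Q.map (P ◁ q))
      rw [DerivedCategory.isIso_Q_map_iff_quasiIso]
      exact Groth.Agent.Lib.Helper13.HOp.quasiIso_whiskerLeft_of_isKProjective P q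
    have h' : (LTensorCxNatTrans q).app (DerivedCategory.Q.obj P) =
        ((LTensorCxCounit E').app P ≫
          (Functor.whiskerRight ((tensoringRight (DRing.Cx A)).map q) DerivedCategory.Q).app P) ≫
        inv ((LTensorCxCounit E).app P) := by
      rw [IsIso.eq_comp_inv]
      exact h
    rw [h']
    infer_instance
  have : ∀ Y : DerivedCategory (ModuleCat.{u} A), IsIso ((LTensorCxNatTrans q).app Y) := by
    intro Y
    have hi : IsIso (DerivedCategory.Q.map (resMap (DerivedCategory.Q.objPreimage Y))) := by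
      rw [DerivedCategory.isIso_Q_map_iff_quasiIso]
      infer_instance
    let e : DerivedCategory.Q.obj (res (DerivedCategory.Q.objPreimage Y)) ≅ Y :=
      @asIso _ _ _ _ (DerivedCategory.Q.map (resMap (DerivedCategory.Q.objPreimage Y))) hi ≪≫
        DerivedCategory.Q.objObjPreimageIso Y
    exact (NatTrans.isIso_app_iff_of_iso (LTensorCxNatTrans q) e).1
      (key (res (DerivedCategory.Q.objPreimage Y)))
  exact NatIso.isIso_of_isIso_app _

/-- `- ⊗^L E' ≅ - ⊗^L E` for a quasi-isomorphism `E' ⟶ E` -/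
def LTensorCxNatIsoOfQuasiIso {E' E : DRing.Cx A} (q : E' ⟶ E) (hq : QuasiIso q)
    [DRing.HasLTensorCx A E'] [DRing.HasLTensorCx A E] :
    DRing.LTensorCx A E' ≅ DRing.LTensorCx A E :=
  @asIso _ _ _ _ _ (isIso_LTensorCxNatTrans q hq)

/-- the derived tensor product with a K-flat complex exists -/
theorem hasLTensorCx_of_kflat (E : DRing.Cx A) (hE : KFlat E) : DRing.HasLTensorCx A E := by
  have := Functor.hasPointwiseLeftDerivedFunctor_of_inverts _ (inverts_tensorCxQ_of_kflat E hE)
  exact Functor.hasLeftDerivedFunctor_of_hasPointwiseLeftDerivedFunctor _ _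

/-- `M ↦ H^p(M ⊗^L E)` is `M ↦ H^p(M ⊗ E^•)` when `E` is K-flat -/
def homologyLTensorCxIso (E : DRing.Cx A) [DRing.HasLTensorCx A E] (hE : KFlat E) (p : ℤ) :
    DerivedCategory.singleFunctor (ModuleCat.{u} A) 0 ⋙ DRing.LTensorCx A E ⋙
      DerivedCategory.homologyFunctor (ModuleCat.{u} A) p ≅ Φ (TR A) E p :=
  Functor.isoWhiskerRight (DerivedCategory.singleFunctorIsoCompQ (ModuleCat.{u} A) 0) _ ≪≫
    Functor.associator _ _ _ ≪≫
    Functor.isoWhiskerLeft (CochainComplex.singleFunctor (ModuleCat.{u} A) 0)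
      ((Functor.associator _ _ _).symm ≪≫
        Functor.isoWhiskerRight (LTensorCxNatIso E hE) _ ≪≫
        Functor.associator _ _ _ ≪≫
        Functor.isoWhiskerLeft _ (DerivedCategory.homologyFunctorFactors (ModuleCat.{u} A) p) ≪≫
        Functor.isoWhiskerRight (tensorRightIso E) _) ≪≫
    (Functor.associator _ _ _).symm ≪≫
    Functor.isoWhiskerRight (ΘIso (TR A) E).symm _

/-- `M ↦ H^p(M ⊗^L E)` computed with a K-flat resolution `E' ⟶ E` -/
def homologyLTensorCxIsoOfResolution {E' E : DRing.Cx A}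
    (q : E' ⟶ E) (hq : QuasiIso q) (hE' : KFlat E') [DRing.HasLTensorCx A E']
    [DRing.HasLTensorCx A E] (p : ℤ) :
    DerivedCategory.singleFunctor (ModuleCat.{u} A) 0 ⋙ DRing.LTensorCx A E ⋙
      DerivedCategory.homologyFunctor (ModuleCat.{u} A) p ≅ Φ (TR A) E' p :=
  Functor.isoWhiskerLeft _ (Functor.isoWhiskerRight (LTensorCxNatIsoOfQuasiIso q hq).symm _) ≪≫
    homologyLTensorCxIso E' hE' p

end

end Groth.Agent.Lib.Helper28.RingL
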