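import Mathlib
import Groth.Agent.Lib.Helper28.RingL1
set_option autoImplicit false

universe u

open CategoryTheory Limits HomologicalComplex MonoidalCategory

attribute [local instance] HasDerivedCategory.standard

namespace Groth.Agent.Lib.Helper28.RingL

open Groth.Agent.Lib.Helper28.TensorDelta

noncomputable section

variable {A : Type u} [CommRing A]

/-- `M ↦ M ⊗ W` in its two guises -/
def flipIso (W : ModuleCat.{u} A) : (TR A).flip.obj W ≅ tensorRight W :=
  NatIso.ofComponents (fun _ => Iso.refl _) (by
    intro X Y f
    exact (Category.comp_id _).trans ((show _ = _ from rfl).trans (Category.id_comp _).symm))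

instance (W : ModuleCat.{u} A) : PreservesFiniteColimits ((TR A).flip.obj W) :=
  preservesFiniteColimits_of_natIso (flipIso W).symm

instance (W : ModuleCat.{u} A) : ((TR A).flip.obj W).Additive := by
  constructor
  intro X Y f g
  exact MonoidalPreadditive.add_whiskerRight f g

instance (M : ModuleCat.{u} A) : PreservesFiniteColimits ((TR A).obj M) :=
  inferInstanceAs (PreservesFiniteColimits (tensorLeft M))

theorem flip_preservesMono_iff_flat (W : ModuleCat.{u} A) :
    ((TR A).flip.obj W).PreservesMonomorphisms ↔ Module.Flat A W := by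
  rw [Module.Flat.iff_preservesFiniteLimits_tensorRight]
  constructor
  · intro h
    have : PreservesFiniteLimits ((TR A).flip.obj W) := by
      rw [Functor.preservesFiniteLimits_iff_forall_exact_map_and_mono]
      intro S hS
      have := hS.mono_f
      refine ⟨?_, h.preserves S.f⟩
      exact (((Functor.preservesFiniteColimits_iff_forall_exact_map_and_epi
        ((TR A).flip.obj W)).1 inferInstance) S hS).1
    exact preservesFiniteLimits_of_natIso (flipIso W)
  · intro h
    have : PreservesFiniteLimits ((TR A).flip.obj W) :=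
      preservesFiniteLimits_of_natIso (flipIso W).symm
    infer_instance

/-- the flatness hypothesis of the long exact sequence -/
theorem shortExact_map_flip_of_flat (E : DRing.Cx A) (hEf : ∀ i : ℤ, Module.Flat A (E.X i))
    (S : ShortComplex (ModuleCat.{u} A)) (hS : S.ShortExact) (n : ℤ) :
    (S.map ((TR A).flip.obj (E.X n))).ShortExact := by
  have : PreservesFiniteLimits ((TR A).flip.obj (E.X n)) := by
    have := (Module.Flat.iff_preservesFiniteLimits_tensorRight (E.X n)).1 (hEf n)
    exact preservesFiniteLimits_of_natIso (flipIso (E.X n)).symm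
  exact hS.map_of_exact _

theorem preservesMono_Φ_iff_flat_opcycles (E : DRing.Cx A)
    (hEf : ∀ i : ℤ, Module.Flat A (E.X i)) (q : ℤ) :
    (Φ (TR A) E q).PreservesMonomorphisms ↔ Module.Flat A (E.opcycles q) := by
  rw [preservesMono_iff_opcycles q
      (fun n => (flip_preservesMono_iff_flat (E.X n)).2 (hEf n)),
    flip_preservesMono_iff_flat]

/-- left exactness of `M ↦ H^p(M ⊗^L E)` in terms of a flat resolution -/
theorem flat_opcycles_of_preservesFiniteLimits {E' E : DRing.Cx A}
    (q : E' ⟶ E) (hq : QuasiIso q) (hE' : Groth.Agent.Lib.Helper13.HT.KFlat E')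
    (hEf : ∀ i : ℤ, Module.Flat A (E'.X i))
    [DRing.HasLTensorCx A E] (p : ℤ)
    [PreservesFiniteLimits (DerivedCategory.singleFunctor (ModuleCat.{u} A) 0 ⋙
      DRing.LTensorCx A E ⋙ DerivedCategory.homologyFunctor (ModuleCat.{u} A) p)] :
    Module.Flat A (E'.opcycles p) := by
  haveI := hasLTensorCx_of_kflat E' hE'
  have iso := homologyLTensorCxIsoOfResolution q hq hE' p
  have h1 : PreservesFiniteLimits (Φ (TR A) E' p) := preservesFiniteLimits_of_natIso iso
  have hflx := shortExact_map_flip_of_flat E' hEf
  exact (preservesMono_Φ_iff_flat_opcycles E' hEf p).1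
    ((preservesFiniteLimits_iff_preservesMono hflx p).1 h1)

/-- right exactness of `M ↦ H^p(M ⊗^L E)` in terms of a flat resolution -/
theorem flat_opcycles_of_preservesFiniteColimits {E' E : DRing.Cx A}
    (q : E' ⟶ E) (hq : QuasiIso q) (hE' : Groth.Agent.Lib.Helper13.HT.KFlat E')
    (hEf : ∀ i : ℤ, Module.Flat A (E'.X i))
    [DRing.HasLTensorCx A E] (p : ℤ)
    [PreservesFiniteColimits (DerivedCategory.singleFunctor (ModuleCat.{u} A) 0 ⋙
      DRing.LTensorCx A E ⋙ DerivedCategory.homologyFunctor (ModuleCat.{u} A) p)] :
    Module.Flat A (E'.opcycles (p + 1)) := by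
  haveI := hasLTensorCx_of_kflat E' hE'
  have iso := homologyLTensorCxIsoOfResolution q hq hE' p
  have h1 : PreservesFiniteColimits (Φ (TR A) E' p) := preservesFiniteColimits_of_natIso iso
  have hflx := shortExact_map_flip_of_flat E' hEf
  exact (preservesMono_Φ_iff_flat_opcycles E' hEf (p + 1)).1
    ((preservesFiniteColimits_iff_preservesMono hflx p).1 h1)

end

end Groth.Agent.Lib.Helper28.RingL
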