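import Mathlib
import Groth.Agent.Lib.Helper28.GeomConnIdem

/-! Connected algebras over separably closed fields are geometrically connected; tensor products
of connected algebras over a separably closed field are connected. -/

namespace Groth.Agent.Lib.Helper28

open TensorProduct PrimeSpectrum

universe u

theorem preconnectedSpace_of_idem_trivial {A : Type*} [CommRing A]
    (h : ∀ e : A, IsIdempotentElem e → e = 0 ∨ e = 1) : PreconnectedSpace (PrimeSpectrum A) := by
  rw [preconnectedSpace_iff_clopen]
  intro s hs
  obtain ⟨e, he, rfl⟩ := PrimeSpectrum.isClopen_iff.mp hs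
  rcases h e he with rfl | rfl
  · left; simp
  · right; simp

variable {k : Type u} [Field k] [IsSepClosed k]

/-- residue field at a maximal ideal of a f.t. algebra over sep closed `k`: fibre connected -/
theorem preconnected_fibre_of_maximal {A S : Type u} [CommRing A] [CommRing S] [Algebra k A]
    [Algebra k S] [Algebra.FiniteType k A] [PreconnectedSpace (PrimeSpectrum S)]
    (m : Ideal A) [m.IsMaximal] :
    PreconnectedSpace (PrimeSpectrum (m.ResidueField ⊗[k] S)) := by
  have : Algebra.FiniteType A m.ResidueField := inferInstance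
  have : Algebra.FiniteType k m.ResidueField :=
    Algebra.FiniteType.trans (inferInstance : Algebra.FiniteType k A) inferInstance
  have : Module.Finite k m.ResidueField := finite_of_finite_type_of_isJacobsonRing k _
  have : Algebra.IsAlgebraic k m.ResidueField := Algebra.IsAlgebraic.of_finite _ _
  have : IsPurelyInseparable k m.ResidueField := inferInstance
  have h1 := PrimeSpectrum.isHomeomorph_comap_of_isPurelyInseparable k m.ResidueField S
  have h2 : PreconnectedSpace (PrimeSpectrum (S ⊗[k] m.ResidueField)) :=
    preconnectedSpace_of_surjective h1.homeomorph.symm.surjective h1.homeomorph.symm.continuous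
  exact preconnectedSpace_of_surjective
    (PrimeSpectrum.homeomorphOfRingEquiv
      (Algebra.TensorProduct.comm k m.ResidueField S).toRingEquiv).symm.surjective
    (Homeomorph.continuous _)

theorem idem_trivial_of_domain {A S : Type u} [CommRing A] [IsDomain A] [CommRing S]
    [Algebra k A] [Algebra k S] [Algebra.FiniteType k A] [PreconnectedSpace (PrimeSpectrum S)]
    {w : A ⊗[k] S} (hw : IsIdempotentElem w) : w = 0 ∨ w = 1 := by
  have hopen : IsOpenMap (comap (algebraMap A (A ⊗[k] S))) :=
    isOpenMap_comap_algebraMap_tensorProduct_of_field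
  have : IsJacobsonRing A := isJacobsonRing_of_finiteType (A := k) (B := A)
  have hU1 : IsOpen (comap (algebraMap A (A ⊗[k] S)) ''
      (basicOpen w : Set (PrimeSpectrum (A ⊗[k] S)))) := hopen _ (basicOpen w).isOpen
  have hU0 : IsOpen (comap (algebraMap A (A ⊗[k] S)) ''
      (basicOpen (1 - w) : Set (PrimeSpectrum (A ⊗[k] S)))) := hopen _ (basicOpen (1 - w)).isOpen
  have hdisj : (comap (algebraMap A (A ⊗[k] S)) '' (basicOpen w : Set (PrimeSpectrum (A ⊗[k] S)))) ∩
      (comap (algebraMap A (A ⊗[k] S)) '' (basicOpen (1 - w) : Set (PrimeSpectrum (A ⊗[k] S)))) =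
      ∅ := by
    by_contra hne
    have hne' := Set.nonempty_iff_ne_empty.mpr hne
    obtain ⟨m, ⟨hm1, hm0⟩, hmcl⟩ :=
      nonempty_inter_closedPoints hne' (hU1.inter hU0).isLocallyClosed
    obtain ⟨q0, hq0, rfl⟩ := hm0
    obtain ⟨q1, hq1, hq1m⟩ := hm1
    have hmax : (comap (algebraMap A (A ⊗[k] S)) q0).asIdeal.IsMaximal :=
      (isClosed_singleton_iff_isMaximal _).mp hmcl
    have hfib := preconnected_fibre_of_maximal (k := k) (S := S)
      (comap (algebraMap A (A ⊗[k] S)) q0).asIdeal
    have hiff := mem_iff_of_comap_eq_of_fibre hw q1 q0 hq1m hfib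
    have hw0 : w ∈ q0.asIdeal := by
      have : w * (1 - w) ∈ q0.asIdeal := by
        rw [mul_sub, mul_one, hw.eq, sub_self]; exact zero_mem _
      exact (q0.isPrime.mem_or_mem this).resolve_right hq0
    exact hq1 (hiff.mpr hw0)
  rcases Set.eq_empty_or_nonempty (comap (algebraMap A (A ⊗[k] S)) ''
      (basicOpen w : Set (PrimeSpectrum (A ⊗[k] S)))) with h1 | h1
  · left
    rw [Set.image_eq_empty] at h1
    apply basicOpen_injOn_isIdempotentElem hw IsIdempotentElem.zero
    apply SetLike.coe_injective
    rw [h1]; simp
  rcases Set.eq_empty_or_nonempty (comap (algebraMap A (A ⊗[k] S)) ''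
      (basicOpen (1 - w) : Set (PrimeSpectrum (A ⊗[k] S)))) with h0 | h0
  · right
    rw [Set.image_eq_empty] at h0
    have : 1 - w = 0 := by
      apply basicOpen_injOn_isIdempotentElem hw.one_sub IsIdempotentElem.zero
      apply SetLike.coe_injective
      rw [h0]; simp
    rw [sub_eq_zero] at this
    exact this.symm
  · exfalso
    have := nonempty_preirreducible_inter hU1 hU0 h1 h0
    rw [hdisj] at this
    exact Set.not_nonempty_empty this

theorem idem_trivial_tensor_field {S : Type u} [CommRing S] [Algebra k S]
    [PreconnectedSpace (PrimeSpectrum S)] (k' : Type u) [Field k'] [Algebra k k']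
    {x : k' ⊗[k] S} (hx : IsIdempotentElem x) : x = 0 ∨ x = 1 := by
  classical
  obtain ⟨F, hF⟩ := TensorProduct.exists_finset x
  have hsub : ∀ i ∈ F, i.1 ∈ Algebra.adjoin k ((F.image Prod.fst : Finset k') : Set k') :=
    fun i hi => Algebra.subset_adjoin (Finset.mem_coe.mpr (Finset.mem_image_of_mem _ hi))
  have hinj : Function.Injective (Algebra.TensorProduct.map
      (Algebra.adjoin k ((F.image Prod.fst : Finset k') : Set k')).val (AlgHom.id k S)) :=
    TensorProduct.map_injective_of_flat_flat _ _ Subtype.val_injective Function.injective_id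
  have hxw : Algebra.TensorProduct.map
      (Algebra.adjoin k ((F.image Prod.fst : Finset k') : Set k')).val (AlgHom.id k S)
      (∑ i ∈ F.attach, (⟨i.1.1, hsub i.1 i.2⟩ :
        Algebra.adjoin k ((F.image Prod.fst : Finset k') : Set k')) ⊗ₜ[k] i.1.2) = x := by
    rw [map_sum, hF, ← Finset.sum_attach F]
    refine Finset.sum_congr rfl fun i _ => ?_
    simp
  have : Algebra.FiniteType k (Algebra.adjoin k ((F.image Prod.fst : Finset k') : Set k')) :=
    (Subalgebra.fg_iff_finiteType _).mp ⟨_, rfl⟩
  have hw : IsIdempotentElem (∑ i ∈ F.attach, (⟨i.1.1, hsub i.1 i.2⟩ :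
        Algebra.adjoin k ((F.image Prod.fst : Finset k') : Set k')) ⊗ₜ[k] i.1.2) := by
    apply hinj
    rw [map_mul, hxw]
    exact hx.eq
  rcases idem_trivial_of_domain hw with h | h
  · left; rw [← hxw, h, map_zero]
  · right; rw [← hxw, h, map_one]

/-- connected over a separably closed field implies geometrically connected -/
theorem connectedSpace_tensor_field_of_isSepClosed {S : Type u} [CommRing S] [Algebra k S]
    [ConnectedSpace (PrimeSpectrum S)] (k' : Type u) [Field k'] [Algebra k k'] :
    ConnectedSpace (PrimeSpectrum (k' ⊗[k] S)) := by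
  have : Nontrivial S := (inferInstance : Nonempty (PrimeSpectrum S)).some.nontrivial
  have := preconnectedSpace_of_idem_trivial
    (fun (e : k' ⊗[k] S) he => idem_trivial_tensor_field (k := k) k' he)
  exact ⟨inferInstance⟩

theorem connectedSpace_tensor_of_isSepClosed {R S : Type u} [CommRing R] [CommRing S]
    [Algebra k R] [Algebra k S]
    [ConnectedSpace (PrimeSpectrum R)] [ConnectedSpace (PrimeSpectrum S)] :
    ConnectedSpace (PrimeSpectrum (R ⊗[k] S)) := by
  have : Nontrivial S := (inferInstance : Nonempty (PrimeSpectrum S)).some.nontrivial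
  have : Nontrivial R := (inferInstance : Nonempty (PrimeSpectrum R)).some.nontrivial
  have := preconnectedSpace_of_idem_trivial (A := R ⊗[k] S) (by
    intro x hx
    obtain ⟨e, ⟨he, hex⟩, -⟩ := existsUnique_idem
      (fun k' _ _ => connectedSpace_tensor_field_of_isSepClosed (k := k) (S := S) k') x hx
    rcases idem_eq_zero_or_one_of_preconnected he with h | h
    · left; rw [← hex, h, map_zero]
    · right; rw [← hex, h, map_one])
  exact ⟨inferInstance⟩

end Groth.Agent.Lib.Helper28
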