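import Mathlib
import Groth.Agent.Lib.Helper28.FlatCxBounded
import Groth.Agent.Lib.Helper9.FlatCxBC
import Groth.Agent.Lib.Helper28.Betti1
set_option autoImplicit false

universe u

open CategoryTheory Limits CohIII TensorProduct Function

namespace Groth.Agent.Lib.Helper28.Tp

open Groth.Agent.Lib.Helper28.FlatCx Groth.Agent.Lib.Helper9.FlatCxBC

variable {A : Type u} [CommRing A] (M : CochainComplex (ModuleCat.{u} A) ℤ)

/-- the `opcycles` of a complex of finite free modules are finitely presented -/
lemma finitePresentation_opcycles (q : ℤ) [Module.Finite A (M.X (q - 1))]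
    [Module.Finite A (M.X q)] [Module.Free A (M.X q)] :
    Module.FinitePresentation A (M.opcycles q) := by
  have hsurj := pOpcycles_surjective M q
  haveI : Module.FinitePresentation A (M.X q) := Module.finitePresentation_of_projective A _
  refine Module.finitePresentation_of_surjective (M.pOpcycles q).hom hsurj ?_
  have hex : (ShortComplex.mk (M.d (q - 1) q) (M.pOpcycles q) (M.d_pOpcycles (q - 1) q)).Exact :=
    ShortComplex.exact_of_g_is_cokernel _ (M.opcyclesIsCokernel (q - 1) q (by simp))
  have hex' := (ShortComplex.ShortExact.moduleCat_exact_iff_function_exact _).mp hex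
  rw [LinearMap.exact_iff.mp hex']
  exact Submodule.fg_range _

/-- **the homology of a complex of finite free modules with flat `opcycles` in degrees `p`,
`p + 1` is finite projective** -/
theorem finite_projective_homology (p : ℤ) [∀ i, Module.Finite A (M.X i)]
    [∀ i, Module.Free A (M.X i)] [Module.Flat A (M.opcycles p)]
    [Module.Flat A (M.opcycles (p + 1))] :
    Module.Finite A (M.homology p) ∧ Module.Projective A (M.homology p) := by
  have hpq : (ComplexShape.up ℤ).Rel p (p + 1) := rfl
  haveI := finitePresentation_opcycles M p
  haveI hfpq : Module.FinitePresentation A (M.opcycles (p + 1)) := by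
    have h1 : Module.Finite A (M.X (p + 1 - 1)) := inferInstance
    exact finitePresentation_opcycles M (p + 1)
  haveI : Module.Projective A (M.opcycles (p + 1)) := Module.Flat.projective_of_finitePresentation
  -- the boundaries
  haveI hBflat := flat_range_fromOpcycles M p (p + 1) hpq
  have hexB : Exact (LinearMap.range (M.fromOpcycles p (p + 1)).hom).subtype
      (M.pOpcycles (p + 1)).hom := by
    have h := exact_fromOpcycles_pOpcycles M p (p + 1) ((ComplexShape.up ℤ).prev_eq' hpq)
    intro y
    rw [h y]
    constructor
    · rintro ⟨w, rfl⟩; exact ⟨⟨_, w, rfl⟩, rfl⟩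
    · rintro ⟨⟨_, w, rfl⟩, rfl⟩; exact ⟨w, rfl⟩
  haveI : Module.FinitePresentation A (M.X (p + 1)) := Module.finitePresentation_of_projective A _
  haveI hBfp : Module.FinitePresentation A (LinearMap.range (M.fromOpcycles p (p + 1)).hom) :=
    Module.finitePresentation_of_projective_of_exact
      (LinearMap.range (M.fromOpcycles p (p + 1)).hom).subtype (M.pOpcycles (p + 1)).hom
      (Submodule.injective_subtype _) (pOpcycles_surjective M (p + 1)) hexB
  haveI : Module.Projective A (LinearMap.range (M.fromOpcycles p (p + 1)).hom) :=
    Module.Flat.projective_of_finitePresentation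
  haveI hHfp : Module.FinitePresentation A (M.homology p) :=
    Module.finitePresentation_of_projective_of_exact (M.homologyι p).hom
      (M.fromOpcycles p (p + 1)).hom.rangeRestrict (homologyι_injective M p)
      (LinearMap.surjective_rangeRestrict _) (exact_homologyι_rangeRestrict M p (p + 1) hpq)
  haveI : Module.Flat A (M.homology p) := flat_homology_of_flat_opcycles M p (p + 1) hpq
  exact ⟨inferInstance, Module.Flat.projective_of_finitePresentation⟩

/-- **the fibre dimension of the homology** -/
theorem finrank_homology_ext_eq_rankAtStalk (p : ℤ) [∀ i, Module.Finite A (M.X i)]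
    [∀ i, Module.Free A (M.X i)] [Module.Flat A (M.opcycles p)]
    [Module.Flat A (M.opcycles (p + 1))] {K : Type u} [Field K] (ψ : A →+* K) :
    Module.finrank K ((Groth.Agent.Lib.Helper28.Betti.ext M ψ).homology p) =
      Module.rankAtStalk (R := A) (M.homology p) (PrimeSpectrum.comap ψ ⊥) := by
  letI := ψ.toAlgebra
  obtain ⟨hfin, hproj⟩ := finite_projective_homology M p
  have hpq : (ComplexShape.up ℤ).Rel p (p + 1) := rfl
  obtain ⟨e⟩ := nonempty_homologyBcEquiv K M p (p + 1) hpq
  have h1 : Module.finrank K ((Groth.Agent.Lib.Helper28.Betti.ext M ψ).homology p) =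
      Module.finrank K (K ⊗[A] M.homology p) := e.finrank_eq
  rw [h1]
  have h2 := Module.rankAtStalk_baseChange (R := A) (M := M.homology p) (S := K) ⊥
  have h3 : Module.rankAtStalk (R := K) (K ⊗[A] M.homology p) ⊥ =
      Module.finrank K (K ⊗[A] M.homology p) := by
    rw [Module.rankAtStalk_eq_finrank_of_free]
    rfl
  rw [← h3, h2]
  rfl

end Groth.Agent.Lib.Helper28.Tp
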