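import Mathlib
import Groth.Agent.Lib.Helper28.Tp3
import Groth.Agent.Lib.Helper28.Tp4
import Groth.Agent.Lib.Helper28.Betti2
import Groth.Agent.Lib.Helper28.DCohRes13
import Groth.Agent.Lib.Helper28.PerfTensor1
set_option autoImplicit false

universe u

open CategoryTheory Limits HomologicalComplex AlgebraicGeometry

attribute [local instance] HasDerivedCategory.standard

namespace Groth.Agent.Lib.Helper28.Tp

open Groth.Agent.Lib.Helper28.TensorDelta Groth.Agent.Lib.Helper28.KFlatSite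
  Groth.Agent.Lib.Helper28.KFlatAbs Groth.Agent.Lib.Helper28.Lpull
  Groth.Agent.Lib.Helper28.TensorApprox Groth.Agent.Lib.Helper28.DCohRes
  Groth.Agent.Lib.Helper28.DCohTilde Groth.Agent.Lib.Helper28.Betti
  Groth.Agent.Lib.Helper28.PerfTensor Groth.Agent.Lib.Helper29.QCoh

noncomputable section

variable {X : Scheme.{u}}

local instance hasLpull'' {Y Z : Scheme.{u}} (f : Y ⟶ Z) : DCoh.HasLpull f := hasLpull f

/-- the local structure: if the `opcycles` in degrees `p`, `p + 1` of a bounded above flat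
resolution are flat, then near every point the object is modelled in degrees `≥ p` by a bounded
complex of finite free modules whose `opcycles` in degrees `p`, `p + 1` are flat -/
theorem exists_flat_local_model (L : CochainComplex X.Modules ℤ) (hK : DCoh.IsKFlat L)
    (hLfl : ∀ i, FlatMod.IsFlat (L.X i)) (p : ℤ)
    (hE : DCoh.IsPseudoCoherentD (p - 1) (DCoh.toD X L))
    (hWp : FlatMod.IsFlat (L.opcycles p)) (hWq : FlatMod.IsFlat (L.opcycles (p + 1))) (x₀ : X) :
    ∃ (V : X.Opens) (hV : IsAffineOpen V) (_ : x₀ ∈ V)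
      (M : CochainComplex (ModuleCat.{u} Γ(X, V)) ℤ)
      (_ : ∀ i, Module.Finite Γ(X, V) (M.X i)) (_ : ∀ i, Module.Free Γ(X, V) (M.X i))
      (hMK : DCoh.IsKFlat
        (((tilde.functor Γ(X, V)).mapHomologicalComplex (ComplexShape.up ℤ)).obj M))
      (α' : DerivedCategory.Q.obj
        (((tilde.functor Γ(X, V)).mapHomologicalComplex (ComplexShape.up ℤ)).obj M) ⟶
        (DCoh.Lpull hV.fromSpec).obj (DCoh.toD X L)),
      IsApprox (p - 1) α' ∧ Module.Flat Γ(X, V) (M.opcycles p) ∧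
        Module.Flat Γ(X, V) (M.opcycles (p + 1)) := by
  obtain ⟨V₀, hxV₀, hV₀⟩ := hE x₀
  obtain ⟨E₀, α, hE₀, hα1, hα2⟩ := hV₀ L ⟨Iso.refl _⟩
  obtain ⟨V, hV, hxV, M, hfin, hfree, a, b, hab, hMK, α', hα'⟩ :=
    exists_local_model (DCoh.toD X L) x₀ V₀ hxV₀ L hK (Iso.refl _) E₀ hE₀ α
  have hα'' : IsApprox (p - 1) α' := hα' (p - 1) ⟨hα1, hα2⟩
  refine ⟨V, hV, hxV, M, hfin, hfree, hMK, α', hα'', ?_⟩
  -- the restriction of `L` to `Spec Γ(X, V)`
  let g := hV.fromSpec
  let LV := (resCx g).obj L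
  have hLV : DCoh.IsKFlat LV := isKFlat_resCx g L hK
  let eK : (DCoh.Lpull g).obj (DCoh.toD X L) ≅ DerivedCategory.Q.obj LV :=
    (LpullResDIso g L hK).symm ≪≫ (resDQ g).app L
  have happ : IsApprox (p - 1) (α' ≫ eK.hom) := hα''.comp_iso eK
  have hLVfl : ∀ i, FlatMod.IsFlat (LV.X i) := fun i => isFlat_restrict g (hLfl i)
  haveI : PreservesFiniteLimits (tilde.functor Γ(X, V)) :=
    Groth.Agent.Lib.Helper17.KProjAff.preservesFiniteLimits_tilde _
  have hMfl : ∀ i, FlatMod.IsFlat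
      ((((tilde.functor Γ(X, V)).mapHomologicalComplex (ComplexShape.up ℤ)).obj M).X i) :=
    fun i => by
      haveI := hfree i
      exact (isFlat_tilde_iff (M.X i)).2 inferInstance
  have key : ∀ j : ℤ, p ≤ j → FlatMod.IsFlat (L.opcycles j) →
      Module.Flat Γ(X, V) (M.opcycles j) := by
    intro j hj hW
    have h1 : FlatMod.IsFlat (LV.opcycles j) := isFlat_opcycles_resCx g L j hW
    have h2 := (preservesMono_Φ_iff_isFlat_opcycles LV hLVfl j).2 h1
    obtain ⟨e⟩ := nonempty_Φ_iso_of_isApprox _ LV hMK hLV (α' ≫ eK.hom) (p - 1) happ j (by omega)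
    have h3 : (Φ (DCoh.tensorBi (X := Spec Γ(X, V)))
        (((tilde.functor Γ(X, V)).mapHomologicalComplex (ComplexShape.up ℤ)).obj M)
        j).PreservesMonomorphisms :=
      CategoryTheory.Functor.PreservesMonomorphisms.of_iso e.symm
    exact flat_opcycles_of_isFlat_tildeCx M j
      ((preservesMono_Φ_iff_isFlat_opcycles _ hMfl j).1 h3)
  exact ⟨key p le_rfl hWp, key (p + 1) (by omega) hWq⟩

end

end Groth.Agent.Lib.Helper28.Tp
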