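import Mathlib
import Groth.Agent.Lib.Helper28.Tp5
import Groth.Agent.Lib.Helper28.KFlatSite15
import Groth.Agent.Lib.Helper28.DCohRes16
import Groth.Agent.Lib.Helper17.FlatBridge
set_option autoImplicit false

universe u

open CategoryTheory Limits HomologicalComplex AlgebraicGeometry

attribute [local instance] HasDerivedCategory.standard

namespace Groth.Agent.Lib.Helper28.Tp

open Groth.Agent.Lib.Helper28.TensorDelta Groth.Agent.Lib.Helper28.KFlatSite
  Groth.Agent.Lib.Helper28.KFlatAbs Groth.Agent.Lib.Helper28.Lpull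
  Groth.Agent.Lib.Helper28.TensorApprox Groth.Agent.Lib.Helper28.DCohRes
  Groth.Agent.Lib.Helper28.DCohTilde Groth.Agent.Lib.Helper28.Betti
  Groth.Agent.Lib.Helper28.PerfTensor Groth.Agent.Lib.Helper29.QCoh

noncomputable section

variable {X : Scheme.{u}}

local instance hasLpull''' {Y Z : Scheme.{u}} (f : Y ⟶ Z) : DCoh.HasLpull f := hasLpull f

/-- the global step at the level of sites -/
theorem exists_flat_resolution_preservesMono_site {C : Type u} [SmallCategory C]
    {J : GrothendieckTopology C} {O : Sheaf J CommRingCat.{u}}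
    (F : CochainComplex (ModSite.Mod O) ℤ) (e : ℤ) [(DerivedCategory.Q.obj F).IsLE e] (p : ℤ)
    [ModSite.HasLTensorCx F]
    [PreservesFiniteLimits (DerivedCategory.singleFunctor (ModSite.Mod O) 0 ⋙
      ModSite.LTensorCx F ⋙ DerivedCategory.homologyFunctor (ModSite.Mod O) p)]
    [PreservesFiniteColimits (DerivedCategory.singleFunctor (ModSite.Mod O) 0 ⋙
      ModSite.LTensorCx F ⋙ DerivedCategory.homologyFunctor (ModSite.Mod O) p)] :
    ∃ (L : CochainComplex (ModSite.Mod O) ℤ) (β : L ⟶ F), L.IsStrictlyLE e ∧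
      (∀ n, ModSite.IsFlat (L.X n)) ∧ QuasiIso β ∧
      (Φ (ModSite.tensorBi O) L p).PreservesMonomorphisms ∧
      (Φ (ModSite.tensorBi O) L (p + 1)).PreservesMonomorphisms := by
  have hF : F.IsLE e := (DerivedCategory.isLE_Q_obj_iff F e).1 inferInstance
  obtain ⟨L, β, hb, hfl, hβ⟩ := exists_flat_resolution_of_isLE F e hF
  have hK : ModSite.IsKFlat L := isKFlat_of_isStrictlyLE L e hb hfl
  haveI := hasLTensorCx_of_isKFlat L hK
  have iso := fun n : ℤ => homologyLTensorCxIsoOfResolution β hβ hK n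
  have h1 : PreservesFiniteLimits (Φ (ModSite.tensorBi O) L p) :=
    preservesFiniteLimits_of_natIso (iso p)
  have h2 : PreservesFiniteColimits (Φ (ModSite.tensorBi O) L p) :=
    preservesFiniteColimits_of_natIso (iso p)
  have hflx := shortExact_map_flip_of_isFlat L hfl
  exact ⟨L, β, hb, hfl, hβ, (preservesFiniteLimits_iff_preservesMono hflx p).1 h1,
    (preservesFiniteColimits_iff_preservesMono hflx p).1 h2⟩

/-- the global step: a flat resolution with flat `opcycles` in degrees `p`, `p + 1` -/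
theorem exists_flat_resolution_flat_opcycles (F : CochainComplex X.Modules ℤ) (e : ℤ)
    [(DCoh.toD X F).IsLE e] (p : ℤ) [DCoh.HasLTensorCx F]
    [PreservesFiniteLimits (DerivedCategory.singleFunctor X.Modules 0 ⋙ DCoh.LTensorCx F ⋙
      DerivedCategory.homologyFunctor X.Modules p)]
    [PreservesFiniteColimits (DerivedCategory.singleFunctor X.Modules 0 ⋙ DCoh.LTensorCx F ⋙
      DerivedCategory.homologyFunctor X.Modules p)] :
    ∃ (L : CochainComplex X.Modules ℤ) (_ : DCoh.IsKFlat L) (_ : DCoh.toD X L ≅ DCoh.toD X F),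
      (∀ i, FlatMod.IsFlat (L.X i)) ∧ FlatMod.IsFlat (L.opcycles p) ∧
        FlatMod.IsFlat (L.opcycles (p + 1)) := by
  obtain ⟨L, β, hb, hfl, hβ, h3, h4⟩ :=
    @exists_flat_resolution_preservesMono_site _ _ _ X.sheaf F e ‹_› p ‹DCoh.HasLTensorCx F›
      ‹_› ‹_›
  have hK : DCoh.IsKFlat L := isKFlat_of_isStrictlyLE (O := X.sheaf) L e hb hfl
  have hLflat : ∀ i, FlatMod.IsFlat (L.X i) :=
    fun i => (Groth.Agent.Lib.Helper17.FlatBridge.isFlat_iff _).2 (hfl i)
  have hiq : IsIso (DerivedCategory.Q.map β) := by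
    rw [DerivedCategory.isIso_Q_map_iff_quasiIso]
    exact hβ
  exact ⟨L, hK, @asIso _ _ _ _ (DerivedCategory.Q.map β) hiq, hLflat,
    (preservesMono_Φ_iff_isFlat_opcycles L hLflat p).1 h3,
    (preservesMono_Φ_iff_isFlat_opcycles L hLflat (p + 1)).1 h4⟩

/-- the local structure under the exactness hypothesis -/
theorem exists_flat_local_model' (F : CochainComplex X.Modules ℤ) (e : ℤ)
    [(DCoh.toD X F).IsLE e] (p : ℤ) (hE : DCoh.IsPseudoCoherentD (p - 1) (DCoh.toD X F))
    [DCoh.HasLTensorCx F]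
    [PreservesFiniteLimits (DerivedCategory.singleFunctor X.Modules 0 ⋙ DCoh.LTensorCx F ⋙
      DerivedCategory.homologyFunctor X.Modules p)]
    [PreservesFiniteColimits (DerivedCategory.singleFunctor X.Modules 0 ⋙ DCoh.LTensorCx F ⋙
      DerivedCategory.homologyFunctor X.Modules p)] (x₀ : X) :
    ∃ (V : X.Opens) (hV : IsAffineOpen V) (_ : x₀ ∈ V)
      (M : CochainComplex (ModuleCat.{u} Γ(X, V)) ℤ)
      (_ : ∀ i, Module.Finite Γ(X, V) (M.X i)) (_ : ∀ i, Module.Free Γ(X, V) (M.X i))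
      (_ : DCoh.IsKFlat
        (((tilde.functor Γ(X, V)).mapHomologicalComplex (ComplexShape.up ℤ)).obj M))
      (α' : DerivedCategory.Q.obj
        (((tilde.functor Γ(X, V)).mapHomologicalComplex (ComplexShape.up ℤ)).obj M) ⟶
        (DCoh.Lpull hV.fromSpec).obj (DCoh.toD X F)),
      IsApprox (p - 1) α' ∧ Module.Flat Γ(X, V) (M.opcycles p) ∧
        Module.Flat Γ(X, V) (M.opcycles (p + 1)) ∧
        Nonempty ((DCoh.HD (DCoh.toD X F) p).restrict hV.fromSpec ≅
          (tilde.functor Γ(X, V)).obj (M.homology p)) := by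
  obtain ⟨L, hK, eG, hLfl, hWp, hWq⟩ := exists_flat_resolution_flat_opcycles F e p
  have hE' : DCoh.IsPseudoCoherentD (p - 1) (DCoh.toD X L) := isPseudoCoherentD_of_iso eG.symm hE
  obtain ⟨V, hV, hxV, M, hfin, hfree, hMK, α', hα', hf1, hf2⟩ :=
    exists_flat_local_model L hK hLfl p hE' hWp hWq x₀
  refine ⟨V, hV, hxV, M, hfin, hfree, hMK, α' ≫ (DCoh.Lpull hV.fromSpec).map eG.hom,
    hα'.comp_iso ((DCoh.Lpull hV.fromSpec).mapIso eG), hf1, hf2, ⟨?_⟩⟩
  haveI : IsIso ((DerivedCategory.homologyFunctor _ p).map α') := hα'.1 p (by omega)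
  exact (HDresDIso hV.fromSpec (DCoh.toD X F) p).symm ≪≫
    (DerivedCategory.homologyFunctor _ p).mapIso ((resD hV.fromSpec).mapIso eG.symm ≪≫
      LpullResDIso hV.fromSpec L hK) ≪≫
    (asIso ((DerivedCategory.homologyFunctor _ p).map α')).symm ≪≫ HDQtildeIso _ M p

end

end Groth.Agent.Lib.Helper28.Tp
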