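import Mathlib
import Groth.Agent.Lib.Helper28.DCohStalk5
import Groth.Agent.Lib.Helper28.Tp6
set_option autoImplicit false

universe u

open CategoryTheory Limits HomologicalComplex AlgebraicGeometry

attribute [local instance] HasDerivedCategory.standard

namespace Groth.Agent.Lib.Helper28.Sp

open Groth.Agent.Lib.Helper28.TensorDelta Groth.Agent.Lib.Helper28.KFlatSite
  Groth.Agent.Lib.Helper28.KFlatAbs Groth.Agent.Lib.Helper28.Lpull
  Groth.Agent.Lib.Helper28.TensorApprox Groth.Agent.Lib.Helper28.DCohRes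
  Groth.Agent.Lib.Helper28.DCohTilde Groth.Agent.Lib.Helper28.Betti
  Groth.Agent.Lib.Helper28.PerfTensor Groth.Agent.Lib.Helper29.QCoh
  Groth.Agent.Lib.Helper28.DCohStalk Groth.Agent.Lib.Helper28.Tp

noncomputable section

variable {X : Scheme.{u}}

/-- pointwise flatness of `opcycles` and restriction to open subschemes -/
theorem isFlatAt_opcycles_resCx_iff {U : Scheme.{u}} (g : U ⟶ X) [IsOpenImmersion g]
    (E : CochainComplex X.Modules ℤ) (q : ℤ) (y : U) :
    FlatMod.IsFlatAt (((resCx g).obj E).opcycles q) y ↔ FlatMod.IsFlatAt (E.opcycles q) (g y) := by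
  rw [← isFlatAt_restrict_iff g (E.opcycles q) y]
  constructor
  · exact isFlatAt_of_iso (mapOpcyclesIso (Scheme.Modules.restrictFunctor g) E q)
  · exact isFlatAt_of_iso (mapOpcyclesIso (Scheme.Modules.restrictFunctor g) E q).symm

/-- **Spreading out flatness of `opcycles`.** -/
theorem exists_nhd_isFlatAt_opcycles (L : CochainComplex X.Modules ℤ) (hK : DCoh.IsKFlat L)
    (hLf : ∀ i, FlatMod.IsFlat (L.X i)) (d : ℤ) (hLb : ∀ i, d < i → IsZero (L.X i)) (m : ℤ)
    (hpc : DCoh.IsPseudoCoherentD (m - 1) (DCoh.toD X L)) (x : X)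
    (hx : FlatMod.IsFlatAt (L.opcycles m) x) :
    ∃ U : X.Opens, x ∈ U ∧ ∀ z ∈ U, FlatMod.IsFlatAt (L.opcycles m) z := by
  obtain ⟨U, j, hj, ⟨y, rfl⟩, P, α, hP, hα⟩ := (isPseudoCoherentD_iff (m - 1) _).1 hpc x
  let ι : (resD j).obj (DCoh.toD X L) ≅ DerivedCategory.Q.obj ((resCx j).obj L) :=
    (resDQ j).app L
  have hα' : IsApprox (m - 1) (α ≫ ι.hom) := hα.comp_iso ι
  obtain ⟨⟨a₁, b₁, hab₁⟩, hfree⟩ := hP
  obtain ⟨U', j', hj', ⟨y', rfl⟩, ψ, hψ⟩ := exists_chainMap_locally P ((resCx j).obj L) a₁ b₁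
    hfree (fun i hi => hab₁ i (Or.inl hi)) (fun i hi => hab₁ i (Or.inr hi)) (α ≫ ι.hom) y
  have hψ' : IsApprox (m - 1) (DerivedCategory.Q.map ψ) := by
    rw [hψ]
    exact ((hα'.resD j').comp_iso ((resDQ j').app _)).iso_comp ((resDQ j').app P).symm
  let P' := (resCx j').obj P
  let G := (resCx j').obj ((resCx j).obj L)
  have hP' : DCoh.IsStrictlyPerfect P' := isStrictlyPerfect_resCx j' ⟨⟨a₁, b₁, hab₁⟩, hfree⟩
  have hGf : ∀ i, FlatMod.IsFlat (G.X i) := isFlat_resCx_X j' (isFlat_resCx_X j hLf)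
  have hGb : ∀ i, d < i → IsZero (G.X i) := fun i hi =>
    (Scheme.Modules.restrictFunctor j').map_isZero
      ((Scheme.Modules.restrictFunctor j).map_isZero (hLb i hi))
  have hGo : FlatMod.IsFlatAt (G.opcycles m) y' := by
    rw [isFlatAt_opcycles_resCx_iff, isFlatAt_opcycles_resCx_iff]
    exact hx
  have hGc : FlatMod.IsFlatAt (cokernel (G.d (m - 1) m)) y' :=
    isFlatAt_of_iso (opcyclesIsoCokernel G (m - 1) m (by omega)).symm hGo
  have hfl := isFlatAt_truncGE_X m d y' hP' (fun i => hGf i y') hGb hGc ψ hψ'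
  have hfp : ((P'.truncGE m).X m).IsFinitePresentation :=
    isFinitePresentation_of_cokernel (P'.d (m - 1) m) (hP'.2 _) (hP'.2 _)
      (opcyclesIsoCokernel P' (m - 1) m (by omega) ≪≫ (P'.truncGEXIsoOpcycles m).symm)
  obtain ⟨W, hyW, hW⟩ := lfAt_of_isFlatAt hfl
  let P'' := (resCx W.ι).obj P'
  let G'' := (resCx W.ι).obj G
  have hP''s : DCoh.IsStrictlyPerfect P'' := isStrictlyPerfect_resCx W.ι hP'
  have hP''K : DCoh.IsKFlat P'' := isKFlat_of_isStrictlyPerfect _ hP''s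
  have hG''K : DCoh.IsKFlat G'' :=
    isKFlat_resCx W.ι _ (isKFlat_resCx j' _ (isKFlat_resCx j L hK))
  have hψ'' : IsApprox (m - 1) (DerivedCategory.Q.map ((resCx W.ι).map ψ)) := by
    have h1 := ((hψ'.resD W.ι).comp_iso ((resDQ W.ι).app _)).iso_comp ((resDQ W.ι).app P').symm
    have h2 : DerivedCategory.Q.map ((resCx W.ι).map ψ) =
        ((resDQ W.ι).app P').symm.hom ≫ (resD W.ι).map (DerivedCategory.Q.map ψ) ≫
          ((resDQ W.ι).app G).hom := by
      have := (resDQ W.ι).hom.naturality ψ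
      simp only [Functor.comp_map] at this
      change _ = (resDQ W.ι).inv.app _ ≫ (resD W.ι).map (DerivedCategory.Q.map ψ) ≫
        (resDQ W.ι).hom.app _
      rw [this, Iso.inv_hom_id_app_assoc]
    rw [h2]
    simpa using h1
  obtain ⟨e⟩ := nonempty_Φ_iso_of_isApprox P'' G'' hP''K hG''K _ (m - 1) hψ'' m (by omega)
  have hP''f : ∀ i, FlatMod.IsFlat (P''.X i) := fun i => isFlat_of_isFinLocFree (hP''s.2 i)
  have hG''f : ∀ i, FlatMod.IsFlat (G''.X i) := isFlat_resCx_X W.ι hGf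
  have hP''op : FlatMod.IsFlat (P''.opcycles m) :=
    isFlat_of_iso ((Scheme.Modules.restrictFunctor W.ι).mapIso (P'.truncGEXIsoOpcycles m) ≪≫
      (mapOpcyclesIso (Scheme.Modules.restrictFunctor W.ι) P' m).symm) (isFlat_of_isFinLocFree hW)
  have h2 := (preservesMono_Φ_iff_isFlat_opcycles P'' hP''f m).2 hP''op
  have h3 : (Φ (DCoh.tensorBi (X := (W : Scheme.{u}))) G'' m).PreservesMonomorphisms :=
    CategoryTheory.Functor.PreservesMonomorphisms.of_iso e
  have h4 : FlatMod.IsFlat (G''.opcycles m) :=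
    (preservesMono_Φ_iff_isFlat_opcycles G'' hG''f m).1 h3
  refine ⟨(W.ι ≫ j' ≫ j).opensRange, ?_, ?_⟩
  · exact ⟨⟨y', hyW⟩, rfl⟩
  · rintro z ⟨w, rfl⟩
    have h5 := h4 w
    rw [isFlatAt_opcycles_resCx_iff, isFlatAt_opcycles_resCx_iff,
      isFlatAt_opcycles_resCx_iff] at h5
    exact h5

end

end Groth.Agent.Lib.Helper28.Sp
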