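import Mathlib
import Groth.Agent.Lib.Helper28.Sp1
import Groth.Agent.Lib.Helper28.RingL2
import Groth.Agent.Lib.Helper28.StalkSky3
set_option autoImplicit false

universe u

open CategoryTheory Limits HomologicalComplex AlgebraicGeometry

attribute [local instance] HasDerivedCategory.standard

namespace Groth.Agent.Lib.Helper28.Sp

open Groth.Agent.Lib.Helper28.TensorDelta Groth.Agent.Lib.Helper28.KFlatSite
  Groth.Agent.Lib.Helper28.KFlatAbs Groth.Agent.Lib.Helper28.Lpull
  Groth.Agent.Lib.Helper28.TensorApprox Groth.Agent.Lib.Helper28.DCohRes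
  Groth.Agent.Lib.Helper28.DCohTilde Groth.Agent.Lib.Helper28.Betti
  Groth.Agent.Lib.Helper28.PerfTensor Groth.Agent.Lib.Helper29.QCoh
  Groth.Agent.Lib.Helper28.DCohStalk Groth.Agent.Lib.Helper28.Tp

noncomputable section

variable {X : Scheme.{u}}

/-- flatness at `x` of `opcycles^q(L)` from flatness of `opcycles^q(L_x)` -/
theorem isFlatAt_opcycles_of_stalkCx (L : CochainComplex X.Modules ℤ) (x : X) (q : ℤ)
    (h : Module.Flat (X.presheaf.stalk x) (((DCohStalk.stalkCx x).obj L).opcycles q)) :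
    FlatMod.IsFlatAt (L.opcycles q) x := by
  haveI := h
  have : Module.Flat (X.presheaf.stalk x) ((DerSch.stalkFunctor X x).obj (L.opcycles q)) :=
    Module.Flat.of_linearEquiv (mapOpcyclesIso (DerSch.stalkFunctor X x) L q).symm.toLinearEquiv
  exact this

/-- the stalk step, left exact case -/
theorem isFlatAt_opcycles_of_preservesFiniteLimits_stalk {L F : CochainComplex X.Modules ℤ}
    (β : L ⟶ F) (hβ : QuasiIso β) (hK : DCoh.IsKFlat L) (hLf : ∀ i, FlatMod.IsFlat (L.X i))
    (x : X) (p : ℤ)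
    [DRing.HasLTensorCx (X.presheaf.stalk x) ((DCohStalk.stalkCx x).obj F)]
    [PreservesFiniteLimits (DerivedCategory.singleFunctor (ModuleCat.{u} (X.presheaf.stalk x)) 0 ⋙
      DRing.LTensorCx (X.presheaf.stalk x) ((DCohStalk.stalkCx x).obj F) ⋙
      DerivedCategory.homologyFunctor (ModuleCat.{u} (X.presheaf.stalk x)) p)] :
    FlatMod.IsFlatAt (L.opcycles p) x := by
  have hq : QuasiIso ((DCohStalk.stalkCx x).map β) := inferInstance
  have hK' := Groth.Agent.Lib.Helper28.StalkTensor.isKFlat_stalk_of_isKFlat x L hK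
  have hEf : ∀ i, Module.Flat (X.presheaf.stalk x) (((DCohStalk.stalkCx x).obj L).X i) := fun i => hLf i x
  exact isFlatAt_opcycles_of_stalkCx L x p
    (Groth.Agent.Lib.Helper28.RingL.flat_opcycles_of_preservesFiniteLimits
      ((DCohStalk.stalkCx x).map β) hq hK' hEf p)

/-- the stalk step, right exact case -/
theorem isFlatAt_opcycles_of_preservesFiniteColimits_stalk {L F : CochainComplex X.Modules ℤ}
    (β : L ⟶ F) (hβ : QuasiIso β) (hK : DCoh.IsKFlat L) (hLf : ∀ i, FlatMod.IsFlat (L.X i))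
    (x : X) (p : ℤ)
    [DRing.HasLTensorCx (X.presheaf.stalk x) ((DCohStalk.stalkCx x).obj F)]
    [PreservesFiniteColimits
      (DerivedCategory.singleFunctor (ModuleCat.{u} (X.presheaf.stalk x)) 0 ⋙
      DRing.LTensorCx (X.presheaf.stalk x) ((DCohStalk.stalkCx x).obj F) ⋙
      DerivedCategory.homologyFunctor (ModuleCat.{u} (X.presheaf.stalk x)) p)] :
    FlatMod.IsFlatAt (L.opcycles (p + 1)) x := by
  have hq : QuasiIso ((DCohStalk.stalkCx x).map β) := inferInstance
  have hK' := Groth.Agent.Lib.Helper28.StalkTensor.isKFlat_stalk_of_isKFlat x L hK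
  have hEf : ∀ i, Module.Flat (X.presheaf.stalk x) (((DCohStalk.stalkCx x).obj L).X i) := fun i => hLf i x
  exact isFlatAt_opcycles_of_stalkCx L x (p + 1)
    (Groth.Agent.Lib.Helper28.RingL.flat_opcycles_of_preservesFiniteColimits
      ((DCohStalk.stalkCx x).map β) hq hK' hEf p)

section Site

variable {C : Type u} [SmallCategory C] {J : GrothendieckTopology C} {O : Sheaf J CommRingCat.{u}}

theorem preservesFiniteLimits_of_preservesMono_site {L F : CochainComplex (ModSite.Mod O) ℤ}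
    (β : L ⟶ F) (hβ : QuasiIso β) (hK : ModSite.IsKFlat L) (hfl : ∀ n, ModSite.IsFlat (L.X n))
    [ModSite.HasLTensorCx F] (p : ℤ)
    (h3 : (Φ (ModSite.tensorBi O) L p).PreservesMonomorphisms) :
    PreservesFiniteLimits (DerivedCategory.singleFunctor (ModSite.Mod O) 0 ⋙
      ModSite.LTensorCx F ⋙ DerivedCategory.homologyFunctor (ModSite.Mod O) p) := by
  haveI := hasLTensorCx_of_isKFlat L hK
  have iso := homologyLTensorCxIsoOfResolution β hβ hK p
  have hflx := shortExact_map_flip_of_isFlat L hfl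
  have h1 : PreservesFiniteLimits (Φ (ModSite.tensorBi O) L p) :=
    (preservesFiniteLimits_iff_preservesMono hflx p).2 h3
  exact preservesFiniteLimits_of_natIso iso.symm

theorem preservesFiniteColimits_of_preservesMono_site {L F : CochainComplex (ModSite.Mod O) ℤ}
    (β : L ⟶ F) (hβ : QuasiIso β) (hK : ModSite.IsKFlat L) (hfl : ∀ n, ModSite.IsFlat (L.X n))
    [ModSite.HasLTensorCx F] (p : ℤ)
    (h3 : (Φ (ModSite.tensorBi O) L (p + 1)).PreservesMonomorphisms) :
    PreservesFiniteColimits (DerivedCategory.singleFunctor (ModSite.Mod O) 0 ⋙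
      ModSite.LTensorCx F ⋙ DerivedCategory.homologyFunctor (ModSite.Mod O) p) := by
  haveI := hasLTensorCx_of_isKFlat L hK
  have iso := homologyLTensorCxIsoOfResolution β hβ hK p
  have hflx := shortExact_map_flip_of_isFlat L hfl
  have h1 : PreservesFiniteColimits (Φ (ModSite.tensorBi O) L p) :=
    (preservesFiniteColimits_iff_preservesMono hflx p).2 h3
  exact preservesFiniteColimits_of_natIso iso.symm

end Site

section Restrict

variable {L F : CochainComplex X.Modules ℤ} (β : L ⟶ F) (hβ : QuasiIso β)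
  (hK : DCoh.IsKFlat L) (hLf : ∀ i, FlatMod.IsFlat (L.X i)) (U : X.Opens)
  [DCoh.HasLTensorCx ((DCoh.restrictCx U).obj F)] (p : ℤ)

include hβ hK hLf

/-- the transfer step on an open, left exact case -/
theorem preservesFiniteLimits_restrict_of_isFlatAt
    (hU : ∀ z ∈ U, FlatMod.IsFlatAt (L.opcycles p) z) :
    PreservesFiniteLimits (DerivedCategory.singleFunctor (U : Scheme.{u}).Modules 0 ⋙
      DCoh.LTensorCx ((DCoh.restrictCx U).obj F) ⋙
      DerivedCategory.homologyFunctor (U : Scheme.{u}).Modules p) := by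
  let LU : CochainComplex (U : Scheme.{u}).Modules ℤ := (DCoh.restrictCx U).obj L
  let βU : LU ⟶ (DCoh.restrictCx U).obj F := (DCoh.restrictCx U).map β
  have hβU : QuasiIso βU := inferInstanceAs (QuasiIso ((resCx U.ι).map β))
  have hKU : DCoh.IsKFlat LU := isKFlat_resCx U.ι L hK
  have hLUf : ∀ i, FlatMod.IsFlat (LU.X i) := isFlat_resCx_X U.ι hLf
  have hfl : ∀ i, ModSite.IsFlat (O := (U : Scheme.{u}).sheaf) (LU.X i) :=
    fun i => (Groth.Agent.Lib.Helper17.FlatBridge.isFlat_iff _).1 (hLUf i)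
  have h3 : (Φ (DCoh.tensorBi (X := (U : Scheme.{u}))) LU p).PreservesMonomorphisms :=
    (preservesMono_Φ_iff_isFlat_opcycles LU hLUf p).2
      (fun w => (isFlatAt_opcycles_resCx_iff U.ι L p w).2 (hU _ w.2))
  exact @preservesFiniteLimits_of_preservesMono_site _ _ _ (U : Scheme.{u}).sheaf LU _ βU hβU hKU
    hfl ‹DCoh.HasLTensorCx ((DCoh.restrictCx U).obj F)› p h3

/-- the transfer step on an open, right exact case -/
theorem preservesFiniteColimits_restrict_of_isFlatAt
    (hU : ∀ z ∈ U, FlatMod.IsFlatAt (L.opcycles (p + 1)) z) :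
    PreservesFiniteColimits (DerivedCategory.singleFunctor (U : Scheme.{u}).Modules 0 ⋙
      DCoh.LTensorCx ((DCoh.restrictCx U).obj F) ⋙
      DerivedCategory.homologyFunctor (U : Scheme.{u}).Modules p) := by
  let LU : CochainComplex (U : Scheme.{u}).Modules ℤ := (DCoh.restrictCx U).obj L
  let βU : LU ⟶ (DCoh.restrictCx U).obj F := (DCoh.restrictCx U).map β
  have hβU : QuasiIso βU := inferInstanceAs (QuasiIso ((resCx U.ι).map β))
  have hKU : DCoh.IsKFlat LU := isKFlat_resCx U.ι L hK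
  have hLUf : ∀ i, FlatMod.IsFlat (LU.X i) := isFlat_resCx_X U.ι hLf
  have hfl : ∀ i, ModSite.IsFlat (O := (U : Scheme.{u}).sheaf) (LU.X i) :=
    fun i => (Groth.Agent.Lib.Helper17.FlatBridge.isFlat_iff _).1 (hLUf i)
  have h3 : (Φ (DCoh.tensorBi (X := (U : Scheme.{u}))) LU (p + 1)).PreservesMonomorphisms :=
    (preservesMono_Φ_iff_isFlat_opcycles LU hLUf (p + 1)).2
      (fun w => (isFlatAt_opcycles_resCx_iff U.ι L (p + 1) w).2 (hU _ w.2))
  exact @preservesFiniteColimits_of_preservesMono_site _ _ _ (U : Scheme.{u}).sheaf LU _ βU hβU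
    hKU hfl ‹DCoh.HasLTensorCx ((DCoh.restrictCx U).obj F)› p h3

end Restrict

/-- common set-up: a bounded above flat resolution -/
theorem exists_flat_resolution (F : CochainComplex X.Modules ℤ) (e : ℤ)
    [(DCoh.toD X F).IsLE e] :
    ∃ (L : CochainComplex X.Modules ℤ) (β : L ⟶ F), QuasiIso β ∧ DCoh.IsKFlat L ∧
      (∀ i, FlatMod.IsFlat (L.X i)) ∧ (∀ i, e < i → IsZero (L.X i)) ∧
      Nonempty (DCoh.toD X L ≅ DCoh.toD X F) := by
  have hF : F.IsLE e := (DerivedCategory.isLE_Q_obj_iff F e).1 ‹_›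
  obtain ⟨L, β, hb, hfl, hβ⟩ := exists_flat_resolution_of_isLE (O := X.sheaf) F e hF
  have hK : DCoh.IsKFlat L := isKFlat_of_isStrictlyLE (O := X.sheaf) L e hb hfl
  have hLflat : ∀ i, FlatMod.IsFlat (L.X i) :=
    fun i => (Groth.Agent.Lib.Helper17.FlatBridge.isFlat_iff _).2 (hfl i)
  have hiq : IsIso (DerivedCategory.Q.map β) := by
    rw [DerivedCategory.isIso_Q_map_iff_quasiIso]
    exact hβ
  exact ⟨L, β, hβ, hK, hLflat, fun i hi => CochainComplex.isZero_of_isStrictlyLE L e i hi,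
    ⟨@asIso _ _ _ _ (DerivedCategory.Q.map β) hiq⟩⟩

/-- **S6246** -/
theorem exists_nhd_preservesFiniteLimits (F : CochainComplex X.Modules ℤ)
    (e : ℤ) [(DCoh.toD X F).IsLE e] (p : ℤ)
    (hE : DCoh.IsPseudoCoherentD (p - 1) (DCoh.toD X F)) (x : X)
    [DRing.HasLTensorCx (X.presheaf.stalk x) ((DCohStalk.stalkCx x).obj F)]
    [PreservesFiniteLimits (DerivedCategory.singleFunctor (ModuleCat.{u} (X.presheaf.stalk x)) 0 ⋙
      DRing.LTensorCx (X.presheaf.stalk x) ((DCohStalk.stalkCx x).obj F) ⋙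
      DerivedCategory.homologyFunctor (ModuleCat.{u} (X.presheaf.stalk x)) p)]
    [∀ U : X.Opens, DCoh.HasLTensorCx ((DCoh.restrictCx U).obj F)] :
    ∃ U : X.Opens, x ∈ U ∧ PreservesFiniteLimits
      (DerivedCategory.singleFunctor (U : Scheme.{u}).Modules 0 ⋙
        DCoh.LTensorCx ((DCoh.restrictCx U).obj F) ⋙
        DerivedCategory.homologyFunctor (U : Scheme.{u}).Modules p) := by
  obtain ⟨L, β, hβ, hK, hLf, hLb, ⟨eG⟩⟩ := exists_flat_resolution F e
  have hx := isFlatAt_opcycles_of_preservesFiniteLimits_stalk β hβ hK hLf x p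
  have hE' : DCoh.IsPseudoCoherentD (p - 1) (DCoh.toD X L) := isPseudoCoherentD_of_iso eG.symm hE
  obtain ⟨U, hxU, hU⟩ := exists_nhd_isFlatAt_opcycles L hK hLf e hLb p hE' x hx
  exact ⟨U, hxU, preservesFiniteLimits_restrict_of_isFlatAt β hβ hK hLf U p hU⟩

/-- **S6245** -/
theorem exists_nhd_preservesFiniteColimits (F : CochainComplex X.Modules ℤ)
    (e : ℤ) [(DCoh.toD X F).IsLE e] (p : ℤ)
    (hE : DCoh.IsPseudoCoherentD p (DCoh.toD X F)) (x : X)
    [DRing.HasLTensorCx (X.presheaf.stalk x) ((DCohStalk.stalkCx x).obj F)]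
    [PreservesFiniteColimits
      (DerivedCategory.singleFunctor (ModuleCat.{u} (X.presheaf.stalk x)) 0 ⋙
      DRing.LTensorCx (X.presheaf.stalk x) ((DCohStalk.stalkCx x).obj F) ⋙
      DerivedCategory.homologyFunctor (ModuleCat.{u} (X.presheaf.stalk x)) p)]
    [∀ U : X.Opens, DCoh.HasLTensorCx ((DCoh.restrictCx U).obj F)] :
    ∃ U : X.Opens, x ∈ U ∧ PreservesFiniteColimits
      (DerivedCategory.singleFunctor (U : Scheme.{u}).Modules 0 ⋙
        DCoh.LTensorCx ((DCoh.restrictCx U).obj F) ⋙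
        DerivedCategory.homologyFunctor (U : Scheme.{u}).Modules p) := by
  obtain ⟨L, β, hβ, hK, hLf, hLb, ⟨eG⟩⟩ := exists_flat_resolution F e
  have hx := isFlatAt_opcycles_of_preservesFiniteColimits_stalk β hβ hK hLf x p
  have hE' : DCoh.IsPseudoCoherentD (p + 1 - 1) (DCoh.toD X L) := by
    rw [show p + 1 - 1 = p by omega]
    exact isPseudoCoherentD_of_iso eG.symm hE
  obtain ⟨U, hxU, hU⟩ := exists_nhd_isFlatAt_opcycles L hK hLf e hLb (p + 1) hE' x hx
  exact ⟨U, hxU, preservesFiniteColimits_restrict_of_isFlatAt β hβ hK hLf U p hU⟩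

end

end Groth.Agent.Lib.Helper28.Sp
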