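import Mathlib
import Groth.Agent.Lib.Helper28.DCohRes3
import Groth.Agent.Lib.Helper28.DCohRes15
import Groth.Agent.Lib.Helper28.DCohStalk1
import Groth.Agent.Lib.Helper28.Th5
import Groth.Agent.Lib.Helper29.QCohFinite

/-!
# Stalkwise acyclicity and local lifting along stalkwise surjections (helper28)
-/

set_option autoImplicit false

universe u

open CategoryTheory Limits AlgebraicGeometry

namespace Groth.Agent.Lib.Helper28.StalkLift

noncomputable section

open Groth.Agent.Lib.Helper29.QCoh Groth.Agent.Lib.Helper28.DCohRes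

variable {X : Scheme.{u}}

lemma subsingleton_stalk_of_iso {M N : X.Modules} (e : M ≅ N) (x : X)
    (h : Subsingleton (M.presheaf.stalk x)) : Subsingleton (N.presheaf.stalk x) := by
  have h2 : IsZero (M.presheaf.stalk x) := @AddCommGrpCat.isZero_of_subsingleton _ h
  exact AddCommGrpCat.subsingleton_of_isZero
    (h2.of_iso ((stalkFunctor X x).mapIso e).symm)

lemma subsingleton_stalk_restrict {U : Scheme.{u}} (j : U ⟶ X) [IsOpenImmersion j]
    (M : X.Modules) (y : U) (h : Subsingleton (M.presheaf.stalk (j.base y))) :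
    Subsingleton ((M.restrict j).presheaf.stalk y) := by
  have h2 : IsZero (M.presheaf.stalk (j.base y)) := @AddCommGrpCat.isZero_of_subsingleton _ h
  exact AddCommGrpCat.subsingleton_of_isZero (h2.of_iso (restrictStalkIso j M y))

/-- the complex `C` is acyclic at the stalk of `x` in degrees `≥ a` -/
def SAc (C : CochainComplex X.Modules ℤ) (x : X) (a : ℤ) : Prop :=
  ∀ i, a ≤ i → Subsingleton ((C.homology i).presheaf.stalk x)

lemma SAc.restrict {U : Scheme.{u}} (j : U ⟶ X) [IsOpenImmersion j]
    {C : CochainComplex X.Modules ℤ} {y : U} {a : ℤ} (h : SAc C (j.base y) a) :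
    SAc ((resCx j).obj C) y a := by
  intro i hi
  have e1 : ((resCx j).obj C).homology i ≅ (C.homology i).restrict j :=
    (mapHCHomologyIso (Scheme.Modules.restrictFunctor j) i).app C
  exact subsingleton_stalk_of_iso e1.symm y (subsingleton_stalk_restrict j _ y (h i hi))

lemma SAc.of_iso {C C' : CochainComplex X.Modules ℤ} (e : C ≅ C') {x : X} {a : ℤ}
    (h : SAc C x a) : SAc C' x a := fun i hi =>
  subsingleton_stalk_of_iso ((HomologicalComplex.homologyFunctor _ _ i).mapIso e) x (h i hi)

lemma SAc.of_exactAt {C : CochainComplex X.Modules ℤ} (x : X) (a : ℤ)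
    (h : ∀ i, a ≤ i → C.ExactAt i) : SAc C x a := fun i hi =>
  (isZero_iff_stalk_subsingleton _).1
    ((HomologicalComplex.exactAt_iff_isZero_homology _ _).1 (h i hi)) x

/-- **Local lifting along a stalkwise surjection.** -/
theorem exists_local_lift_of_stalk_surjective {G F P : X.Modules} (p : G ⟶ F) (x : X)
    (hp : Function.Surjective (stalkMap p x)) (φ : P ⟶ F) (hP : FlatMod.IsFinLocFree P) :
    ∃ (U : Scheme.{u}) (j : U ⟶ X) (_ : IsOpenImmersion j), x ∈ Set.range j.base ∧
      ∃ ψ : P.restrict j ⟶ G.restrict j,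
        ψ ≫ (Scheme.Modules.restrictFunctor j).map p =
          (Scheme.Modules.restrictFunctor j).map φ := by
  set π := cokernel.π p with hπdef
  have hpπ : ∀ t, stalkMap π x (stalkMap p x t) = 0 := fun t => by
    have : stalkMap p x ≫ stalkMap π x = 0 := by
      change (stalkFunctor X x).map p ≫ (stalkFunctor X x).map π = 0
      rw [← Functor.map_comp, cokernel.condition, Functor.map_zero]
    exact congrArg (fun k => k.hom t) this
  have hK : Subsingleton ((cokernel p).presheaf.stalk x) := by
    have hπ : Function.Surjective (stalkMap π x) :=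
      (epi_iff_stalkMap_surjective π).1 inferInstance x
    refine ⟨fun a b => ?_⟩
    obtain ⟨a', rfl⟩ := hπ a
    obtain ⟨b', rfl⟩ := hπ b
    obtain ⟨a'', rfl⟩ := hp a'
    obtain ⟨b'', rfl⟩ := hp b'
    rw [hpπ, hpπ]
  set e := factorThruImage (φ ≫ π) with hedef
  set ι := image.ι (φ ≫ π) with hιdef
  have hfac : φ ≫ π = e ≫ ι := (image.fac _).symm
  haveI : (image (φ ≫ π)).IsFiniteType := isFiniteType_of_locally_epi _ (fun y =>
    ⟨X, 𝟙 X, inferInstance, ⟨y, rfl⟩, P.restrict (𝟙 X),
      (Scheme.Modules.restrictFunctor (𝟙 X)).map e, isFinLocFree_restrict _ hP, inferInstance⟩)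
  have hI : Subsingleton ((image (φ ≫ π)).presheaf.stalk x) :=
    ((mono_iff_stalkMap_injective ι).1 inferInstance x).subsingleton
  let V : X.Opens := ⟨{z | Subsingleton ((image (φ ≫ π)).presheaf.stalk z)},
    isOpen_setOf_subsingleton_stalk _⟩
  have hxV : x ∈ V := hI
  have hz : IsZero ((image (φ ≫ π)).restrict V.ι) :=
    Groth.Agent.Lib.Helper28.Thick.isZero_restrict_of_stalk _ V (fun v => v.2)
  set R := Scheme.Modules.restrictFunctor V.ι with hR
  have h0 : R.map φ ≫ R.map π = 0 := by
    rw [← R.map_comp, hfac, R.map_comp, hz.eq_of_tgt (R.map e) 0, zero_comp]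
  let S' : ShortComplex (V : Scheme.{u}).Modules := ShortComplex.mk (R.map p) (R.map π)
    (by rw [← R.map_comp, cokernel.condition, R.map_zero])
  have hex : S'.Exact := (ShortComplex.exact_cokernel p).map R
  haveI : Epi S'.toCycles := hex.epi_toCycles
  obtain ⟨V', ψ', hxV', hψ'⟩ := Groth.Agent.Lib.Helper5.LocLift.exists_local_lift S'.toCycles
    (S'.liftCycles (R.map φ) h0) (isFinLocFree_restrict V.ι hP) ⟨x, hxV⟩
  set R' := Scheme.Modules.restrictFunctor V'.ι with hR'
  have hψ'' : ψ' ≫ R'.map (R.map p) = R'.map (R.map φ) := by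
    have h1 : R.map p = S'.toCycles ≫ S'.iCycles := (S'.toCycles_i).symm
    have h2 : R.map φ = S'.liftCycles (R.map φ) h0 ≫ S'.iCycles := (S'.liftCycles_i _ _).symm
    rw [h1, h2, R'.map_comp, R'.map_comp, reassoc_of% hψ']
  let c := Scheme.Modules.restrictFunctorComp V'.ι V.ι
  refine ⟨V', V'.ι ≫ V.ι, inferInstance,
    mem_range_comp V.ι V'.ι (y := ⟨x, hxV⟩) (by rw [Scheme.Opens.range_ι]; exact hxV'),
    (c.app P).hom ≫ ψ' ≫ (c.app G).inv, ?_⟩
  have n1 := c.inv.naturality p
  have n2 := c.hom.naturality φ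
  dsimp at n1 n2
  simp only [Iso.app_hom, Iso.app_inv, Category.assoc]
  rw [← n1, reassoc_of% hψ'']
  rw [← cancel_mono (c.hom.app F)]
  simp only [Category.assoc, Iso.inv_hom_id_app, Category.comp_id]
  exact n2.symm

end

end Groth.Agent.Lib.Helper28.StalkLift
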