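import Mathlib
import Groth.Agent.Lib.Helper28.StalkLift1

/-!
# Local null-homotopies and liftings for complexes which are acyclic at one stalk (helper28)
-/

set_option autoImplicit false

universe u

open CategoryTheory Limits AlgebraicGeometry

namespace Groth.Agent.Lib.Helper28.StalkLift

noncomputable section

open Groth.Agent.Lib.Helper29.QCoh Groth.Agent.Lib.Helper28.DCohRes

lemma surjective_stalkMap_toCycles {X : Scheme.{u}} (S : ShortComplex X.Modules) (x : X)
    (h : Subsingleton (S.homology.presheaf.stalk x)) :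
    Function.Surjective (stalkMap S.toCycles x) := by
  have hex : (ShortComplex.mk S.toCycles S.homologyπ S.toCycles_comp_homologyπ).Exact :=
    ShortComplex.exact_of_g_is_cokernel _ S.homologyIsCokernel
  have := (exact_iff_stalk_function_exact _).1 hex x
  intro z
  exact (this z).1 (Subsingleton.elim _ _)

/-- **Local null-homotopy, stalk version.** -/
theorem exists_nullHomotopy_of_SAc (n : ℕ) :
    ∀ {X : Scheme.{u}} (E F : CochainComplex X.Modules ℤ) (a : ℤ)
      (_ : ∀ i, FlatMod.IsFinLocFree (E.X i)) (_ : ∀ i, i < a → IsZero (E.X i))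
      (β : E ⟶ F) (_ : ∀ i, a + n ≤ i → β.f i = 0) (x : X) (_ : SAc F x a),
      ∃ (U : Scheme.{u}) (j : U ⟶ X) (_ : IsOpenImmersion j), x ∈ Set.range j.base ∧
        Nonempty (Homotopy ((resCx j).map β) 0) := by
  induction n with
  | zero =>
    intro X E F a hE hEa β hβ x hF
    refine ⟨X, 𝟙 X, inferInstance, ⟨x, rfl⟩, ?_⟩
    have : β = 0 := by
      refine HomologicalComplex.hom_ext _ _ (fun i => ?_)
      by_cases h : a ≤ i
      · simpa using hβ i (by simpa using h)
      · exact (hEa i (by omega)).eq_of_src _ _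
    subst this
    exact ⟨Homotopy.ofEq (by simp)⟩
  | succ n ih =>
    intro X E F a hE hEa β hβ x hF
    obtain ⟨c, hc⟩ : ∃ c : ℤ, c = a + n := ⟨_, rfl⟩
    have hac : a ≤ c := by omega
    set S := F.sc' (c - 1) c (c + 1) with hS
    have hsub : Subsingleton (S.homology.presheaf.stalk x) :=
      subsingleton_stalk_of_iso (F.homologyIsoSc' (c - 1) c (c + 1) (by simp) (by simp)) x
        (hF c hac)
    have hsurj := surjective_stalkMap_toCycles S x hsub
    have hk : β.f c ≫ S.g = 0 := by
      change β.f c ≫ F.d c (c + 1) = 0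
      rw [β.comm, hβ (c + 1) (by push_cast; omega), comp_zero]
    obtain ⟨V, jV, hjV, ⟨y, rfl⟩, ψ, hψ⟩ := exists_local_lift_of_stalk_surjective S.toCycles x hsurj
      (S.liftCycles (β.f c) hk) (hE c)
    have hψ' : ψ ≫ (Scheme.Modules.restrictFunctor jV).map (F.d (c - 1) c) =
        (Scheme.Modules.restrictFunctor jV).map (β.f c) := by
      change ψ ≫ (Scheme.Modules.restrictFunctor jV).map S.f = _
      rw [← S.toCycles_i, Functor.map_comp, reassoc_of% hψ, ← Functor.map_comp, S.liftCycles_i]
      rfl
    -- complexes on V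
    set E' := (resCx jV).obj E with hE'
    set F' := (resCx jV).obj F with hF'
    let h : ∀ i j, (ComplexShape.up ℤ).Rel j i → (E'.X i ⟶ F'.X j) := fun i j r =>
      if hi : i = c then (E'.XIsoOfEq hi).hom ≫ ψ ≫
        (F'.XIsoOfEq (show c - 1 = j by simp at r; omega)).hom else 0
    let N : E' ⟶ F' := Homotopy.nullHomotopicMap' h
    have hN : ∀ i, c ≤ i → N.f i = ((resCx jV).map β).f i := by
      intro i hi
      have r₂₁ : (ComplexShape.up ℤ).Rel (i - 1) i := by
        change i - 1 + 1 = i
        omega
      have r₁₀ : (ComplexShape.up ℤ).Rel i (i + 1) := rfl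
      rw [Homotopy.nullHomotopicMap'_f r₂₁ r₁₀]
      have h0 : h (i + 1) i r₁₀ = 0 := dif_neg (by omega)
      rw [h0, comp_zero, zero_add]
      by_cases hic : i = c
      · subst hic
        have h1 : h i (i - 1) r₂₁ = ψ := by
          simp [h, HomologicalComplex.XIsoOfEq_rfl]
          exact Category.comp_id _
        rw [h1]
        exact hψ'
      · have h1 : h i (i - 1) r₂₁ = 0 := dif_neg hic
        rw [h1, zero_comp]
        have : ((resCx jV).map β).f i = 0 := by
          change (Scheme.Modules.restrictFunctor jV).map (β.f i) = 0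
          rw [hβ i (by push_cast; omega), Functor.map_zero]
        exact this.symm
    obtain ⟨U', j', hj', ⟨y', hy'⟩, ⟨H⟩⟩ := ih E' F' a
      (fun i => isFinLocFree_restrict jV (hE i))
      (fun i hi => (Scheme.Modules.restrictFunctor jV).map_isZero (hEa i hi))
      ((resCx jV).map β - N)
      (fun i hi => by
        rw [HomologicalComplex.sub_f_apply, hN i (by omega), sub_self])
      y (SAc.restrict jV hF)
    refine ⟨U', j' ≫ jV, inferInstance, ⟨y', ?_⟩, ?_⟩
    · rw [Scheme.Hom.comp_base, TopCat.comp_app, hy']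
    · apply nonempty_homotopy_zero_comp
      have e : (resCx j').map ((resCx jV).map β) =
          (resCx j').map ((resCx jV).map β - N) + (resCx j').map N := by
        rw [← Functor.map_add, sub_add_cancel]
      have HN : Homotopy ((resCx j').map N) 0 :=
        ((Scheme.Modules.restrictFunctor j').mapHomotopy (Homotopy.nullHomotopy' h)).trans
          (Homotopy.ofEq (by simp))
      exact ⟨(Homotopy.ofEq e).trans ((H.add HN).trans (Homotopy.ofEq (by simp)))⟩

/-- **Local lifting up to homotopy, stalk version.** -/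
theorem exists_lift_of_SAc {X : Scheme.{u}} (E F G : CochainComplex X.Modules ℤ) (α : E ⟶ F)
    (f : G ⟶ F)
    (a b : ℤ) (hE : ∀ i, FlatMod.IsFinLocFree (E.X i)) (hEa : ∀ i, i < a → IsZero (E.X i))
    (hEb : ∀ i, b < i → IsZero (E.X i)) (x : X)
    (hf : SAc (CochainComplex.mappingCone f) x a) :
    ∃ (U : Scheme.{u}) (j : U ⟶ X) (_ : IsOpenImmersion j), x ∈ Set.range j.base ∧
      ∃ β : (resCx j).obj E ⟶ (resCx j).obj G,
        Nonempty (Homotopy (β ≫ (resCx j).map f) ((resCx j).map α)) := by
  obtain ⟨U, j, hj, hx, ⟨H⟩⟩ := exists_nullHomotopy_of_SAc (b + 1 - a).toNat E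
    (CochainComplex.mappingCone f) a hE hEa (α ≫ CochainComplex.mappingCone.inr f)
    (fun i hi => (hEb i (by
      have := Int.self_le_toNat (b + 1 - a)
      omega)).eq_of_src _ _) x hf
  refine ⟨U, j, hj, hx, ?_⟩
  set R := Scheme.Modules.restrictFunctor j
  set f' := (resCx j).map f
  set α' := (resCx j).map α
  have H' : Homotopy (α' ≫ CochainComplex.mappingCone.inr f') 0 := by
    have e : α' ≫ CochainComplex.mappingCone.inr f' =
        (resCx j).map (α ≫ CochainComplex.mappingCone.inr f) ≫
          (CochainComplex.mappingCone.mapHomologicalComplexIso f R).hom := by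
      rw [Functor.map_comp, Category.assoc, CochainComplex.mappingCone.map_inr]
    exact (Homotopy.ofEq e).trans ((H.compRight _).trans (Homotopy.ofEq (by simp)))
  have hT := HomotopyCategory.mappingCone_triangleh_distinguished f'
  have h0 : (HomotopyCategory.quotient _ _).map α' ≫
      (CochainComplex.mappingCone.triangleh f').mor₂ = 0 := by
    change (HomotopyCategory.quotient _ _).map α' ≫
      (HomotopyCategory.quotient _ _).map (CochainComplex.mappingCone.inr f') = 0
    rw [← Functor.map_comp, HomotopyCategory.eq_of_homotopy _ _ H', Functor.map_zero]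
  obtain ⟨g, hg⟩ := Pretriangulated.Triangle.coyoneda_exact₂ _ hT
    ((HomotopyCategory.quotient _ _).map α') h0
  obtain ⟨β, rfl⟩ := (HomotopyCategory.quotient _ _).map_surjective g
  refine ⟨β, ⟨HomotopyCategory.homotopyOfEq _ _ ?_⟩⟩
  rw [Functor.map_comp]
  exact hg.symm

end

end Groth.Agent.Lib.Helper28.StalkLift
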