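import Mathlib
import Groth.Agent.Lib.Helper28.StalkLift2
import Groth.Agent.Lib.Helper28.DCohRes24
import Groth.Agent.Lib.Helper28.DCohRes16

/-!
# A pseudo-coherent bounded above complex which is acyclic at a stalk is acyclic nearby (helper28)
-/

set_option autoImplicit false

universe u

open CategoryTheory Limits AlgebraicGeometry

namespace Groth.Agent.Lib.Helper28.StalkLift

noncomputable section

attribute [local instance] HasDerivedCategory.standard

open Groth.Agent.Lib.Helper29.QCoh Groth.Agent.Lib.Helper28.DCohRes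

lemma exactAt_of_iso' {A : Type*} [Category A] [Abelian A] {K L : CochainComplex A ℤ} (e : K ≅ L) (i : ℤ)
    (h : K.ExactAt i) : L.ExactAt i := by
  rw [HomologicalComplex.exactAt_iff_isZero_homology] at h ⊢
  exact h.of_iso ((HomologicalComplex.homologyFunctor _ _ i).mapIso e).symm

/-- **Spreading out acyclicity.** -/
theorem exists_exactAt_of_SAc (n : ℕ) :
    ∀ {X : Scheme.{u}} (K : CochainComplex X.Modules ℤ) (a N : ℤ) (_ : N + 1 - a ≤ n)
      (_ : ∀ m : ℤ, DCoh.IsPseudoCoherentD m (DerivedCategory.Q.obj K))
      (_ : ∀ i, N < i → K.ExactAt i) (x : X) (_ : SAc K x a),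
      ∃ (U : Scheme.{u}) (j : U ⟶ X) (_ : IsOpenImmersion j), x ∈ Set.range j.base ∧
        ∀ i, a ≤ i → ((resCx j).obj K).ExactAt i := by
  induction n with
  | zero =>
    intro X K a N hn hK hN x hx
    exact ⟨X, 𝟙 X, inferInstance, ⟨x, rfl⟩, fun i hi =>
      exactAt_resCx (𝟙 X) K i (hN i (by push_cast at hn; omega))⟩
  | succ n ih =>
    intro X K a N hn hK hN x hx
    by_cases haN : N < a
    · exact ⟨X, 𝟙 X, inferInstance, ⟨x, rfl⟩, fun i hi =>
        exactAt_resCx (𝟙 X) K i (hN i (by omega))⟩
    · have haN' : a ≤ N := by omega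
      have hz : ∀ i, N < i → IsZero (DCoh.HD (DerivedCategory.Q.obj K) i) := fun i hi =>
        ((HomologicalComplex.exactAt_iff_isZero_homology _ _).1 (hN i hi)).of_iso
          ((DerivedCategory.homologyFunctorFactors X.Modules i).app K)
      haveI : (K.homology N).IsFiniteType := isFiniteType_of_isPseudoCoherentD (hK N) hz
        ((DerivedCategory.homologyFunctorFactors X.Modules N).app K)
      let V : X.Opens := ⟨{z | Subsingleton ((K.homology N).presheaf.stalk z)},
        isOpen_setOf_subsingleton_stalk _⟩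
      have hxV : x ∈ V := hx N haN'
      have hzV : IsZero ((K.homology N).restrict V.ι) :=
        Groth.Agent.Lib.Helper28.Thick.isZero_restrict_of_stalk _ V (fun v => v.2)
      set K' := (resCx V.ι).obj K with hK'
      have hexN : K'.ExactAt N := by
        rw [HomologicalComplex.exactAt_iff_isZero_homology]
        exact hzV.of_iso ((mapHCHomologyIso (Scheme.Modules.restrictFunctor V.ι) N).app K)
      obtain ⟨U', j', hj', ⟨y', hy'⟩, hU'⟩ := ih K' a (N - 1) (by push_cast at hn; omega)
        (fun m => isPseudoCoherentD_of_iso ((resDQ V.ι).app K) (isPseudoCoherentD_resD (hK m) V.ι))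
        (fun i hi => by
          by_cases h : i = N
          · subst h; exact hexN
          · exact exactAt_resCx V.ι K i (hN i (by omega)))
        ⟨x, hxV⟩ (SAc.restrict V.ι (y := ⟨x, hxV⟩) hx)
      refine ⟨U', j' ≫ V.ι, inferInstance, ⟨y', ?_⟩, fun i hi => ?_⟩
      · rw [Scheme.Hom.comp_base, TopCat.comp_app, hy']
        rfl
      · exact exactAt_of_iso' ((resCxComp j' V.ι).app K).symm i (hU' i hi)

end

end Groth.Agent.Lib.Helper28.StalkLift
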