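import Mathlib
import Groth.Agent.Lib.Helper28.StalkLift3
import Groth.Agent.Lib.Helper28.StalkAdj1
import Groth.Agent.Lib.Helper28.LpullPC

/-!
# Stalkwise acyclicity versus the complex of stalks; the skyscraper adjoint of a map of stalks
(helper28)
-/

set_option autoImplicit false

universe u

open CategoryTheory Limits AlgebraicGeometry

namespace Groth.Agent.Lib.Helper28.StalkLift

noncomputable section

attribute [local instance] HasDerivedCategory.standard

open Groth.Agent.Lib.Helper29.QCoh Groth.Agent.Lib.Helper28.DCohRes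
  Groth.Agent.Lib.Helper28.StalkTensor Groth.Agent.Lib.Helper28.Lpull

variable {X : Scheme.{u}} (x : X)

/-- the complex of stalks at `x` -/
abbrev stCx : CochainComplex X.Modules ℤ ⥤ CochainComplex (ModuleCat.{u} (X.presheaf.stalk x)) ℤ :=
  (DerSch.stalkFunctor X x).mapHomologicalComplex (ComplexShape.up ℤ)

/-- the skyscraper complex at `x` -/
abbrev skCx : CochainComplex (ModuleCat.{u} (X.presheaf.stalk x)) ℤ ⥤ CochainComplex X.Modules ℤ :=
  (skyF x).mapHomologicalComplex (ComplexShape.up ℤ)

lemma subsingleton_stalk_iff_isZero_homology_stCx (C : CochainComplex X.Modules ℤ) (i : ℤ) :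
    Subsingleton ((C.homology i).presheaf.stalk x) ↔ IsZero (((stCx x).obj C).homology i) := by
  have e : ((stCx x).obj C).homology i ≅ (DerSch.stalkFunctor X x).obj (C.homology i) :=
    (mapHCHomologyIso (DerSch.stalkFunctor X x) i).app C
  rw [e.isZero_iff]
  exact (ModuleCat.isZero_iff_subsingleton
    (M := (DerSch.stalkFunctor X x).obj (C.homology i))).symm

lemma sAc_iff (C : CochainComplex X.Modules ℤ) (a : ℤ) :
    SAc C x a ↔ ∀ i, a ≤ i → IsZero (((stCx x).obj C).homology i) :=
  forall_congr' fun i => imp_congr Iff.rfl (subsingleton_stalk_iff_isZero_homology_stCx x C i)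

/-- stalkwise acyclicity of the cone is an approximation property of the map of stalk
complexes -/
lemma sAc_mappingCone_iff {A B : CochainComplex X.Modules ℤ} (f : A ⟶ B) (a : ℤ) :
    SAc (CochainComplex.mappingCone f) x a ↔
      IsApprox a (DerivedCategory.Q.map ((stCx x).map f)) := by
  rw [sAc_iff]
  have e := CochainComplex.mappingCone.mapHomologicalComplexIso f (DerSch.stalkFunctor X x)
  constructor
  · intro h
    apply isApprox_of_isZero_homology_mappingCone
    intro i hi
    exact (h i hi).of_iso ((HomologicalComplex.homologyFunctor _ _ i).mapIso e).symm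
  · intro h i hi
    have := exactAt_mappingCone_of_isApprox _ a h i hi
    rw [HomologicalComplex.exactAt_iff_isZero_homology] at this
    exact this.of_iso ((HomologicalComplex.homologyFunctor _ _ i).mapIso e)

lemma quasiIso_stCx_map_iff {A B : CochainComplex X.Modules ℤ} (f : A ⟶ B) :
    QuasiIso ((stCx x).map f) ↔ ∀ a, SAc (CochainComplex.mappingCone f) x a := by
  rw [quasiIso_iff_isZero_homology_mappingCone]
  have e := CochainComplex.mappingCone.mapHomologicalComplexIso f (DerSch.stalkFunctor X x)
  constructor
  · intro h a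
    rw [sAc_iff]
    intro i _
    exact (h i).of_iso ((HomologicalComplex.homologyFunctor _ _ i).mapIso e)
  · intro h i
    exact (((sAc_iff x _ i).1 (h i)) i le_rfl).of_iso
      ((HomologicalComplex.homologyFunctor _ _ i).mapIso e).symm

lemma sAc_mappingCone_restrict {U : Scheme.{u}} (j : U ⟶ X) [IsOpenImmersion j]
    {A B : CochainComplex X.Modules ℤ} (f : A ⟶ B) (y : U) (a : ℤ)
    (h : SAc (CochainComplex.mappingCone f) (j.base y) a) :
    SAc (CochainComplex.mappingCone ((resCx j).map f)) y a :=
  (SAc.restrict j h).of_iso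
    (CochainComplex.mappingCone.mapHomologicalComplexIso f (Scheme.Modules.restrictFunctor j))

/-- the chain map to the skyscraper complex adjoint to a chain map out of the complex of
stalks -/
def adjCx {K : CochainComplex X.Modules ℤ}
    {M : CochainComplex (ModuleCat.{u} (X.presheaf.stalk x)) ℤ} (g : (stCx x).obj K ⟶ M) :
    K ⟶ (skCx x).obj M where
  f i := (stalkSkyAdj x).homEquiv (K.X i) (M.X i) (g.f i)
  comm' i j _ := by
    change (stalkSkyAdj x).homEquiv (K.X i) (M.X i) (g.f i) ≫ (skyF x).map (M.d i j) =
      K.d i j ≫ (stalkSkyAdj x).homEquiv (K.X j) (M.X j) (g.f j)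
    rw [← Adjunction.homEquiv_naturality_right, ← Adjunction.homEquiv_naturality_left]
    congr 1
    exact g.comm i j

/-- the termwise counit -/
def counitCx (M : CochainComplex (ModuleCat.{u} (X.presheaf.stalk x)) ℤ) :
    (stCx x).obj ((skCx x).obj M) ⟶ M where
  f i := (stalkSkyAdj x).counit.app (M.X i)
  comm' i j _ := ((stalkSkyAdj x).counit.naturality (M.d i j)).symm

instance isIso_counitCx (M : CochainComplex (ModuleCat.{u} (X.presheaf.stalk x)) ℤ) :
    IsIso (counitCx x M) := by
  haveI : IsIso (stalkSkyAdj x).counit :=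
    Adjunction.isIso_counit_of_iso (stalkSkyAdj x) (skyStalkNatIso x)
  haveI : ∀ i, IsIso ((counitCx x M).f i) := fun i =>
    inferInstanceAs (IsIso ((stalkSkyAdj x).counit.app (M.X i)))
  exact HomologicalComplex.Hom.isIso_of_components _

lemma stCx_map_adjCx_comp_counitCx {K : CochainComplex X.Modules ℤ}
    {M : CochainComplex (ModuleCat.{u} (X.presheaf.stalk x)) ℤ} (g : (stCx x).obj K ⟶ M) :
    (stCx x).map (adjCx x g) ≫ counitCx x M = g := by
  apply HomologicalComplex.hom_ext
  intro i
  let g' : (DerSch.stalkFunctor X x).obj (K.X i) ⟶ M.X i := g.f i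
  change (DerSch.stalkFunctor X x).map ((stalkSkyAdj x).homEquiv (K.X i) (M.X i) g') ≫
    (stalkSkyAdj x).counit.app (M.X i) = g'
  exact ((stalkSkyAdj x).homEquiv (K.X i) (M.X i)).symm_apply_apply g'

/-- the adjoint of a quasi-isomorphism out of the complex of stalks is a stalkwise
quasi-isomorphism -/
lemma sAc_mappingCone_adjCx {K : CochainComplex X.Modules ℤ}
    {M : CochainComplex (ModuleCat.{u} (X.presheaf.stalk x)) ℤ} (g : (stCx x).obj K ⟶ M)
    [QuasiIso g] (a : ℤ) : SAc (CochainComplex.mappingCone (adjCx x g)) x a := by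
  have h : QuasiIso ((stCx x).map (adjCx x g)) := by
    have h1 : (stCx x).map (adjCx x g) = g ≫ inv (counitCx x M) := by
      rw [← stCx_map_adjCx_comp_counitCx x g, Category.assoc, IsIso.hom_inv_id, Category.comp_id]
      rw [stCx_map_adjCx_comp_counitCx x g]
    rw [h1]
    infer_instance
  exact (quasiIso_stCx_map_iff x _).1 h a

end

end Groth.Agent.Lib.Helper28.StalkLift
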