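import Mathlib
import Groth.Agent.Lib.Helper28.StalkLift4
import Groth.Agent.Lib.Helper28.DCohRes21

/-!
# Bounded pseudo-coherent complexes with isomorphic stalks are locally isomorphic (helper28)
-/

set_option autoImplicit false

universe u

open CategoryTheory Limits AlgebraicGeometry

namespace Groth.Agent.Lib.Helper28.StalkLift

noncomputable section

attribute [local instance] HasDerivedCategory.standard

open Groth.Agent.Lib.Helper29.QCoh Groth.Agent.Lib.Helper28.DCohRes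
  Groth.Agent.Lib.Helper28.StalkTensor Groth.Agent.Lib.Helper28.Lpull

variable {X : Scheme.{u}}

lemma isApprox_of_isIso' {C : Type*} [Category C] [Abelian C] [HasDerivedCategory C] {m : ℤ}
    {A B : DerivedCategory C} (α : A ⟶ B) [IsIso α] : IsApprox m α :=
  ⟨fun _ _ => inferInstance, inferInstance⟩

lemma isPseudoCoherentD_of_isStrictlyPerfect {P : CochainComplex X.Modules ℤ}
    (hP : DCoh.IsStrictlyPerfect P) (m : ℤ) :
    DCoh.IsPseudoCoherentD m (DerivedCategory.Q.obj P) := by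
  rw [isPseudoCoherentD_iff]
  intro x
  exact ⟨X, 𝟙 X, inferInstance, ⟨x, rfl⟩, (resCx (𝟙 X)).obj P, ((resDQ (𝟙 X)).app P).inv,
    isStrictlyPerfect_resCx (𝟙 X) hP, isApprox_of_isIso' _⟩

lemma isApprox_resCx_map {U : Scheme.{u}} (j : U ⟶ X) [IsOpenImmersion j]
    {A B : CochainComplex X.Modules ℤ} (f : A ⟶ B) (m : ℤ)
    (h : IsApprox m (DerivedCategory.Q.map f)) :
    IsApprox m (DerivedCategory.Q.map ((resCx j).map f)) := by
  apply isApprox_of_isZero_homology_mappingCone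
  intro i hi
  rw [← HomologicalComplex.exactAt_iff_isZero_homology]
  exact exactAt_of_iso'
    (CochainComplex.mappingCone.mapHomologicalComplexIso f (Scheme.Modules.restrictFunctor j)) i
    (exactAt_resCx j _ i (exactAt_mappingCone_of_isApprox f m h i hi))

lemma locIso_comp {U U' : Scheme.{u}} (j : U ⟶ X) (j' : U' ⟶ U) [IsOpenImmersion j]
    [IsOpenImmersion j'] (E F : CochainComplex X.Modules ℤ)
    (h : Nonempty (DerivedCategory.Q.obj ((resCx j').obj ((resCx j).obj E)) ≅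
      DerivedCategory.Q.obj ((resCx j').obj ((resCx j).obj F)))) :
    Nonempty (DerivedCategory.Q.obj ((resCx (j' ≫ j)).obj E) ≅
      DerivedCategory.Q.obj ((resCx (j' ≫ j)).obj F)) := by
  obtain ⟨e⟩ := h
  exact ⟨DerivedCategory.Q.mapIso ((resCxComp j' j).app E) ≪≫ e ≪≫
    (DerivedCategory.Q.mapIso ((resCxComp j' j).app F)).symm⟩

lemma locIso_restrict {U W : Scheme.{u}} (j : U ⟶ X) (k : W ⟶ U) [IsOpenImmersion j]
    [IsOpenImmersion k] (E F : CochainComplex X.Modules ℤ)
    (h : Nonempty (DerivedCategory.Q.obj ((resCx j).obj E) ≅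
      DerivedCategory.Q.obj ((resCx j).obj F))) :
    Nonempty (DerivedCategory.Q.obj ((resCx (k ≫ j)).obj E) ≅
      DerivedCategory.Q.obj ((resCx (k ≫ j)).obj F)) := by
  obtain ⟨e⟩ := h
  exact locIso_comp j k E F ⟨((resDQ k).app _).symm ≪≫ (resD k).mapIso e ≪≫ (resDQ k).app _⟩

lemma locIso_of_eq {U : Scheme.{u}} {j j' : U ⟶ X} [IsOpenImmersion j] [IsOpenImmersion j']
    (hjj : j = j') (E F : CochainComplex X.Modules ℤ)
    (h : Nonempty (DerivedCategory.Q.obj ((resCx j).obj E) ≅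
      DerivedCategory.Q.obj ((resCx j).obj F))) :
    Nonempty (DerivedCategory.Q.obj ((resCx j').obj E) ≅
      DerivedCategory.Q.obj ((resCx j').obj F)) := by
  subst hjj
  exact h

open DerivedCategory in
/-- the core local statement -/
theorem exists_locIso_core (x : X) (E F G P : CochainComplex X.Modules ℤ)
    (u : E ⟶ G) (v : F ⟶ G) (hu : ∀ a, SAc (CochainComplex.mappingCone u) x a)
    (hv : ∀ a, SAc (CochainComplex.mappingCone v) x a)
    (hP : DCoh.IsStrictlyPerfect P) (ψ : P ⟶ E) (c d : ℤ)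
    (hψ : IsApprox (c - 1) (Q.map ψ))
    (hEc : ∀ i, i < c → E.ExactAt i) (hFc : ∀ i, i < c → F.ExactAt i)
    (hFd : ∀ i, d < i → F.ExactAt i)
    (hF : ∀ m : ℤ, DCoh.IsPseudoCoherentD m (Q.obj F)) :
    ∃ (U : Scheme.{u}) (j : U ⟶ X) (_ : IsOpenImmersion j), x ∈ Set.range j.base ∧
      Nonempty (Q.obj ((resCx j).obj E) ≅ Q.obj ((resCx j).obj F)) := by
  obtain ⟨⟨a, b, hvan⟩, hfl⟩ := id hP
  have hPa : ∀ i, i < a → IsZero (P.X i) := fun i hi => hvan i (Or.inl hi)
  have hPb : ∀ i, b < i → IsZero (P.X i) := fun i hi => hvan i (Or.inr hi)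
  obtain ⟨U₂, j₂, hj₂, ⟨y₂, rfl⟩, β, ⟨H⟩⟩ := exists_lift_of_SAc P G F (ψ ≫ u) v a b hfl hPa hPb x
    (hv a)
  -- stalkwise approximation property of β
  have hβ : SAc (CochainComplex.mappingCone β) y₂ (c - 1) := by
    rw [sAc_mappingCone_iff]
    have H' : Homotopy ((stCx y₂).map (β ≫ (resCx j₂).map v))
        ((stCx y₂).map ((resCx j₂).map (ψ ≫ u))) :=
      (DerSch.stalkFunctor U₂ y₂).mapHomotopy H
    have hQ := Q_map_eq_of_homotopy _ H'
    rw [Functor.map_comp, Functor.map_comp, Functor.map_comp, Functor.map_comp,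
      Functor.map_comp] at hQ
    haveI iv : IsIso (Q.map ((stCx y₂).map ((resCx j₂).map v))) := by
      rw [isIso_Q_map_iff_quasiIso, quasiIso_stCx_map_iff]
      exact fun a => sAc_mappingCone_restrict j₂ v y₂ a (hv a)
    haveI iu : IsIso (Q.map ((stCx y₂).map ((resCx j₂).map u))) := by
      rw [isIso_Q_map_iff_quasiIso, quasiIso_stCx_map_iff]
      exact fun a => sAc_mappingCone_restrict j₂ u y₂ a (hu a)
    have hψ₂ : IsApprox (c - 1) (Q.map ((stCx y₂).map ((resCx j₂).map ψ))) :=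
      (sAc_mappingCone_iff y₂ _ _).1 (sAc_mappingCone_restrict j₂ ψ y₂ (c - 1)
        (SAc.of_exactAt _ _ (fun i hi => exactAt_mappingCone_of_isApprox ψ (c - 1) hψ i hi)))
    have h1 : Q.map ((stCx y₂).map β) =
        (Q.map ((stCx y₂).map ((resCx j₂).map ψ)) ≫
          (asIso (Q.map ((stCx y₂).map ((resCx j₂).map u)))).hom) ≫
          (asIso (Q.map ((stCx y₂).map ((resCx j₂).map v)))).symm.hom := by
      simp only [asIso_hom, Iso.symm_hom, asIso_inv]
      rw [← hQ, Category.assoc, IsIso.hom_inv_id, Category.comp_id]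
    rw [h1]
    exact (hψ₂.comp_iso _).comp_iso _
  -- the cone of β is pseudo-coherent and bounded above
  set K := CochainComplex.mappingCone β with hKdef
  have hPC : ∀ m : ℤ, DCoh.IsPseudoCoherentD m (Q.obj K) := by
    intro m
    have hT := mappingCone_triangle_distinguished β
    exact (isPseudoCoherentD_triangle m _ hT).1
      (isPseudoCoherentD_of_isStrictlyPerfect (isStrictlyPerfect_resCx j₂ hP) (m + 1))
      (isPseudoCoherentD_of_iso ((resDQ j₂).app F) (isPseudoCoherentD_resD (hF m) j₂))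
  obtain ⟨N, hN⟩ : ∃ N : ℤ, N = max b d + 1 := ⟨_, rfl⟩
  have hbN : b < N := by have := le_max_left b d; omega
  have hdN : d < N := by have := le_max_right b d; omega
  have hzP : ∀ i, b < i → IsZero (((resCx j₂).obj P).homology i) := fun i hi =>
    ShortComplex.isZero_homology_of_isZero_X₂ _
      ((Scheme.Modules.restrictFunctor j₂).map_isZero (hPb i hi))
  have hzF : ∀ i, d < i → IsZero (((resCx j₂).obj F).homology i) := fun i hi =>
    (HomologicalComplex.exactAt_iff_isZero_homology _ _).1 (exactAt_resCx j₂ F i (hFd i hi))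
  have hbd : ∀ i, N < i → K.ExactAt i := by
    intro i hi
    refine exactAt_mappingCone_of_isApprox β N ((isApprox_Q_map_iff β N).2 ⟨fun k hk => ?_, ?_⟩) i
      (le_of_lt hi)
    · exact ⟨⟨0, (hzP k (by omega)).eq_of_src _ _, (hzF k (by omega)).eq_of_src _ _⟩⟩
    · exact ⟨fun _ _ _ => (hzF N hdN).eq_of_src _ _⟩
  obtain ⟨U₃, j₃, hj₃, ⟨y₃, rfl⟩, hex⟩ := exists_exactAt_of_SAc (N + 1 - (c - 1)).toNat K (c - 1) N
    (Int.self_le_toNat _) hPC hbd y₂ hβ
  -- on U₃
  set β₃ := (resCx j₃).map β with hβ₃def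
  set ψ₃ := (resCx j₃).map ((resCx j₂).map ψ) with hψ₃def
  have hβ₃ : IsApprox (c - 1) (Q.map β₃) := by
    apply isApprox_of_isZero_homology_mappingCone
    intro i hi
    rw [← HomologicalComplex.exactAt_iff_isZero_homology]
    exact exactAt_of_iso'
      (CochainComplex.mappingCone.mapHomologicalComplexIso β (Scheme.Modules.restrictFunctor j₃)) i
      (hex i hi)
  have hψ₃ : IsApprox (c - 1) (Q.map ψ₃) :=
    isApprox_resCx_map j₃ _ _ (isApprox_resCx_map j₂ ψ _ hψ)
  let E₃ := (resCx j₃).obj ((resCx j₂).obj E)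
  let F₃ := (resCx j₃).obj ((resCx j₂).obj F)
  haveI : E₃.IsGE c := by
    rw [CochainComplex.isGE_iff]
    exact fun i hi => exactAt_resCx j₃ _ i (exactAt_resCx j₂ E i (hEc i hi))
  haveI : F₃.IsGE c := by
    rw [CochainComplex.isGE_iff]
    exact fun i hi => exactAt_resCx j₃ _ i (exactAt_resCx j₂ F i (hFc i hi))
  haveI : QuasiIso (CochainComplex.truncGEMap ψ₃ c) := by
    rw [CochainComplex.quasiIso_truncGEMap_iff]
    intro i hi
    rw [quasiIsoAt_iff_isIso_homologyMap]
    exact ((isApprox_Q_map_iff ψ₃ (c - 1)).1 hψ₃).1 i (by omega)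
  haveI : QuasiIso (CochainComplex.truncGEMap β₃ c) := by
    rw [CochainComplex.quasiIso_truncGEMap_iff]
    intro i hi
    rw [quasiIsoAt_iff_isIso_homologyMap]
    exact ((isApprox_Q_map_iff β₃ (c - 1)).1 hβ₃).1 i (by omega)
  haveI i1 : IsIso (Q.map (E₃.πTruncGE c)) := (isIso_Q_map_iff_quasiIso _ _).2 inferInstance
  haveI i2 : IsIso (Q.map (F₃.πTruncGE c)) := (isIso_Q_map_iff_quasiIso _ _).2 inferInstance
  haveI i3 : IsIso (Q.map (CochainComplex.truncGEMap ψ₃ c)) :=
    (isIso_Q_map_iff_quasiIso _ _).2 inferInstance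
  haveI i4 : IsIso (Q.map (CochainComplex.truncGEMap β₃ c)) :=
    (isIso_Q_map_iff_quasiIso _ _).2 inferInstance
  refine ⟨U₃, j₃ ≫ j₂, inferInstance, ⟨y₃, by rw [Scheme.Hom.comp_base, TopCat.comp_app]⟩, ?_⟩
  apply locIso_comp
  exact ⟨asIso (Q.map (E₃.πTruncGE c)) ≪≫ (asIso (Q.map (CochainComplex.truncGEMap ψ₃ c))).symm ≪≫
    asIso (Q.map (CochainComplex.truncGEMap β₃ c)) ≪≫ (asIso (Q.map (F₃.πTruncGE c))).symm⟩

end

end Groth.Agent.Lib.Helper28.StalkLift
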