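import Mathlib
import Groth.Agent.Lib.Helper28.StalkLift5

/-!
# Bounded pseudo-coherent complexes with isomorphic stalks are locally isomorphic: main theorem
(helper28)
-/

set_option autoImplicit false

universe u

open CategoryTheory Limits AlgebraicGeometry

namespace Groth.Agent.Lib.Helper28.StalkLift

noncomputable section

attribute [local instance] HasDerivedCategory.standard

open Groth.Agent.Lib.Helper29.QCoh Groth.Agent.Lib.Helper28.DCohRes
  Groth.Agent.Lib.Helper28.StalkTensor Groth.Agent.Lib.Helper28.Lpull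

variable {X : Scheme.{u}}

open DerivedCategory in
theorem exists_restrict_iso_of_stalk_iso (x : X)
    (E F : CochainComplex X.Modules ℤ) (c d : ℤ) [(Q.obj E).IsGE c]
    [(Q.obj F).IsGE c] [(Q.obj F).IsLE d]
    (hE : ∀ m : ℤ, DCoh.IsPseudoCoherentD m (Q.obj E))
    (hF : ∀ m : ℤ, DCoh.IsPseudoCoherentD m (Q.obj F))
    (hx : Nonempty (Q.obj ((stCx x).obj E) ≅ Q.obj ((stCx x).obj F))) :
    ∃ U : X.Opens, x ∈ U ∧
      Nonempty (Q.obj ((resCx U.ι).obj E) ≅ Q.obj ((resCx U.ι).obj F)) := by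
  obtain ⟨e⟩ := hx
  obtain ⟨M', g, s, hs, hfac⟩ := left_fac e.hom
  haveI hsq : QuasiIso s := (isIso_Q_map_iff_quasiIso _ s).1 hs
  haveI hgq : QuasiIso g := by
    rw [← isIso_Q_map_iff_quasiIso]
    have : Q.map g = e.hom ≫ Q.map s := by
      rw [hfac, Category.assoc, IsIso.inv_hom_id, Category.comp_id]
    rw [this]
    infer_instance
  have hEge : E.IsGE c := (isGE_Q_obj_iff E c).1 inferInstance
  have hFge : F.IsGE c := (isGE_Q_obj_iff F c).1 inferInstance
  have hFle : F.IsLE d := (isLE_Q_obj_iff F d).1 inferInstance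
  set u := adjCx x g with hu
  set v := adjCx x s with hv
  obtain ⟨U, j, hj, ⟨y, rfl⟩, P, α, hP, hα⟩ := (isPseudoCoherentD_iff (c - 1) _).1 (hE (c - 1)) x
  obtain ⟨⟨a, b, hvan⟩, hfl⟩ := id hP
  have hα' : IsApprox (c - 1) (α ≫ ((resDQ j).app E).hom) := hα.comp_iso _
  obtain ⟨U₁, j₁, hj₁, ⟨y₁, rfl⟩, ψ, hψ⟩ := exists_chainMap_locally P ((resCx j).obj E) a b hfl
    (fun i hi => hvan i (Or.inl hi)) (fun i hi => hvan i (Or.inr hi))
    (α ≫ ((resDQ j).app E).hom) y
  have hψ' : IsApprox (c - 1) (Q.map ψ) := by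
    rw [hψ]
    exact ((hα'.resD j₁).comp_iso ((resDQ j₁).app _)).iso_comp ((resDQ j₁).app P).symm
  obtain ⟨U₂, j₂, hj₂, ⟨y₂, rfl⟩, hiso⟩ := exists_locIso_core y₁
    ((resCx j₁).obj ((resCx j).obj E)) ((resCx j₁).obj ((resCx j).obj F))
    ((resCx j₁).obj ((resCx j).obj ((skCx (j.base (j₁.base y₁))).obj M')))
    ((resCx j₁).obj P)
    ((resCx j₁).map ((resCx j).map u)) ((resCx j₁).map ((resCx j).map v))
    (fun a => sAc_mappingCone_restrict j₁ _ y₁ a
      (sAc_mappingCone_restrict j u (j₁.base y₁) a (sAc_mappingCone_adjCx _ g a)))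
    (fun a => sAc_mappingCone_restrict j₁ _ y₁ a
      (sAc_mappingCone_restrict j v (j₁.base y₁) a (sAc_mappingCone_adjCx _ s a)))
    (isStrictlyPerfect_resCx j₁ hP) ψ c d hψ'
    (fun i hi => exactAt_resCx j₁ _ i (exactAt_resCx j E i (E.exactAt_of_isGE c i hi)))
    (fun i hi => exactAt_resCx j₁ _ i (exactAt_resCx j F i (F.exactAt_of_isGE c i hi)))
    (fun i hi => exactAt_resCx j₁ _ i (exactAt_resCx j F i (F.exactAt_of_isLE d i hi)))
    (fun m => isPseudoCoherentD_of_iso ((resDQ j₁).app _) (isPseudoCoherentD_resD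
      (isPseudoCoherentD_of_iso ((resDQ j).app F) (isPseudoCoherentD_resD (hF m) j)) j₁))
  have h1 := locIso_comp j (j₂ ≫ j₁) E F (locIso_comp j₁ j₂ _ _ hiso)
  set J := (j₂ ≫ j₁) ≫ j with hJ
  have h2 := locIso_of_eq J.isoOpensRange_inv_comp E F (locIso_restrict J J.isoOpensRange.inv E F h1)
  refine ⟨J.opensRange, ⟨y₂, ?_⟩, h2⟩
  rw [hJ, Scheme.Hom.comp_base, Scheme.Hom.comp_base]
  rfl

end

end Groth.Agent.Lib.Helper28.StalkLift
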