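import Mathlib.LinearAlgebra.Finsupp.SumProd
import Mathlib.LinearAlgebra.Finsupp.Pi
import Mathlib.LinearAlgebra.Finsupp.LSum
import Mathlib.LinearAlgebra.Prod
import Mathlib.SetTheory.Cardinal.Arithmetic

set_option autoImplicit false

namespace Groth.Agent.Lib.Helper28

universe u v w

variable (R : Type u) [CommRing R] (P : Type v) (Q : Type w) [AddCommGroup P] [Module R P]
  [AddCommGroup Q] [Module R Q]

/-- Splitting finitely supported functions into a product. -/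
noncomputable def finsuppProdSplit (α : Type*) : (α →₀ P × Q) ≃ₗ[R] (α →₀ P) × (α →₀ Q) :=
  LinearEquiv.ofLinearMap
    (LinearMap.prod (Finsupp.mapRange.linearMap (LinearMap.fst R P Q))
      (Finsupp.mapRange.linearMap (LinearMap.snd R P Q)))
    (LinearMap.coprod (Finsupp.mapRange.linearMap (LinearMap.inl R P Q))
      (Finsupp.mapRange.linearMap (LinearMap.inr R P Q)))
    (by
      apply LinearMap.ext
      rintro ⟨a, b⟩
      ext i <;> simp)
    (by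
      apply LinearMap.ext
      intro x
      ext i <;> simp)

/-- Shifting a sequence: `(ℕ →₀ P) ≃ (ℕ →₀ P) × P`. -/
noncomputable def finsuppNatShift : (ℕ →₀ P) ≃ₗ[R] (ℕ →₀ P) × P :=
  ((Finsupp.domLCongr Equiv.natSumPUnitEquivNat.{0}).symm.trans
    (Finsupp.sumFinsuppLEquivProdFinsupp R)).trans
    (LinearEquiv.prodCongr (LinearEquiv.refl R _) (Finsupp.uniqueLinearEquiv R P PUnit.unit))

/-- The Eilenberg swindle: `P × (P × Q)^(ℕ) ≃ (P × Q)^(ℕ)`. -/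
noncomputable def swindle : (P × (ℕ →₀ P × Q)) ≃ₗ[R] (ℕ →₀ P × Q) :=
  -- (ℕ →₀ P×Q) ≃ (ℕ →₀ P) × (ℕ →₀ Q) ≃ ((ℕ →₀ P) × P) × (ℕ →₀ Q)
  --   ≃ P × ((ℕ →₀ P) × (ℕ →₀ Q)) ≃ P × (ℕ →₀ P × Q)
  (((finsuppProdSplit R P Q ℕ).trans
    (LinearEquiv.prodCongr (finsuppNatShift R P) (LinearEquiv.refl R _))).trans
    ((LinearEquiv.prodCongr (LinearEquiv.prodComm R _ _) (LinearEquiv.refl R _)).trans
      ((LinearEquiv.prodAssoc R _ _ _).trans
        (LinearEquiv.prodCongr (LinearEquiv.refl R _) (finsuppProdSplit R P Q ℕ).symm)))).symm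

/-- If `P × Q ≃ (ι →₀ R)` then `P × (ℕ × ι →₀ R) ≃ (ℕ × ι →₀ R)`. -/
noncomputable def swindleFree (ι : Type*) (e : (P × Q) ≃ₗ[R] (ι →₀ R)) :
    (P × (ℕ × ι →₀ R)) ≃ₗ[R] (ℕ × ι →₀ R) :=
  let t : (ℕ × ι →₀ R) ≃ₗ[R] (ℕ →₀ P × Q) :=
    (Finsupp.curryLinearEquiv R).trans (Finsupp.mapRange.linearEquiv e.symm)
  ((LinearEquiv.prodCongr (LinearEquiv.refl R P) t).trans (swindle R P Q)).trans t.symm

theorem nonempty_equiv_nat_prod (ι : Type u) [Infinite ι] : Nonempty (ι ≃ ℕ × ι) := by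
  have h : Cardinal.mk (ℕ × ι) = Cardinal.mk ι := by
    rw [Cardinal.mk_prod]
    simp [Cardinal.aleph0_mul_eq (Cardinal.aleph0_le_mk ι)]
  obtain ⟨eqv⟩ := Cardinal.eq.mp h
  exact ⟨eqv.symm⟩

end Groth.Agent.Lib.Helper28
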