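import Mathlib
import Groth.Agent.Lib.Helper28.TensorApprox1
import Groth.Agent.Lib.Helper28.PerfTensor4
import Groth.Agent.Lib.Helper28.DCohRes7
import Groth.Agent.Lib.Helper28.RelPerf4
import Groth.Agent.Lib.Helper28.PullTor2
import Groth.Agent.Lib.Helper28.DCohRes11
set_option autoImplicit false

universe u

open CategoryTheory Limits AlgebraicGeometry

attribute [local instance] HasDerivedCategory.standard

namespace Groth.Agent.Lib.Helper28.TensorApprox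

open Groth.Agent.Lib.Helper28.StalkTensor Groth.Agent.Lib.Helper28.DCohRes
  Groth.Agent.Lib.Helper28.KFlatAbs Groth.Agent.Lib.Helper28.KFlatSite Groth.Agent.Lib.Helper17
  Groth.Agent.Lib.Helper28.PerfTensor Groth.Agent.Lib.Helper28.Lpull

noncomputable section

variable {X : Scheme.{u}}

/-- a K-flat model of `K ⊗^L M` -/
theorem exists_model (K : DCoh.D X) (M : CochainComplex X.Modules ℤ) [DCoh.HasLTensorCx M] :
    ∃ (P L : CochainComplex X.Modules ℤ), DCoh.IsKFlat P ∧ DCoh.IsKFlat L ∧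
      Nonempty (DerivedCategory.Q.obj P ≅ K) ∧
      Nonempty (DerivedCategory.Q.obj L ≅ DerivedCategory.Q.obj M) ∧
      Nonempty ((DCoh.LTensorCx M).obj K ≅ DerivedCategory.Q.obj ((DCoh.tensorCx.obj P).obj L)) := by
  obtain ⟨P, hP, ⟨eP⟩⟩ := exists_kflat_rep K
  obtain ⟨L, q, hL, hq⟩ := exists_kflat_resolution' M
  haveI := hasLTensorCx_of_isKFlat' L hL
  have hiq : IsIso (DerivedCategory.Q.map q) := by
    rw [DerivedCategory.isIso_Q_map_iff_quasiIso]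
    exact hq
  refine ⟨P, L, hP, hL, ⟨eP⟩, ⟨@asIso _ _ _ _ (DerivedCategory.Q.map q) hiq⟩, ⟨?_⟩⟩
  exact ((LTensorCxNatIsoOfQuasiIso' q hq).symm.app K) ≪≫ (DCoh.LTensorCx L).mapIso eP.symm ≪≫
    LTensorCxIsoLeft' L P hP

/-- restriction of the model to an open where the first factor has a K-flat model `E₁` -/
def resTensorIso {U : Scheme.{u}} (j : U ⟶ X) [IsOpenImmersion j]
    (P L : CochainComplex X.Modules ℤ) (hP : DCoh.IsKFlat P) (hL : DCoh.IsKFlat L)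
    (E₁ : CochainComplex U.Modules ℤ) (hE₁ : DCoh.IsKFlat E₁)
    (e₁ : (resD j).obj (DerivedCategory.Q.obj P) ≅ DerivedCategory.Q.obj E₁) :
    (resD j).obj (DerivedCategory.Q.obj ((DCoh.tensorCx.obj P).obj L)) ≅
      DerivedCategory.Q.obj ((DCoh.tensorCx.obj E₁).obj ((resCx j).obj L)) :=
  (resDQ j).app _ ≪≫
    DerivedCategory.Q.mapIso (resCxPullIso j _ ≪≫ pullTensorCxIso j P L) ≪≫
    tensorQCongr ((pullCx j).obj P) E₁ ((pullCx j).obj L) ((resCx j).obj L)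
      (isKFlat_pullCx j P hP) hE₁ (isKFlat_pullCx j L hL) (isKFlat_resCx j L hL)
      (DerivedCategory.Q.mapIso (resCxPullIso j P).symm ≪≫ ((resDQ j).app P).symm ≪≫ e₁)
      (DerivedCategory.Q.mapIso (resCxPullIso j L).symm)

lemma isStrictlyLE_of_vanishes {U : Scheme.{u}} (E : CochainComplex U.Modules ℤ) (b : ℤ)
    (h : ∀ i : ℤ, b < i → IsZero (E.X i)) : E.IsStrictlyLE b := by
  rw [CochainComplex.isStrictlyLE_iff]
  exact h

/-- **pseudo-coherence of the tensor product of a perfect and a pseudo-coherent complex** -/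
theorem isPseudoCoherentD_tensorCx (P L : CochainComplex X.Modules ℤ) (hP : DCoh.IsKFlat P)
    (hL : DCoh.IsKFlat L) (hPperf : DCoh.IsPerfect (DerivedCategory.Q.obj P))
    (hLpc : ∀ m : ℤ, DCoh.IsPseudoCoherentD m (DerivedCategory.Q.obj L)) (m : ℤ) :
    DCoh.IsPseudoCoherentD m (DerivedCategory.Q.obj ((DCoh.tensorCx.obj P).obj L)) := by
  rw [isPseudoCoherentD_iff]
  intro x
  obtain ⟨U₁, j₁, _, hx₁, E₁, hE₁, ⟨e₁⟩⟩ := (isPerfect_iff _).1 hPperf x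
  obtain ⟨⟨a₁, b₁, hab₁⟩, -⟩ := id hE₁
  obtain ⟨U₂, j₂, _, hx₂, hL₂⟩ := (isPseudoCoherentD_iff (m - b₁) _).1 (hLpc (m - b₁)) x
  obtain ⟨V, k₁, k₂, _, _, hxV, h₁, h₂⟩ := exists_common j₁ j₂ hx₁ hx₂
  have hrep : RepAlong (DerivedCategory.Q.obj P) V.ι ((resCx k₁).obj E₁) :=
    (RepAlong.comp (show RepAlong (DerivedCategory.Q.obj P) j₁ E₁ from ⟨e₁⟩) k₁).of_eq h₁
  obtain ⟨E₂, α, hE₂, hα⟩ := (hL₂.comp k₂).of_eq h₂
  obtain ⟨e₁'⟩ := hrep
  have hE₁' : DCoh.IsStrictlyPerfect ((resCx k₁).obj E₁) := isStrictlyPerfect_resCx k₁ hE₁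
  have hE₁K := isKFlat_of_isStrictlyPerfect _ hE₁'
  haveI : ((resCx k₁).obj E₁).IsStrictlyLE b₁ := by
    apply isStrictlyLE_of_vanishes
    intro i hi
    exact (Scheme.Modules.restrictFunctor k₁).map_isZero (hab₁ i (Or.inr hi))
  obtain ⟨β, hβ⟩ := exists_approx_tensor ((resCx k₁).obj E₁) ((resCx V.ι).obj L) E₂ hE₁K b₁
    (m - b₁) (α ≫ ((resDQ V.ι).app L).hom) (hα.comp_iso ((resDQ V.ι).app L))
  refine ⟨V, V.ι, inferInstance, by rw [Scheme.Opens.range_ι]; exact hxV,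
    (DCoh.tensorCx.obj ((resCx k₁).obj E₁)).obj E₂,
    β ≫ (resTensorIso V.ι P L hP hL _ hE₁K e₁').inv,
    isStrictlyPerfect_tensorCx hE₁' hE₂, ?_⟩
  have := hβ.comp_iso (resTensorIso V.ι P L hP hL _ hE₁K e₁').symm
  rw [show b₁ + (m - b₁) = m by ring] at this
  exact this

/-- **relative tor amplitude of the tensor product of a perfect complex and a complex locally of
finite tor amplitude over the base** -/
theorem locFiniteTorAmplitude_tensorCx {S : Scheme.{u}} (f : X ⟶ S)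
    (P L : CochainComplex X.Modules ℤ) (hP : DCoh.IsKFlat P)
    (hL : DCoh.IsKFlat L) (hPperf : DCoh.IsPerfect (DerivedCategory.Q.obj P))
    (hLtor : DerSch.LocFiniteTorAmplitude f L) :
    DerSch.LocFiniteTorAmplitude f ((DCoh.tensorCx.obj P).obj L) := by
  intro x
  obtain ⟨U₁, j₁, _, hx₁, E₁, hE₁, ⟨e₁⟩⟩ := (isPerfect_iff _).1 hPperf x
  obtain ⟨⟨a₁, b₁, hab₁⟩, hfl₁⟩ := id hE₁
  obtain ⟨V₂, c, d, hxV₂, hV₂⟩ := hLtor x
  refine ⟨j₁.opensRange ⊓ V₂, a₁ + c, b₁ + d, ⟨hx₁, hxV₂⟩, ?_⟩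
  rintro x' ⟨⟨y, rfl⟩, hx'₂⟩
  have hE₁K := isKFlat_of_isStrictlyPerfect _ hE₁
  refine (Groth.Agent.Lib.Helper28.RelPerf.hasTorAmplitudeAt_restrict_iff f j₁ _ _ _ y).1 ?_
  refine Groth.Agent.Lib.Helper28.RelPerf.hasTorAmplitudeAt_of_iso (j₁ ≫ f)
    ((resTensorIso j₁ P L hP hL E₁ hE₁K e₁).symm ≪≫ (resDQ j₁).app _) _ _ y ?_
  have hL₀ : DerSch.HasTorAmplitudeAt (j₁ ≫ f) c d ((resCx j₁).obj L) y :=
    (Groth.Agent.Lib.Helper28.RelPerf.hasTorAmplitudeAt_restrict_iff f j₁ L c d y).2 (hV₂ _ hx'₂)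
  have h := Groth.Agent.Lib.Helper13.DV.hasTorAmplitudeIn_res_tensor ((j₁ ≫ f).stalkMap y).hom
    ((stalkCx y).obj E₁) ((stalkCx y).obj ((resCx j₁).obj L)) a₁ b₁ c d
    (fun i hi => (DerSch.stalkFunctor U₁ y).map_isZero (hab₁ i hi))
    (fun i => by
      haveI : Module.Free (U₁.presheaf.stalk y) ((E₁.X i).presheaf.stalk y) :=
        Groth.Agent.Lib.Helper29.QCoh.free_stalk_of_isFinLocFree (hfl₁ i) y
      show Module.Flat (U₁.presheaf.stalk y) ((E₁.X i).presheaf.stalk y)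
      infer_instance) hL₀
  exact Groth.Agent.Lib.Helper13.DR.hasTorAmplitudeIn_of_iso (DerivedCategory.Q.mapIso
    ((DTen.resCx ((j₁ ≫ f).stalkMap y).hom).mapIso (stalkTotIso y E₁ ((resCx j₁).obj L)).symm)) h

/-- **S7249** -/
theorem relativelyPerfect_LTensorCx {S : Scheme.{u}} (f : X ⟶ S) [Flat f]
    (K : DCoh.D X) (hK : DCoh.IsPerfect K) (M : CochainComplex X.Modules ℤ)
    (hMpc : ∀ m : ℤ, DCoh.IsPseudoCoherentD m (DCoh.toD X M))
    (hMtor : DCoh.LocHasFiniteRelTorDim f (DCoh.toD X M)) [DCoh.HasLTensorCx M] :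
    (∀ m : ℤ, DCoh.IsPseudoCoherentD m ((DCoh.LTensorCx M).obj K)) ∧
      DCoh.LocHasFiniteRelTorDim f ((DCoh.LTensorCx M).obj K) := by
  obtain ⟨P, L, hP, hL, ⟨eP⟩, ⟨eL⟩, ⟨eZ⟩⟩ := exists_model K M
  have hPperf : DCoh.IsPerfect (DerivedCategory.Q.obj P) := isPerfect_of_iso eP.symm hK
  have hLpc : ∀ m : ℤ, DCoh.IsPseudoCoherentD m (DerivedCategory.Q.obj L) :=
    fun m => isPseudoCoherentD_of_iso eL.symm (hMpc m)
  refine ⟨fun m => isPseudoCoherentD_of_iso eZ.symm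
    (isPseudoCoherentD_tensorCx P L hP hL hPperf hLpc m), ?_⟩
  refine Groth.Agent.Lib.Helper28.RelPerf.locHasFiniteRelTorDim_of_locFiniteTorAmplitude f _
    eZ.symm (locFiniteTorAmplitude_tensorCx f P L hP hL hPperf ?_)
  exact Groth.Agent.Lib.Helper28.RelPerf.locFiniteTorAmplitude_of_locHasFiniteRelTorDim f hMtor L eL

end

end Groth.Agent.Lib.Helper28.TensorApprox
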