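import Mathlib

/-!
# Element-level API for the tensor product of ℕ-indexed chain complexes of modules

Port of `TensorCxComp` to `ChainComplex (ModuleCat A) ℕ`.
-/

set_option autoImplicit false
universe u
open CategoryTheory CategoryTheory.Limits MonoidalCategory HomologicalComplex

namespace Groth.Agent.Lib.Helper28.TensorCxDown

variable {A : Type u} [CommRing A] (K L : ChainComplex (ModuleCat.{u} A) ℕ)

/-- the index type of the summands of `(K ⊗ L)_n` -/
abbrev Idx (n : ℕ) : Type :=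
  (ComplexShape.π (ComplexShape.down ℕ) (ComplexShape.down ℕ) (ComplexShape.down ℕ)) ⁻¹' {n}

/-- the summand -/
abbrev summand (n : ℕ) (i : Idx n) : ModuleCat.{u} A := K.X i.1.1 ⊗ L.X i.1.2

/-- constructor of indices -/
def idx (n i₁ i₂ : ℕ) (h : i₁ + i₂ = n) : Idx n := ⟨(i₁, i₂), h⟩

/-- the comparison with the direct sum -/
noncomputable def dsIso (n : ℕ) :
    (HomologicalComplex.tensorObj K L).X n ≅ ModuleCat.of A (DirectSum (Idx n) fun i => summand K L n i) :=
  ModuleCat.coprodIsoDirectSum (fun i : Idx n => summand K L n i)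

/-- inclusion of a summand, as a linear map -/
noncomputable def ι (n i₁ i₂ : ℕ) (h : i₁ + i₂ = n) :
    (K.X i₁ ⊗ L.X i₂ : ModuleCat.{u} A) →ₗ[A] (HomologicalComplex.tensorObj K L).X n :=
  (ιTensorObj K L i₁ i₂ n h).hom

/-- projection to a summand, as a linear map -/
noncomputable def π (n i₁ i₂ : ℕ) (h : i₁ + i₂ = n) :
    (HomologicalComplex.tensorObj K L).X n →ₗ[A] (K.X i₁ ⊗ L.X i₂ : ModuleCat.{u} A) :=
  (DirectSum.component A (Idx n) (fun i => summand K L n i) (idx n i₁ i₂ h)) ∘ₗ (dsIso K L n).hom.hom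

theorem dsIso_ι (n i₁ i₂ : ℕ) (h : i₁ + i₂ = n) (x : (K.X i₁ ⊗ L.X i₂ : ModuleCat.{u} A)) :
    (dsIso K L n).hom.hom (ι K L n i₁ i₂ h x) =
      DirectSum.lof A (Idx n) (fun i => summand K L n i) (idx n i₁ i₂ h) x := by
  have := ModuleCat.ι_coprodIsoDirectSum_hom (fun i : Idx n => summand K L n i) (idx n i₁ i₂ h)
  exact congrArg (fun f => f.hom x) this

theorem π_ι_self (n i₁ i₂ : ℕ) (h : i₁ + i₂ = n) (x : (K.X i₁ ⊗ L.X i₂ : ModuleCat.{u} A)) :
    π K L n i₁ i₂ h (ι K L n i₁ i₂ h x) = x := by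
  unfold π
  rw [LinearMap.comp_apply, dsIso_ι]
  exact DirectSum.component.lof_self A (M := fun i => summand K L n i) (idx n i₁ i₂ h) x

theorem π_ι_ne (n i₁ i₂ : ℕ) (h : i₁ + i₂ = n) (j₁ j₂ : ℕ) (h' : j₁ + j₂ = n)
    (hne : (i₁, i₂) ≠ (j₁, j₂)) (x : (K.X i₁ ⊗ L.X i₂ : ModuleCat.{u} A)) :
    π K L n j₁ j₂ h' (ι K L n i₁ i₂ h x) = 0 := by
  unfold π
  rw [LinearMap.comp_apply, dsIso_ι]
  refine (DirectSum.component.of A (M := fun i => summand K L n i) (idx n j₁ j₂ h')
    (idx n i₁ i₂ h) x).trans ?_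
  exact dif_neg (fun heq => hne (congrArg Subtype.val heq))

theorem eq_zero_of_π_eq_zero (n : ℕ) (x : (HomologicalComplex.tensorObj K L).X n)
    (hx : ∀ (i₁ i₂ : ℕ) (h : i₁ + i₂ = n), π K L n i₁ i₂ h x = 0) : x = 0 := by
  have hinj : Function.Injective (dsIso K L n).hom.hom :=
    (ModuleCat.mono_iff_injective _).1 inferInstance
  apply hinj
  rw [map_zero]
  apply DirectSum.ext_component A
  intro i
  rw [map_zero]
  obtain ⟨⟨i₁, i₂⟩, h⟩ := i
  exact hx i₁ i₂ h

theorem lhom_ext {n : ℕ} {E : Type u} [AddCommGroup E] [Module A E]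
    (f g : (HomologicalComplex.tensorObj K L).X n →ₗ[A] E)
    (h : ∀ (a b : ℕ) (hab : a + b = n) (y : (K.X a ⊗ L.X b : ModuleCat.{u} A)),
      f (ι K L n a b hab y) = g (ι K L n a b hab y)) : f = g := by
  have : ModuleCat.ofHom f = ModuleCat.ofHom g := by
    apply HomologicalComplex.mapBifunctor.hom_ext
    intro a b hab
    apply ModuleCat.hom_ext
    apply LinearMap.ext
    intro y
    exact h a b hab y
  exact congrArg ModuleCat.Hom.hom this

/-- decomposition in degree one -/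
theorem eq_add_one (x : (HomologicalComplex.tensorObj K L).X 1) :
    x = ι K L 1 1 0 rfl (π K L 1 1 0 rfl x) + ι K L 1 0 1 rfl (π K L 1 0 1 rfl x) := by
  rw [← sub_eq_zero]
  apply eq_zero_of_π_eq_zero
  intro i₁ i₂ h
  have hcases : (i₁ = 1 ∧ i₂ = 0) ∨ (i₁ = 0 ∧ i₂ = 1) := by omega
  rcases hcases with ⟨rfl, rfl⟩ | ⟨rfl, rfl⟩
  · rw [map_sub, map_add, π_ι_self, π_ι_ne K L 1 0 1 rfl 1 0 h (by simp), add_zero, sub_self]
  · rw [map_sub, map_add, π_ι_self, π_ι_ne K L 1 1 0 rfl 0 1 h (by simp), zero_add, sub_self]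

/-- decomposition in degree two -/
theorem eq_add_two (x : (HomologicalComplex.tensorObj K L).X 2) :
    x = ι K L 2 2 0 rfl (π K L 2 2 0 rfl x) + ι K L 2 1 1 rfl (π K L 2 1 1 rfl x) +
      ι K L 2 0 2 rfl (π K L 2 0 2 rfl x) := by
  rw [← sub_eq_zero]
  apply eq_zero_of_π_eq_zero
  intro i₁ i₂ h
  have hcases : (i₁ = 2 ∧ i₂ = 0) ∨ (i₁ = 1 ∧ i₂ = 1) ∨ (i₁ = 0 ∧ i₂ = 2) := by omega
  rcases hcases with ⟨rfl, rfl⟩ | ⟨rfl, rfl⟩ | ⟨rfl, rfl⟩
  · rw [map_sub, map_add, map_add, π_ι_self, π_ι_ne K L 2 1 1 rfl 2 0 h (by simp),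
      π_ι_ne K L 2 0 2 rfl 2 0 h (by simp), add_zero, add_zero, sub_self]
  · rw [map_sub, map_add, map_add, π_ι_self, π_ι_ne K L 2 2 0 rfl 1 1 h (by simp),
      π_ι_ne K L 2 0 2 rfl 1 1 h (by simp), add_zero, zero_add, sub_self]
  · rw [map_sub, map_add, map_add, π_ι_self, π_ι_ne K L 2 2 0 rfl 0 2 h (by simp),
      π_ι_ne K L 2 1 1 rfl 0 2 h (by simp), add_zero, zero_add, sub_self]

/-- raw formula for the differential on a summand -/
theorem d_ι_raw (n n' a b : ℕ) (hab : a + b = n) (y : (K.X a ⊗ L.X b : ModuleCat.{u} A)) :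
    ((HomologicalComplex.tensorObj K L).d n n').hom (ι K L n a b hab y) =
      (HomologicalComplex.mapBifunctor.d₁ K L (curriedTensor (ModuleCat.{u} A))
        (ComplexShape.down ℕ) a b n').hom y +
      (HomologicalComplex.mapBifunctor.d₂ K L (curriedTensor (ModuleCat.{u} A))
        (ComplexShape.down ℕ) a b n').hom y := by
  have hd : ιTensorObj K L a b n hab ≫ (HomologicalComplex.tensorObj K L).d n n' =
      HomologicalComplex.mapBifunctor.d₁ K L (curriedTensor (ModuleCat.{u} A)) (ComplexShape.down ℕ) a b n' +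
      HomologicalComplex.mapBifunctor.d₂ K L (curriedTensor (ModuleCat.{u} A)) (ComplexShape.down ℕ) a b n' := by
    rw [HomologicalComplex.mapBifunctor.d_eq, Preadditive.comp_add,
      HomologicalComplex.mapBifunctor.ι_D₁, HomologicalComplex.mapBifunctor.ι_D₂]
  have := congrArg (fun f => f.hom y) hd
  refine this.trans ?_
  rw [ModuleCat.hom_add, LinearMap.add_apply]

theorem d₁_apply (n' a b a' : ℕ) (ha : a' + 1 = a) (h' : a' + b = n')
    (y : (K.X a ⊗ L.X b : ModuleCat.{u} A)) :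
    (HomologicalComplex.mapBifunctor.d₁ K L (curriedTensor (ModuleCat.{u} A))
        (ComplexShape.down ℕ) a b n').hom y =
      ι K L n' a' b h' ((K.d a a' ▷ L.X b).hom y) := by
  have h1 := HomologicalComplex.mapBifunctor.d₁_eq K L (curriedTensor (ModuleCat.{u} A))
    (ComplexShape.down ℕ) (i₁ := a) (i₁' := a') ha b n' h'
  rw [h1]
  have e1 : (ComplexShape.down ℕ).ε₁ (ComplexShape.down ℕ) (ComplexShape.down ℕ) (a, b) = 1 := rfl
  rw [e1, one_smul]
  rfl

theorem d₂_apply (n' a b b' : ℕ) (hb : b' + 1 = b) (h' : a + b' = n')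
    (y : (K.X a ⊗ L.X b : ModuleCat.{u} A)) :
    (HomologicalComplex.mapBifunctor.d₂ K L (curriedTensor (ModuleCat.{u} A))
        (ComplexShape.down ℕ) a b n').hom y =
      ((-1 : ℤˣ) ^ a) • ι K L n' a b' h' ((K.X a ◁ L.d b b').hom y) := by
  have h2 := HomologicalComplex.mapBifunctor.d₂_eq K L (curriedTensor (ModuleCat.{u} A))
    (ComplexShape.down ℕ) a (i₂ := b) (i₂' := b') hb n' h'
  rw [h2]
  have e2 : (ComplexShape.down ℕ).ε₂ (ComplexShape.down ℕ) (ComplexShape.down ℕ) (a, b) =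
    (-1 : ℤˣ) ^ a := rfl
  rw [e2, Units.smul_def, ModuleCat.hom_zsmul, LinearMap.smul_apply, Units.smul_def]
  rfl

theorem d₁_apply_zero (n' b : ℕ) (y : (K.X 0 ⊗ L.X b : ModuleCat.{u} A)) :
    (HomologicalComplex.mapBifunctor.d₁ K L (curriedTensor (ModuleCat.{u} A))
        (ComplexShape.down ℕ) 0 b n').hom y = 0 := by
  rw [HomologicalComplex.mapBifunctor.d₁_eq_zero]
  · rfl
  · intro h
    have : (ComplexShape.down ℕ).next 0 + 1 = 0 := h
    omega

theorem d₂_apply_zero (n' a : ℕ) (y : (K.X a ⊗ L.X 0 : ModuleCat.{u} A)) :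
    (HomologicalComplex.mapBifunctor.d₂ K L (curriedTensor (ModuleCat.{u} A))
        (ComplexShape.down ℕ) a 0 n').hom y = 0 := by
  rw [HomologicalComplex.mapBifunctor.d₂_eq_zero]
  · rfl
  · intro h
    have : (ComplexShape.down ℕ).next 0 + 1 = 0 := h
    omega

/-- both differentials contribute -/
theorem d_ι (n n' a b a' b' : ℕ) (hab : a + b = n) (ha : a' + 1 = a) (hb : b' + 1 = b)
    (hn : n' + 1 = n) (y : (K.X a ⊗ L.X b : ModuleCat.{u} A)) :
    ((HomologicalComplex.tensorObj K L).d n n').hom (ι K L n a b hab y) =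
      ι K L n' a' b (by omega) ((K.d a a' ▷ L.X b).hom y) +
        ((-1 : ℤˣ) ^ a) • ι K L n' a b' (by omega) ((K.X a ◁ L.d b b').hom y) := by
  rw [d_ι_raw, d₁_apply K L n' a b a' ha (by omega), d₂_apply K L n' a b b' hb (by omega)]

/-- second index zero: only the first differential contributes -/
theorem d_ι_snd_zero (n n' a a' : ℕ) (hab : a + 0 = n) (ha : a' + 1 = a)
    (hn : n' + 1 = n) (y : (K.X a ⊗ L.X 0 : ModuleCat.{u} A)) :
    ((HomologicalComplex.tensorObj K L).d n n').hom (ι K L n a 0 hab y) =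
      ι K L n' a' 0 (by omega) ((K.d a a' ▷ L.X 0).hom y) := by
  rw [d_ι_raw, d₁_apply K L n' a 0 a' ha (by omega), d₂_apply_zero, add_zero]

/-- first index zero: only the second differential contributes -/
theorem d_ι_fst_zero (n n' b b' : ℕ) (hab : 0 + b = n) (hb : b' + 1 = b)
    (hn : n' + 1 = n) (y : (K.X 0 ⊗ L.X b : ModuleCat.{u} A)) :
    ((HomologicalComplex.tensorObj K L).d n n').hom (ι K L n 0 b hab y) =
      ι K L n' 0 b' (by omega) ((K.X 0 ◁ L.d b b').hom y) := by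
  rw [d_ι_raw, d₁_apply_zero, d₂_apply K L n' 0 b b' hb (by omega), zero_add, pow_zero, one_smul]

section Map

variable {K L} {K' L' : ChainComplex (ModuleCat.{u} A) ℕ} (f : K ⟶ K') (g : L ⟶ L')

theorem map_ι (n a b : ℕ) (h : a + b = n) (y : (K.X a ⊗ L.X b : ModuleCat.{u} A)) :
    ((HomologicalComplex.tensorHom f g).f n).hom (ι K L n a b h y) =
      ι K' L' n a b h ((f.f a ⊗ₘ g.f b).hom y) := by
  have h1 := HomologicalComplex.ι_mapBifunctorMap f g (curriedTensor (ModuleCat.{u} A))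
    (ComplexShape.down ℕ) a b n h
  have h2 := congrArg (fun φ => φ.hom y) h1
  refine h2.trans ?_
  have h3 : (((curriedTensor (ModuleCat.{u} A)).map (f.f a)).app (L.X b) ≫
      ((curriedTensor (ModuleCat.{u} A)).obj (K'.X a)).map (g.f b)) = (f.f a ⊗ₘ g.f b) := by
    rw [MonoidalCategory.tensorHom_def]
    rfl
  change (ιTensorObj K' L' a b n h).hom ((((curriedTensor (ModuleCat.{u} A)).map (f.f a)).app (L.X b) ≫
      ((curriedTensor (ModuleCat.{u} A)).obj (K'.X a)).map (g.f b)).hom y) = _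
  rw [h3]
  rfl

theorem whiskerLeft_ι (n a b : ℕ) (h : a + b = n) (y : (K.X a ⊗ L.X b : ModuleCat.{u} A)) :
    ((K ◁ g).f n).hom (ι K L n a b h y) = ι K L' n a b h ((K.X a ◁ g.f b).hom y) := by
  have := map_ι (𝟙 K) g n a b h y
  rw [HomologicalComplex.id_f, id_tensorHom] at this
  exact this

end Map

end Groth.Agent.Lib.Helper28.TensorCxDown
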