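import Mathlib
import Groth.Agent.Lib.Helper28.Th5
import Groth.Agent.Lib.Helper28.FibreTor2
import Groth.Agent.Lib.Helper13.NilpThick
set_option autoImplicit false

universe u

open CategoryTheory Limits AlgebraicGeometry TopologicalSpace

namespace Groth.Agent.Lib.Helper28.Thick

open Groth.Agent.Lib.Helper28.FibreTor

section Ring

/-- a flat surjective local homomorphism of local rings is bijective -/
theorem bijective_of_flat_of_surjective {C B' : Type u} [CommRing C] [CommRing B']
    [IsLocalRing C] [IsLocalRing B'] (c : C →+* B') (hc : c.Flat) [IsLocalHom c]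
    (hs : Function.Surjective c) : Function.Bijective c := by
  letI : Algebra C B' := c.toAlgebra
  haveI : Module.Flat C B' := hc
  haveI : IsLocalHom (algebraMap C B') := ‹IsLocalHom c›
  haveI : Module.FaithfullyFlat C B' := Module.FaithfullyFlat.of_flat_of_isLocalHom
  exact ⟨FaithfulSMul.algebraMap_injective C B', hs⟩

variable {A A' B B' : Type u} [CommRing A] [CommRing A'] [CommRing B] [CommRing B']
  (γ : A →+* A') (φ : A →+* B)

theorem tR_surjective (hγ : Function.Surjective γ) : Function.Surjective (tR γ φ) := by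
  letI : Algebra A A' := γ.toAlgebra
  letI : Algebra A B := φ.toAlgebra
  exact Groth.Agent.Lib.Helper13.BS.includeRight_surjective A A' B hγ

theorem isNilpotent_ker_tR (hγ : Function.Surjective γ) (hnil : IsNilpotent (RingHom.ker γ)) :
    IsNilpotent (RingHom.ker (tR γ φ)) := by
  letI : Algebra A A' := γ.toAlgebra
  letI : Algebra A B := φ.toAlgebra
  exact Groth.Agent.Lib.Helper13.BS.isNilpotent_ker_includeRight A A' B hγ hnil

/-- for a pushout-like square along a nilpotent surjection, the comparison map from the tensor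
product is bijective as soon as it is flat, and the kernel of `B → B'` is nilpotent -/
theorem bijective_and_nilpotent [IsLocalRing B] [IsLocalRing B'] (γ' : B →+* B') [IsLocalHom γ']
    (hγ : Function.Surjective γ) (hnil : IsNilpotent (RingHom.ker γ))
    (hγ' : Function.Surjective γ') (c : TC γ φ →+* B') (hc : c.Flat)
    (hcR : c.comp (tR γ φ) = γ') :
    Function.Bijective c ∧ IsNilpotent (RingHom.ker γ') := by
  have hR := tR_surjective γ φ hγ
  have hcs : Function.Surjective c := by
    intro b'
    obtain ⟨b, rfl⟩ := hγ' b'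
    exact ⟨tR γ φ b, by rw [← hcR]; rfl⟩
  haveI : Nontrivial (TC γ φ) := by
    refine ⟨⟨0, 1, fun h => ?_⟩⟩
    have := congrArg c h
    rw [map_zero, map_one] at this
    exact zero_ne_one this
  haveI : IsLocalRing (TC γ φ) := IsLocalRing.of_surjective' (tR γ φ) hR
  haveI : IsLocalHom c := by
    refine ⟨fun z hz => ?_⟩
    obtain ⟨b, rfl⟩ := hR z
    have hb : IsUnit (γ' b) := by rw [← hcR]; exact hz
    exact (isUnit_of_map_unit γ' b hb).map (tR γ φ)
  have hbij := bijective_of_flat_of_surjective c hc hcs
  refine ⟨hbij, ?_⟩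
  have hker : RingHom.ker γ' = RingHom.ker (tR γ φ) := by
    ext b
    rw [RingHom.mem_ker, RingHom.mem_ker, ← hcR, RingHom.comp_apply]
    exact ⟨fun h => hbij.1 (by rw [h, map_zero]), fun h => by rw [h, map_zero]⟩
  rw [hker]
  exact isNilpotent_ker_tR γ φ hγ hnil

end Ring

section Scheme

open Groth.Agent.Lib.Helper10.FibreProductStalk

theorem isNilpotent_ker_comp_of_bijective {A A₁ A' : Type u} [CommRing A] [CommRing A₁]
    [CommRing A'] (e : A →+* A₁) (he : Function.Bijective e) (g : A₁ →+* A')
    (hg : IsNilpotent (RingHom.ker g)) : IsNilpotent (RingHom.ker (g.comp e)) := by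
  obtain ⟨n, hn⟩ := hg
  refine ⟨n, ?_⟩
  rw [Ideal.zero_eq_bot, eq_bot_iff]
  intro x hx
  have h1 : Ideal.map e (RingHom.ker (g.comp e)) ≤ RingHom.ker g := by
    rw [Ideal.map_le_iff_le_comap]
    intro a ha
    exact ha
  have h2 : e x ∈ Ideal.map e ((RingHom.ker (g.comp e)) ^ n) := Ideal.mem_map_of_mem e hx
  rw [Ideal.map_pow] at h2
  have h3 := Ideal.pow_right_mono h1 n h2
  rw [hn] at h3
  have h4 : e x = 0 := h3
  exact he.1 (by rw [h4, map_zero])

variable {X X' Y Y' : Scheme.{u}} {f : X ⟶ Y} {f' : X' ⟶ Y'} {i : X ⟶ X'} {j : Y ⟶ Y'}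

/-- the base change of a (stalkwise) finite order thickening is one -/
theorem T_of_isPullback (sq : IsPullback i f f' j) (hci : IsClosedImmersion j)
    (hsj : Surjective j) (hT : T j) : T i := by
  haveI hci' : IsClosedImmersion i := MorphismProperty.of_isPullback sq.flip hci
  have hsurj' : Surjective i := MorphismProperty.of_isPullback sq.flip hsj
  have hopen : IsOpenMap i.base :=
    (i.isClosedEmbedding.isEmbedding.isOpenEmbedding_of_surjective hsurj'.surj).isOpenMap
  refine ⟨hsurj'.surj, i.isClosedEmbedding.injective, hopen,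
    fun y => i.stalkMap_surjective y, fun y => ?_⟩
  let φ : Y'.presheaf.stalk (f'.base (i.base y)) →+* X'.presheaf.stalk (i.base y) :=
    (f'.stalkMap (i.base y)).hom
  let γ : Y'.presheaf.stalk (f'.base (i.base y)) →+* Y.presheaf.stalk (f.base y) :=
    (baseStalkMap sq y).hom
  let γ' : X'.presheaf.stalk (i.base y) →+* X.presheaf.stalk y := (i.stalkMap y).hom
  let φ' : Y.presheaf.stalk (f.base y) →+* X.presheaf.stalk y := (f.stalkMap y).hom
  have hcomm : γ'.comp φ = φ'.comp γ := by
    have := congrArg CommRingCat.Hom.hom (stalkMap_comp_eq sq y)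
    exact this
  obtain ⟨c, hcL, hcR⟩ := exists_desc γ φ γ' φ' hcomm
  have hcflat : c.Flat := by
    refine flat_of_comp_include sq y c (fun a => ?_) (fun b => ?_)
    · exact congrArg (fun ψ : _ →+* _ => ψ a) hcL
    · exact congrArg (fun ψ : _ →+* _ => ψ b) hcR
  have hebij : Function.Bijective
      (Y'.presheaf.stalkCongr (.of_eq (base_eq sq y))).hom.hom :=
    ConcreteCategory.bijective_of_isIso (Y'.presheaf.stalkCongr (.of_eq (base_eq sq y))).hom
  have hγeq : γ = ((j.stalkMap (f.base y)).hom).comp
      (Y'.presheaf.stalkCongr (.of_eq (base_eq sq y))).hom.hom := by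
    change (baseStalkMap sq y).hom = _
    rw [baseStalkMap, CommRingCat.hom_comp]
  have hγ : Function.Surjective γ := by
    rw [hγeq]
    exact (hT.stalk_surj (f.base y)).comp hebij.2
  have hnil : IsNilpotent (RingHom.ker γ) := by
    rw [hγeq]
    exact isNilpotent_ker_comp_of_bijective _ hebij _ (hT.nilp (f.base y))
  exact (bijective_and_nilpotent γ φ γ' hγ hnil (i.stalkMap_surjective y) c hcflat hcR).2

end Scheme

end Groth.Agent.Lib.Helper28.Thick
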