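import Mathlib
import Groth.Agent.Lib.Helper28.Th6
import Groth.Agent.Lib.Helper13.KFlat7
set_option autoImplicit false

universe u

open CategoryTheory CategoryTheory.Limits MonoidalCategory TensorProduct ChangeOfRings

attribute [local instance] HasDerivedCategory.standard

namespace Groth.Agent.Lib.Helper28.Thick

open DTen Groth.Agent.Lib.Helper13.SF Groth.Agent.Lib.Helper13.DT Groth.Agent.Lib.Helper13.DR
  Groth.Agent.Lib.Helper13.HT Groth.Agent.Lib.Helper13.RE Groth.Agent.Lib.Helper13.PC
  Groth.Agent.Lib.Helper13.DV Groth.Agent.Lib.Helper28.FibreTor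

noncomputable section

variable {A A' B B' : Type u} [CommRing A] [CommRing A'] [CommRing B] [CommRing B']
  (γ : A →+* A') (φ : A →+* B) (γ' : B →+* B') (φ' : A' →+* B')

/-- a ring receiving a bijection from the tensor product is a pushout -/
theorem isPO_of_bijective (hsq : φ'.comp γ = γ'.comp φ) (c : TC γ φ →+* B')
    (hc : Function.Bijective c) (hcL : c.comp (tL γ φ) = φ') (hcR : c.comp (tR γ φ) = γ') :
    IsPO γ φ φ' γ' hsq := by
  have h0 := isPO_tensor γ φ
  unfold IsPO at h0 ⊢
  letI : Algebra A A' := γ.toAlgebra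
  letI : Algebra A B := φ.toAlgebra
  letI : Algebra A' (TC γ φ) := (tL γ φ).toAlgebra
  letI : Algebra B (TC γ φ) := (tR γ φ).toAlgebra
  letI : Algebra A (TC γ φ) := ((tL γ φ).comp γ).toAlgebra
  haveI : IsScalarTower A A' (TC γ φ) := IsScalarTower.of_algebraMap_eq fun _ => rfl
  haveI : IsScalarTower A B (TC γ φ) := IsScalarTower.of_algebraMap_eq fun x => by
    change ((tL γ φ).comp γ) x = ((tR γ φ).comp φ) x
    rw [tsq]
  letI : Algebra A' B' := φ'.toAlgebra
  letI : Algebra B B' := γ'.toAlgebra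
  letI : Algebra A B' := (φ'.comp γ).toAlgebra
  haveI : IsScalarTower A A' B' := IsScalarTower.of_algebraMap_eq fun _ => rfl
  haveI : IsScalarTower A B B' := IsScalarTower.of_algebraMap_eq fun x => by
    change (φ'.comp γ) x = (γ'.comp φ) x
    rw [hsq]
  haveI hpo : Algebra.IsPushout A A' B (TC γ φ) := h0
  let e : TC γ φ ≃ₐ[A'] B' :=
    { RingEquiv.ofBijective c hc with
      commutes' := fun a' => congrArg (fun ψ : A' →+* B' => ψ a') hcL }
  exact Algebra.IsPushout.of_equiv (h := hpo) e (by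
    ext b
    exact congrArg (fun ψ : B →+* B' => ψ b) hcR)

/-- termwise flatness is preserved by restriction of scalars along a flat ring map -/
lemma flat_restrictScalars_of_flat (hφ : φ.Flat) (N : ModuleCat.{u} B) (h : Module.Flat B N) :
    Module.Flat A ((ModuleCat.restrictScalars.{u} φ).obj N) := by
  letI : Algebra A B := φ.toAlgebra
  haveI : Module.Flat A B := hφ
  exact Groth.Agent.Lib.Helper13.DV.flat_restrictScalars A B N

/-- **nilpotent descent of tor amplitude along a cocartesian square**, bounded above flat case -/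
theorem hasTorAmplitudeIn_of_thickening_flat (hγ : Function.Surjective γ)
    (hnil : IsNilpotent (RingHom.ker γ)) (hφ : φ.Flat) (hsq : φ'.comp γ = γ'.comp φ)
    (hpo : IsPO γ φ φ' γ' hsq) (M : DRing.Cx B) (c₀ : ℤ) (hz : ∀ n : ℤ, c₀ < n → IsZero (M.X n))
    (hfl : ∀ n : ℤ, Module.Flat B (M.X n)) (a b : ℤ)
    (h : DRing.HasTorAmplitudeIn A' a b
      (DerivedCategory.Q.obj ((resCx φ').obj ((extCx γ').obj M)))) :
    DRing.HasTorAmplitudeIn A a b (DerivedCategory.Q.obj ((resCx φ).obj M)) := by
  letI : Algebra A A' := γ.toAlgebra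
  have h1 : DRing.HasTorAmplitudeIn A' a b
      (DerivedCategory.Q.obj ((extCx γ).obj ((resCx φ).obj M))) :=
    hasTorAmplitudeIn_of_iso (DerivedCategory.Q.mapIso (bcCxIso γ φ φ' γ' hsq hpo M)).symm h
  refine Groth.Agent.Lib.Helper13.BS.hasTorAmplitudeIn_of_extendCx_nilpotent_flat
    (R' := A) (R := A') hγ hnil ((resCx φ).obj M) c₀ (fun n hn => ?_) (fun n => ?_) a b h1
  · exact (ModuleCat.restrictScalars.{u} φ).map_isZero (hz n hn)
  · exact flat_restrictScalars_of_flat φ hφ (M.X n) (hfl n)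

/-- **nilpotent descent of tor amplitude along a cocartesian square**, K-flat case with
cohomology bounded above -/
theorem hasTorAmplitudeIn_of_thickening_kflat (hγ : Function.Surjective γ)
    (hnil : IsNilpotent (RingHom.ker γ)) (hφ : φ.Flat) (hsq : φ'.comp γ = γ'.comp φ)
    (hpo : IsPO γ φ φ' γ' hsq) (M : DRing.Cx B) (hM : KFlat M) (c₀ : ℤ)
    (hz : ∀ n : ℤ, c₀ < n → IsZero (M.homology n)) (a b : ℤ)
    (h : DRing.HasTorAmplitudeIn A' a b
      (DerivedCategory.Q.obj ((resCx φ').obj ((extCx γ').obj M)))) :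
    DRing.HasTorAmplitudeIn A a b (DerivedCategory.Q.obj ((resCx φ).obj M)) := by
  obtain ⟨M₀, p, hp, hproj, hz₀⟩ := exists_projective_quasiIso M c₀ hz
  haveI : M₀.IsKProjective := isKProjective_of_forall_projective M₀ c₀ hz₀ hproj
  have hM₀ : KFlat M₀ := isKFlat_of_isKProjective M₀
  have hfl : ∀ n : ℤ, Module.Flat B (M₀.X n) := fun n => by
    have := (projective_iff _).1 (hproj n)
    infer_instance
  have q1 : QuasiIso ((extCx γ').map p) := quasiIso_extCx_map_of_kflat γ' p hM₀ hM
  have q2 : QuasiIso ((resCx φ').map ((extCx γ').map p)) := quasiIso_resCx_map φ' _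
  have q3 : QuasiIso ((resCx φ).map p) := quasiIso_resCx_map φ p
  have i2 : IsIso (DerivedCategory.Q.map ((resCx φ').map ((extCx γ').map p))) := by
    rw [DerivedCategory.isIso_Q_map_iff_quasiIso]; exact q2
  have i3 : IsIso (DerivedCategory.Q.map ((resCx φ).map p)) := by
    rw [DerivedCategory.isIso_Q_map_iff_quasiIso]; exact q3
  have h0 := hasTorAmplitudeIn_of_iso
    (asIso (DerivedCategory.Q.map ((resCx φ').map ((extCx γ').map p)))).symm h
  have h1 := hasTorAmplitudeIn_of_thickening_flat γ φ γ' φ' hγ hnil hφ hsq hpo M₀ c₀ hz₀ hfl a b h0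
  exact hasTorAmplitudeIn_of_iso (asIso (DerivedCategory.Q.map ((resCx φ).map p))) h1

end

end Groth.Agent.Lib.Helper28.Thick
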