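import Mathlib
import Groth.Agent.Lib.Helper28.Th7
import Groth.Agent.Lib.Helper28.PullTor
import Groth.Agent.Lib.Helper28.RelPerf2
import Groth.Agent.Lib.Helper28.LpullComp
set_option autoImplicit false

universe u

open CategoryTheory CategoryTheory.Limits AlgebraicGeometry TopologicalSpace

attribute [local instance] HasDerivedCategory.standard

namespace Groth.Agent.Lib.Helper28.Thick

open Groth.Agent.Lib.Helper28.FibreTor Groth.Agent.Lib.Helper10.FibreProductStalk
  Groth.Agent.Lib.Helper28.StalkTensor Groth.Agent.Lib.Helper29.QCoh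
  Groth.Agent.Lib.Helper28.DCohRes Groth.Agent.Lib.Helper28.Lpull Groth.Agent.Lib.Helper28.RelPerf

noncomputable section

variable {X X' Y Y' : Scheme.{u}} {f : X ⟶ Y} {f' : X' ⟶ Y'} {i : X ⟶ X'} {j : Y ⟶ Y'}

/-- **pointwise descent of relative tor amplitude along the base change of a thickening** -/
theorem hasTorAmplitudeAt_of_pullCx_kflat (sq : IsPullback i f f' j) (hci : IsClosedImmersion j)
    (hT : T j) (G : CochainComplex X'.Modules ℤ) (hG : DCoh.IsKFlat G) (z : X) (c₀ : ℤ)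
    (hz : ∀ n : ℤ, c₀ < n → Subsingleton ((G.homology n).presheaf.stalk (i.base z)))
    (hflat : (f'.stalkMap (i.base z)).hom.Flat) (a b : ℤ)
    (h : DerSch.HasTorAmplitudeAt f a b ((pullCx i).obj G) z) :
    DerSch.HasTorAmplitudeAt f' a b G (i.base z) := by
  haveI hci' : IsClosedImmersion i := MorphismProperty.of_isPullback sq.flip hci
  let φ : Y'.presheaf.stalk (f'.base (i.base z)) →+* X'.presheaf.stalk (i.base z) :=
    (f'.stalkMap (i.base z)).hom
  let γ : Y'.presheaf.stalk (f'.base (i.base z)) →+* Y.presheaf.stalk (f.base z) :=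
    (baseStalkMap sq z).hom
  let γ' : X'.presheaf.stalk (i.base z) →+* X.presheaf.stalk z := (i.stalkMap z).hom
  let φ' : Y.presheaf.stalk (f.base z) →+* X.presheaf.stalk z := (f.stalkMap z).hom
  have hcomm : γ'.comp φ = φ'.comp γ := by
    have := congrArg CommRingCat.Hom.hom (stalkMap_comp_eq sq z)
    exact this
  obtain ⟨c, hcL, hcR⟩ := exists_desc γ φ γ' φ' hcomm
  have hcflat : c.Flat := by
    refine flat_of_comp_include sq z c (fun a => ?_) (fun b => ?_)
    · exact congrArg (fun ψ : _ →+* _ => ψ a) hcL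
    · exact congrArg (fun ψ : _ →+* _ => ψ b) hcR
  have hebij : Function.Bijective
      (Y'.presheaf.stalkCongr (.of_eq (base_eq sq z))).hom.hom :=
    ConcreteCategory.bijective_of_isIso (Y'.presheaf.stalkCongr (.of_eq (base_eq sq z))).hom
  have hγeq : γ = ((j.stalkMap (f.base z)).hom).comp
      (Y'.presheaf.stalkCongr (.of_eq (base_eq sq z))).hom.hom := by
    change (baseStalkMap sq z).hom = _
    rw [baseStalkMap, CommRingCat.hom_comp]
  have hγ : Function.Surjective γ := by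
    rw [hγeq]
    exact (hT.stalk_surj (f.base z)).comp hebij.2
  have hnil : IsNilpotent (RingHom.ker γ) := by
    rw [hγeq]
    exact isNilpotent_ker_comp_of_bijective _ hebij _ (hT.nilp (f.base z))
  have hcbij := (bijective_and_nilpotent γ φ γ' hγ hnil (i.stalkMap_surjective z) c hcflat hcR).1
  have hpo := isPO_of_bijective γ φ γ' φ' hcomm.symm c hcbij hcL hcR
  let M : DRing.Cx (X'.presheaf.stalk (i.base z)) := (stalkCx (i.base z)).obj G
  have hM : Groth.Agent.Lib.Helper13.HT.KFlat M := isKFlat_stalk_of_isKFlat (i.base z) G hG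
  have hzM : ∀ n : ℤ, c₀ < n → IsZero (M.homology n) := fun n hn => by
    have h1 : IsZero ((DerSch.stalkFunctor X' (i.base z)).obj (G.homology n)) :=
      @ModuleCat.isZero_of_subsingleton _ _ _ (hz n hn)
    exact h1.of_iso ((Groth.Agent.Lib.Helper28.DCohRes.mapHCHomologyIso
      (DerSch.stalkFunctor X' (i.base z)) n).app G)
  have h0 : DRing.HasTorAmplitudeIn (Y.presheaf.stalk (f.base z)) a b
      (DerivedCategory.Q.obj ((DTen.resCx φ').obj ((stalkCx z).obj ((pullCx i).obj G)))) := h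
  have h1 : DRing.HasTorAmplitudeIn (Y.presheaf.stalk (f.base z)) a b
      (DerivedCategory.Q.obj ((DTen.resCx φ').obj ((DTen.extCx γ').obj M))) :=
    Groth.Agent.Lib.Helper13.DR.hasTorAmplitudeIn_of_iso (DerivedCategory.Q.mapIso
      ((DTen.resCx φ').mapIso (stalkCxPullIso i z G))) h0
  exact hasTorAmplitudeIn_of_thickening_kflat γ φ γ' φ' hγ hnil hflat hcomm.symm hpo M hM c₀ hzM
    a b h1

/-- **S7232**: relative perfectness descends along the base change of a finite order
thickening -/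
theorem relPerfect_of_Lpull_thickening (sq : IsPullback i f f' j) [Flat f']
    (hj : MoreMor.IsFiniteOrderThickening j) [DCoh.HasLpull i] (E' : DCoh.D X')
    (hE : ∃ F : CochainComplex X.Modules ℤ, Nonempty (DCoh.toD X F ≅ (DCoh.Lpull i).obj E') ∧
      (∀ m : ℤ, DCoh.IsPseudoCoherentD m (DCoh.toD X F)) ∧ DerSch.LocFiniteTorAmplitude f F) :
    (∀ m : ℤ, DCoh.IsPseudoCoherentD m E') ∧ DerSch.LocFiniteTorAmplitudeD f' E' := by
  obtain ⟨F, ⟨eF⟩, hpcF, hloc⟩ := hE
  have hTj := T_of_isFiniteOrderThickening j hj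
  have hcj : IsClosedImmersion j := hj.1.1
  have hsj : Surjective j := hj.1.2
  have hTi := T_of_isPullback sq hcj hsj hTj
  have hpc : ∀ m : ℤ, DCoh.IsPseudoCoherentD m E' := fun m =>
    isPseudoCoherentD_of_Lpull_of_T i hTi E'
      (fun m' => isPseudoCoherentD_of_iso eF (hpcF m')) m
  refine ⟨hpc, ?_⟩
  rintro F' ⟨eF'⟩ x'
  obtain ⟨x, rfl⟩ := hTi.surj x'
  obtain ⟨V, a, b, hxV, hV⟩ := hloc x
  let V' : X'.Opens := ⟨i.base '' (V : Set X), hTi.isOpenMap _ V.2⟩
  refine ⟨V', a, b, ⟨x, hxV, rfl⟩, fun x'' hx'' => ?_⟩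
  obtain ⟨z, hzV, rfl⟩ := hx''
  obtain ⟨G, hG, ⟨eG⟩⟩ := exists_kflat_rep E'
  refine hasTorAmplitudeAt_of_iso f' (eG ≪≫ eF'.symm) a b _ ?_
  have h1 : DerSch.HasTorAmplitudeAt f a b ((pullCx i).obj G) z :=
    hasTorAmplitudeAt_of_iso f (eF ≪≫ (DCoh.Lpull i).mapIso eG.symm ≪≫ LpullIso i G hG) a b z
      (hV z hzV)
  obtain ⟨U, k, hk, ⟨u, hu⟩, P, α, hP, hα⟩ := (isPseudoCoherentD_iff 0 E').1 (hpc 0) (i.base z)
  obtain ⟨⟨a₁, b₁, hv⟩, -⟩ := hP
  refine hasTorAmplitudeAt_of_pullCx_kflat sq hcj hTj G hG z (max 0 b₁) (fun n hn => ?_)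
    (Flat.stalkMap f' (i.base z)) a b h1
  have hn0 : (0 : ℤ) < n := lt_of_le_of_lt (le_max_left 0 b₁) hn
  have hn1 : b₁ < n := lt_of_le_of_lt (le_max_right 0 b₁) hn
  have z1 : IsZero (DCoh.HD (DerivedCategory.Q.obj P) n) :=
    IsZero.of_iso ((HomologicalComplex.ExactAt.of_isZero (hv n (Or.inr hn1))).isZero_homology)
      ((DerivedCategory.homologyFunctorFactors _ n).app P)
  haveI := hα.1 n hn0
  have z3 : IsZero (DCoh.HD ((resD k).obj E') n) :=
    z1.of_iso (asIso ((DerivedCategory.homologyFunctor _ n).map α)).symm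
  have z4 : IsZero ((DCoh.HD E' n).restrict k) := z3.of_iso (HDresDIso k _ n).symm
  have z5 : IsZero ((G.homology n).restrict k) :=
    z4.of_iso ((Scheme.Modules.restrictFunctor k).mapIso
      (((DerivedCategory.homologyFunctorFactors _ n).app G).symm ≪≫
        (DerivedCategory.homologyFunctor _ n).mapIso eG))
  rw [← hu]
  exact stalk_subsingleton_of_isZero_restrict _ k z5 u

end

end Groth.Agent.Lib.Helper28.Thick
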