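import Mathlib
import Groth.Prelude.Def_DRing2
import Groth.Agent.Lib.Helper28.TorBC
import Groth.Agent.Lib.Helper2.TorBalance

/-!
# Base change for `Tor` in the first variable under Tor-independence (helper28)
-/

set_option autoImplicit false
universe u

namespace Groth.Agent.Lib.Helper28.TorBC

open CategoryTheory MonoidalCategory Limits TensorProduct

section Right

variable (A A' : Type u) [CommRing A] [CommRing A'] [Algebra A A']
variable (Q' : Type u) [AddCommGroup Q'] [Module A' Q'] [Module A Q'] [IsScalarTower A A' Q']

/-- the projection formula with the module on the right. -/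
noncomputable def projNatIsoRight :
    ModuleCat.extendScalars.{u, u, u} (algebraMap A A') ⋙ tensorRight (ModuleCat.of A' Q') ⋙
      ModuleCat.restrictScalars.{u} (algebraMap A A') ≅ tensorRight (ModuleCat.of A Q') :=
  Functor.isoWhiskerLeft (ModuleCat.extendScalars.{u, u, u} (algebraMap A A'))
      (Functor.isoWhiskerRight (BraidedCategory.tensorLeftIsoTensorRight (ModuleCat.of A' Q')).symm
        (ModuleCat.restrictScalars.{u} (algebraMap A A'))) ≪≫
    projNatIso A A' Q' ≪≫ BraidedCategory.tensorLeftIsoTensorRight (ModuleCat.of A Q')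

end Right

section Unit

variable (A A' : Type u) [CommRing A] [CommRing A'] [Algebra A A']

/-- `restrict ∘ extend ≅ - ⊗ A'`. -/
noncomputable def extendRestrictIso :
    ModuleCat.extendScalars.{u, u, u} (algebraMap A A') ⋙
      ModuleCat.restrictScalars.{u} (algebraMap A A') ≅ tensorRight (ModuleCat.of A A') :=
  Functor.isoWhiskerLeft (ModuleCat.extendScalars.{u, u, u} (algebraMap A A'))
      (Functor.isoWhiskerRight (rightUnitorNatIso (ModuleCat.{u} A')).symm
        (ModuleCat.restrictScalars.{u} (algebraMap A A'))) ≪≫
    projNatIsoRight A A' A'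

end Unit

section Resolution

variable (A A' : Type u) [CommRing A] [CommRing A'] [Algebra A A']
variable {P : ModuleCat.{u} A} (R : ProjectiveResolution P)

lemma isZero_of_isZero_restrict (X : ModuleCat.{u} A')
    (h : IsZero ((ModuleCat.restrictScalars.{u} (algebraMap A A')).obj X)) : IsZero X := by
  have := ModuleCat.subsingleton_of_isZero h
  exact @ModuleCat.isZero_of_subsingleton _ _ X this

/-- Tor-independence makes `A' ⊗ R_•` exact in positive degrees. -/
lemma exactAt_extend
    (hP : ∀ q : ℕ, 0 < q →
      IsZero (((Tor (ModuleCat.{u} A) q).obj P).obj (ModuleCat.of A A'))) (q : ℕ) :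
    (((ModuleCat.extendScalars.{u, u, u} (algebraMap A A')).mapHomologicalComplex
      (ComplexShape.down ℕ)).obj R.complex).ExactAt (q + 1) := by
  let F := ModuleCat.extendScalars.{u, u, u} (algebraMap A A')
  let G := ModuleCat.restrictScalars.{u} (algebraMap A A')
  let K := R.complex
  obtain ⟨e⟩ := Groth.Agent.Lib.Helper2.TorBalance.nonempty_tor_iso_homology R
    (ModuleCat.of A A') (q + 1)
  have h1 : IsZero ((((tensorRight (ModuleCat.of A A')).mapHomologicalComplex
      (ComplexShape.down ℕ)).obj K).homology (q + 1)) :=
    (hP (q + 1) (Nat.succ_pos q)).of_iso e.symm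
  let e1 : (G.mapHomologicalComplex (ComplexShape.down ℕ)).obj
        ((F.mapHomologicalComplex (ComplexShape.down ℕ)).obj K) ≅
      ((tensorRight (ModuleCat.of A A')).mapHomologicalComplex (ComplexShape.down ℕ)).obj K :=
    (NatIso.mapHomologicalComplex (extendRestrictIso A A') (ComplexShape.down ℕ)).app K
  have h2 : IsZero (((G.mapHomologicalComplex (ComplexShape.down ℕ)).obj
      ((F.mapHomologicalComplex (ComplexShape.down ℕ)).obj K)).homology (q + 1)) :=
    h1.of_iso ((HomologicalComplex.homologyFunctor _ _ (q + 1)).mapIso e1)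
  let e2 := (((F.mapHomologicalComplex (ComplexShape.down ℕ)).obj K).sc (q + 1)).mapHomologyIso G
  have h3 : IsZero (G.obj (((F.mapHomologicalComplex (ComplexShape.down ℕ)).obj K).homology
      (q + 1))) := h2.of_iso e2.symm
  rw [HomologicalComplex.exactAt_iff_isZero_homology]
  exact isZero_of_isZero_restrict A A' _ h3

/-- `A' ⊗ R_•` as a projective resolution of `A' ⊗ P`, given exactness in positive degrees. -/
noncomputable def extendResolution
    (hex : ∀ q : ℕ, (((ModuleCat.extendScalars.{u, u, u} (algebraMap A A')).mapHomologicalComplex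
      (ComplexShape.down ℕ)).obj R.complex).ExactAt (q + 1)) :
    ProjectiveResolution ((ModuleCat.extendScalars.{u, u, u} (algebraMap A A')).obj P) where
  complex := ((ModuleCat.extendScalars.{u, u, u} (algebraMap A A')).mapHomologicalComplex
      (ComplexShape.down ℕ)).obj R.complex
  projective n := by
    have := R.projective n
    change Projective ((ModuleCat.extendScalars.{u, u, u} (algebraMap A A')).obj (R.complex.X n))
    infer_instance
  π := ((ModuleCat.extendScalars.{u, u, u} (algebraMap A A')).mapHomologicalComplex _).map R.π ≫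
    (HomologicalComplex.singleMapHomologicalComplex
      (ModuleCat.extendScalars.{u, u, u} (algebraMap A A')) _ _).hom.app _
  quasiIso := ⟨fun n => by
    cases n with
    | zero =>
      have h0 := (ChainComplex.quasiIsoAt₀_iff R.π).1 inferInstance
      have hrel : ¬ (ComplexShape.down ℕ).Rel 0 0 := by simp
      rw [ShortComplex.quasiIso_iff_of_zeros' _ (R.complex.shape 0 0 hrel) rfl rfl] at h0
      rw [ChainComplex.quasiIsoAt₀_iff, ShortComplex.quasiIso_iff_of_zeros' _
        ((((ModuleCat.extendScalars.{u, u, u} (algebraMap A A')).mapHomologicalComplex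
          (ComplexShape.down ℕ)).obj R.complex).shape 0 0 hrel) rfl rfl]
      obtain ⟨h1, h2⟩ := h0
      have h3 := h1.map_of_epi_of_preservesCokernel
        (ModuleCat.extendScalars.{u, u, u} (algebraMap A A')) h2 inferInstance
      let θ := (HomologicalComplex.eval _ _ 0).mapIso
        ((HomologicalComplex.singleMapHomologicalComplex
          (ModuleCat.extendScalars.{u, u, u} (algebraMap A A')) (ComplexShape.down ℕ) 0).app P)
      have h4 : Epi ((ModuleCat.extendScalars.{u, u, u} (algebraMap A A')).map
          ((HomologicalComplex.shortComplexFunctor' (ModuleCat A) (ComplexShape.down ℕ) 1 0 0).map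
            R.π).τ₂) := inferInstance
      refine (ShortComplex.exact_and_epi_g_iff_of_iso
        (ShortComplex.isoMk (Iso.refl _) (Iso.refl _) θ ?_ ?_)).1 ⟨h3, h4⟩
      · dsimp
        simp
      · dsimp [θ]
        erw [Category.id_comp]
    | succ n =>
      rw [quasiIsoAt_iff_exactAt']
      · exact hex n
      · apply ChainComplex.exactAt_succ_single_obj⟩

end Resolution

section Main

variable (A A' : Type u) [CommRing A] [CommRing A'] [Algebra A A']
variable (P : ModuleCat.{u} A) (Q' : Type u) [AddCommGroup Q'] [Module A' Q'] [Module A Q']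
  [IsScalarTower A A' Q']

/-- Base change for Tor in the first variable, under Tor-independence of `P` and `A'`. -/
theorem nonempty_restrict_tor_iso_left
    (hP : ∀ q : ℕ, 0 < q →
      IsZero (((Tor (ModuleCat.{u} A) q).obj P).obj (ModuleCat.of A A'))) (n : ℕ) :
    Nonempty ((ModuleCat.restrictScalars.{u} (algebraMap A A')).obj
        (((Tor (ModuleCat.{u} A') n).obj
          ((ModuleCat.extendScalars.{u, u, u} (algebraMap A A')).obj P)).obj (ModuleCat.of A' Q')) ≅
      ((Tor (ModuleCat.{u} A) n).obj P).obj (ModuleCat.of A Q')) := by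
  let G := ModuleCat.restrictScalars.{u} (algebraMap A A')
  let R := projectiveResolution P
  let R' := extendResolution A A' R (exactAt_extend A A' R hP)
  obtain ⟨e1⟩ := Groth.Agent.Lib.Helper2.TorBalance.nonempty_tor_iso_homology R'
    (ModuleCat.of A' Q') n
  obtain ⟨e2⟩ := Groth.Agent.Lib.Helper2.TorBalance.nonempty_tor_iso_homology R
    (ModuleCat.of A Q') n
  let K' := ((tensorRight (ModuleCat.of A' Q')).mapHomologicalComplex (ComplexShape.down ℕ)).obj
    R'.complex
  let e3 : ((G.mapHomologicalComplex (ComplexShape.down ℕ)).obj K').homology n ≅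
      G.obj (K'.homology n) := (K'.sc n).mapHomologyIso G
  let e4 : (G.mapHomologicalComplex (ComplexShape.down ℕ)).obj K' ≅
      ((tensorRight (ModuleCat.of A Q')).mapHomologicalComplex (ComplexShape.down ℕ)).obj
        R.complex :=
    (NatIso.mapHomologicalComplex (projNatIsoRight A A' Q') (ComplexShape.down ℕ)).app R.complex
  exact ⟨G.mapIso e1 ≪≫ e3.symm ≪≫ (HomologicalComplex.homologyFunctor _ _ n).mapIso e4 ≪≫
    e2.symm⟩

end Main

end Groth.Agent.Lib.Helper28.TorBC
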