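import Mathlib
import Groth.Agent.Lib.Helper28.RelPerf5
import Groth.Agent.Lib.Helper28.DCohStalk8
set_option autoImplicit false
universe u
open CategoryTheory Limits AlgebraicGeometry TopologicalSpace Opposite
namespace Groth.Agent.Lib.Helper28.TorDim
noncomputable section
attribute [local instance] HasDerivedCategory.standard
open Groth.Agent.Lib.Helper29.QCoh Groth.Agent.Lib.Helper28.DCohRes
  Groth.Agent.Lib.Helper28.RelPerf Groth.Agent.Lib.Helper28.DCohTilde

variable {X S : Scheme.{u}}

section Chart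

variable (f : X ⟶ S) {U : X.Opens} (hU : IsAffineOpen U) {V : S.Opens} (hV : IsAffineOpen V)
  (hUV : U ≤ f ⁻¹ᵁ V)

/-- the chart complex of the structure sheaf is the tilde of the ring in degree `0` -/
def chartCxUnitIso [PreservesFiniteLimits (tilde.functor Γ(X, U))] :
    DCoh.toD _ (chartCx hU (DerSch.unitCx X)) ≅
      (DCoh.tildeD Γ(X, U)).obj ((DerivedCategory.singleFunctor (ModuleCat.{u} Γ(X, U)) 0).obj
        (ModuleCat.of Γ(X, U) Γ(X, U))) :=
  let e1 : (resCx U.ι).obj (DerSch.unitCx X) ≅ DerSch.unitCx (U : Scheme.{u}) :=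
    (HomologicalComplex.singleMapHomologicalComplex (Scheme.Modules.restrictFunctor U.ι)
      (ComplexShape.up ℤ) 0).app (Coh.structureModule X) ≪≫
    (HomologicalComplex.single _ (ComplexShape.up ℤ) 0).mapIso
      (Scheme.Modules.restrictUnitIso U.ι)
  let e2 : (resCx hU.isoSpec.inv).obj (DerSch.unitCx (U : Scheme.{u})) ≅
      DerSch.unitCx (Spec Γ(X, U)) :=
    (HomologicalComplex.singleMapHomologicalComplex (Scheme.Modules.restrictFunctor hU.isoSpec.inv)
      (ComplexShape.up ℤ) 0).app (Coh.structureModule (U : Scheme.{u})) ≪≫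
    (HomologicalComplex.single _ (ComplexShape.up ℤ) 0).mapIso
      (Scheme.Modules.restrictUnitIso hU.isoSpec.inv)
  DerivedCategory.Q.mapIso ((resCx hU.isoSpec.inv).mapIso e1 ≪≫ e2) ≪≫
    ((DerivedCategory.singleFunctorIsoCompQ (Spec Γ(X, U)).Modules 0).app
      (Coh.structureModule (Spec Γ(X, U)))).symm ≪≫
    (((tilde.functor Γ(X, U)).mapDerivedCategorySingleFunctor 0).app
      (ModuleCat.of Γ(X, U) Γ(X, U))).symm

include hV hU in
/-- **bridge**: stalkwise tor amplitude of `O_X` over an affine chart is ring-level tor amplitude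
of the ring of the chart over the ring of the base chart -/
theorem forall_hasTorAmplitudeAt_unit_iff (a b : ℤ) :
    (∀ x : X, x ∈ U → DerSch.HasTorAmplitudeAt f a b (DerSch.unitCx X) x) ↔
      DRing.HasTorAmplitudeIn Γ(S, V) a b ((DRing.restrictD (f.appLE V U hUV).hom).obj
        ((DerivedCategory.singleFunctor (ModuleCat.{u} Γ(X, U)) 0).obj
          (ModuleCat.of Γ(X, U) Γ(X, U)))) := by
  haveI : PreservesFiniteLimits (tilde.functor Γ(X, U)) :=
    Groth.Agent.Lib.Helper17.KProjAff.preservesFiniteLimits_tilde _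
  let M : DerivedCategory (ModuleCat.{u} Γ(X, U)) :=
    (DerivedCategory.singleFunctor (ModuleCat.{u} Γ(X, U)) 0).obj (ModuleCat.of Γ(X, U) Γ(X, U))
  let G := chartCx hU (DerSch.unitCx X)
  let eG : DCoh.toD _ G ≅ (DCoh.tildeD Γ(X, U)).obj M := chartCxUnitIso hU
  constructor
  · intro h
    have hab : DerSch.HasTorAmplitude (Spec.map (f.appLE V U hUV)) a b G := fun y =>
      (hasTorAmplitudeAt_chartCx_iff f hU hV hUV (DerSch.unitCx X) a b y).2
        (h _ (hU.isoSpec.inv y).2)
    exact hasTorAmplitudeIn_restrictD_of_hasTorAmplitude (f.appLE V U hUV) M G ⟨eG⟩ a b hab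
  · intro h x' hx'
    have hG := hasTorAmplitude_of_hasTorAmplitudeIn_restrictD (f.appLE V U hUV) M G ⟨eG⟩ a b h
    have h1 := (hasTorAmplitudeAt_chartCx_iff f hU hV hUV (DerSch.unitCx X) a b
      (hU.isoSpec.hom ⟨x', hx'⟩)).1 (hG _)
    have h2 : U.ι (hU.isoSpec.inv (hU.isoSpec.hom ⟨x', hx'⟩)) = x' := by
      have := congrArg (fun g : (U : Scheme.{u}) ⟶ (U : Scheme.{u}) => g ⟨x', hx'⟩)
        hU.isoSpec.hom_inv_id
      simp only [Scheme.Hom.comp_apply] at this
      rw [this]
      rfl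
    rw [h2] at h1
    exact h1

end Chart

end
end Groth.Agent.Lib.Helper28.TorDim
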