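import Mathlib
import Groth.Agent.Lib.Helper28.RelPC42
import Groth.Agent.S6948
set_option autoImplicit false
universe u
open CategoryTheory Limits AlgebraicGeometry TopologicalSpace Opposite
namespace Groth.Agent.Lib.Helper28.TorDim
noncomputable section
attribute [local instance] HasDerivedCategory.standard
open Groth.Agent.Lib.Helper13.PC Groth.Agent.Lib.Helper13.DR Groth.Agent.Lib.Helper13.BS

section Ring

/-- derived base change of `A` along a Tor-independent pushout `P → P'` is `A' = A ⊗_P P'` -/
theorem nonempty_LBaseChange_resSingle_iso (P A P' A' : Type u) [CommRing P] [CommRing A]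
    [CommRing P'] [CommRing A'] [Algebra P A] [Algebra P P'] [Algebra A A'] [Algebra P' A']
    [Algebra P A'] [IsScalarTower P A A'] [IsScalarTower P P' A'] [Algebra.IsPushout P P' A A']
    [DRing.HasLBaseChange (algebraMap P P')]
    (hq : QuasiIso ((extC (algebraMap P P')).map (Groth.Agent.Lib.Helper13.TI.PA P A).π')) :
    Nonempty ((DRing.LBaseChange (algebraMap P P')).obj
        ((resSingle (algebraMap P A)).obj (ModuleCat.of A A)) ≅
      (resSingle (algebraMap P' A')).obj (ModuleCat.of A' A')) := by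
  let M : ModuleCat.{u} P := Groth.Agent.Lib.Helper13.TI.MA P A
  let PA := Groth.Agent.Lib.Helper13.TI.PA P A
  haveI hπ : QuasiIso PA.π' := inferInstance
  have hiq : IsIso (DerivedCategory.Q.map PA.π') := by
    rw [DerivedCategory.isIso_Q_map_iff_quasiIso]; exact hπ
  have hiq' : IsIso (DerivedCategory.Q.map ((extC (algebraMap P P')).map PA.π')) := by
    rw [DerivedCategory.isIso_Q_map_iff_quasiIso]; exact hq
  let e0 : (resSingle (algebraMap P A)).obj (ModuleCat.of A A) ≅
      DerivedCategory.Q.obj ((CochainComplex.singleFunctor (ModuleCat.{u} P) 0).obj M) :=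
    (DerivedCategory.singleFunctorIsoCompQ (ModuleCat.{u} P) 0).app M
  let e1 : DerivedCategory.Q.obj PA.cochainComplex ≅
      DerivedCategory.Q.obj ((CochainComplex.singleFunctor (ModuleCat.{u} P) 0).obj M) :=
    @asIso _ _ _ _ (DerivedCategory.Q.map PA.π') hiq
  let e2 := LBaseChangeIso (algebraMap P P') PA.cochainComplex
  let e3 : DerivedCategory.Q.obj ((extC (algebraMap P P')).obj PA.cochainComplex) ≅
      DerivedCategory.Q.obj ((extC (algebraMap P P')).obj
        ((CochainComplex.singleFunctor (ModuleCat.{u} P) 0).obj M)) :=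
    @asIso _ _ _ _ (DerivedCategory.Q.map ((extC (algebraMap P P')).map PA.π')) hiq'
  let e4 : (extC (algebraMap P P')).obj
        ((CochainComplex.singleFunctor (ModuleCat.{u} P) 0).obj M) ≅
      (CochainComplex.singleFunctor (ModuleCat.{u} P') 0).obj
        ((ModuleCat.extendScalars.{u, u, u} (algebraMap P P')).obj M) :=
    (HomologicalComplex.singleMapHomologicalComplex
      (ModuleCat.extendScalars.{u, u, u} (algebraMap P P')) (ComplexShape.up ℤ) 0).app M
  have e5 : (ModuleCat.extendScalars.{u, u, u} (algebraMap P P')).obj M ≅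
      (ModuleCat.restrictScalars.{u} (algebraMap P' A')).obj (ModuleCat.of A' A') :=
    pbcIso P A P' A' (ModuleCat.of A A) ≪≫
      (ModuleCat.restrictScalars.{u} (algebraMap P' A')).mapIso (extendSelfIso A A')
  exact ⟨(DRing.LBaseChange (algebraMap P P')).mapIso (e0 ≪≫ e1.symm) ≪≫ e2 ≪≫ e3 ≪≫
    DerivedCategory.Q.mapIso e4 ≪≫
    ((DerivedCategory.singleFunctorIsoCompQ (ModuleCat.{u} P') 0).app _).symm ≪≫
    (DerivedCategory.singleFunctor (ModuleCat.{u} P') 0).mapIso e5⟩

/-- Tor-independent base change of the tor amplitude of an algebra -/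
theorem hasTorAmplitudeIn_resSingle_of_quasiIso_ext (P A P' A' : Type u) [CommRing P] [CommRing A]
    [CommRing P'] [CommRing A'] [Algebra P A] [Algebra P P'] [Algebra A A'] [Algebra P' A']
    [Algebra P A'] [IsScalarTower P A A'] [IsScalarTower P P' A'] [Algebra.IsPushout P P' A A']
    (hq : QuasiIso ((extC (algebraMap P P')).map (Groth.Agent.Lib.Helper13.TI.PA P A).π'))
    (a b : ℤ)
    (h : DRing.HasTorAmplitudeIn P a b ((resSingle (algebraMap P A)).obj (ModuleCat.of A A))) :
    DRing.HasTorAmplitudeIn P' a b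
      ((resSingle (algebraMap P' A')).obj (ModuleCat.of A' A')) := by
  haveI : DRing.HasLBaseChange (algebraMap P P') :=
    Groth.Agent.Lib.Helper28.Lpull.hasLBaseChange _
  obtain ⟨e⟩ := nonempty_LBaseChange_resSingle_iso P A P' A' hq
  exact hasTorAmplitudeIn_of_iso e (Groth.Agent.S6948.result (algebraMap P P') _ a b h)

/-- flat base change of the tor amplitude of an algebra (explicit ring homs) -/
theorem hasTorAmplitudeIn_baseChange_of_flat {B A B' A' : Type u} [CommRing B] [CommRing A]
    [CommRing B'] [CommRing A'] (ρ : B →+* A) (η : B →+* B') (γ : A →+* A') (ρ' : B' →+* A')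
    (hsq : IsPushout (CommRingCat.ofHom ρ) (CommRingCat.ofHom η) (CommRingCat.ofHom γ)
      (CommRingCat.ofHom ρ')) (hη : η.Flat) (a b : ℤ)
    (h : DRing.HasTorAmplitudeIn B a b ((resSingle ρ).obj (ModuleCat.of A A))) :
    DRing.HasTorAmplitudeIn B' a b ((resSingle ρ').obj (ModuleCat.of A' A')) := by
  have hw : γ.comp ρ = ρ'.comp η := by
    have := hsq.w
    exact congrArg CommRingCat.Hom.hom this
  letI : Algebra B A := ρ.toAlgebra
  letI : Algebra B B' := η.toAlgebra
  letI : Algebra A A' := γ.toAlgebra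
  letI : Algebra B' A' := ρ'.toAlgebra
  letI : Algebra B A' := (γ.comp ρ).toAlgebra
  haveI : IsScalarTower B A A' := .of_algebraMap_eq' rfl
  haveI : IsScalarTower B B' A' := .of_algebraMap_eq' hw
  haveI hpo : Algebra.IsPushout B A B' A' := CommRingCat.isPushout_iff_isPushout.mp hsq
  haveI : Algebra.IsPushout B B' A A' := hpo.symm
  haveI : Module.Flat B B' := hη
  have hq : QuasiIso ((extC (algebraMap B B')).map
      (Groth.Agent.Lib.Helper13.TI.PA B A).π') := by
    haveI : QuasiIso (Groth.Agent.Lib.Helper13.TI.PA B A).π' := inferInstance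
    infer_instance
  exact hasTorAmplitudeIn_resSingle_of_quasiIso_ext B A B' A' hq a b h

/-- base change along `k ⊗_R -` of the tor amplitude of an algebra, source and target flat
over `R` (explicit ring homs) -/
theorem hasTorAmplitudeIn_baseChange_of_flat_over_base {R k B A B' A' : Type u} [CommRing R]
    [CommRing k] [CommRing B] [CommRing A] [CommRing B'] [CommRing A']
    (σ : R →+* B) (τ : R →+* k) (κ : k →+* B') (η : B →+* B') (ρ : B →+* A) (γ : A →+* A')
    (ρ' : B' →+* A')
    (hsq₀ : IsPushout (CommRingCat.ofHom σ) (CommRingCat.ofHom τ) (CommRingCat.ofHom η)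
      (CommRingCat.ofHom κ))
    (hsq : IsPushout (CommRingCat.ofHom ρ) (CommRingCat.ofHom η) (CommRingCat.ofHom γ)
      (CommRingCat.ofHom ρ'))
    (hσ : σ.Flat) (hρσ : (ρ.comp σ).Flat) (a b : ℤ)
    (h : DRing.HasTorAmplitudeIn B a b ((resSingle ρ).obj (ModuleCat.of A A))) :
    DRing.HasTorAmplitudeIn B' a b ((resSingle ρ').obj (ModuleCat.of A' A')) := by
  have hw₀ : η.comp σ = κ.comp τ := by
    have := hsq₀.w
    exact congrArg CommRingCat.Hom.hom this
  have hw : γ.comp ρ = ρ'.comp η := by
    have := hsq.w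
    exact congrArg CommRingCat.Hom.hom this
  letI : Algebra R B := σ.toAlgebra
  letI : Algebra R k := τ.toAlgebra
  letI : Algebra k B' := κ.toAlgebra
  letI : Algebra B B' := η.toAlgebra
  letI : Algebra R B' := (η.comp σ).toAlgebra
  haveI : IsScalarTower R B B' := .of_algebraMap_eq' rfl
  haveI : IsScalarTower R k B' := .of_algebraMap_eq' hw₀
  haveI hpo₀ : Algebra.IsPushout R B k B' := CommRingCat.isPushout_iff_isPushout.mp hsq₀
  haveI : Algebra.IsPushout R k B B' := hpo₀.symm
  letI : Algebra B A := ρ.toAlgebra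
  letI : Algebra A A' := γ.toAlgebra
  letI : Algebra B' A' := ρ'.toAlgebra
  letI : Algebra B A' := (γ.comp ρ).toAlgebra
  letI : Algebra R A := (ρ.comp σ).toAlgebra
  haveI : IsScalarTower R B A := .of_algebraMap_eq' rfl
  haveI : IsScalarTower B A A' := .of_algebraMap_eq' rfl
  haveI : IsScalarTower B B' A' := .of_algebraMap_eq' hw
  haveI hpo : Algebra.IsPushout B A B' A' := CommRingCat.isPushout_iff_isPushout.mp hsq
  haveI : Algebra.IsPushout B B' A A' := hpo.symm
  haveI : Module.Flat R B := hσ
  haveI : Module.Flat R A := hρσ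
  have hq := Groth.Agent.Lib.Helper13.TI.quasiIso_ext_π'_of_flat R B k B' A
  exact hasTorAmplitudeIn_resSingle_of_quasiIso_ext B A B' A' hq a b h

end Ring

end
end Groth.Agent.Lib.Helper28.TorDim
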