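import Mathlib
import Groth.Agent.Lib.Helper28.TorDimChart
import Groth.Agent.Lib.Helper28.TorDimRing
set_option autoImplicit false
universe u
open CategoryTheory Limits AlgebraicGeometry TopologicalSpace Opposite
namespace Groth.Agent.Lib.Helper28.TorDim
noncomputable section
attribute [local instance] HasDerivedCategory.standard
open Groth.Agent.Lib.Helper13.PC Groth.Agent.Lib.Helper13.DR Groth.Agent.Lib.Helper13.BS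
  Groth.Agent.Lib.Helper28.RelPC

/-- bridge in `resSingle` form -/
theorem forall_hasTorAmplitudeAt_unit_iff' {X S : Scheme.{u}} (f : X ⟶ S) {U : X.Opens}
    (hU : IsAffineOpen U) {V : S.Opens} (hV : IsAffineOpen V) (hUV : U ≤ f ⁻¹ᵁ V) (a b : ℤ) :
    (∀ x : X, x ∈ U → DerSch.HasTorAmplitudeAt f a b (DerSch.unitCx X) x) ↔
      DRing.HasTorAmplitudeIn Γ(S, V) a b
        ((resSingle (f.appLE V U hUV).hom).obj (ModuleCat.of Γ(X, U) Γ(X, U))) := by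
  rw [forall_hasTorAmplitudeAt_unit_iff f hU hV hUV a b]
  exact ⟨fun h => hasTorAmplitudeIn_of_iso (restrictDSingleIso _ _) h,
    fun h => hasTorAmplitudeIn_of_iso (restrictDSingleIso _ _).symm h⟩

/-- flat base change of the tor amplitude of the structure sheaf -/
theorem hasTorAmplitude_unit_of_isPullback_of_flat {X Y Y' X' : Scheme.{u}} (f : X ⟶ Y)
    (h : Y' ⟶ Y) [Flat h] (g' : X' ⟶ X) (f' : X' ⟶ Y')
    (H : IsPullback g' f' f h) (a b : ℤ) (hf : DerSch.HasTorAmplitude f a b (DerSch.unitCx X)) :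
    DerSch.HasTorAmplitude f' a b (DerSch.unitCx X') := by
  intro x'
  have hcomm : f (g' x') = h (f' x') := by
    rw [← Scheme.Hom.comp_apply, ← Scheme.Hom.comp_apply, H.w]
  obtain ⟨V, hV, hyV, -⟩ := exists_isAffineOpen_mem_and_subset (x := h (f' x')) (U := ⊤) trivial
  obtain ⟨V', hV', hyV', hV'V⟩ := exists_isAffineOpen_mem_and_subset (x := f' x')
    (U := h ⁻¹ᵁ V) hyV
  obtain ⟨U, hU, hxU, hUV⟩ := exists_isAffineOpen_mem_and_subset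
    (x := g' x') (U := f ⁻¹ᵁ V) (by change f (g' x') ∈ V; rw [hcomm]; exact hyV)
  have hU'aff : IsAffineOpen (g' ⁻¹ᵁ U ⊓ f' ⁻¹ᵁ V') :=
    isAffineOpen_inf_preimage H hV hV' hU hV'V hUV rfl
  have hU'V' : g' ⁻¹ᵁ U ⊓ f' ⁻¹ᵁ V' ≤ f' ⁻¹ᵁ V' := inf_le_right
  haveI hiso := isIso_pushoutSection_of_isAffineOpen H hV'V hUV rfl hV hV' hU
  have hpo := (isIso_pushoutSection_iff H hV'V hUV rfl).1 hiso
  have h1 := (forall_hasTorAmplitudeAt_unit_iff' f hU hV hUV a b).1 (fun x _ => hf x)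
  have h2 := hasTorAmplitudeIn_baseChange_of_flat _ _ _ _ hpo (h.flat_appLE hV hV' hV'V) a b h1
  exact (forall_hasTorAmplitudeAt_unit_iff' f' hU'aff hV' hU'V' a b).2 h2 x' ⟨hxU, hyV'⟩

/-- base change of the tor amplitude of the structure sheaf of a morphism between flat
`S`-schemes along an arbitrary morphism `T ⟶ S` -/
theorem hasTorAmplitude_unit_baseChange_of_flat_over_base {S T Y₂ X₂ W X' : Scheme.{u}}
    (f₂ : X₂ ⟶ Y₂) (q₂ : Y₂ ⟶ S) [Flat q₂] [Flat (f₂ ≫ q₂)]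
    (c : T ⟶ S) (w₂ : W ⟶ Y₂) (w₁ : W ⟶ T) (HW : IsPullback w₂ w₁ q₂ c)
    (g' : X' ⟶ X₂) (f' : X' ⟶ W) (HX : IsPullback g' f' f₂ w₂)
    (a b : ℤ) (hf : DerSch.HasTorAmplitude f₂ a b (DerSch.unitCx X₂)) :
    DerSch.HasTorAmplitude f' a b (DerSch.unitCx X') := by
  intro x'
  have hcomm : q₂ (w₂ (f' x')) = c (w₁ (f' x')) := by
    have := congrArg (fun g : W ⟶ S => g (f' x')) HW.w
    simpa only [Scheme.Hom.comp_apply] using this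
  have hcommX : f₂ (g' x') = w₂ (f' x') := by
    have := congrArg (fun g : X' ⟶ Y₂ => g x') HX.w
    simpa only [Scheme.Hom.comp_apply] using this
  obtain ⟨S₀, hS₀, hyS₀, -⟩ := exists_isAffineOpen_mem_and_subset (x := q₂ (w₂ (f' x')))
    (U := ⊤) trivial
  obtain ⟨T₀, hT₀, hyT₀, hT₀S₀⟩ := exists_isAffineOpen_mem_and_subset (x := w₁ (f' x'))
      (U := c ⁻¹ᵁ S₀) (by change c (w₁ (f' x')) ∈ S₀; rw [← hcomm]; exact hyS₀)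
  obtain ⟨V₂, hV₂, hyV₂, hV₂S₀⟩ := exists_isAffineOpen_mem_and_subset (x := w₂ (f' x'))
      (U := q₂ ⁻¹ᵁ S₀) hyS₀
  have hW₀aff : IsAffineOpen (w₂ ⁻¹ᵁ V₂ ⊓ w₁ ⁻¹ᵁ T₀) :=
    isAffineOpen_inf_preimage HW hS₀ hT₀ hV₂ hT₀S₀ hV₂S₀ rfl
  have hW₀V₂ : w₂ ⁻¹ᵁ V₂ ⊓ w₁ ⁻¹ᵁ T₀ ≤ w₂ ⁻¹ᵁ V₂ := inf_le_left
  obtain ⟨U₂, hU₂, hxU₂, hU₂V₂⟩ := exists_isAffineOpen_mem_and_subset
      (x := g' x') (U := f₂ ⁻¹ᵁ V₂) (by change f₂ (g' x') ∈ V₂; rw [hcommX]; exact hyV₂)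
  have hU'aff : IsAffineOpen (g' ⁻¹ᵁ U₂ ⊓ f' ⁻¹ᵁ (w₂ ⁻¹ᵁ V₂ ⊓ w₁ ⁻¹ᵁ T₀)) :=
    isAffineOpen_inf_preimage HX hV₂ hW₀aff hU₂ hW₀V₂ hU₂V₂ rfl
  haveI hiso₀ := isIso_pushoutSection_of_isAffineOpen HW hT₀S₀ hV₂S₀ rfl hS₀ hT₀ hV₂
  have hpo₀ := (isIso_pushoutSection_iff HW hT₀S₀ hV₂S₀ rfl).1 hiso₀
  haveI hiso := isIso_pushoutSection_of_isAffineOpen HX hW₀V₂ hU₂V₂ rfl hV₂ hW₀aff hU₂
  have hpo := (isIso_pushoutSection_iff HX hW₀V₂ hU₂V₂ rfl).1 hiso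
  have hU₂S₀ : U₂ ≤ (f₂ ≫ q₂) ⁻¹ᵁ S₀ := fun x hx => hV₂S₀ (hU₂V₂ hx)
  have hfl : ((f₂.appLE V₂ U₂ hU₂V₂).hom.comp (q₂.appLE S₀ V₂ hV₂S₀).hom).Flat := by
    have h1 := (f₂ ≫ q₂).flat_appLE hS₀ hU₂ hU₂S₀
    have h2 : ((f₂ ≫ q₂).appLE S₀ U₂ hU₂S₀).hom =
        (f₂.appLE V₂ U₂ hU₂V₂).hom.comp (q₂.appLE S₀ V₂ hV₂S₀).hom := by
      rw [← CommRingCat.hom_comp, Scheme.Hom.appLE_comp_appLE]
    rw [← h2]
    exact h1
  have h1 := (forall_hasTorAmplitudeAt_unit_iff' f₂ hU₂ hV₂ hU₂V₂ a b).1 (fun x _ => hf x)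
  have h2 := hasTorAmplitudeIn_baseChange_of_flat_over_base _ _ _ _ _ _ _ hpo₀ hpo
    (q₂.flat_appLE hS₀ hV₂ hV₂S₀) hfl a b h1
  exact (forall_hasTorAmplitudeAt_unit_iff' f' hU'aff hW₀aff inf_le_right a b).2 h2 x'
    ⟨hxU₂, hyV₂, hyT₀⟩

/-- **S6242**: the product over `S` of two morphisms of finite tor dimension, the second one
between flat `S`-schemes, has tor dimension at most the sum -/
theorem hasTorDimLE_prod {S X₁ Y₁ X₂ Y₂ X Y : Scheme.{u}} (f₁ : X₁ ⟶ Y₁) (q₁ : Y₁ ⟶ S)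
    (f₂ : X₂ ⟶ Y₂) (q₂ : Y₂ ⟶ S) [Flat q₂] [Flat (f₂ ≫ q₂)]
    (pX₁ : X ⟶ X₁) (pX₂ : X ⟶ X₂) (hX : IsPullback pX₁ pX₂ (f₁ ≫ q₁) (f₂ ≫ q₂))
    (pY₁ : Y ⟶ Y₁) (pY₂ : Y ⟶ Y₂) (hY : IsPullback pY₁ pY₂ q₁ q₂)
    (f : X ⟶ Y) (hf₁ : f ≫ pY₁ = pX₁ ≫ f₁) (hf₂ : f ≫ pY₂ = pX₂ ≫ f₂)
    (n₁ n₂ : ℕ) (h₁ : DerSch.HasTorDimLE f₁ n₁) (h₂ : DerSch.HasTorDimLE f₂ n₂) :
    DerSch.HasTorDimLE f (n₁ + n₂) := by
  let fstW := pullback.fst (f₁ ≫ q₁) q₂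
  let sndW := pullback.snd (f₁ ≫ q₁) q₂
  have HW0 : IsPullback fstW sndW (f₁ ≫ q₁) q₂ := IsPullback.of_hasPullback _ _
  have hw : pX₁ ≫ (f₁ ≫ q₁) = (pX₂ ≫ f₂) ≫ q₂ := by
    rw [Category.assoc]; exact hX.w
  let f' : X ⟶ pullback (f₁ ≫ q₁) q₂ := pullback.lift pX₁ (pX₂ ≫ f₂) hw
  have hf'1 : f' ≫ fstW = pX₁ := pullback.lift_fst _ _ _
  have hf'2 : f' ≫ sndW = pX₂ ≫ f₂ := pullback.lift_snd _ _ _
  have HX : IsPullback pX₂ f' f₂ sndW := by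
    refine (IsPullback.of_right ?_ hf'2 HW0).flip
    rw [hf'1]
    exact hX
  have hf'T : DerSch.HasTorAmplitude f' (-(n₂ : ℤ)) 0 (DerSch.unitCx X) :=
    hasTorAmplitude_unit_baseChange_of_flat_over_base f₂ q₂ (f₁ ≫ q₁) sndW fstW HW0.flip pX₂ f' HX
      _ _ h₂
  have hv : (fstW ≫ f₁) ≫ q₁ = sndW ≫ q₂ := by
    rw [Category.assoc]; exact HW0.w
  let v : pullback (f₁ ≫ q₁) q₂ ⟶ Y := hY.lift (fstW ≫ f₁) sndW hv
  have hv1 : v ≫ pY₁ = fstW ≫ f₁ := hY.lift_fst _ _ _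
  have hv2 : v ≫ pY₂ = sndW := hY.lift_snd _ _ _
  have HV : IsPullback fstW v f₁ pY₁ := by
    refine (IsPullback.of_right ?_ hv1 hY.flip).flip
    rw [hv2]
    exact HW0.flip
  haveI : Flat pY₁ := MorphismProperty.of_isPullback (P := @Flat) hY.flip inferInstance
  have hvT : DerSch.HasTorDimLE v n₁ :=
    hasTorAmplitude_unit_of_isPullback_of_flat f₁ pY₁ fstW v HV _ _ h₁
  have hfac : f = f' ≫ v := by
    apply hY.hom_ext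
    · rw [hf₁, Category.assoc, hv1, ← Category.assoc, hf'1]
    · rw [hf₂, Category.assoc, hv2, hf'2]
  have key := Groth.Agent.Lib.Helper28.DCohStalk.hasTorAmplitude_comp_of_hasTorDimLE f' v n₁ hvT
    (DerSch.unitCx X) (-(n₂ : ℤ)) 0 hf'T
  have hcast : (-((n₁ + n₂ : ℕ) : ℤ)) = -(n₂ : ℤ) - n₁ := by push_cast; ring
  change DerSch.HasTorAmplitude f (-((n₁ + n₂ : ℕ) : ℤ)) 0 (DerSch.unitCx X)
  rw [hcast, hfac]
  exact key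

end
end Groth.Agent.Lib.Helper28.TorDim
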