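import Mathlib
import Groth.Agent.Lib.Helper28.TorDim3
import Groth.Agent.Lib.Helper13.PolySES3
set_option autoImplicit false
universe u
open CategoryTheory Limits AlgebraicGeometry TopologicalSpace Opposite
namespace Groth.Agent.Lib.Helper28.TorDim
noncomputable section
attribute [local instance] HasDerivedCategory.standard
open Groth.Agent.Lib.Helper13.PC Groth.Agent.Lib.Helper13.DR Groth.Agent.Lib.Helper13.BS
  Groth.Agent.Lib.Helper28.RelPC

/-- tor amplitude over a polynomial ring from tor amplitude over the base, transported along ring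
isomorphisms of the polynomial ring and of the algebra -/
theorem hasTorAmplitudeIn_resSingle_mvPoly_transport {B A P' A' : Type u} [CommRing B] [CommRing A]
    [CommRing P'] [CommRing A'] (d : ℕ) (φ : MvPolynomial (Fin d) B →+* A)
    (ε : MvPolynomial (Fin d) B ≃+* P') (θ : A ≃+* A') (ψ : P' →+* A')
    (hsq : ψ.comp (ε : MvPolynomial (Fin d) B →+* P') = (θ : A →+* A').comp φ) (a b : ℤ)
    (h : DRing.HasTorAmplitudeIn B a b
      ((resSingle (φ.comp (algebraMap B (MvPolynomial (Fin d) B)))).obj (ModuleCat.of A A))) :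
    DRing.HasTorAmplitudeIn P' (a - d) b ((resSingle ψ).obj (ModuleCat.of A' A')) := by
  let M : ModuleCat.{u} P' := (ModuleCat.restrictScalars.{u} ψ).obj (ModuleCat.of A' A')
  change DRing.HasTorAmplitudeIn P' (a - d) b
    ((DerivedCategory.singleFunctor (ModuleCat.{u} P') 0).obj M)
  apply Groth.Agent.Lib.Helper13.PS.hasTorAmplitudeIn_single_of_ringEquiv ε M (a - d) b
  apply Groth.Agent.Lib.Helper13.PS.hasTorAmplitudeIn_mvPoly_of_restrict d B _ a b
  let l : ((ModuleCat.restrictScalars.{u} (φ.comp (algebraMap B (MvPolynomial (Fin d) B)))).obj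
        (ModuleCat.of A A)) ≃ₗ[B]
      ((ModuleCat.restrictScalars.{u} (algebraMap B (MvPolynomial (Fin d) B))).obj
        ((ModuleCat.restrictScalars.{u} (ε : MvPolynomial (Fin d) B →+* P')).obj M)) :=
    { toFun := fun x => θ (show A from x)
      invFun := fun y => θ.symm (show A' from y)
      map_add' := fun x y => map_add θ x y
      map_smul' := fun r x => by
        have h1 : θ (φ (algebraMap B (MvPolynomial (Fin d) B) r) * (show A from x)) =
            ψ (ε (algebraMap B (MvPolynomial (Fin d) B) r)) * θ (show A from x) := by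
          rw [map_mul]
          congr 1
          exact (congrArg (fun t : MvPolynomial (Fin d) B →+* A' =>
            t (algebraMap B (MvPolynomial (Fin d) B) r)) hsq).symm
        exact h1
      left_inv := θ.symm_apply_apply
      right_inv := θ.apply_symm_apply }
  exact hasTorAmplitudeIn_of_iso
    ((DerivedCategory.singleFunctor (ModuleCat.{u} B) 0).mapIso l.toModuleIso) h

/-- **S17643**: a finite type morphism of finite tor dimension factors, over affine charts, as a
closed immersion of finite tor dimension into an affine space followed by a smooth morphism -/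
theorem exists_factor_closedImmersion_finiteTorDim_smooth {X Y : Scheme.{u}} (f : X ⟶ Y)
    [LocallyOfFiniteType f] (hf : DerSch.HasFiniteTorDim f)
    (U : X.Opens) (hU : IsAffineOpen U) (V : Y.Opens) (hV : IsAffineOpen V) (hUV : U ≤ f ⁻¹ᵁ V) :
    ∃ (W : Scheme.{u}) (g : (U : Scheme.{u}) ⟶ W) (h : W ⟶ Y),
      IsClosedImmersion g ∧ DerSch.HasFiniteTorDim g ∧ Smooth h ∧ g ≫ h = U.ι ≫ f := by
  obtain ⟨a, b, hab⟩ := hf
  obtain ⟨d, φ, hφs, hφC⟩ := exists_chart_of_finiteType _
    (LocallyOfFiniteType.finiteType_appLE f hV hU hUV)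
  haveI : IsAffine (U : Scheme.{u}) := hU
  haveI hcl : IsClosedImmersion (Spec.map (CommRingCat.ofHom φ)) :=
    IsClosedImmersion.spec_of_surjective _ hφs
  haveI hsmA : Algebra.Smooth Γ(Y, V) (MvPolynomial (Fin d) Γ(Y, V)) := ⟨inferInstance, inferInstance⟩
  haveI hsm : Smooth (Spec.map (CommRingCat.ofHom
      (algebraMap Γ(Y, V) (MvPolynomial (Fin d) Γ(Y, V))))) :=
    (HasRingHomProperty.Spec_iff (P := @Smooth)).mpr (RingHom.smooth_algebraMap.mpr inferInstance)
  have hcomp : CommRingCat.ofHom (algebraMap Γ(Y, V) (MvPolynomial (Fin d) Γ(Y, V))) ≫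
      CommRingCat.ofHom φ = f.appLE V U hUV := by
    ext x
    exact congrArg (fun t : Γ(Y, V) →+* Γ(X, U) => t x) hφC
  refine ⟨Spec (CommRingCat.of (MvPolynomial (Fin d) Γ(Y, V))),
    hU.isoSpec.hom ≫ Spec.map (CommRingCat.ofHom φ),
    Spec.map (CommRingCat.ofHom (algebraMap Γ(Y, V) (MvPolynomial (Fin d) Γ(Y, V)))) ≫ hV.fromSpec,
    inferInstance, ?_, inferInstance, ?_⟩
  · refine ⟨a - d, b, ?_⟩
    have h1 := (forall_hasTorAmplitudeAt_unit_iff' f hU hV hUV a b).1 (fun x _ => hab x)
    have htopU : IsAffineOpen (⊤ : (U : Scheme.{u}).Opens) := isAffineOpen_top _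
    have htopW : IsAffineOpen
        (⊤ : (Spec (CommRingCat.of (MvPolynomial (Fin d) Γ(Y, V)))).Opens) := isAffineOpen_top _
    have hle : (⊤ : (U : Scheme.{u}).Opens) ≤
        (hU.isoSpec.hom ≫ Spec.map (CommRingCat.ofHom φ)) ⁻¹ᵁ ⊤ := le_top
    intro x
    refine (forall_hasTorAmplitudeAt_unit_iff' (hU.isoSpec.hom ≫ Spec.map (CommRingCat.ofHom φ))
      htopU htopW hle (a - d) b).2 ?_ x trivial
    refine hasTorAmplitudeIn_resSingle_mvPoly_transport d φ
      (Scheme.ΓSpecIso (CommRingCat.of (MvPolynomial (Fin d) Γ(Y, V)))).symm.commRingCatIsoToRingEquiv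
      U.topIso.symm.commRingCatIsoToRingEquiv
      ((hU.isoSpec.hom ≫ Spec.map (CommRingCat.ofHom φ)).appLE ⊤ ⊤ hle).hom ?_ a b ?_
    · have hcat : (Scheme.ΓSpecIso (CommRingCat.of (MvPolynomial (Fin d) Γ(Y, V)))).inv ≫
          (hU.isoSpec.hom ≫ Spec.map (CommRingCat.ofHom φ)).appLE ⊤ ⊤ hle =
          CommRingCat.ofHom φ ≫ U.topIso.inv := by
        have h0 : (hU.isoSpec.hom ≫ Spec.map (CommRingCat.ofHom φ)).appLE ⊤ ⊤ hle =
            (hU.isoSpec.hom ≫ Spec.map (CommRingCat.ofHom φ)).appTop := by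
          simp only [Scheme.Hom.appLE, Scheme.Hom.appTop]
          erw [CategoryTheory.Functor.map_id, Category.comp_id]
        rw [h0, Scheme.Hom.comp_appTop, ← Category.assoc, ← Scheme.ΓSpecIso_inv_naturality,
          Category.assoc, IsAffineOpen.isoSpec_hom_appTop, Iso.inv_hom_id_assoc]
      refine RingHom.ext fun p => ?_
      exact congrArg (fun t => t.hom p) hcat
    · have h2 : φ.comp (algebraMap Γ(Y, V) (MvPolynomial (Fin d) Γ(Y, V))) =
          (f.appLE V U hUV).hom := hφC
      rw [h2]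
      exact h1
  · rw [Category.assoc, ← Category.assoc (Spec.map _), ← Spec.map_comp, hcomp,
      IsAffineOpen.SpecMap_appLE_fromSpec f hV hU hUV, ← Category.assoc,
      IsAffineOpen.isoSpec_hom_fromSpec]

end
end Groth.Agent.Lib.Helper28.TorDim
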