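import Mathlib
import Groth.Agent.Lib.Helper28.FlatCxReduced
import Groth.Agent.Lib.Helper28.Betti2
set_option autoImplicit false

universe u

open CategoryTheory Limits HomologicalComplex AlgebraicGeometry CohIII

namespace Groth.Agent.Lib.Helper28.Tp

open Groth.Agent.Lib.Helper28.FlatCx Groth.Agent.Lib.Helper28.Betti

noncomputable section

section Ring

variable {A : Type u} [CommRing A] (M : CochainComplex (ModuleCat.{u} A) ℤ)

/-- the dimension of the fibre homology at a field-valued point only depends on the prime -/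
theorem finrank_homology_ext_eq_dRank (p : ℤ) {K : Type u} [Field K] (ψ : A →+* K) :
    Module.finrank K ((ext M ψ).homology p) = dRank M p (PrimeSpectrum.comap ψ ⊥) := by
  set y : PrimeSpectrum A := PrimeSpectrum.comap ψ ⊥ with hy
  have h1 : y.asIdeal ≤ RingHom.ker ψ := by
    intro a ha
    have : ψ a ∈ (⊥ : Ideal K) := ha
    rwa [Ideal.mem_bot] at this
  have h2 : y.asIdeal.primeCompl ≤ (IsUnit.submonoid K).comap ψ := by
    intro a ha
    have hne : ψ a ≠ 0 := by
      intro h0
      exact ha (show ψ a ∈ (⊥ : Ideal K) by rw [h0]; exact Ideal.zero_mem _)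
    exact hne.isUnit
  refine finrank_homology_bcCx_comp (algebraMap A y.asIdeal.ResidueField)
    (Ideal.ResidueField.lift y.asIdeal ψ h1 h2) ψ ?_ M p
  ext a
  exact (Ideal.ResidueField.lift_algebraMap y.asIdeal ψ h1 h2 a).symm

/-- over a reduced Noetherian ring, if the fibre dimension of `H^p` is locally constant then the
`opcycles` in degrees `p`, `p + 1` are flat -/
theorem flat_opcycles_of_isLocallyConstant_dRank [IsNoetherianRing A] [IsReduced A] (p : ℤ)
    [∀ i, Module.Finite A (M.X i)] [∀ i, Module.Free A (M.X i)]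
    (h : IsLocallyConstant (dRank M p)) :
    Module.Flat A (M.opcycles p) ∧ Module.Flat A (M.opcycles (p + 1)) := by
  have hP : ∀ i, Module.Finite A (M.X i) ∧ Module.Flat A (M.X i) :=
    fun i => ⟨inferInstance, inferInstance⟩
  have hPf : ∀ i, Module.Flat A (M.X i) := fun i => (hP i).2
  have hpq : (ComplexShape.up ℤ).Rel p (p + 1) := rfl
  obtain ⟨h1, h2⟩ := exact_of_isLocallyConstant_dRank M hP p (p + 1) hpq h
  exact ⟨(preservesMono_iff_flat_opcycles M hPf p).mp h1,
    (preservesMono_iff_flat_opcycles M hPf (p + 1)).mp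
      ((preservesEpi_iff_preservesMono_of_rel M hPf p (p + 1) hpq).mp h2)⟩

end Ring

variable {X : Scheme.{u}}

/-- the kernel of the evaluation at the image of a prime is the prime -/
theorem comap_evaluation_fromSpec {V : X.Opens} (hV : IsAffineOpen V)
    (y : PrimeSpectrum Γ(X, V)) (hx : hV.fromSpec.base y ∈ V) :
    PrimeSpectrum.comap (X.evaluation V (hV.fromSpec.base y) hx).hom ⊥ = y := by
  ext s
  have h1 : s ∈ (PrimeSpectrum.comap (X.evaluation V (hV.fromSpec.base y) hx).hom ⊥).asIdeal ↔
      (X.evaluation V (hV.fromSpec.base y) hx).hom s = 0 := by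
    show (X.evaluation V (hV.fromSpec.base y) hx).hom s ∈ (⊥ : Ideal _) ↔ _
    rw [Ideal.mem_bot]
  rw [h1]
  have h2 := X.evaluation_ne_zero_iff_mem_basicOpen (hV.fromSpec.base y) hx s
  have h3 : hV.fromSpec.base y ∈ X.basicOpen s ↔ y ∈ PrimeSpectrum.basicOpen s := by
    have := hV.fromSpec_preimage_basicOpen s
    constructor
    · intro h
      have h' : y ∈ hV.fromSpec ⁻¹ᵁ X.basicOpen s := h
      rw [this] at h'
      exact h'
    · intro h
      have h' : y ∈ hV.fromSpec ⁻¹ᵁ X.basicOpen s := by
        rw [this]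
        exact h
      exact h'
  rw [PrimeSpectrum.mem_basicOpen] at h3
  constructor
  · intro h0
    by_contra hs
    exact (h2.2 (h3.2 hs)) h0
  · intro hs
    by_contra h0
    exact (h3.1 (h2.1 h0)) hs

end

end Groth.Agent.Lib.Helper28.Tp
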