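import Mathlib
import Groth.Agent.Lib.Helper28.Tp6
import Groth.Agent.Lib.Helper28.Tp8
import Groth.Agent.Lib.Helper28.DCohRes31
set_option autoImplicit false

universe u

open CategoryTheory Limits HomologicalComplex AlgebraicGeometry CohIII

attribute [local instance] HasDerivedCategory.standard

namespace Groth.Agent.Lib.Helper28.Tp

open Groth.Agent.Lib.Helper28.TensorDelta Groth.Agent.Lib.Helper28.KFlatSite
  Groth.Agent.Lib.Helper28.KFlatAbs Groth.Agent.Lib.Helper28.Lpull
  Groth.Agent.Lib.Helper28.TensorApprox Groth.Agent.Lib.Helper28.DCohRes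
  Groth.Agent.Lib.Helper28.DCohTilde Groth.Agent.Lib.Helper28.Betti
  Groth.Agent.Lib.Helper28.PerfTensor Groth.Agent.Lib.Helper29.QCoh

noncomputable section

variable {X : Scheme.{u}}

local instance hasLpull'''' {Y Z : Scheme.{u}} (f : Y ⟶ Z) : DCoh.HasLpull f := hasLpull f

lemma betti_eq_of_iso {E E' : DCoh.D X} (e : E ≅ E') (x : X)
    [DCoh.HasLpull (X.fromSpecResidueField x)] (i : ℤ) :
    PerfD.betti E x i = PerfD.betti E' x i :=
  secRank_eq_of_iso ((DerivedCategory.homologyFunctor _ i).mapIso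
    ((DCoh.Lpull (X.fromSpecResidueField x)).mapIso e))

/-- the local step: if the Betti number `β_p` is locally constant on a reduced locally Noetherian
scheme, the `opcycles` in degrees `p`, `p + 1` of a flat K-flat representative are flat -/
theorem isFlat_opcycles_of_isLocallyConstant_betti [IsLocallyNoetherian X] [IsReduced X]
    (L : CochainComplex X.Modules ℤ) (hK : DCoh.IsKFlat L)
    (hLfl : ∀ i, FlatMod.IsFlat (L.X i)) (p : ℤ)
    (hE : DCoh.IsPseudoCoherentD (p - 1) (DCoh.toD X L))
    [∀ x : X, DCoh.HasLpull (X.fromSpecResidueField x)]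
    (hc : IsLocallyConstant (fun x : X => PerfD.betti (DCoh.toD X L) x p)) :
    FlatMod.IsFlat (L.opcycles p) ∧ FlatMod.IsFlat (L.opcycles (p + 1)) := by
  have main : ∀ x₀ : X, ∃ (U : Scheme.{u}) (j : U ⟶ X) (_ : IsOpenImmersion j),
      x₀ ∈ Set.range j.base ∧ FlatMod.IsFlat ((L.opcycles p).restrict j) ∧
        FlatMod.IsFlat ((L.opcycles (p + 1)).restrict j) := by
    intro x₀
    obtain ⟨V₀, hxV₀, hV₀⟩ := hE x₀
    obtain ⟨E₀, α, hE₀, hα1, hα2⟩ := hV₀ L ⟨Iso.refl _⟩
    obtain ⟨V, hV, hxV, M, hfin, hfree, a, b, hab, hMK, α', hα'⟩ :=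
      exists_local_model (DCoh.toD X L) x₀ V₀ hxV₀ L hK (Iso.refl _) E₀ hE₀ α
    have hα'' : IsApprox (p - 1) α' := hα' (p - 1) ⟨hα1, hα2⟩
    haveI := hfin
    haveI := hfree
    haveI : IsNoetherianRing Γ(X, V) := IsLocallyNoetherian.component_noetherian ⟨V, hV⟩
    -- the rank function on `Spec Γ(X, V)`
    have hd : dRank M p = (fun x : X => PerfD.betti (DCoh.toD X L) x p) ∘ hV.fromSpec.base := by
      funext y
      have hx : hV.fromSpec.base y ∈ V := by
        have : hV.fromSpec.base y ∈ Set.range hV.fromSpec.base := ⟨y, rfl⟩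
        rw [hV.range_fromSpec] at this
        exact this
      rw [Function.comp_apply, betti_eq_of_local_model (DCoh.toD X L) hV M hMK (p - 1) α' hα'' _
        hx p (by omega), finrank_homology_ext_eq_dRank, comap_evaluation_fromSpec]
    have hlc : IsLocallyConstant (dRank M p) := by
      rw [hd]
      exact hc.comp_continuous hV.fromSpec.base.hom.continuous
    obtain ⟨hf1, hf2⟩ := flat_opcycles_of_isLocallyConstant_dRank M p hlc
    -- transfer to `L`
    let g := hV.fromSpec
    let LV := (resCx g).obj L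
    have hLV : DCoh.IsKFlat LV := isKFlat_resCx g L hK
    let eK : (DCoh.Lpull g).obj (DCoh.toD X L) ≅ DerivedCategory.Q.obj LV :=
      (LpullResDIso g L hK).symm ≪≫ (resDQ g).app L
    have happ : IsApprox (p - 1) (α' ≫ eK.hom) := hα''.comp_iso eK
    have hLVfl : ∀ i, FlatMod.IsFlat (LV.X i) := fun i => isFlat_restrict g (hLfl i)
    haveI : PreservesFiniteLimits (tilde.functor Γ(X, V)) :=
      Groth.Agent.Lib.Helper17.KProjAff.preservesFiniteLimits_tilde _
    have hMfl : ∀ i, FlatMod.IsFlat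
        ((((tilde.functor Γ(X, V)).mapHomologicalComplex (ComplexShape.up ℤ)).obj M).X i) :=
      fun i => (isFlat_tilde_iff (M.X i)).2 inferInstance
    have key : ∀ j : ℤ, p ≤ j → Module.Flat Γ(X, V) (M.opcycles j) →
        FlatMod.IsFlat ((L.opcycles j).restrict g) := by
      intro j hj hW
      have h1 : FlatMod.IsFlat ((((tilde.functor Γ(X, V)).mapHomologicalComplex
          (ComplexShape.up ℤ)).obj M).opcycles j) :=
        isFlat_of_iso (mapOpcyclesIso (tilde.functor Γ(X, V)) M j).symm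
          ((isFlat_tilde_iff (M.opcycles j)).2 hW)
      have h2 := (preservesMono_Φ_iff_isFlat_opcycles _ hMfl j).2 h1
      obtain ⟨e⟩ := nonempty_Φ_iso_of_isApprox _ LV hMK hLV (α' ≫ eK.hom) (p - 1) happ j
        (by omega)
      have h3 : (Φ (DCoh.tensorBi (X := Spec Γ(X, V))) LV j).PreservesMonomorphisms :=
        CategoryTheory.Functor.PreservesMonomorphisms.of_iso e
      have h4 : FlatMod.IsFlat (LV.opcycles j) :=
        (preservesMono_Φ_iff_isFlat_opcycles LV hLVfl j).1 h3
      exact isFlat_of_iso (mapOpcyclesIso (Scheme.Modules.restrictFunctor g) L j) h4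
    refine ⟨_, g, inferInstance, ?_, key p le_rfl hf1, key (p + 1) (by omega) hf2⟩
    rw [hV.range_fromSpec]
    exact hxV
  exact ⟨isFlat_of_locally fun x => by
      obtain ⟨U, j, hj, hx, h1, -⟩ := main x
      exact ⟨U, j, hj, hx, h1⟩,
    isFlat_of_locally fun x => by
      obtain ⟨U, j, hj, hx, -, h2⟩ := main x
      exact ⟨U, j, hj, hx, h2⟩⟩

end

end Groth.Agent.Lib.Helper28.Tp
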