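import Mathlib
import Groth.Agent.Lib.Helper28.Tp9
import Groth.Agent.Lib.Helper28.QCohAb
set_option autoImplicit false

universe u

open CategoryTheory Limits HomologicalComplex AlgebraicGeometry CohIII

attribute [local instance] HasDerivedCategory.standard

namespace Groth.Agent.Lib.Helper28.Tp

open Groth.Agent.Lib.Helper28.TensorDelta Groth.Agent.Lib.Helper28.KFlatSite
  Groth.Agent.Lib.Helper28.KFlatAbs Groth.Agent.Lib.Helper28.Lpull
  Groth.Agent.Lib.Helper28.TensorApprox Groth.Agent.Lib.Helper28.DCohRes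
  Groth.Agent.Lib.Helper28.DCohTilde Groth.Agent.Lib.Helper28.Betti
  Groth.Agent.Lib.Helper28.PerfTensor Groth.Agent.Lib.Helper29.QCoh

noncomputable section

/-- the global step at the level of sites (converse direction) -/
theorem exists_flat_resolution_preserves_of_preservesMono_site {C : Type u} [SmallCategory C]
    {J : GrothendieckTopology C} {O : Sheaf J CommRingCat.{u}}
    (F : CochainComplex (ModSite.Mod O) ℤ) (e : ℤ) [(DerivedCategory.Q.obj F).IsLE e] (p : ℤ)
    [ModSite.HasLTensorCx F] :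
    ∃ (L : CochainComplex (ModSite.Mod O) ℤ) (β : L ⟶ F), L.IsStrictlyLE e ∧
      (∀ n, ModSite.IsFlat (L.X n)) ∧ QuasiIso β ∧
      ((Φ (ModSite.tensorBi O) L p).PreservesMonomorphisms →
        (Φ (ModSite.tensorBi O) L (p + 1)).PreservesMonomorphisms →
        PreservesFiniteLimits (DerivedCategory.singleFunctor (ModSite.Mod O) 0 ⋙
          ModSite.LTensorCx F ⋙ DerivedCategory.homologyFunctor (ModSite.Mod O) p) ∧
        PreservesFiniteColimits (DerivedCategory.singleFunctor (ModSite.Mod O) 0 ⋙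
          ModSite.LTensorCx F ⋙ DerivedCategory.homologyFunctor (ModSite.Mod O) p)) := by
  have hF : F.IsLE e := (DerivedCategory.isLE_Q_obj_iff F e).1 inferInstance
  obtain ⟨L, β, hb, hfl, hβ⟩ := exists_flat_resolution_of_isLE F e hF
  have hK : ModSite.IsKFlat L := isKFlat_of_isStrictlyLE L e hb hfl
  haveI := hasLTensorCx_of_isKFlat L hK
  have iso := fun n : ℤ => homologyLTensorCxIsoOfResolution β hβ hK n
  have hflx := shortExact_map_flip_of_isFlat L hfl
  refine ⟨L, β, hb, hfl, hβ, fun h3 h4 => ?_⟩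
  have h1 : PreservesFiniteLimits (Φ (ModSite.tensorBi O) L p) :=
    (preservesFiniteLimits_iff_preservesMono hflx p).2 h3
  have h2 : PreservesFiniteColimits (Φ (ModSite.tensorBi O) L p) :=
    (preservesFiniteColimits_iff_preservesMono hflx p).2 h4
  exact ⟨preservesFiniteLimits_of_natIso (iso p).symm,
    preservesFiniteColimits_of_natIso (iso p).symm⟩

variable {X : Scheme.{u}}

/-- **exactness of `M ↦ H^p(M ⊗^L F)` from local constancy of the Betti number** -/
theorem preserves_of_isLocallyConstant_betti [IsLocallyNoetherian X] [IsReduced X]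
    (F : CochainComplex X.Modules ℤ) (e : ℤ) [(DCoh.toD X F).IsLE e] (p : ℤ)
    (hE : DCoh.IsPseudoCoherentD (p - 1) (DCoh.toD X F))
    [∀ x : X, DCoh.HasLpull (X.fromSpecResidueField x)] [DCoh.HasLTensorCx F]
    (hc : IsLocallyConstant (fun x : X => PerfD.betti (DCoh.toD X F) x p)) :
    PreservesFiniteLimits (DerivedCategory.singleFunctor X.Modules 0 ⋙ DCoh.LTensorCx F ⋙
      DerivedCategory.homologyFunctor X.Modules p) ∧
    PreservesFiniteColimits (DerivedCategory.singleFunctor X.Modules 0 ⋙ DCoh.LTensorCx F ⋙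
      DerivedCategory.homologyFunctor X.Modules p) := by
  obtain ⟨L, β, hb, hfl, hβ, himp⟩ :=
    @exists_flat_resolution_preserves_of_preservesMono_site _ _ _ X.sheaf F e ‹_› p
      ‹DCoh.HasLTensorCx F›
  have hK : DCoh.IsKFlat L := isKFlat_of_isStrictlyLE (O := X.sheaf) L e hb hfl
  have hLflat : ∀ i, FlatMod.IsFlat (L.X i) :=
    fun i => (Groth.Agent.Lib.Helper17.FlatBridge.isFlat_iff _).2 (hfl i)
  have hiq : IsIso (DerivedCategory.Q.map β) := by
    rw [DerivedCategory.isIso_Q_map_iff_quasiIso]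
    exact hβ
  let eG : DCoh.toD X L ≅ DCoh.toD X F := @asIso _ _ _ _ (DerivedCategory.Q.map β) hiq
  have hE' : DCoh.IsPseudoCoherentD (p - 1) (DCoh.toD X L) := isPseudoCoherentD_of_iso eG.symm hE
  have hc' : IsLocallyConstant (fun x : X => PerfD.betti (DCoh.toD X L) x p) := by
    have : (fun x : X => PerfD.betti (DCoh.toD X L) x p) =
        fun x : X => PerfD.betti (DCoh.toD X F) x p := by
      funext x
      exact betti_eq_of_iso eG x p
    rw [this]
    exact hc
  obtain ⟨hW1, hW2⟩ := isFlat_opcycles_of_isLocallyConstant_betti L hK hLflat p hE' hc'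
  exact himp ((preservesMono_Φ_iff_isFlat_opcycles L hLflat p).2 hW1)
    ((preservesMono_Φ_iff_isFlat_opcycles L hLflat (p + 1)).2 hW2)

/-- the version on the subcategory of quasi-coherent modules -/
theorem preserves_qcoh_of_isLocallyConstant_betti [IsLocallyNoetherian X] [IsReduced X]
    (F : CochainComplex X.Modules ℤ) (e : ℤ) [(DCoh.toD X F).IsLE e] (p : ℤ)
    (hE : DCoh.IsPseudoCoherentD (p - 1) (DCoh.toD X F))
    [∀ x : X, DCoh.HasLpull (X.fromSpecResidueField x)] [DCoh.HasLTensorCx F]
    (hc : IsLocallyConstant (fun x : X => PerfD.betti (DCoh.toD X F) x p)) :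
    PreservesFiniteLimits ((QCohCat.isQCoh X).ι ⋙ DerivedCategory.singleFunctor X.Modules 0 ⋙
      DCoh.LTensorCx F ⋙ DerivedCategory.homologyFunctor X.Modules p) ∧
    PreservesFiniteColimits ((QCohCat.isQCoh X).ι ⋙ DerivedCategory.singleFunctor X.Modules 0 ⋙
      DCoh.LTensorCx F ⋙ DerivedCategory.homologyFunctor X.Modules p) := by
  obtain ⟨h1, h2⟩ := preserves_of_isLocallyConstant_betti F e p hE hc
  haveI := Groth.Agent.Lib.Helper28.QCohAb.preservesFiniteLimits_ι X
  haveI := Groth.Agent.Lib.Helper28.QCohAb.preservesFiniteColimits_ι X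
  exact ⟨comp_preservesFiniteLimits _ _, comp_preservesFiniteColimits _ _⟩

end

end Groth.Agent.Lib.Helper28.Tp
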