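import Mathlib
import Groth.Agent.Lib.Helper28.Tp6
set_option autoImplicit false

universe u

open CategoryTheory Limits HomologicalComplex AlgebraicGeometry

attribute [local instance] HasDerivedCategory.standard

namespace Groth.Agent.Lib.Helper28.Tp

open Groth.Agent.Lib.Helper28.TensorDelta Groth.Agent.Lib.Helper28.KFlatSite
  Groth.Agent.Lib.Helper28.KFlatAbs Groth.Agent.Lib.Helper28.Lpull
  Groth.Agent.Lib.Helper28.TensorApprox Groth.Agent.Lib.Helper28.DCohRes
  Groth.Agent.Lib.Helper28.DCohTilde Groth.Agent.Lib.Helper28.Betti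
  Groth.Agent.Lib.Helper28.PerfTensor Groth.Agent.Lib.Helper29.QCoh

noncomputable section

variable {X : Scheme.{u}}

theorem isFinLocFree_HD_and_isLocallyConstant_betti (F : CochainComplex X.Modules ℤ) (e : ℤ)
    [(DCoh.toD X F).IsLE e] (p : ℤ) (hE : DCoh.IsPseudoCoherentD (p - 1) (DCoh.toD X F))
    [DCoh.HasLTensorCx F]
    [PreservesFiniteLimits (DerivedCategory.singleFunctor X.Modules 0 ⋙ DCoh.LTensorCx F ⋙
      DerivedCategory.homologyFunctor X.Modules p)]
    [PreservesFiniteColimits (DerivedCategory.singleFunctor X.Modules 0 ⋙ DCoh.LTensorCx F ⋙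
      DerivedCategory.homologyFunctor X.Modules p)]
    [∀ x : X, DCoh.HasLpull (X.fromSpecResidueField x)] :
    FlatMod.IsFinLocFree (DCoh.HD (DCoh.toD X F) p) ∧
      IsLocallyConstant (fun x : X => PerfD.betti (DCoh.toD X F) x p) := by
  constructor
  · refine isFinLocFree_of_locally fun x₀ => ?_
    obtain ⟨V, hV, hxV, M, hfin, hfree, hMK, α', hα', hf1, hf2, ⟨iso⟩⟩ :=
      exists_flat_local_model' F e p hE x₀
    refine ⟨_, hV.fromSpec, inferInstance, ?_, ?_⟩
    · rw [hV.range_fromSpec]
      exact hxV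
    · obtain ⟨h1, h2⟩ := finite_projective_homology M p
      exact isFinLocFree_of_iso iso.symm ((isFinLocFree_tilde_iff (M := M.homology p)).2 ⟨h1, h2⟩)
  · rw [IsLocallyConstant.iff_exists_open]
    intro x₀
    obtain ⟨V, hV, hxV, M, hfin, hfree, hMK, α', hα', hf1, hf2, -⟩ :=
      exists_flat_local_model' F e p hE x₀
    obtain ⟨h1, h2⟩ := finite_projective_homology M p
    have key : ∀ (x : X) (hx : x ∈ V), PerfD.betti (DCoh.toD X F) x p =
        Module.rankAtStalk (R := Γ(X, V)) (M.homology p)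
          (PrimeSpectrum.comap (X.evaluation V x hx).hom ⊥) := by
      intro x hx
      rw [betti_eq_of_local_model (DCoh.toD X F) hV M hMK (p - 1) α' hα' x hx p (by omega)]
      exact finrank_homology_ext_eq_rankAtStalk M p _
    haveI : Module.FinitePresentation Γ(X, V) (M.homology p) :=
      Module.finitePresentation_of_projective _ _
    have hlc := Module.isLocallyConstant_rankAtStalk (R := Γ(X, V)) (M := M.homology p)
    obtain ⟨W, hW, h𝔭W, hWc⟩ := (IsLocallyConstant.iff_exists_open _).1 hlc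
      (PrimeSpectrum.comap (X.evaluation V x₀ hxV).hom ⊥)
    obtain ⟨_, ⟨f, rfl⟩, h𝔭f, hfW⟩ :=
      PrimeSpectrum.isTopologicalBasis_basic_opens.exists_subset_of_mem_open h𝔭W hW
    refine ⟨X.basicOpen f, (X.basicOpen f).2, ?_, ?_⟩
    · refine (X.evaluation_ne_zero_iff_mem_basicOpen x₀ hxV f).1 ?_
      intro h0
      exact h𝔭f (by
        show f ∈ (PrimeSpectrum.comap (X.evaluation V x₀ hxV).hom ⊥).asIdeal
        simpa using h0)
    · intro x hx
      have hxV' : x ∈ V := X.basicOpen_le f hx
      rw [key x hxV', key x₀ hxV]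
      refine hWc _ (hfW ?_)
      have hne := (X.evaluation_ne_zero_iff_mem_basicOpen x hxV' f).2 hx
      intro (h0 : f ∈ (PrimeSpectrum.comap (X.evaluation V x hxV').hom ⊥).asIdeal)
      exact hne (by simpa using h0)

end

end Groth.Agent.Lib.Helper28.Tp
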