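import Mathlib
import Groth.Agent.Lib.Helper28.QcTest
import Groth.Agent.Lib.Helper28.TensorDelta
import Groth.Agent.Lib.Helper17.KProjAff
set_option autoImplicit false

universe u

open CategoryTheory Limits HomologicalComplex AlgebraicGeometry MonoidalCategory Opposite

namespace Groth.Agent.Lib.Helper28.Tq

open Groth.Agent.Lib.Helper28.TensorDelta Groth.Agent.Lib.Helper28.StalkTensor
  Groth.Agent.Lib.Helper28.QcTest

noncomputable section

section Abs

variable {A : Type*} [Category A] [Abelian A]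
  (T : A ⥤ A ⥤ A) [T.Additive] [∀ X, (T.obj X).Additive]
  (E : CochainComplex A ℤ) [∀ M, PreservesFiniteColimits (T.obj M)]

/-- the per-morphism form of `preservesMono_iff_opcycles` -/
lemma mono_tensor_opcycles_of_mono_Φ {M N : A} (f : M ⟶ N) (q : ℤ)
    (h1 : Mono ((Φ T E q).map f)) (h2 : Mono ((T.map f).app (E.X (q + 1)))) :
    Mono ((T.map f).app (E.opcycles q)) := by
  have h1' : Mono (HomologicalComplex.homologyMap ((Θ T E).map f) q) := h1
  have h2' : Mono (((Θ T E).map f).f (q + 1)) := h2
  have h3 := mono_opcyclesMap_of_mono ((Θ T E).map f) q h1' h2'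
  have h4 : (T.map f).app (E.opcycles q) = (opcyclesIso T E M q).inv ≫
      HomologicalComplex.opcyclesMap ((Θ T E).map f) q ≫ (opcyclesIso T E N q).hom := by
    rw [opcyclesIso_hom_naturality, Iso.inv_hom_id_assoc]
  rw [h4]
  infer_instance

end Abs

variable {X : Scheme.{u}} (x : X)

/-- functoriality of `pushTilde` -/
def pushTildeMap {N N' : ModuleCat.{u} (X.presheaf.stalk x)} (h : N ⟶ N') :
    pushTilde x N ⟶ pushTilde x N' :=
  (Scheme.Modules.pushforward (X.fromSpecStalk x)).map ((tilde.functor _).map h)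

instance mono_pushTildeMap {N N' : ModuleCat.{u} (X.presheaf.stalk x)} (h : N ⟶ N') [Mono h] :
    Mono (pushTildeMap x h) := by
  haveI : PreservesFiniteLimits (tilde.functor (X.presheaf.stalk x)) :=
    Groth.Agent.Lib.Helper17.KProjAff.preservesFiniteLimits_tilde _
  haveI : (tilde.functor (X.presheaf.stalk x)).PreservesMonomorphisms :=
    preservesMonomorphisms_of_preservesLimitsOfShape _
  haveI h1 : Mono ((tilde.functor (X.presheaf.stalk x)).map h) := Functor.map_mono _ _
  haveI : PreservesLimitsOfSize.{0, 0} (Scheme.Modules.pushforward (X.fromSpecStalk x)) :=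
    (Scheme.Modules.pullbackPushforwardAdjunction _).rightAdjoint_preservesLimits
  haveI : (Scheme.Modules.pushforward (X.fromSpecStalk x)).PreservesMonomorphisms :=
    preservesMonomorphisms_of_preservesLimitsOfShape _
  exact @Functor.map_mono _ _ _ _ (Scheme.Modules.pushforward (X.fromSpecStalk x)) _ _ _ _ h1

lemma ap_pushTildeMap_σ {N N' : ModuleCat.{u} (X.presheaf.stalk x)} (h : N ⟶ N') (V : X.Opens)
    (n : N) : ap (vMap (pushTildeMap x h)) V (σ x N V n) = σ x N' V (h.hom n) := by
  have := tilde.toOpen_map_app h ((X.fromSpecStalk x) ⁻¹ᵁ V)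
  exact congrArg (fun k => k.hom n) this

lemma stalk_pushTildeMap_ψ {N N' : ModuleCat.{u} (X.presheaf.stalk x)} (h : N ⟶ N') (n : N) :
    ((DerSch.stalkFunctor X x).map (pushTildeMap x h)).hom (ψ x N n) = ψ x N' (h.hom n) := by
  rw [stalkFunctor_map_hom]
  change stMapₗ x (vMap (pushTildeMap x h)) (gm (vP (pushTilde x N)) ⊤ trivial (σ x N ⊤ n)) = _
  rw [stMapₗ_gm, ap_pushTildeMap_σ]
  rfl

lemma stalkPushTildeIso_naturality {N N' : ModuleCat.{u} (X.presheaf.stalk x)} (h : N ⟶ N') :
    (DerSch.stalkFunctor X x).map (pushTildeMap x h) ≫ (stalkPushTildeIso x N').hom =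
      (stalkPushTildeIso x N).hom ≫ h := by
  rw [← cancel_epi (stalkPushTildeIso x N).inv, Iso.inv_hom_id_assoc]
  ext n
  have h1 : (stalkPushTildeIso x N).inv.hom n = ψ x N n := rfl
  change (stalkPushTildeIso x N').hom.hom
    (((DerSch.stalkFunctor X x).map (pushTildeMap x h)).hom ((stalkPushTildeIso x N).inv.hom n)) = _
  rw [h1, stalk_pushTildeMap_ψ]
  exact (LinearEquiv.ofBijective (ψ x N') (ψ_bijective x N')).symm_apply_apply (h.hom n)

end

end Groth.Agent.Lib.Helper28.Tq
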