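import Mathlib
import Groth.Agent.Lib.Helper28.Tq1
import Groth.Agent.Lib.Helper28.DCohStalk1
set_option autoImplicit false

universe u

open CategoryTheory Limits HomologicalComplex AlgebraicGeometry MonoidalCategory Opposite

namespace Groth.Agent.Lib.Helper28.Tq

open Groth.Agent.Lib.Helper28.TensorDelta Groth.Agent.Lib.Helper28.StalkTensor
  Groth.Agent.Lib.Helper28.QcTest

noncomputable section

variable {X : Scheme.{u}}

/-- on a quasi-separated scheme, flatness can be tested on monomorphisms of quasi-coherent
modules -/
theorem isFlat_of_qcoh_mono_test [QuasiSeparatedSpace X] (W : X.Modules)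
    (h : ∀ {M N : X.Modules} (f : M ⟶ N), Mono f → M.IsQuasicoherent → N.IsQuasicoherent →
      Mono (((DCoh.tensorBi (X := X)).map f).app W)) : FlatMod.IsFlat W := by
  intro x
  show Module.Flat (X.presheaf.stalk x) ((DerSch.stalkFunctor X x).obj W)
  rw [Module.Flat.iff_rTensor_injective]
  intro I hI
  let ψ' : ModuleCat.of (X.presheaf.stalk x) I ⟶
      ModuleCat.of (X.presheaf.stalk x) (X.presheaf.stalk x) := ModuleCat.ofHom I.subtype
  haveI : Mono ψ' := (ModuleCat.mono_iff_injective _).2 Subtype.val_injective
  have h1 := h (pushTildeMap x ψ') inferInstance inferInstance inferInstance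
  haveI : (DerSch.stalkFunctor X x).PreservesMonomorphisms :=
    preservesMonomorphisms_of_preservesLimitsOfShape _
  have h2 : Mono ((DerSch.stalkFunctor X x).map
      (((DCoh.tensorBi (X := X)).map (pushTildeMap x ψ')).app W)) := Functor.map_mono _ _
  have h3 : Mono ((DerSch.stalkFunctor X x).map (pushTildeMap x ψ') ▷
      (DerSch.stalkFunctor X x).obj W) := by
    have e := stalkTensorIso_nat₁ x (pushTildeMap x ψ') W
    have : (DerSch.stalkFunctor X x).map (pushTildeMap x ψ') ▷ (DerSch.stalkFunctor X x).obj W =
        (stalkTensorIso x _ W).inv ≫ (DerSch.stalkFunctor X x).map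
          (((DCoh.tensorBi (X := X)).map (pushTildeMap x ψ')).app W) ≫
          (stalkTensorIso x _ W).hom := by
      rw [e, Iso.inv_hom_id_assoc]
    rw [this]
    infer_instance
  have h4 : (DerSch.stalkFunctor X x).map (pushTildeMap x ψ') =
      (stalkPushTildeIso x _).hom ≫ ψ' ≫ (stalkPushTildeIso x _).inv := by
    rw [← Category.assoc, ← stalkPushTildeIso_naturality, Category.assoc, Iso.hom_inv_id,
      Category.comp_id]
  have h5 : Mono (ψ' ▷ (DerSch.stalkFunctor X x).obj W) := by
    rw [h4] at h3
    haveI := h3
    have : ψ' ▷ (DerSch.stalkFunctor X x).obj W =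
        ((stalkPushTildeIso x _).inv ▷ (DerSch.stalkFunctor X x).obj W) ≫
          (((stalkPushTildeIso x _).hom ≫ ψ' ≫ (stalkPushTildeIso x _).inv) ▷
            (DerSch.stalkFunctor X x).obj W) ≫
          ((stalkPushTildeIso x _).hom ▷ (DerSch.stalkFunctor X x).obj W) := by
      rw [← MonoidalCategory.comp_whiskerRight, ← MonoidalCategory.comp_whiskerRight]
      congr 1
      simp
    rw [this]
    infer_instance
  exact (ModuleCat.mono_iff_injective _).1 h5

end

end Groth.Agent.Lib.Helper28.Tq
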