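import Mathlib
import Groth.Agent.Lib.Helper28.Tq2
import Groth.Agent.Lib.Helper28.Tp6
import Groth.Agent.Lib.Helper28.QCohAb
set_option autoImplicit false

universe u

open CategoryTheory Limits HomologicalComplex AlgebraicGeometry MonoidalCategory Opposite

attribute [local instance] HasDerivedCategory.standard

namespace Groth.Agent.Lib.Helper28.Tq

open Groth.Agent.Lib.Helper28.TensorDelta Groth.Agent.Lib.Helper28.StalkTensor
  Groth.Agent.Lib.Helper28.QcTest Groth.Agent.Lib.Helper28.KFlatSite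
  Groth.Agent.Lib.Helper28.KFlatAbs Groth.Agent.Lib.Helper28.PerfTensor
  Groth.Agent.Lib.Helper28.DCohRes

noncomputable section

section Site

variable {C : Type u} [SmallCategory C] {J : GrothendieckTopology C} {O : Sheaf J CommRingCat.{u}}

/-- a flat resolution together with the identification of the functors -/
theorem exists_flat_resolution_iso_site (F : CochainComplex (ModSite.Mod O) ℤ) (e : ℤ)
    [(DerivedCategory.Q.obj F).IsLE e] [ModSite.HasLTensorCx F] :
    ∃ (L : CochainComplex (ModSite.Mod O) ℤ) (β : L ⟶ F), L.IsStrictlyLE e ∧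
      (∀ n, ModSite.IsFlat (L.X n)) ∧ QuasiIso β ∧
      ∀ n : ℤ, Nonempty (DerivedCategory.singleFunctor (ModSite.Mod O) 0 ⋙
        ModSite.LTensorCx F ⋙ DerivedCategory.homologyFunctor (ModSite.Mod O) n ≅
          Φ (ModSite.tensorBi O) L n) := by
  have hF : F.IsLE e := (DerivedCategory.isLE_Q_obj_iff F e).1 inferInstance
  obtain ⟨L, β, hb, hfl, hβ⟩ := exists_flat_resolution_of_isLE F e hF
  have hK : ModSite.IsKFlat L := isKFlat_of_isStrictlyLE L e hb hfl
  haveI := hasLTensorCx_of_isKFlat L hK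
  exact ⟨L, β, hb, hfl, hβ, fun n => ⟨homologyLTensorCxIsoOfResolution β hβ hK n⟩⟩

theorem mono_tensor_opcycles_site (L : CochainComplex (ModSite.Mod O) ℤ)
    (hfl : ∀ n, ModSite.IsFlat (L.X n)) {M N : ModSite.Mod O} (f : M ⟶ N) (hf : Mono f) (q : ℤ)
    (h1 : Mono ((Φ (ModSite.tensorBi O) L q).map f)) :
    Mono (((ModSite.tensorBi O).map f).app (L.opcycles q)) := by
  refine mono_tensor_opcycles_of_mono_Φ (ModSite.tensorBi O) L f q h1 ?_
  exact ((isFlat_iff_flip_preservesMono (L.X (q + 1))).1 (hfl (q + 1))).preserves f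

theorem mono_Φ_succ_of_epi_site (L : CochainComplex (ModSite.Mod O) ℤ)
    (hfl : ∀ n, ModSite.IsFlat (L.X n)) {M N : ModSite.Mod O} (f : M ⟶ N) (hf : Mono f) (p : ℤ)
    (h : Epi ((Φ (ModSite.tensorBi O) L p).map (cokernel.π f))) :
    Mono ((Φ (ModSite.tensorBi O) L (p + 1)).map f) := by
  have hflx := shortExact_map_flip_of_isFlat L hfl
  let S : ShortComplex (ModSite.Mod O) := ShortComplex.mk f (cokernel.π f) (cokernel.condition f)
  have hS : S.ShortExact :=
    { exact := ShortComplex.exact_cokernel f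
      mono_f := inferInstanceAs (Mono f)
      epi_g := inferInstanceAs (Epi (cokernel.π f)) }
  exact (epi_iff_mono hflx p S hS).1 h

end Site

variable {X : Scheme.{u}}

/-- **the global step for exactness on quasi-coherent modules** -/
theorem exists_flat_resolution_flat_opcycles_qcoh [QuasiSeparatedSpace X]
    (F : CochainComplex X.Modules ℤ) (e : ℤ)
    [(DCoh.toD X F).IsLE e] (p : ℤ) [DCoh.HasLTensorCx F]
    [PreservesFiniteLimits ((QCohCat.isQCoh X).ι ⋙ DerivedCategory.singleFunctor X.Modules 0 ⋙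
      DCoh.LTensorCx F ⋙ DerivedCategory.homologyFunctor X.Modules p)]
    [PreservesFiniteColimits ((QCohCat.isQCoh X).ι ⋙
      DerivedCategory.singleFunctor X.Modules 0 ⋙ DCoh.LTensorCx F ⋙
      DerivedCategory.homologyFunctor X.Modules p)] :
    ∃ (L : CochainComplex X.Modules ℤ) (_ : DCoh.IsKFlat L) (_ : DCoh.toD X L ≅ DCoh.toD X F),
      (∀ i, FlatMod.IsFlat (L.X i)) ∧ FlatMod.IsFlat (L.opcycles p) ∧
        FlatMod.IsFlat (L.opcycles (p + 1)) := by
  obtain ⟨L, β, hb, hfl, hβ, iso⟩ :=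
    @exists_flat_resolution_iso_site _ _ _ X.sheaf F e ‹_› ‹DCoh.HasLTensorCx F›
  obtain ⟨isop0⟩ := iso p
  have isop : DerivedCategory.singleFunctor X.Modules 0 ⋙ DCoh.LTensorCx F ⋙
      DerivedCategory.homologyFunctor X.Modules p ≅ Φ (DCoh.tensorBi (X := X)) L p := isop0
  have hK : DCoh.IsKFlat L := isKFlat_of_isStrictlyLE (O := X.sheaf) L e hb hfl
  have hLflat : ∀ i, FlatMod.IsFlat (L.X i) :=
    fun i => (Groth.Agent.Lib.Helper17.FlatBridge.isFlat_iff _).2 (hfl i)
  have hiq : IsIso (DerivedCategory.Q.map β) := by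
    rw [DerivedCategory.isIso_Q_map_iff_quasiIso]
    exact hβ
  -- exactness of `ι ⋙ Φ`
  have hA : PreservesFiniteLimits ((QCohCat.isQCoh X).ι ⋙ Φ (DCoh.tensorBi (X := X)) L p) :=
    preservesFiniteLimits_of_natIso (Functor.isoWhiskerLeft (QCohCat.isQCoh X).ι isop)
  have hB : PreservesFiniteColimits ((QCohCat.isQCoh X).ι ⋙ Φ (DCoh.tensorBi (X := X)) L p) :=
    preservesFiniteColimits_of_natIso (Functor.isoWhiskerLeft (QCohCat.isQCoh X).ι isop)
  haveI : ((QCohCat.isQCoh X).ι ⋙ Φ (DCoh.tensorBi (X := X)) L p).PreservesMonomorphisms :=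
    preservesMonomorphisms_of_preservesLimitsOfShape _
  haveI : ((QCohCat.isQCoh X).ι ⋙ Φ (DCoh.tensorBi (X := X)) L p).PreservesEpimorphisms :=
    preservesEpimorphisms_of_preservesColimitsOfShape _
  have q1 : ∀ {M N : X.Modules} (f : M ⟶ N), Mono f → M.IsQuasicoherent → N.IsQuasicoherent →
      Mono ((Φ (DCoh.tensorBi (X := X)) L p).map f) := by
    intro M N f hf hM hN
    let f' : (⟨M, hM⟩ : (QCohCat.isQCoh X).FullSubcategory) ⟶ ⟨N, hN⟩ := ObjectProperty.homMk f
    haveI : Mono f' := (QCohCat.isQCoh X).ι.mono_of_mono_map (by exact hf)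
    exact inferInstanceAs
      (Mono (((QCohCat.isQCoh X).ι ⋙ Φ (DCoh.tensorBi (X := X)) L p).map f'))
  have q2 : ∀ {M N : X.Modules} (f : M ⟶ N), Mono f → M.IsQuasicoherent → N.IsQuasicoherent →
      Mono ((Φ (DCoh.tensorBi (X := X)) L (p + 1)).map f) := by
    intro M N f hf hM hN
    haveI := hf
    haveI := hM
    haveI := hN
    have hC : (cokernel f).IsQuasicoherent := inferInstance
    let g' : (⟨N, hN⟩ : (QCohCat.isQCoh X).FullSubcategory) ⟶ ⟨cokernel f, hC⟩ :=
      ObjectProperty.homMk (cokernel.π f)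
    haveI : Epi g' := (QCohCat.isQCoh X).ι.epi_of_epi_map
      (by exact (inferInstance : Epi (cokernel.π f)))
    have h1 : Epi ((Φ (DCoh.tensorBi (X := X)) L p).map (cokernel.π f)) :=
      inferInstanceAs
        (Epi (((QCohCat.isQCoh X).ι ⋙ Φ (DCoh.tensorBi (X := X)) L p).map g'))
    exact mono_Φ_succ_of_epi_site (O := X.sheaf) L hfl f hf p h1
  refine ⟨L, hK, @asIso _ _ _ _ (DerivedCategory.Q.map β) hiq, hLflat, ?_, ?_⟩
  · refine isFlat_of_qcoh_mono_test (L.opcycles p) fun {M N} f hf hM hN => ?_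
    haveI := hf
    exact mono_tensor_opcycles_site (O := X.sheaf) L hfl f hf p (q1 f hf hM hN)
  · refine isFlat_of_qcoh_mono_test (L.opcycles (p + 1)) fun {M N} f hf hM hN => ?_
    haveI := hf
    exact mono_tensor_opcycles_site (O := X.sheaf) L hfl f hf (p + 1) (q2 f hf hM hN)

end

end Groth.Agent.Lib.Helper28.Tq
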