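import Mathlib
import Groth.Agent.Lib.Helper28.Tq3
import Groth.Agent.Lib.Helper28.Tp7
set_option autoImplicit false

universe u

open CategoryTheory Limits HomologicalComplex AlgebraicGeometry

attribute [local instance] HasDerivedCategory.standard

namespace Groth.Agent.Lib.Helper28.Tq

open Groth.Agent.Lib.Helper28.TensorDelta Groth.Agent.Lib.Helper28.KFlatSite
  Groth.Agent.Lib.Helper28.KFlatAbs Groth.Agent.Lib.Helper28.Lpull
  Groth.Agent.Lib.Helper28.TensorApprox Groth.Agent.Lib.Helper28.DCohRes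
  Groth.Agent.Lib.Helper28.DCohTilde Groth.Agent.Lib.Helper28.Betti
  Groth.Agent.Lib.Helper28.PerfTensor Groth.Agent.Lib.Helper29.QCoh
  Groth.Agent.Lib.Helper28.Tp

noncomputable section

variable {X : Scheme.{u}}

local instance hasLpullq {Y Z : Scheme.{u}} (f : Y ⟶ Z) : DCoh.HasLpull f := hasLpull f

/-- the local structure, given a flat K-flat model with flat `opcycles` -/
theorem exists_flat_local_model_of_model (F : CochainComplex X.Modules ℤ) (p : ℤ)
    (hE : DCoh.IsPseudoCoherentD (p - 1) (DCoh.toD X F))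
    (L : CochainComplex X.Modules ℤ) (hK : DCoh.IsKFlat L)
    (eG : DCoh.toD X L ≅ DCoh.toD X F) (hLfl : ∀ i, FlatMod.IsFlat (L.X i))
    (hWp : FlatMod.IsFlat (L.opcycles p)) (hWq : FlatMod.IsFlat (L.opcycles (p + 1))) (x₀ : X) :
    ∃ (V : X.Opens) (hV : IsAffineOpen V) (_ : x₀ ∈ V)
      (M : CochainComplex (ModuleCat.{u} Γ(X, V)) ℤ)
      (_ : ∀ i, Module.Finite Γ(X, V) (M.X i)) (_ : ∀ i, Module.Free Γ(X, V) (M.X i))
      (_ : DCoh.IsKFlat
        (((tilde.functor Γ(X, V)).mapHomologicalComplex (ComplexShape.up ℤ)).obj M))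
      (α' : DerivedCategory.Q.obj
        (((tilde.functor Γ(X, V)).mapHomologicalComplex (ComplexShape.up ℤ)).obj M) ⟶
        (DCoh.Lpull hV.fromSpec).obj (DCoh.toD X F)),
      IsApprox (p - 1) α' ∧ Module.Flat Γ(X, V) (M.opcycles p) ∧
        Module.Flat Γ(X, V) (M.opcycles (p + 1)) ∧
        Nonempty ((DCoh.HD (DCoh.toD X F) p).restrict hV.fromSpec ≅
          (tilde.functor Γ(X, V)).obj (M.homology p)) := by
  have hE' : DCoh.IsPseudoCoherentD (p - 1) (DCoh.toD X L) := isPseudoCoherentD_of_iso eG.symm hE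
  obtain ⟨V, hV, hxV, M, hfin, hfree, hMK, α', hα', hf1, hf2⟩ :=
    exists_flat_local_model L hK hLfl p hE' hWp hWq x₀
  refine ⟨V, hV, hxV, M, hfin, hfree, hMK, α' ≫ (DCoh.Lpull hV.fromSpec).map eG.hom,
    hα'.comp_iso ((DCoh.Lpull hV.fromSpec).mapIso eG), hf1, hf2, ⟨?_⟩⟩
  haveI : IsIso ((DerivedCategory.homologyFunctor _ p).map α') := hα'.1 p (by omega)
  exact (HDresDIso hV.fromSpec (DCoh.toD X F) p).symm ≪≫
    (DerivedCategory.homologyFunctor _ p).mapIso ((resD hV.fromSpec).mapIso eG.symm ≪≫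
      LpullResDIso hV.fromSpec L hK) ≪≫
    (asIso ((DerivedCategory.homologyFunctor _ p).map α')).symm ≪≫ HDQtildeIso _ M p

theorem isFinLocFree_HD_and_isLocallyConstant_betti_of_model (F : CochainComplex X.Modules ℤ)
    (p : ℤ) (hE : DCoh.IsPseudoCoherentD (p - 1) (DCoh.toD X F))
    (L : CochainComplex X.Modules ℤ) (hK : DCoh.IsKFlat L)
    (eG : DCoh.toD X L ≅ DCoh.toD X F) (hLfl : ∀ i, FlatMod.IsFlat (L.X i))
    (hWp : FlatMod.IsFlat (L.opcycles p)) (hWq : FlatMod.IsFlat (L.opcycles (p + 1)))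
    [∀ x : X, DCoh.HasLpull (X.fromSpecResidueField x)] :
    FlatMod.IsFinLocFree (DCoh.HD (DCoh.toD X F) p) ∧
      IsLocallyConstant (fun x : X => PerfD.betti (DCoh.toD X F) x p) := by
  constructor
  · refine isFinLocFree_of_locally fun x₀ => ?_
    obtain ⟨V, hV, hxV, M, hfin, hfree, hMK, α', hα', hf1, hf2, ⟨iso⟩⟩ :=
      exists_flat_local_model_of_model F p hE L hK eG hLfl hWp hWq x₀
    refine ⟨_, hV.fromSpec, inferInstance, ?_, ?_⟩
    · rw [hV.range_fromSpec]
      exact hxV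
    · obtain ⟨h1, h2⟩ := finite_projective_homology M p
      exact isFinLocFree_of_iso iso.symm ((isFinLocFree_tilde_iff (M := M.homology p)).2 ⟨h1, h2⟩)
  · rw [IsLocallyConstant.iff_exists_open]
    intro x₀
    obtain ⟨V, hV, hxV, M, hfin, hfree, hMK, α', hα', hf1, hf2, -⟩ :=
      exists_flat_local_model_of_model F p hE L hK eG hLfl hWp hWq x₀
    obtain ⟨h1, h2⟩ := finite_projective_homology M p
    have key : ∀ (x : X) (hx : x ∈ V), PerfD.betti (DCoh.toD X F) x p =
        Module.rankAtStalk (R := Γ(X, V)) (M.homology p)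
          (PrimeSpectrum.comap (X.evaluation V x hx).hom ⊥) := by
      intro x hx
      rw [betti_eq_of_local_model (DCoh.toD X F) hV M hMK (p - 1) α' hα' x hx p (by omega)]
      exact finrank_homology_ext_eq_rankAtStalk M p _
    haveI : Module.FinitePresentation Γ(X, V) (M.homology p) :=
      Module.finitePresentation_of_projective _ _
    have hlc := Module.isLocallyConstant_rankAtStalk (R := Γ(X, V)) (M := M.homology p)
    obtain ⟨W, hW, h𝔭W, hWc⟩ := (IsLocallyConstant.iff_exists_open _).1 hlc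
      (PrimeSpectrum.comap (X.evaluation V x₀ hxV).hom ⊥)
    obtain ⟨_, ⟨f, rfl⟩, h𝔭f, hfW⟩ :=
      PrimeSpectrum.isTopologicalBasis_basic_opens.exists_subset_of_mem_open h𝔭W hW
    refine ⟨X.basicOpen f, (X.basicOpen f).2, ?_, ?_⟩
    · refine (X.evaluation_ne_zero_iff_mem_basicOpen x₀ hxV f).1 ?_
      intro h0
      exact h𝔭f (by
        show f ∈ (PrimeSpectrum.comap (X.evaluation V x₀ hxV).hom ⊥).asIdeal
        simpa using h0)
    · intro x hx
      have hxV' : x ∈ V := X.basicOpen_le f hx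
      rw [key x hxV', key x₀ hxV]
      refine hWc _ (hfW ?_)
      have hne := (X.evaluation_ne_zero_iff_mem_basicOpen x hxV' f).2 hx
      intro (h0 : f ∈ (PrimeSpectrum.comap (X.evaluation V x hxV').hom ⊥).asIdeal)
      exact hne (by simpa using h0)

/-- **S6244** -/
theorem isLocallyConstant_betti_and_isFinLocFree_HD_qcoh [QuasiSeparatedSpace X]
    (F : CochainComplex X.Modules ℤ) (e : ℤ) [(DCoh.toD X F).IsLE e] (p : ℤ)
    (hE : DCoh.IsPseudoCoherentD (p - 1) (DCoh.toD X F)) [DCoh.HasLTensorCx F]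
    [PreservesFiniteLimits ((QCohCat.isQCoh X).ι ⋙ DerivedCategory.singleFunctor X.Modules 0 ⋙
      DCoh.LTensorCx F ⋙ DerivedCategory.homologyFunctor X.Modules p)]
    [PreservesFiniteColimits ((QCohCat.isQCoh X).ι ⋙
      DerivedCategory.singleFunctor X.Modules 0 ⋙ DCoh.LTensorCx F ⋙
      DerivedCategory.homologyFunctor X.Modules p)]
    [∀ x : X, DCoh.HasLpull (X.fromSpecResidueField x)] :
    IsLocallyConstant (fun x : X => PerfD.betti (DCoh.toD X F) x p) ∧
      FlatMod.IsFinLocFree (DCoh.HD (DCoh.toD X F) p) := by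
  obtain ⟨L, hK, eG, hLfl, hWp, hWq⟩ := exists_flat_resolution_flat_opcycles_qcoh F e p
  obtain ⟨h1, h2⟩ :=
    isFinLocFree_HD_and_isLocallyConstant_betti_of_model F p hE L hK eG hLfl hWp hWq
  exact ⟨h2, h1⟩

end

end Groth.Agent.Lib.Helper28.Tq
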