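import Mathlib
import Groth.Agent.Lib.Helper28.TrivLocus2
import Groth.Agent.Lib.Helper28.LocSplit2
import Groth.Agent.Lib.Helper28.StalkAdj3
set_option autoImplicit false

universe u

open CategoryTheory Limits AlgebraicGeometry TopologicalSpace

namespace Groth.Agent.Lib.Helper28.TrivLocus

noncomputable section

attribute [local instance] HasDerivedCategory.standard

open Groth.Agent.Lib.Helper29.QCoh Groth.Agent.Lib.Helper28.DCohRes
  Groth.Agent.Lib.Helper28.StalkTensor Groth.Agent.Lib.Helper28.Lpull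

variable {X Y : Scheme.{u}}

lemma isKFlat_sgl_freeMod (r : ℕ) (i : ℤ) : DCoh.IsKFlat (sgl (FlatMod.freeMod X r) i) :=
  isKFlat_of_isStrictlyPerfect _ (isStrictlyPerfect_sgl (isFinLocFree_freeMod X r) i)

/-- **(⇒)**: if `f` lands in the locus where `E` is locally `O^r[-i]`, then `Lf^*E` is a finite
locally free module of rank `r` placed in degree `i` -/
theorem exists_locFree_of_trivAt (f : Y ⟶ X) [DCoh.HasLpull f] (E : DCoh.D X) (i : ℤ) (r : ℕ)
    (h : ∀ y : Y, TrivAt E i r (f.base y)) :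
    ∃ V : Y.Modules, FlatMod.IsFinLocFreeOfRank r V ∧
      Nonempty ((DCoh.Lpull f).obj E ≅ (DCoh.inD Y V)⟦-i⟧) := by
  let Z := (DCoh.Lpull f).obj E
  have key : ∀ y : Y, ∃ Y' : Y.Opens, y ∈ Y' ∧
      Nonempty ((resD Y'.ι).obj Z ≅ DerivedCategory.Q.obj (sgl (FlatMod.freeMod Y' r) i)) := by
    intro y
    obtain ⟨W, hxW, hW⟩ := (h y).exists_opens
    obtain ⟨e⟩ := nonempty_resD_Lpull_iso f E W _ (isKFlat_sgl_freeMod r i) hW
    exact ⟨f ⁻¹ᵁ W, hxW, ⟨e ≪≫ DerivedCategory.Q.mapIso (sglPullIso (f ∣_ W) _ i ≪≫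
      sglMapIso (pullbackFreeModIso (f ∣_ W) r) i)⟩⟩
  choose Y' hy e using key
  have h0 : ∀ j, j ≠ i → IsZero (DCoh.HD Z j) := by
    intro j hj
    refine isZero_of_locally _ (fun y => ⟨Y' y, (Y' y).ι, inferInstance,
      by rw [Scheme.Opens.range_ι]; exact hy y, ?_⟩)
    exact (isZero_HD_sgl _ i j hj).of_iso ((HDresDIso (Y' y).ι Z j).symm ≪≫
      (DerivedCategory.homologyFunctor _ j).mapIso (e y).some)
  refine ⟨DCoh.HD Z i, fun y => ⟨Y' y, hy y, ⟨(HDresDIso (Y' y).ι Z i).symm ≪≫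
      (DerivedCategory.homologyFunctor _ i).mapIso (e y).some ≪≫ HDsglIso _ i⟩⟩, ?_⟩
  obtain ⟨eZ⟩ := nonempty_iso_sgl Z i (DCoh.HD Z i) h0 (Iso.refl _)
  exact ⟨eZ ≪≫ (inDShiftIso _ i).symm⟩

lemma finrank_extendScalars {R S : Type u} [CommRing R] [CommRing S] [Nontrivial R] [Nontrivial S]
    (φ : R →+* S) (M : ModuleCat.{u} R) [Module.Free R M] :
    Module.finrank S ((ModuleCat.extendScalars.{u, u, u} φ).obj M) = Module.finrank R M := by
  letI : Algebra R S := φ.toAlgebra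
  exact (Groth.Agent.Lib.Helper13.DR.extendScalarsEquiv S M).finrank_eq.trans
    Module.finrank_baseChange

/-- **the key local statement**: if the pullback of a strictly perfect complex `E₀` along `f'`
is a finite locally free module of rank `r` in degree `i`, then so is `E₀` near `f' y'`. -/
theorem exists_opens_iso_sgl {W Y' : Scheme.{u}} (f' : Y' ⟶ W) (y' : Y')
    (E₀ : CochainComplex W.Modules ℤ) (hE₀ : DCoh.IsStrictlyPerfect E₀) (i : ℤ) (r : ℕ)
    (V' : Y'.Modules) (hV' : FlatMod.IsFinLocFreeOfRank r V')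
    (eP : DerivedCategory.Q.obj ((pullCx f').obj E₀) ≅ DerivedCategory.Q.obj (sgl V' i)) :
    ∃ W' : W.Opens, f'.base y' ∈ W' ∧
      Nonempty (DerivedCategory.Q.obj ((resCx W'.ι).obj E₀) ≅
        DerivedCategory.Q.obj (sgl (FlatMod.freeMod W' r) i)) := by
  obtain ⟨⟨a, b, hab⟩, hfl⟩ := hE₀
  let x' := f'.base y'
  let φ := (f'.stalkMap y').hom
  let P := (pullCx f').obj E₀
  have hPj : ∀ j, P.homology j ≅ (sgl V' i).homology j := fun j =>
    ((DerivedCategory.homologyFunctorFactors _ j).app P).symm ≪≫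
      (DerivedCategory.homologyFunctor _ j).mapIso eP ≪≫
      (DerivedCategory.homologyFunctorFactors _ j).app _
  let G := (stalkCx x').obj E₀
  let GS := (DTen.extCx φ).obj G
  let eGS : GS ≅ (stalkCx y').obj P := (stalkCxPullIso f' y' E₀).symm
  have hGSj : ∀ j, GS.homology j ≅ (DerSch.stalkFunctor Y' y').obj (P.homology j) := fun j =>
    (HomologicalComplex.homologyFunctor _ _ j).mapIso eGS ≪≫
      (mapHCHomologyIso (DerSch.stalkFunctor Y' y') j).app P
  have h0 : ∀ j, j ≠ i → IsZero (GS.homology j) := fun j hj =>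
    ((DerSch.stalkFunctor Y' y').map_isZero
      ((HomologicalComplex.isZero_single_obj_homology (ComplexShape.up ℤ) i V' j hj).of_iso
        (hPj j))).of_iso (hGSj j)
  let ei : GS.homology i ≅ (DerSch.stalkFunctor Y' y').obj V' :=
    hGSj i ≪≫ (DerSch.stalkFunctor Y' y').mapIso
      (hPj i ≪≫ HomologicalComplex.singleObjHomologySelfIso (ComplexShape.up ℤ) i V')
  have hV'lf : FlatMod.IsFinLocFree V' := fun y => by
    obtain ⟨U, hU, hUe⟩ := hV' y
    exact ⟨U, r, hU, hUe⟩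
  have hV'ff := stalkFF_of_isFinLocFree hV'lf y'
  have hi : Module.Projective (Y'.presheaf.stalk y') (GS.homology i) := by
    haveI : Module.Free (Y'.presheaf.stalk y') ((DerSch.stalkFunctor Y' y').obj V') := hV'ff.1
    haveI : Module.Projective (Y'.presheaf.stalk y') ((DerSch.stalkFunctor Y' y').obj V') :=
      Module.Projective.of_free
    exact Module.Projective.of_equiv ei.toLinearEquiv.symm
  have hb : ∀ j, b < j → IsZero (G.X j) := fun j hj =>
    (DerSch.stalkFunctor W x').map_isZero (hab j (Or.inr hj))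
  have hff : ∀ j, Module.Finite (W.presheaf.stalk x') (G.X j) ∧
      Module.Free (W.presheaf.stalk x') (G.X j) := fun j =>
    ⟨(stalkFF_of_isFinLocFree (hfl j) x').2, (stalkFF_of_isFinLocFree (hfl j) x').1⟩
  obtain ⟨hz, hfin, hfree, ⟨eb⟩⟩ :=
    Groth.Agent.Lib.Helper28.LocSplit.local_split φ G b hb hff i h0 hi
  have hstalk : ∀ j, G.homology j ≅ (DerSch.stalkFunctor W x').obj (E₀.homology j) := fun j =>
    (mapHCHomologyIso (DerSch.stalkFunctor W x') j).app E₀
  let n : ℤ → ℕ := fun j => if j = i then r else 0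
  have hsub : ∀ j, j ≠ i → Subsingleton ((E₀.homology j).presheaf.stalk x') := fun j hj =>
    ModuleCat.subsingleton_of_isZero ((hz j hj).of_iso (hstalk j).symm)
  have hFF : ∀ j, StalkFF (E₀.homology j) x' := by
    intro j
    by_cases hj : j = i
    · subst hj
      exact ⟨Module.Free.of_equiv (hstalk j).toLinearEquiv,
        Module.Finite.equiv (hstalk j).toLinearEquiv⟩
    · haveI := hsub j hj
      exact ⟨inferInstance, inferInstance⟩
  have hrank : ∀ j, Module.finrank (W.presheaf.stalk x')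
      ((E₀.homology j).presheaf.stalk x') = n j := by
    intro j
    by_cases hj : j = i
    · subst hj
      simp only [n, if_true]
      have h1 : Module.finrank (W.presheaf.stalk x') (G.homology j) =
          Module.finrank (W.presheaf.stalk x') ((E₀.homology j).presheaf.stalk x') :=
        (hstalk j).toLinearEquiv.finrank_eq
      have h2 : Module.finrank (Y'.presheaf.stalk y')
          ((ModuleCat.extendScalars.{u, u, u} φ).obj (G.homology j)) =
          Module.finrank (W.presheaf.stalk x') (G.homology j) := finrank_extendScalars φ _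
      have h3 := eb.toLinearEquiv.finrank_eq
      have h4 := ei.toLinearEquiv.finrank_eq
      have h5 : Module.finrank (Y'.presheaf.stalk y') (V'.presheaf.stalk y') = r := by
        obtain ⟨N, hyN, ⟨eN⟩⟩ := hV' y'
        exact finrank_stalk_of_restrict_iso N.ι ⟨y', hyN⟩ r eN
      rw [← h1, ← h2, ← h3, h4]
      exact h5
    · simp only [n, if_neg hj]
      haveI := hsub j hj
      exact Module.finrank_zero_of_subsingleton
  have hLF : ∀ j, LFAt (E₀.homology j) x' := fun j =>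
    (lfAt_homology_of_stalkFF E₀ b hfl (fun j hj => hab j (Or.inr hj)) x' hFF j).1
  have hW : ∀ j, ∃ Wj : W.Opens, x' ∈ Wj ∧ IsFreeAlong (E₀.homology j) Wj.ι (n j) := fun j =>
    exists_isFreeAlong_of_lfAt (hLF j) (n j) (hrank j)
  choose Wf hxW hWf using hW
  let T : Finset ℤ := insert i (Finset.Icc a b)
  let W' : W.Opens := T.inf Wf
  have hxW' : x' ∈ W' := (mem_finset_inf_opens _ _ _).2 (fun j _ => hxW j)
  have hfree' : ∀ j, j ∈ T → IsFreeAlong (E₀.homology j) W'.ι (n j) := fun j hj =>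
    (hWf j).of_range_subset _ (by
      rw [Scheme.Opens.range_ι, Scheme.Opens.range_ι]
      exact Finset.inf_le (f := Wf) hj)
  let P' := (resCx W'.ι).obj E₀
  have hP' : ∀ j, DCoh.HD (DerivedCategory.Q.obj P') j ≅ (E₀.homology j).restrict W'.ι := fun j =>
    (DerivedCategory.homologyFunctorFactors _ j).app P' ≪≫
      (mapHCHomologyIso (Scheme.Modules.restrictFunctor W'.ι) j).app E₀
  have e1 := (isFreeAlong_iff_restrict _ _ _).1 (hfree' i (Finset.mem_insert_self _ _))
  simp only [n, if_true] at e1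
  refine ⟨W', hxW', nonempty_iso_sgl _ i _ (fun j hj => ?_) (hP' i ≪≫ e1.some)⟩
  refine IsZero.of_iso ?_ (hP' j)
  by_cases hjT : j ∈ T
  · obtain ⟨e0⟩ := (isFreeAlong_iff_restrict _ _ _).1 (hfree' j hjT)
    simp only [n, if_neg hj] at e0
    exact (isZero_freeMod_zero _).of_iso e0
  · have hjab : j < a ∨ b < j := by
      simp only [T, Finset.mem_insert, Finset.mem_Icc, not_or, not_and, not_le] at hjT
      by_contra hc
      rw [not_or, not_lt, not_lt] at hc
      exact absurd (hjT.2 hc.1) (not_lt.2 hc.2)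
    have hzX : IsZero (E₀.X j) := hab j hjab
    have hzH : IsZero (E₀.homology j) :=
      IsZero.of_epi (E₀.homologyπ j) (IsZero.of_mono (E₀.iCycles j) hzX)
    exact (Scheme.Modules.restrictFunctor W'.ι).map_isZero hzH

lemma isFinLocFreeOfRank_restrict {U : Scheme.{u}} (j : U ⟶ X) [IsOpenImmersion j]
    {M : X.Modules} {r : ℕ} (h : FlatMod.IsFinLocFreeOfRank r M) :
    FlatMod.IsFinLocFreeOfRank r (M.restrict j) := by
  rw [isFinLocFreeOfRank_iff_isFreeAlong] at h ⊢
  intro y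
  obtain ⟨N, hyN, hN⟩ := h (j.base y)
  refine ⟨j ⁻¹ᵁ N, hyN, ?_⟩
  have h1 : IsFreeAlong M ((j ⁻¹ᵁ N).ι ≫ j) r := hN.of_range_subset _ (by
    rintro _ ⟨z, rfl⟩
    rw [Scheme.Opens.range_ι]
    exact z.2)
  obtain ⟨e⟩ := h1
  exact ⟨(Scheme.Modules.pullback _).mapIso ((Scheme.Modules.restrictFunctorIsoPullback j).app M) ≪≫
    (Scheme.Modules.pullbackComp _ j).app M ≪≫ e⟩

/-- **(⇐)**: if `Lf^*E` is a finite locally free module of rank `r` placed in degree `i`, then
`f` lands in the locus where `E` is locally `O^r[-i]` -/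
theorem trivAt_of_locFree (f : Y ⟶ X) [DCoh.HasLpull f] (E : DCoh.D X) (hE : DCoh.IsPerfect E)
    (i : ℤ) (r : ℕ) (V : Y.Modules) (hV : FlatMod.IsFinLocFreeOfRank r V)
    (e : (DCoh.Lpull f).obj E ≅ (DCoh.inD Y V)⟦-i⟧) (y : Y) : TrivAt E i r (f.base y) := by
  obtain ⟨W, hxW, hW⟩ := hE (f.base y)
  obtain ⟨E₀, hE₀, ⟨e₀⟩⟩ := hW (DerivedCategory.Q.objPreimage E)
    ⟨DerivedCategory.Q.objObjPreimageIso E⟩
  have hrep : RepAlong E W.ι E₀ :=
    ⟨(resD W.ι).mapIso (DerivedCategory.Q.objObjPreimageIso E).symm ≪≫ (resDQ W.ι).app _ ≪≫ e₀⟩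
  let Y' := f ⁻¹ᵁ W
  let f' := f ∣_ W
  let y' : Y' := ⟨y, hxW⟩
  obtain ⟨e1⟩ := nonempty_resD_Lpull_iso f E W E₀ (isKFlat_of_isStrictlyPerfect E₀ hE₀) hrep
  let V' := V.restrict Y'.ι
  let e2 : (resD Y'.ι).obj ((DCoh.Lpull f).obj E) ≅ DerivedCategory.Q.obj (sgl V' i) :=
    (resD Y'.ι).mapIso (e ≪≫ inDShiftIso V i) ≪≫ (resDQ Y'.ι).app (sgl V i) ≪≫
      DerivedCategory.Q.mapIso (sglRestrictIso Y'.ι V i)
  have hV' : FlatMod.IsFinLocFreeOfRank r V' := isFinLocFreeOfRank_restrict Y'.ι hV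
  obtain ⟨W', hxW', ⟨e3⟩⟩ := exists_opens_iso_sgl f' y' E₀ hE₀ i r V' hV' (e1.symm ≪≫ e2)
  refine ⟨W', W'.ι ≫ W.ι, inferInstance, ⟨⟨f'.base y', hxW'⟩, ?_⟩, ?_⟩
  · exact morphismRestrict_base_coe f W y'
  · obtain ⟨e4⟩ := hrep.comp W'.ι
    exact ⟨e4 ≪≫ e3⟩

end

end Groth.Agent.Lib.Helper28.TrivLocus
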